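import Cfsg.Agent.Lib.Comp.Subnormal

/-!
Perfect and quasisimple groups.
-/

set_option linter.style.haveILetI false

namespace CfsgLib.Comp

open Subgroup
open scoped commutatorElement

variable {G : Type*} [Group G]

theorem commutator_sup_central {A Z : Subgroup G} (hZ : Z ≤ center G) :
    ⁅A ⊔ Z, A ⊔ Z⁆ ≤ ⁅A, A⁆ := by
  have key : ∀ x ∈ A ⊔ Z, ∃ a ∈ A, ∃ z ∈ Z, z * a = x := by
    intro x hx
    rw [sup_comm] at hx
    obtain ⟨z, hz, a, ha, e⟩ := exists_mul_of_mem_sup
      ((centralizer_le_normalizer Z).trans' fun a _ => mem_centralizer_iff.2 fun z hz =>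
        (mem_center_iff.1 (hZ hz) a).symm) hx
    exact ⟨a, ha, z, hz, e⟩
  rw [commutator_le]
  intro x hx y hy
  obtain ⟨a, ha, z, hz, rfl⟩ := key x hx
  obtain ⟨b, hb, w, hw, rfl⟩ := key y hy
  have hz' := mem_center_iff.1 (hZ hz)
  have hw' := mem_center_iff.1 (hZ hw)
  have : ⁅z * a, w * b⁆ = ⁅a, b⁆ := by
    rw [commutatorElement_def, commutatorElement_def]
    calc z * a * (w * b) * (z * a)⁻¹ * (w * b)⁻¹
        = z * (a * w) * b * a⁻¹ * z⁻¹ * b⁻¹ * w⁻¹ := by group
      _ = (z * w) * (a * b * a⁻¹ * z⁻¹) * b⁻¹ * w⁻¹ := by rw [hw' a]; group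
      _ = (z * w) * (z⁻¹ * (a * b * a⁻¹)) * b⁻¹ * w⁻¹ := by
          rw [mem_center_iff.1 (inv_mem (hZ hz)) (a * b * a⁻¹)]
      _ = (z * w * z⁻¹) * ((a * b * a⁻¹ * b⁻¹) * w⁻¹) := by group
      _ = w * (w⁻¹ * (a * b * a⁻¹ * b⁻¹)) := by
          rw [← hz' w, mem_center_iff.1 (inv_mem (hZ hw)) (a * b * a⁻¹ * b⁻¹)]; group
      _ = _ := by group
  rw [this]
  exact commutator_mem_commutator ha hb

/-- If `A` with a central subgroup generates a perfect group, then `A` is the whole group. -/
theorem eq_top_of_sup_center_eq_top [Group.IsPerfect G] {A : Subgroup G} (h : A ⊔ center G = ⊤) :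
    A = ⊤ := by
  apply top_le_iff.1
  have := commutator_sup_central (A := A) (Z := center G) le_rfl
  rw [h, ← _root_.commutator_def, Group.IsPerfect.commutator_eq_top] at this
  exact this.trans (commutator_le_self A)

theorem isSimpleGroup_central_quotient {X : Type*} [Group X] (h : Cfsg.IsQuasisimple X) :
    IsSimpleGroup (X ⧸ center X) := h.2

/-- A normal subgroup of a quasisimple group is everything or central. -/
theorem normal_eq_top_or_le_center {X : Type*} [Group X] (h : Cfsg.IsQuasisimple X)
    (N : Subgroup X) [N.Normal] : N = ⊤ ∨ N ≤ center X := by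
  haveI := h.1
  haveI := h.2
  haveI : (N.map (QuotientGroup.mk' (center X))).Normal :=
    Subgroup.Normal.map ‹_› _ (QuotientGroup.mk'_surjective _)
  rcases Normal.eq_bot_or_eq_top (H := N.map (QuotientGroup.mk' (center X))) ‹_› with hb | ht
  · right; rwa [Subgroup.map_eq_bot_iff, QuotientGroup.ker_mk'] at hb
  · left
    apply eq_top_of_sup_center_eq_top
    have := congrArg (comap (QuotientGroup.mk' (center X))) ht
    rwa [comap_map_eq, QuotientGroup.ker_mk', comap_top] at this

/-- A subnormal subgroup of a quasisimple group is everything or central. -/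
theorem subnormal_eq_top_or_le_center {X : Type*} [Group X] (h : Cfsg.IsQuasisimple X)
    {H : Subgroup X} (hH : H.IsSubnormal) : H = ⊤ ∨ H ≤ center X := by
  by_cases hne : H = ⊤
  · exact Or.inl hne
  · right
    obtain ⟨K, hK, hle, hlt⟩ := hH.exists_normal_and_le_and_lt_top_of_ne hne
    exact hle.trans ((normal_eq_top_or_le_center h K).resolve_left hlt.ne)

theorem nontrivial_of_isQuasisimple {X : Type*} [Group X] (h : Cfsg.IsQuasisimple X) :
    Nontrivial X := by
  haveI := h.2
  obtain ⟨a, b, hab⟩ := (inferInstance : Nontrivial (X ⧸ center X))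
  obtain ⟨a, rfl⟩ := QuotientGroup.mk'_surjective _ a
  obtain ⟨b, rfl⟩ := QuotientGroup.mk'_surjective _ b
  exact ⟨⟨a, b, fun e => hab (by rw [e])⟩⟩

theorem center_lt_top_of_isQuasisimple {X : Type*} [Group X] (h : Cfsg.IsQuasisimple X) :
    center X ≠ ⊤ := by
  haveI := h.1
  haveI := nontrivial_of_isQuasisimple h
  exact fun e => Group.IsPerfect.not_isMulCommutative X (center_eq_top_iff.1 e)

theorem not_isSolvable_of_isQuasisimple {X : Type*} [Group X] (h : Cfsg.IsQuasisimple X) :
    ¬ Group.IsSolvable X := by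
  haveI := h.1
  haveI := nontrivial_of_isQuasisimple h
  exact Group.IsPerfect.not_isSolvable X

theorem not_isMulCommutative_central_quotient {X : Type*} [Group X] (h : Cfsg.IsQuasisimple X) :
    ¬ IsMulCommutative (X ⧸ center X) := by
  haveI := h.1
  haveI := h.2
  exact Group.IsPerfect.not_isMulCommutative _

theorem isQuasisimple_congr {X Y : Type*} [Group X] [Group Y] (e : X ≃* Y)
    (h : Cfsg.IsQuasisimple X) : Cfsg.IsQuasisimple Y := by
  haveI := h.1
  haveI := h.2
  refine ⟨Group.IsPerfect.ofSurjective (f := e.toMonoidHom) e.surjective, ?_⟩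
  have hmap : (center X).map (e : X →* Y) = center Y := by
    ext y
    simp only [Subgroup.mem_map, MonoidHom.coe_coe, mem_center_iff]
    constructor
    · rintro ⟨x, hx, rfl⟩ g; simpa using congrArg e (hx (e.symm g))
    · intro hy
      exact ⟨e.symm y, fun g => by simpa using congrArg e.symm (hy (e g)), e.apply_symm_apply y⟩
  exact ((QuotientGroup.congr _ _ e hmap).symm.isSimpleGroup)

theorem isQuasisimple_iff_congr {X Y : Type*} [Group X] [Group Y] (e : X ≃* Y) :
    Cfsg.IsQuasisimple X ↔ Cfsg.IsQuasisimple Y :=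
  ⟨isQuasisimple_congr e, isQuasisimple_congr e.symm⟩

/-- A non-trivial homomorphic image of a quasisimple group is quasisimple. -/
theorem isQuasisimple_of_surjective {X Y : Type*} [Group X] [Group Y] (h : Cfsg.IsQuasisimple X)
    {f : X →* Y} (hf : Function.Surjective f) [Nontrivial Y] : Cfsg.IsQuasisimple Y := by
  haveI := h.1
  haveI := h.2
  haveI hP : Group.IsPerfect Y := Group.IsPerfect.ofSurjective hf
  refine ⟨hP, ?_⟩
  let g : X →* Y ⧸ center Y := (QuotientGroup.mk' (center Y)).comp f
  have hle : center X ≤ g.ker := by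
    intro x hx
    rw [MonoidHom.mem_ker, MonoidHom.comp_apply, QuotientGroup.mk'_apply, QuotientGroup.eq_one_iff,
      mem_center_iff]
    intro y
    obtain ⟨y, rfl⟩ := hf y
    rw [← map_mul, ← map_mul, mem_center_iff.1 hx y]
  haveI : Nontrivial (Y ⧸ center Y) := by
    rw [← not_subsingleton_iff_nontrivial]
    intro hs
    have : center Y = ⊤ := eq_top_iff.2 fun y _ =>
      (QuotientGroup.eq_one_iff y).1 (Subsingleton.elim _ _)
    exact Group.IsPerfect.not_isMulCommutative Y (center_eq_top_iff.1 this)
  exact IsSimpleGroup.isSimpleGroup_of_surjective (QuotientGroup.lift _ g hle)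
    (fun y => by
      obtain ⟨y, rfl⟩ := QuotientGroup.mk'_surjective _ y
      obtain ⟨x, rfl⟩ := hf y
      exact ⟨QuotientGroup.mk' _ x, rfl⟩)

/-- A perfect group whose quotient by some central subgroup is quasisimple is quasisimple. -/
theorem isQuasisimple_of_central_extension {X : Type*} [Group X] [Group.IsPerfect X]
    {Z : Subgroup X} [Z.Normal] (hZ : Z ≤ center X) (h : Cfsg.IsQuasisimple (X ⧸ Z)) :
    Cfsg.IsQuasisimple X := by
  refine ⟨‹_›, ?_⟩
  haveI := h.2
  have key : (center (X ⧸ Z)).comap (QuotientGroup.mk' Z) = center X := by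
    apply le_antisymm
    · intro x hx
      rw [mem_comap, mem_center_iff] at hx
      -- the commutator map with `x` lands in `Z`, hence is a homomorphism to an abelian group
      have hc : ∀ y, ⁅x, y⁆ ∈ Z := fun y => by
        rw [← QuotientGroup.eq_one_iff, ← QuotientGroup.mk'_apply, map_commutatorElement,
          commutatorElement_eq_one_iff_mul_comm]
        exact (hx _).symm
      have h1 : ⁅⁅zpowers x, (⊤ : Subgroup X)⁆, (⊤ : Subgroup X)⁆ = ⊥ := by
        rw [commutator_top_right_eq_bot_iff_le_center]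
        refine le_trans ?_ hZ
        rw [commutator_le]
        intro a ha y _
        obtain ⟨n, rfl⟩ := ha
        have : x ^ n ∈ (center (X ⧸ Z)).comap (QuotientGroup.mk' Z) :=
          zpow_mem (mem_comap.2 (mem_center_iff.2 hx)) n
        rw [← QuotientGroup.eq_one_iff, ← QuotientGroup.mk'_apply, map_commutatorElement,
          commutatorElement_eq_one_iff_mul_comm]
        exact (mem_center_iff.1 this _).symm
      have h2 : ⁅zpowers x, (⊤ : Subgroup X)⁆ = ⊥ :=
        commutator_eq_bot_of_perfect (by rw [← _root_.commutator_def]; exact Group.IsPerfect.commutator_eq_top) h1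
      rw [commutator_top_right_eq_bot_iff_le_center] at h2
      exact h2 (mem_zpowers x)
    · intro x hx
      rw [mem_comap, mem_center_iff]
      intro y
      obtain ⟨y, rfl⟩ := QuotientGroup.mk'_surjective Z y
      rw [← map_mul, ← map_mul, mem_center_iff.1 hx y]
  let g : X →* (X ⧸ Z) ⧸ center (X ⧸ Z) := (QuotientGroup.mk' _).comp (QuotientGroup.mk' Z)
  have hg : g.ker = center X := by
    rw [← MonoidHom.comap_ker, QuotientGroup.ker_mk', key]
  exact ((QuotientGroup.quotientMulEquivOfEq hg).symm.trans
    (QuotientGroup.quotientKerEquivOfSurjective g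
      ((QuotientGroup.mk'_surjective _).comp (QuotientGroup.mk'_surjective _)))).isSimpleGroup

/-- An automorphism of a perfect group that is trivial on the central quotient is trivial. -/
theorem mulEquiv_eq_of_perfect {X : Type*} [Group X] [Group.IsPerfect X] (α : X ≃* X)
    (h : ∀ x, α x * x⁻¹ ∈ center X) (x : X) : α x = x := by
  let φ : X →* center X :=
    { toFun := fun x => ⟨α x * x⁻¹, h x⟩
      map_one' := by ext; simp
      map_mul' := fun a b => by
        ext
        have hb := mem_center_iff.1 (h b)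
        simp only [map_mul, Subgroup.coe_mul, mul_inv_rev]
        calc α a * α b * (b⁻¹ * a⁻¹) = α a * ((α b * b⁻¹) * a⁻¹) := by group
          _ = α a * (a⁻¹ * (α b * b⁻¹)) := by rw [hb a⁻¹]
          _ = _ := by group }
  have hle : commutator X ≤ φ.ker := by
    rw [_root_.commutator_def, commutator_le]
    intro a _ b _
    rw [MonoidHom.mem_ker, map_commutatorElement, commutatorElement_eq_one_iff_mul_comm]
    exact Subtype.ext (mem_center_iff.1 (φ b).2 (φ a : X))
  rw [Group.IsPerfect.commutator_eq_top, top_le_iff] at hle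
  have hx : φ x = 1 := by rw [← MonoidHom.mem_ker, hle]; trivial
  exact mul_inv_eq_one.1 (congrArg Subtype.val hx)

end CfsgLib.Comp
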