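import Cfsg.Agent.Lib.Comp.PComponent
import Cfsg.Agent.Lib.Solvable.PCore
import Cfsg.Prelude.Def_KGroupFacts
import Cfsg.Prelude.Def_EvenTechniques

/-!
Transport of `p`-components, `F*`, the `B_p`-property and outer automorphism groups along isomorphisms.
-/

set_option autoImplicit false
set_option linter.style.haveILetI false
set_option linter.unusedSectionVars false

namespace CfsgLib.Comp

open Subgroup

variable {G H : Type*} [Group G] [Group H] [Finite G] [Finite H]

theorem out_congr (e : G ≃* H) : Nonempty (Cfsg.Out G ≃* Cfsg.Out H) := by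
  let E : MulAut G ≃* MulAut H :=
    { toFun := fun β => e.symm.trans (β.trans e)
      invFun := fun β => e.trans (β.trans e.symm)
      left_inv := fun β => MulEquiv.ext fun x => by simp
      right_inv := fun β => MulEquiv.ext fun x => by simp
      map_mul' := fun a b => MulEquiv.ext fun x => by simp }
  refine ⟨QuotientGroup.congr _ _ E ?_⟩
  ext β
  constructor
  · rintro ⟨_, ⟨g, rfl⟩, rfl⟩
    exact ⟨e g, MulEquiv.ext fun x => by simp [E]⟩
  · rintro ⟨g, rfl⟩
    exact ⟨MulAut.conj (e.symm g), ⟨_, rfl⟩, MulEquiv.ext fun x => by simp [E]⟩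

theorem center_map_equiv (e : G ≃* H) : (center G).map e.toMonoidHom = center H := by
  ext y
  simp only [Subgroup.mem_map, MulEquiv.coe_toMonoidHom, mem_center_iff]
  constructor
  · rintro ⟨x, hx, rfl⟩ g; simpa using congrArg e (hx (e.symm g))
  · intro hy
    exact ⟨e.symm y, fun g => by simpa using congrArg e.symm (hy (e g)), e.apply_symm_apply y⟩

theorem layer_map_equiv (e : G ≃* H) : (Cfsg.layer G).map e.toMonoidHom = Cfsg.layer H := by
  refine le_antisymm (map_le_iff_le_comap.2 (sSup_le fun L hL => map_le_iff_le_comap.1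
    (le_layer (isComponent_map_mulEquiv e hL)))) (sSup_le fun L hL => ?_)
  have h1 := map_mono (f := e.toMonoidHom) (le_layer (isComponent_map_mulEquiv e.symm hL))
  refine le_trans (le_of_eq ?_) h1
  ext x
  simp [Subgroup.mem_map]

theorem generalizedFitting_map_equiv (e : G ≃* H) :
    (Cfsg.generalizedFittingSubgroup G).map e.toMonoidHom = Cfsg.generalizedFittingSubgroup H := by
  rw [Cfsg.generalizedFittingSubgroup, Cfsg.generalizedFittingSubgroup, Subgroup.map_sup,
    CfsgLib.Solvable.map_fittingSubgroup_equiv, layer_map_equiv]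

theorem hasQuasisimpleGeneralizedFitting_congr (e : G ≃* H) :
    Cfsg.HasQuasisimpleGeneralizedFitting G ↔ Cfsg.HasQuasisimpleGeneralizedFitting H :=
  isQuasisimple_iff_congr ((e.subgroupMap _).trans (MulEquiv.subgroupCongr (generalizedFitting_map_equiv e)))

theorem pPrimeCore_eq_bot_congr (e : G ≃* H) (p : ℕ) :
    Cfsg.pPrimeCore p G = ⊥ ↔ Cfsg.pPrimeCore p H = ⊥ := by
  rw [← CfsgLib.Solvable.map_pPrimeCore_equiv e p, Subgroup.map_eq_bot_iff_of_injective _ e.injective]

theorem isPComponent_map_mulEquiv {p : ℕ} (e : G ≃* H) {K : Subgroup G} (hK : Cfsg.IsPComponent p K) :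
    Cfsg.IsPComponent p (K.map e.toMonoidHom) := by
  haveI := Cfsg.pPrimeCore_normal p G
  haveI := Cfsg.pPrimeCore_normal p H
  let eq : G ⧸ Cfsg.pPrimeCore p G ≃* H ⧸ Cfsg.pPrimeCore p H :=
    QuotientGroup.congr _ _ e (CfsgLib.Solvable.map_pPrimeCore_equiv e p)
  have hcomm : ∀ A : Subgroup G,
      (A.map (QuotientGroup.mk' (Cfsg.pPrimeCore p G))).map eq.toMonoidHom =
        (A.map e.toMonoidHom).map (QuotientGroup.mk' (Cfsg.pPrimeCore p H)) := by
    intro A
    rw [Subgroup.map_map, Subgroup.map_map]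
    congr 1
  refine ⟨hK.1.map e.surjective, ?_, fun J hJ hle himg => ?_⟩
  · rw [← hcomm]
    exact isComponent_map_mulEquiv eq hK.2.1
  · have hJeq : J = (J.comap e.toMonoidHom).map e.toMonoidHom :=
      (map_comap_eq_self_of_surjective (f := e.toMonoidHom) e.surjective J).symm
    have h1 : J.comap e.toMonoidHom = K := by
      refine hK.2.2 _ (hJ.comap _) ?_ ?_
      · intro x hx
        obtain ⟨k, hk, hke⟩ := hle hx
        rwa [← e.injective hke]
      · apply map_injective (f := eq.toMonoidHom) eq.injective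
        rw [hcomm, hcomm, ← hJeq, himg]
    rw [hJeq, h1]

theorem hasBpProperty_congr (e : G ≃* H) {p : ℕ} (h : Cfsg.HasBpProperty p G) :
    Cfsg.HasBpProperty p H := by
  refine ⟨(pPrimeCore_eq_bot_congr e p).1 h.1, fun x hx K hK => ?_⟩
  have hmap : (centralizer ({e.symm x} : Set G)).map e.toMonoidHom = centralizer ({x} : Set H) := by
    ext y
    simp only [Subgroup.mem_map, mem_centralizer_singleton_iff, MulEquiv.coe_toMonoidHom]
    constructor
    · rintro ⟨z, hz, rfl⟩
      simpa using congrArg e hz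
    · intro hy
      exact ⟨e.symm y, by rw [← map_mul, ← map_mul, hy], e.apply_symm_apply y⟩
  let f : ↥(centralizer ({e.symm x} : Set G)) ≃* ↥(centralizer ({x} : Set H)) :=
    (e.subgroupMap _).trans (MulEquiv.subgroupCongr hmap)
  refine isQuasisimple_congr (f.symm.subgroupMap K).symm
    (h.2 (e.symm x) ?_ _ (isPComponent_map_mulEquiv f.symm hK))
  rw [← hx]
  exact orderOf_injective e.symm.toMonoidHom e.symm.injective x

end CfsgLib.Comp
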