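import Cfsg.Agent.Lib.Comp.Components

/-!
The generalized Fitting subgroup: self-centralizing property and its structure.
-/

set_option linter.style.haveILetI false

namespace CfsgLib.Comp

open Subgroup

variable {G : Type*} [Group G]

theorem layer_le_generalizedFitting (G : Type*) [Group G] :
    Cfsg.layer G ≤ Cfsg.generalizedFittingSubgroup G := le_sup_left

theorem fittingSubgroup_le_generalizedFitting (G : Type*) [Group G] :
    Cfsg.fittingSubgroup G ≤ Cfsg.generalizedFittingSubgroup G := le_sup_right

variable [Finite G]

theorem generalizedFittingSubgroup_normal (G : Type*) [Group G] [Finite G] :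
    (Cfsg.generalizedFittingSubgroup G).Normal := by
  haveI := layer_normal G
  haveI := fittingSubgroup_normal G
  exact Subgroup.sup_normal (Cfsg.layer G) (Cfsg.fittingSubgroup G)

theorem eq_bot_of_perfect_of_isSolvable {H : Subgroup G} (h : ⁅H, H⁆ = H) (hs : Group.IsSolvable H) :
    H = ⊥ := by
  by_contra hne
  haveI := (Subgroup.nontrivial_iff_ne_bot H).2 hne
  haveI : Group.IsPerfect H := Subgroup.isPerfect_iff.2 h
  exact Group.IsPerfect.not_isSolvable H hs

/-- An abelian subnormal subgroup lies in the Fitting subgroup. -/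
theorem le_fittingSubgroup_of_abelian {H : Subgroup G} (hH : H.IsSubnormal)
    (h : H ≤ centralizer (H : Set G)) : H ≤ Cfsg.fittingSubgroup G := by
  haveI : IsMulCommutative H := ⟨⟨fun a b => Subtype.ext (mem_centralizer_iff.1 (h b.2) a a.2)⟩⟩
  exact le_fittingSubgroup_of_isSubnormal hH (open scoped IsMulCommutative in inferInstance)

/-- A normal subgroup whose subnormal solvable subgroups are central in it, and which is not
abelian, contains a component. -/
theorem exists_component_le {D : Subgroup G} (hD : D.IsSubnormal)
    (hsol : ∀ R : Subgroup G, R.IsSubnormal → R ≤ D → Group.IsSolvable R →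
      R ≤ centralizer (D : Set G))
    (hns : ¬ Group.IsSolvable D) : ∃ K, Cfsg.IsComponent K ∧ K ≤ D := by
  have hwf : ∀ s : Set (Subgroup G), s.Nonempty → ∃ K, Minimal (· ∈ s) K := fun s hs =>
    (Set.toFinite s).exists_minimal hs
  obtain ⟨K, ⟨hKs, hKD, hKns⟩, hKmin⟩ :=
    hwf {K | K.IsSubnormal ∧ K ≤ D ∧ ¬ Group.IsSolvable K} ⟨D, hD, le_rfl, hns⟩
  have hsmall : ∀ N : Subgroup K, N.Normal → N ≠ ⊤ → Group.IsSolvable N := by
    intro N hN hne
    by_contra hc
    refine hne ?_
    have h1 : K ≤ N.map K.subtype := hKmin ⟨isSubnormal_map_of_normal hKs N,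
      (map_subtype_le N).trans hKD, fun hs => hc ?_⟩ (map_subtype_le N)
    · rw [eq_top_iff]
      intro x _
      obtain ⟨y, hy, hxy⟩ := h1 x.2
      rwa [← K.subtype_injective hxy]
    · exact Group.isSolvable_of_isSolvable_injective (f := (N.equivMapOfInjective _
        K.subtype_injective).toMonoidHom) (N.equivMapOfInjective _ K.subtype_injective).injective
  have hperf : ⁅K, K⁆ = K := by
    by_contra hne
    have h1 : commutator K ≠ ⊤ := fun e => hne (Subgroup.isPerfect_iff.1 ⟨e⟩)
    haveI := hsmall (commutator K) inferInstance h1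
    exact hKns (isSolvable_of_isSolvable_quotient_aux K)
  refine ⟨K, ⟨hKs, Subgroup.isPerfect_iff.2 hperf, ?_⟩, hKD⟩
  have hcenter : ∀ N : Subgroup K, N.Normal → N ≠ ⊤ → N ≤ center K := by
    intro N hN hne
    haveI := hsmall N hN hne
    have h1 : N.map K.subtype ≤ centralizer (D : Set G) :=
      hsol _ (isSubnormal_map_of_normal hKs N) ((map_subtype_le N).trans hKD)
        (Group.isSolvable_of_surjective (f := (N.equivMapOfInjective _
          K.subtype_injective).toMonoidHom) (N.equivMapOfInjective _ K.subtype_injective).surjective)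
    intro x hx
    rw [mem_center_iff]
    intro y
    exact Subtype.ext (mem_centralizer_iff.1 (h1 ⟨x, hx, rfl⟩) y (hKD y.2))
  haveI : Nontrivial (↥K ⧸ center ↥K) := by
    rw [← not_subsingleton_iff_nontrivial]
    intro hs
    apply hKns
    haveI : IsMulCommutative K := center_eq_top_iff.1 (eq_top_iff.2 fun y _ =>
      (QuotientGroup.eq_one_iff y).1 (Subsingleton.elim _ _))
    exact open scoped IsMulCommutative in inferInstance
  refine ⟨fun N hN => ?_⟩
  have hN' : (N.comap (QuotientGroup.mk' (center K))).Normal := hN.comap _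
  by_cases hne : N.comap (QuotientGroup.mk' (center K)) = ⊤
  · right
    rw [← map_comap_eq_self_of_surjective (QuotientGroup.mk'_surjective _) N, hne,
      map_top_of_surjective _ (QuotientGroup.mk'_surjective _)]
  · left
    rw [← map_comap_eq_self_of_surjective (QuotientGroup.mk'_surjective _) N, Subgroup.map_eq_bot_iff,
      QuotientGroup.ker_mk']
    exact hcenter _ hN' hne
where
  isSolvable_of_isSolvable_quotient_aux (K : Subgroup G) [Group.IsSolvable (commutator K)] :
      Group.IsSolvable K :=
    Group.isSolvable_of_ker_le_range (commutator K).subtype (Abelianization.of (G := K)) (by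
      rw [Abelianization.ker_of, range_subtype])

/-- `C_G(F*(G)) ≤ F*(G)`. -/
theorem centralizer_generalizedFitting_le (G : Type*) [Group G] [Finite G] :
    centralizer (Cfsg.generalizedFittingSubgroup G : Set G) ≤ Cfsg.generalizedFittingSubgroup G := by
  classical
  set C := centralizer (Cfsg.generalizedFittingSubgroup G : Set G) with hC
  set Z := C ⊓ Cfsg.generalizedFittingSubgroup G with hZ
  have hFn := generalizedFittingSubgroup_normal G
  have hCn : C.Normal :=
    normal_of_top_le_normalizer (le_normalizer_centralizer (le_normalizer_of_normal' _ _))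
  haveI := hCn
  haveI := hFn
  have hZn : Z.Normal := Subgroup.normal_inf_normal _ _
  by_contra hnot
  have hZlt : Z < C := lt_of_le_of_ne inf_le_left fun e => hnot (e.ge.trans inf_le_right)
  obtain ⟨D, ⟨hDn, hDC, hDlt⟩, hDmin⟩ :=
    (Set.toFinite {D : Subgroup G | D.Normal ∧ D ≤ C ∧ Z < D}).exists_minimal ⟨C, hCn, le_rfl, hZlt⟩
  have hZcent : Z ≤ centralizer (C : Set G) :=
    inf_le_right.trans (le_centralizer_iff.1 le_rfl)
  haveI := hDn
  -- every normal subgroup of G inside D containing Z is Z or D
  have hdich : ∀ E : Subgroup G, E.Normal → E ≤ D → E ⊔ Z = D ∨ E ≤ Z := by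
    intro E hE hED
    haveI := hE
    haveI := hZn
    by_cases h : E ≤ Z
    · exact Or.inr h
    · left
      refine le_antisymm (sup_le hED hDlt.le) (hDmin ⟨Subgroup.sup_normal E Z,
        (sup_le hED hDlt.le).trans hDC, lt_of_le_of_ne le_sup_right fun e => h ?_⟩ (sup_le hED hDlt.le))
      exact le_sup_left.trans e.ge
  have hns : ¬ Group.IsSolvable D := by
    intro hs
    have hc : ⁅D, D⁆ ≤ Z := by
      rcases hdich ⁅D, D⁆ inferInstance (commutator_le_self D) with h | h
      · exfalso
        have hle : ⁅D, D⁆ ≤ ⁅⁅D, D⁆, ⁅D, D⁆⁆ := by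
          have hZD : Z.subgroupOf D ≤ center D := fun z hz =>
            mem_center_iff.2 fun y => Subtype.ext (mem_centralizer_iff.1 (hZcent hz) y (hDC y.2))
          have h2 := commutator_sup_central (A := (⁅D, D⁆).subgroupOf D) (Z := Z.subgroupOf D) hZD
          rw [← subgroupOf_sup (commutator_le_self D) hDlt.le, h, subgroupOf_self] at h2
          have h3 := map_mono (f := D.subtype) h2
          rwa [Subgroup.map_commutator, Subgroup.map_commutator,
            map_subgroupOf_eq_of_le (commutator_le_self D), ← MonoidHom.range_eq_map,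
            range_subtype] at h3
        have hbot : ⁅D, D⁆ = ⊥ := eq_bot_of_perfect_of_isSolvable (le_antisymm (commutator_le_self _) hle)
          (Group.isSolvable_of_isSolvable_injective (inclusion_injective (commutator_le_self D)))
        rw [hbot, bot_sup_eq] at h
        exact hDlt.ne h
      · exact h
    have hnil : Group.IsNilpotent D := by
      apply Group.of_quotient_center_nilpotent
      haveI : IsMulCommutative (↥D ⧸ center ↥D) := ⟨⟨fun a b => by
        obtain ⟨a, rfl⟩ := QuotientGroup.mk'_surjective _ a
        obtain ⟨b, rfl⟩ := QuotientGroup.mk'_surjective _ b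
        rw [← commutatorElement_eq_one_iff_mul_comm, ← map_commutatorElement,
          QuotientGroup.mk'_apply, QuotientGroup.eq_one_iff, mem_center_iff]
        intro y
        exact Subtype.ext (mem_centralizer_iff.1
          (hZcent (hc (commutator_mem_commutator a.2 b.2))) y (hDC y.2))⟩⟩
      exact open scoped IsMulCommutative in inferInstance
    have hDF : D ≤ Cfsg.generalizedFittingSubgroup G :=
      (le_fittingSubgroup_of_isSubnormal hDn.isSubnormal hnil).trans le_sup_right
    exact hDlt.not_ge (le_inf hDC hDF)
  have hsol : ∀ R : Subgroup G, R.IsSubnormal → R ≤ D → Group.IsSolvable R →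
      R ≤ centralizer (D : Set G) := by
    intro R hR hRD hRs
    obtain ⟨N, hNn, hRN, hNs⟩ := exists_normal_solvable_of_isSubnormal hR hRs
    refine (le_inf hRN hRD).trans ?_
    haveI := hNn
    rcases hdich (N ⊓ D) inferInstance inf_le_right with h | h
    · exfalso; apply hns
      haveI : IsMulCommutative Z :=
        ⟨⟨fun a b => Subtype.ext (mem_centralizer_iff.1 (hZcent b.2) a a.2.1)⟩⟩
      rw [← h]
      exact isSolvable_sup (le_normalizer_of_normal' _ _)
        (Group.isSolvable_of_isSolvable_injective (inclusion_injective inf_le_left))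
        (open scoped IsMulCommutative in inferInstance)
    · exact h.trans (hZcent.trans (centralizer_le hDC))
  obtain ⟨K, hK, hKD⟩ := exists_component_le hDn.isSubnormal hsol hns
  refine not_le_center_of_isQuasisimple hK.2 ?_
  exact (hKD.trans hDC).trans (centralizer_le ((le_layer hK).trans le_sup_left))

/-- `C_G(F*(G))` is contained in the Fitting subgroup. -/
theorem centralizer_generalizedFitting_le_fitting (G : Type*) [Group G] [Finite G] :
    centralizer (Cfsg.generalizedFittingSubgroup G : Set G) ≤ Cfsg.fittingSubgroup G := by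
  haveI := generalizedFittingSubgroup_normal G
  refine le_fittingSubgroup_of_abelian (normal_of_top_le_normalizer
    (le_normalizer_centralizer (le_normalizer_of_normal' _ _))).isSubnormal ?_
  exact le_centralizer_iff.1 (centralizer_le (centralizer_generalizedFitting_le G))

theorem le_fittingSubgroup_of_centralizes {x : G}
    (hF : x ∈ centralizer (Cfsg.fittingSubgroup G : Set G))
    (hE : ∀ L : Subgroup G, Cfsg.IsComponent L → x ∈ centralizer (L : Set G)) :
    x ∈ Cfsg.fittingSubgroup G := by
  apply centralizer_generalizedFitting_le_fitting G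
  have : zpowers x ≤ centralizer ((Cfsg.layer G ⊔ Cfsg.fittingSubgroup G : Subgroup G) : Set G) :=
    le_centralizer_sup (le_centralizer_sSup fun L hL => zpowers_le.2 (hE L hL)) (zpowers_le.2 hF)
  exact this (mem_zpowers x)

/-- A solvable subnormal subgroup centralizing the Fitting subgroup lies in its centre. -/
theorem le_fittingSubgroup_of_isSolvable {N : Subgroup G} (hN : N.IsSubnormal)
    (hs : Group.IsSolvable N) (h : N ≤ centralizer (Cfsg.fittingSubgroup G : Set G)) :
    N ≤ Cfsg.fittingSubgroup G := fun _ hx =>
  le_fittingSubgroup_of_centralizes (h hx) fun _ hL =>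
    le_centralizer_iff.1 (component_le_centralizer_of_isSolvable hL hN hs) hx

/-- The intersection of the layer with its centralizer is generated by the centres of the components. -/
theorem layer_inf_centralizer_layer (G : Type*) [Group G] [Finite G] :
    Cfsg.layer G ⊓ centralizer (Cfsg.layer G : Set G) =
      sSup {A : Subgroup G | ∃ L, Cfsg.IsComponent L ∧ A = L ⊓ centralizer (L : Set G)} := by
  apply le_antisymm
  · intro x hx
    have h := mem_of_mem_layer_of_centralizes ∅ hx.1
      fun L hL _ => centralizer_le (le_layer hL) hx.2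
    simpa using h
  · refine sSup_le ?_
    rintro A ⟨L, hL, rfl⟩
    refine le_inf (inf_le_left.trans (le_layer hL)) (le_centralizer_sSup fun K hK => ?_)
    rcases component_eq_or_le_centralizer hL hK with rfl | h
    · exact inf_le_right
    · exact inf_le_left.trans h

/-- `F(G) ∩ E(G) = Z(E(G))`. -/
theorem fittingSubgroup_inf_layer (G : Type*) [Group G] [Finite G] :
    Cfsg.fittingSubgroup G ⊓ Cfsg.layer G = Cfsg.layer G ⊓ centralizer (Cfsg.layer G : Set G) := by
  apply le_antisymm
  · exact le_inf inf_le_right (inf_le_left.trans (fittingSubgroup_le_centralizer_layer G))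
  · refine le_inf ?_ inf_le_left
    rw [layer_inf_centralizer_layer]
    exact sSup_le fun A ⟨L, hL, e⟩ => e ▸ component_inf_centralizer_le_fittingSubgroup hL

/-- A subnormal subgroup inside `F*(G)` is generated by its intersection with `F(G)` and the
components it contains. -/
theorem le_fitting_inf_sup_components {S : Subgroup G} (hS : S.IsSubnormal)
    (hle : S ≤ Cfsg.generalizedFittingSubgroup G) :
    S ≤ (Cfsg.fittingSubgroup G ⊓ S) ⊔ sSup {L : Subgroup G | Cfsg.IsComponent L ∧ L ≤ S} := by
  intro x hxS
  haveI := fittingSubgroup_normal G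
  obtain ⟨e, he, f, hf, hx⟩ := exists_mul_of_mem_sup (H := Cfsg.layer G) (K := Cfsg.fittingSubgroup G)
    (by haveI := layer_normal G; exact le_normalizer_of_normal' _ _) (hle hxS)
  have hc : ∀ L : Subgroup G, Cfsg.IsComponent L → L ∉ {L : Subgroup G | L ≤ S} →
      e ∈ centralizer (L : Set G) := by
    intro L hL hnot
    have h1 : x ∈ centralizer (L : Set G) :=
      le_centralizer_iff.1 ((component_le_or_le_centralizer hL hS).resolve_left hnot) hxS
    have h2 : f ∈ centralizer (L : Set G) :=
      centralizer_le (le_layer hL) (fittingSubgroup_le_centralizer_layer G hf)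
    have h3 := mul_mem h1 (inv_mem h2)
    rwa [← hx, mul_inv_cancel_right] at h3
  have hmem : e ∈ sSup {L : Subgroup G | Cfsg.IsComponent L ∧ L ≤ S} ⊔ Cfsg.fittingSubgroup G := by
    refine SetLike.le_def.1 (sup_le_sup le_rfl ?_)
      (mem_of_mem_layer_of_centralizes {L : Subgroup G | L ≤ S} he hc)
    exact sSup_le fun A ⟨L, hL, e'⟩ => e' ▸ component_inf_centralizer_le_fittingSubgroup hL
  have hx' : x ∈ sSup {L : Subgroup G | Cfsg.IsComponent L ∧ L ≤ S} ⊔ Cfsg.fittingSubgroup G := by
    rw [← hx]; exact mul_mem hmem (mem_sup_right hf)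
  obtain ⟨u, hu, v, hv, huv⟩ := exists_mul_of_mem_sup
    (le_centralizer_sSup (S := {L : Subgroup G | Cfsg.IsComponent L ∧ L ≤ S})
      (fun L hL => (fittingSubgroup_le_centralizer_layer G).trans (centralizer_le (le_layer hL.1)))
      |>.trans (centralizer_le_normalizer _)) hx'
  have huS : u ∈ S := (sSup_le fun L hL => hL.2 :
    sSup {L : Subgroup G | Cfsg.IsComponent L ∧ L ≤ S} ≤ S) hu
  have hvS : v ∈ S := by
    have : v = u⁻¹ * x := by rw [← huv]; group
    rw [this]; exact mul_mem (inv_mem huS) hxS
  rw [← huv]
  exact mul_mem (mem_sup_right hu) (mem_sup_left ⟨hv, hvS⟩)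

theorem fittingSubgroup_map_subtype {S : Subgroup G} (hS : S.IsSubnormal) :
    (Cfsg.fittingSubgroup S).map S.subtype = Cfsg.fittingSubgroup G ⊓ S := by
  haveI := fittingSubgroup_normal G
  haveI := isNilpotent_fittingSubgroup G
  haveI := fittingSubgroup_normal S
  apply le_antisymm
  · refine le_inf (le_fittingSubgroup_of_isSubnormal (isSubnormal_map_of_normal hS _) ?_)
      (map_subtype_le _)
    exact (Group.isNilpotent_congr ((Cfsg.fittingSubgroup S).equivMapOfInjective _
      S.subtype_injective)).1 (isNilpotent_fittingSubgroup S)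
  · have hle : (Cfsg.fittingSubgroup G ⊓ S).subgroupOf S ≤ Cfsg.fittingSubgroup S := by
      refine le_sSup ⟨normal_subgroupOf_of_le_normalizer
        (le_normalizer_inf (le_normalizer_of_normal' _ _) le_normalizer), ?_⟩
      haveI : Group.IsNilpotent ↥(Cfsg.fittingSubgroup G ⊓ S) :=
        Group.isNilpotent_congr (subgroupOfEquivOfLe
          (inf_le_left : Cfsg.fittingSubgroup G ⊓ S ≤ Cfsg.fittingSubgroup G)) |>.1 inferInstance
      exact (Group.isNilpotent_congr (subgroupOfEquivOfLe inf_le_right)).2 inferInstance
    calc Cfsg.fittingSubgroup G ⊓ S = ((Cfsg.fittingSubgroup G ⊓ S).subgroupOf S).map S.subtype :=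
          (map_subgroupOf_eq_of_le inf_le_right).symm
      _ ≤ _ := map_mono hle

/-- A subnormal subgroup contained in `F*(G)` is its own generalized Fitting subgroup. -/
theorem generalizedFitting_eq_top_of_le {S : Subgroup G} (hS : S.IsSubnormal)
    (hle : S ≤ Cfsg.generalizedFittingSubgroup G) : Cfsg.generalizedFittingSubgroup S = ⊤ := by
  apply map_injective S.subtype_injective
  rw [Cfsg.generalizedFittingSubgroup, Subgroup.map_sup, fittingSubgroup_map_subtype hS,
    layer_map_subtype hS, ← MonoidHom.range_eq_map, range_subtype, sup_comm]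
  exact le_antisymm (sup_le inf_le_right (sSup_le fun L hL => hL.2))
    (le_fitting_inf_sup_components hS hle)

/-- `F*` of a subnormal subgroup is the intersection with `F*(G)`. -/
theorem generalizedFitting_map_subtype {S : Subgroup G} (hS : S.IsSubnormal) :
    (Cfsg.generalizedFittingSubgroup S).map S.subtype = Cfsg.generalizedFittingSubgroup G ⊓ S := by
  rw [Cfsg.generalizedFittingSubgroup, Subgroup.map_sup, fittingSubgroup_map_subtype hS]
  apply le_antisymm
  · refine le_inf (sup_le_sup (layer_map_subtype_le hS) inf_le_left) ?_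
    exact sup_le (map_subtype_le _) inf_le_right
  · have hT : (Cfsg.generalizedFittingSubgroup G ⊓ S).IsSubnormal :=
      (generalizedFittingSubgroup_normal G).isSubnormal.inf hS
    refine (le_fitting_inf_sup_components hT inf_le_left).trans ?_
    rw [sup_comm]
    refine sup_le_sup ?_ (inf_le_inf_left _ inf_le_right)
    rw [layer_map_subtype hS]
    exact sSup_le_sSup fun L hL => ⟨hL.1, hL.2.trans inf_le_right⟩

/-- `C_G(F(G)) ≤ F(G)` exactly when there is no component. -/
theorem centralizer_fitting_le_iff (G : Type*) [Group G] [Finite G] :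
    centralizer (Cfsg.fittingSubgroup G : Set G) ≤ Cfsg.fittingSubgroup G ↔ Cfsg.layer G = ⊥ := by
  constructor
  · intro h
    haveI := isNilpotent_fittingSubgroup G
    exact eq_bot_of_perfect_of_isSolvable (commutator_layer_self G)
      (Group.isSolvable_of_isSolvable_injective
        (inclusion_injective ((layer_le_centralizer_fittingSubgroup G).trans h)))
  · intro h
    have := centralizer_generalizedFitting_le G
    rwa [Cfsg.generalizedFittingSubgroup, h, bot_sup_eq] at this

end CfsgLib.Comp
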