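import Cfsg.Agent.Lib.Comp.Normalize

/-!
Subnormal subgroups: conjugates, descending steps, and the fact that a subnormal subgroup which is a
p-group, a p'-group, nilpotent or solvable lies in the corresponding radical.
-/

set_option linter.style.haveILetI false

namespace CfsgLib.Comp

open Subgroup

variable {G : Type*} [Group G]

theorem isSubnormal_map_conj {H : Subgroup G} (hH : H.IsSubnormal) (g : G) :
    (H.map (MulAut.conj g).toMonoidHom).IsSubnormal :=
  hH.map (MulAut.conj g).surjective

theorem isSubnormal_of_le_normalizer {H K : Subgroup G} (h : H ≤ K) (hK : K.IsSubnormal)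
    (hn : K ≤ normalizer (H : Set G)) : H.IsSubnormal :=
  .step H K h hK (normal_subgroupOf_of_le_normalizer hn)

theorem isSubnormal_map_of_normal {M : Subgroup G} (hM : M.IsSubnormal) (H : Subgroup M) [hH : H.Normal] :
    (H.map M.subtype).IsSubnormal :=
  hH.isSubnormal.trans' hM

theorem subgroupOf_isSubnormal_of_le_normalizer {H K : Subgroup G}
    (hn : K ≤ normalizer (H : Set G)) : (H.subgroupOf K).IsSubnormal :=
  (normal_subgroupOf_of_le_normalizer hn).isSubnormal

/-- A subnormal subgroup properly inside `M` lies in a proper normal subgroup of `M`. -/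
theorem exists_lt_le_normalizer {L M : Subgroup G} (hL : (L.subgroupOf M).IsSubnormal)
    (h : L < M) : ∃ N, L ≤ N ∧ N < M ∧ M ≤ normalizer (N : Set G) := by
  have hne : L.subgroupOf M ≠ ⊤ := fun e => h.not_ge (subgroupOf_eq_top.1 e)
  obtain ⟨K, hKn, hLK, hKlt⟩ := hL.exists_normal_and_le_and_lt_top_of_ne hne
  refine ⟨K.map M.subtype, ?_, ?_, ?_⟩
  · rw [← map_subgroupOf_eq_of_le h.le]; exact map_mono hLK
  · refine lt_of_le_of_ne (map_subtype_le K) fun e => hKlt.ne ?_
    apply map_injective M.subtype_injective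
    rw [e, ← MonoidHom.range_eq_map, range_subtype]
  · have := le_normalizer_map (f := M.subtype) (H := K)
    rwa [normalizer_eq_top, ← MonoidHom.range_eq_map, range_subtype] at this

/-- A property closed under conjugation and under joins of mutually normalizing subgroups:
every subnormal subgroup with the property lies in a normal one with the property. -/
theorem exists_normal_of_isSubnormal [Finite G] (P : Subgroup G → Prop) (hbot : P ⊥)
    (hconj : ∀ H g, P H → P (H.map (MulAut.conj g).toMonoidHom))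
    (hsup : ∀ H K : Subgroup G, H ≤ normalizer (K : Set G) → K ≤ normalizer (H : Set G) →
      P H → P K → P (H ⊔ K))
    {H : Subgroup G} (hH : H.IsSubnormal) (hP : P H) : ∃ N : Subgroup G, N.Normal ∧ H ≤ N ∧ P N := by
  classical
  suffices key : ∀ M : Subgroup G, M.IsSubnormal → ∀ A, A ≤ M → M ≤ normalizer (A : Set G) → P A →
      ∃ N : Subgroup G, N.Normal ∧ A ≤ N ∧ P N from key H hH H le_rfl le_normalizer hP
  intro M hM
  induction hM with
  | top => exact fun A _ hn hA => ⟨A, normal_of_top_le_normalizer hn, le_rfl, hA⟩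
  | step K M hle hM hN ih =>
    intro A hAK hAn hA
    have hMK : M ≤ normalizer (K : Set G) := (normal_subgroupOf_iff_le_normalizer hle).1 hN
    have hfin : ({B : Subgroup G | ∃ m ∈ M, B = A.map (MulAut.conj m).toMonoidHom}).Finite :=
      Set.toFinite _
    let s := hfin.toFinset
    have hmem : ∀ B ∈ s, B ≤ K ∧ K ≤ normalizer (B : Set G) ∧ P B := by
      intro B hB
      obtain ⟨m, hm, rfl⟩ := hfin.mem_toFinset.1 hB
      have hKm : K.map (MulAut.conj m).toMonoidHom = K := map_conj_eq_iff.2 (hMK hm)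
      refine ⟨(map_mono hAK).trans_eq hKm, ?_, hconj A m hA⟩
      calc K = K.map (MulAut.conj m).toMonoidHom := hKm.symm
        _ ≤ (normalizer (A : Set G)).map (MulAut.conj m).toMonoidHom := map_mono hAn
        _ ≤ _ := le_normalizer_map _
    have hjoin : s.sup id ≤ K ∧ K ≤ normalizer ((s.sup id : Subgroup G) : Set G) ∧ P (s.sup id) := by
      refine Finset.sup_induction (p := fun B => B ≤ K ∧ K ≤ normalizer (B : Set G) ∧ P B) ?_ ?_
        (fun B hB => hmem B hB)
      · exact ⟨bot_le, by rw [normalizer_eq_top]; exact le_top, hbot⟩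
      · rintro a ⟨ha1, ha2, ha3⟩ b ⟨hb1, hb2, hb3⟩
        exact ⟨sup_le ha1 hb1, le_normalizer_sup ha2 hb2,
          hsup a b (ha1.trans hb2) (hb1.trans ha2) ha3 hb3⟩
    have hsS : s.sup id = sSup {B : Subgroup G | ∃ m ∈ M, B = A.map (MulAut.conj m).toMonoidHom} := by
      rw [Finset.sup_id_eq_sSup, hfin.coe_toFinset]
    have hMn : M ≤ normalizer ((s.sup id : Subgroup G) : Set G) := by
      rw [hsS]
      refine le_normalizer_sSup _ ?_
      rintro m hm B ⟨n, hn, rfl⟩
      exact ⟨m * n, mul_mem hm hn, (map_conj_mul A m n).symm⟩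
    obtain ⟨N, hNn, hle', hPN⟩ := ih _ (hjoin.1.trans hle) hMn hjoin.2.2
    refine ⟨N, hNn, le_trans ?_ hle', hPN⟩
    rw [hsS]
    exact le_sSup ⟨1, one_mem M, (map_conj_one A).symm⟩

theorem card_sup_dvd_mul {H K : Subgroup G} (h : K ≤ normalizer (H : Set G)) :
    Nat.card ↥(H ⊔ K) ∣ Nat.card H * Nat.card K := by
  have hnorm : (H.subgroupOf (H ⊔ K)).Normal :=
    normal_subgroupOf_of_le_normalizer (sup_le le_normalizer h)
  have e : (H.subgroupOf (H ⊔ K)).relIndex (K.subgroupOf (H ⊔ K)) =
      (H.subgroupOf (H ⊔ K)).index := by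
    rw [← relIndex_sup_left (K := H.subgroupOf (H ⊔ K)), ← subgroupOf_sup le_sup_left le_sup_right,
      subgroupOf_self, relIndex_top_right]
  rw [← card_mul_index (H.subgroupOf (H ⊔ K)), Nat.card_congr (subgroupOfEquivOfLe le_sup_left).toEquiv,
    ← e, relIndex_subgroupOf le_sup_right]
  exact mul_dvd_mul_left _ (relIndex_dvd_card H K)

theorem coprime_card_sup {n : ℕ} {H K : Subgroup G} (h : K ≤ normalizer (H : Set G))
    (hH : (Nat.card H).Coprime n) (hK : (Nat.card K).Coprime n) :
    (Nat.card ↥(H ⊔ K)).Coprime n :=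
  Nat.Coprime.coprime_dvd_left (card_sup_dvd_mul h) (hH.mul_left hK)

theorem isSolvable_sup {H K : Subgroup G} (h : K ≤ normalizer (H : Set G))
    (hH : Group.IsSolvable H) (hK : Group.IsSolvable K) : Group.IsSolvable ↥(H ⊔ K) := by
  have : (H.subgroupOf (H ⊔ K)).Normal :=
    normal_subgroupOf_of_le_normalizer (sup_le le_normalizer h)
  let q := QuotientGroup.mk' (H.subgroupOf (H ⊔ K))
  have hsurj : Function.Surjective (q.comp (inclusion (le_sup_right : K ≤ H ⊔ K))) := by
    intro x
    obtain ⟨⟨x, hx⟩, rfl⟩ := QuotientGroup.mk'_surjective _ x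
    obtain ⟨a, ha, b, hb, rfl⟩ := exists_mul_of_mem_sup h hx
    refine ⟨⟨b, hb⟩, ?_⟩
    simp only [MonoidHom.comp_apply]
    apply (QuotientGroup.eq).2
    rw [mem_subgroupOf]
    have hb' := (mem_normalizer_iff''.1 (h hb) a).1 ha
    simpa [mul_assoc] using hb'
  have := Group.isSolvable_of_surjective hsurj
  refine Group.isSolvable_of_ker_le_range (inclusion (le_sup_left : H ≤ H ⊔ K)) q ?_
  rw [QuotientGroup.ker_mk', inclusion_range]

/-- Fitting's theorem: a finite group generated by two normal nilpotent subgroups is nilpotent. -/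
theorem isNilpotent_of_normal_sup_eq_top [Finite G] {H K : Subgroup G} [H.Normal] [K.Normal]
    (hH : Group.IsNilpotent H) (hK : Group.IsNilpotent K) (h : H ⊔ K = ⊤) : Group.IsNilpotent G := by
  refine (Group.isNilpotent_of_finite_tfae (G := G).out 0 3 rfl rfl).2 fun p hp P => ?_
  haveI := hp
  have key : ∀ {A : Subgroup G} [A.Normal], Group.IsNilpotent A →
      ∃ R : Subgroup G, R.Normal ∧ IsPGroup p R ∧
        ∀ (M : Subgroup G) [M.Normal], R ≤ M → (Nat.card (A.map (QuotientGroup.mk' M))).Coprime p := by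
    intro A _ hA
    let S : Sylow p A := default
    have hS : (S : Subgroup A).Normal := inferInstance
    haveI : (S : Subgroup A).Characteristic := Sylow.characteristic_of_normal S hS
    refine ⟨(S : Subgroup A).map A.subtype, ConjAct.normal_of_characteristic_of_normal,
      S.isPGroup'.map _, fun M _ hM => ?_⟩
    have hd : Nat.card (A.map (QuotientGroup.mk' M)) ∣ (S : Subgroup A).index := by
      have e : A.map (QuotientGroup.mk' M) = ((QuotientGroup.mk' M).comp A.subtype).range := by
        rw [MonoidHom.range_comp, range_subtype]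
      rw [e, ← index_ker]
      apply index_dvd_of_le
      intro x hx
      rw [MonoidHom.mem_ker, MonoidHom.comp_apply, QuotientGroup.mk'_apply, QuotientGroup.eq_one_iff]
      exact hM ⟨x, hx, rfl⟩
    exact Nat.Coprime.coprime_dvd_left hd ((hp.out.coprime_iff_not_dvd.2 S.not_dvd_index).symm)
  obtain ⟨A, hAn, hAp, hA⟩ := key hH
  obtain ⟨B, hBn, hBp, hB⟩ := key hK
  have hAB : IsPGroup p ↥(A ⊔ B) := hAp.to_sup_of_normal_right hBp
  have hABP : A ⊔ B ≤ (P : Subgroup G) :=
    le_sup_right.trans_eq (P.is_maximal' (P.isPGroup'.to_sup_of_normal_right hAB) le_sup_left)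
  have hcop : (Nat.card (G ⧸ (A ⊔ B))).Coprime p := by
    have htop : H.map (QuotientGroup.mk' (A ⊔ B)) ⊔ K.map (QuotientGroup.mk' (A ⊔ B)) = ⊤ := by
      rw [← Subgroup.map_sup, h, map_top_of_surjective _ (QuotientGroup.mk'_surjective _)]
    haveI : (H.map (QuotientGroup.mk' (A ⊔ B))).Normal :=
      Subgroup.Normal.map ‹_› _ (QuotientGroup.mk'_surjective _)
    have := coprime_card_sup (le_normalizer_of_normal' _ _) (hA (A ⊔ B) le_sup_left)
      (hB (A ⊔ B) le_sup_right)
    rwa [htop, card_top] at this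
  have hPle : (P : Subgroup G) ≤ A ⊔ B := by
    have : (P : Subgroup G).map (QuotientGroup.mk' (A ⊔ B)) = ⊥ := by
      apply eq_bot_of_card_eq
      obtain ⟨n, hn⟩ := IsPGroup.iff_card.1 (P.isPGroup'.map (QuotientGroup.mk' (A ⊔ B)))
      have hd := card_subgroup_dvd_card ((P : Subgroup G).map (QuotientGroup.mk' (A ⊔ B)))
      rw [hn] at hd ⊢
      rcases n with _ | n
      · simp
      · exact absurd ((dvd_pow_self p n.succ_ne_zero).trans hd)
          (hp.out.coprime_iff_not_dvd.1 hcop.symm)
    rwa [Subgroup.map_eq_bot_iff, QuotientGroup.ker_mk'] at this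
  rw [le_antisymm hPle hABP]
  infer_instance

theorem isNilpotent_sup [Finite G] {H K : Subgroup G} (h : K ≤ normalizer (H : Set G))
    (h' : H ≤ normalizer (K : Set G))
    (hH : Group.IsNilpotent H) (hK : Group.IsNilpotent K) : Group.IsNilpotent ↥(H ⊔ K) := by
  haveI : (H.subgroupOf (H ⊔ K)).Normal :=
    normal_subgroupOf_of_le_normalizer (sup_le le_normalizer h)
  haveI : (K.subgroupOf (H ⊔ K)).Normal :=
    normal_subgroupOf_of_le_normalizer (sup_le h' le_normalizer)
  refine isNilpotent_of_normal_sup_eq_top (H := H.subgroupOf (H ⊔ K)) (K := K.subgroupOf (H ⊔ K)) ?_ ?_ ?_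
  · exact (Group.isNilpotent_congr (subgroupOfEquivOfLe le_sup_left)).2 hH
  · exact (Group.isNilpotent_congr (subgroupOfEquivOfLe le_sup_right)).2 hK
  · rw [← subgroupOf_sup le_sup_left le_sup_right, subgroupOf_self]

variable [Finite G]

/-- A subnormal `p`-subgroup lies in `O_p(G)`. -/
theorem le_pCore_of_isSubnormal {p : ℕ} {H : Subgroup G} (hH : H.IsSubnormal) (hp : IsPGroup p H) :
    H ≤ Cfsg.pCore p G := by
  obtain ⟨N, hN, hle, hNp⟩ := exists_normal_of_isSubnormal (fun A : Subgroup G => IsPGroup p A)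
    IsPGroup.of_bot (fun A g hA => hA.map _)
    (fun A B hAB _ hA hB => hA.to_sup_of_normal_right' hB hAB) hH hp
  exact hle.trans (le_sSup ⟨hN, hNp⟩)

/-- A subnormal subgroup of order prime to `p` lies in `O_{p'}(G)`. -/
theorem le_pPrimeCore_of_isSubnormal {p : ℕ} {H : Subgroup G} (hH : H.IsSubnormal)
    (hp : (Nat.card H).Coprime p) : H ≤ Cfsg.pPrimeCore p G := by
  obtain ⟨N, hN, hle, hNp⟩ := exists_normal_of_isSubnormal
    (fun A : Subgroup G => (Nat.card A).Coprime p) (by simp)
    (fun A g hA => by rwa [card_map_of_injective (MulAut.conj g).injective])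
    (fun A B _ hBA hA hB => coprime_card_sup hBA hA hB) hH hp
  exact hle.trans (le_sSup ⟨hN, hNp⟩)

/-- A subnormal nilpotent subgroup lies in the Fitting subgroup. -/
theorem le_fittingSubgroup_of_isSubnormal {H : Subgroup G} (hH : H.IsSubnormal)
    (hn : Group.IsNilpotent H) : H ≤ Cfsg.fittingSubgroup G := by
  obtain ⟨N, hN, hle, hNn⟩ := exists_normal_of_isSubnormal
    (fun A : Subgroup G => Group.IsNilpotent A) inferInstance
    (fun A g hA => (Group.isNilpotent_congr
      (A.equivMapOfInjective _ (MulAut.conj g).injective)).1 hA)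
    (fun A B hAB hBA hA hB => isNilpotent_sup hBA hAB hA hB) hH hn
  exact hle.trans (le_sSup ⟨hN, hNn⟩)

/-- A subnormal solvable subgroup lies in a normal solvable subgroup. -/
theorem exists_normal_solvable_of_isSubnormal {H : Subgroup G} (hH : H.IsSubnormal)
    (hs : Group.IsSolvable H) : ∃ N : Subgroup G, N.Normal ∧ H ≤ N ∧ Group.IsSolvable N :=
  exists_normal_of_isSubnormal (fun A : Subgroup G => Group.IsSolvable A) inferInstance
    (fun A g hA => by
      haveI := hA
      exact Group.isSolvable_of_surjective (f := (A.equivMapOfInjective _ (MulAut.conj g).injective).toMonoidHom)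
        (A.equivMapOfInjective _ (MulAut.conj g).injective).surjective)
    (fun A B _ hBA hA hB => isSolvable_sup hBA hA hB) hH hs

theorem fittingSubgroup_normal (G : Type*) [Group G] : (Cfsg.fittingSubgroup G).Normal :=
  sSup_normal _ fun _ h => h.1

/-- The Fitting subgroup of a finite group is nilpotent. -/
theorem isNilpotent_fittingSubgroup (G : Type*) [Group G] [Finite G] :
    Group.IsNilpotent (Cfsg.fittingSubgroup G) := by
  classical
  have hfin : ({N : Subgroup G | N.Normal ∧ Group.IsNilpotent N}).Finite := Set.toFinite _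
  have h : (hfin.toFinset.sup id).Normal ∧ Group.IsNilpotent ↥(hfin.toFinset.sup id) := by
    refine Finset.sup_induction (p := fun N : Subgroup G => N.Normal ∧ Group.IsNilpotent N)
      ⟨inferInstance, inferInstance⟩ ?_ (fun N hN => hfin.mem_toFinset.1 hN)
    rintro a ⟨ha1, ha2⟩ b ⟨hb1, hb2⟩
    exact ⟨inferInstance, isNilpotent_sup (le_normalizer_of_normal' _ _) (le_normalizer_of_normal' _ _) ha2 hb2⟩
  rw [Finset.sup_id_eq_sSup, hfin.coe_toFinset] at h
  exact h.2

/-- `O_p(G)` is a `p`-group. -/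
theorem isPGroup_pCore (p : ℕ) (G : Type*) [Group G] [Finite G] : IsPGroup p (Cfsg.pCore p G) := by
  classical
  have hfin : ({N : Subgroup G | N.Normal ∧ IsPGroup p N}).Finite := Set.toFinite _
  have h : (hfin.toFinset.sup id).Normal ∧ IsPGroup p ↥(hfin.toFinset.sup id) := by
    refine Finset.sup_induction (p := fun N : Subgroup G => N.Normal ∧ IsPGroup p N)
      ⟨inferInstance, IsPGroup.of_bot⟩ ?_ (fun N hN => hfin.mem_toFinset.1 hN)
    rintro a ⟨ha1, ha2⟩ b ⟨hb1, hb2⟩
    exact ⟨inferInstance, ha2.to_sup_of_normal_right hb2⟩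
  rw [Finset.sup_id_eq_sSup, hfin.coe_toFinset] at h
  exact h.2

/-- The order of `O_{p'}(G)` is prime to `p`. -/
theorem coprime_card_pPrimeCore (p : ℕ) (G : Type*) [Group G] [Finite G] :
    (Nat.card (Cfsg.pPrimeCore p G)).Coprime p := by
  classical
  have hfin : ({N : Subgroup G | N.Normal ∧ (Nat.card N).Coprime p}).Finite := Set.toFinite _
  have h : (hfin.toFinset.sup id).Normal ∧ (Nat.card ↥(hfin.toFinset.sup id)).Coprime p := by
    refine Finset.sup_induction (p := fun N : Subgroup G => N.Normal ∧ (Nat.card N).Coprime p)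
      ⟨inferInstance, by simp⟩ ?_ (fun N hN => hfin.mem_toFinset.1 hN)
    rintro a ⟨ha1, ha2⟩ b ⟨hb1, hb2⟩
    exact ⟨inferInstance, coprime_card_sup (le_normalizer_of_normal' _ _) ha2 hb2⟩
  rw [Finset.sup_id_eq_sSup, hfin.coe_toFinset] at h
  exact h.2

theorem not_dvd_card_pPrimeCore (p : ℕ) [hp : Fact p.Prime] (G : Type*) [Group G] [Finite G] :
    ¬ p ∣ Nat.card (Cfsg.pPrimeCore p G) :=
  hp.out.coprime_iff_not_dvd.1 (coprime_card_pPrimeCore p G).symm

end CfsgLib.Comp
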