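import Cfsg.Agent.Lib.Comp.PComponent
import Cfsg.Agent.Lib.Coprime.Action
import Cfsg.Agent.Lib.Solvable.Fitting

/-!
Layers of `p`-local subgroups: the Thompson P × Q lemma, the preimage of the layer of a local
subgroup centralizes `O_p(G)`, groups with `F*(G) = O_p(G)`, Frattini arguments modulo a `p'`-group.
-/

set_option autoImplicit false
set_option linter.style.haveILetI false
set_option linter.unusedSectionVars false

namespace CfsgLib.Comp

open Subgroup
open scoped commutatorElement

variable {G : Type*} [Group G] [Finite G] {p : ℕ} [hp : Fact p.Prime]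

theorem coprime_card_of_isPGroup {H K : Subgroup G} (hH : IsPGroup p H)
    (hK : (Nat.card K).Coprime p) : (Nat.card H).Coprime (Nat.card K) := by
  obtain ⟨n, hn⟩ := IsPGroup.iff_card.1 hH
  rw [hn]; exact Nat.Coprime.pow_left _ hK.symm

theorem inf_eq_bot_of_isPGroup {H K : Subgroup G} (hH : IsPGroup p H)
    (hK : (Nat.card K).Coprime p) : H ⊓ K = ⊥ :=
  CfsgLib.Coprime.inf_eq_bot_of_coprime (coprime_card_of_isPGroup hH hK)

/-- Thompson's P × Q lemma. -/
theorem le_centralizer_of_centralizes_fixed {R P Q : Subgroup G} (hR : IsPGroup p R)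
    (hP : IsPGroup p P) (hQ : (Nat.card Q).Coprime p) (hPR : P ≤ normalizer (R : Set G))
    (hQR : Q ≤ normalizer (R : Set G)) (hQP : Q ≤ centralizer (P : Set G))
    (hfix : Q ≤ centralizer ((R ⊓ centralizer (P : Set G) : Subgroup G) : Set G)) :
    Q ≤ centralizer (R : Set G) := by
  induction R using WellFoundedLT.induction with
  | ind R ih =>
    have hPQ : P ≤ normalizer (Q : Set G) :=
      (le_centralizer_iff.1 hQP).trans (centralizer_le_normalizer Q)
    have hsub : ∀ D : Subgroup G, D < R → P ≤ normalizer (D : Set G) → Q ≤ normalizer (D : Set G) →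
        ⁅D, Q⁆ = ⊥ := fun D hD h1 h2 => by
      rw [commutator_comm, commutator_eq_bot_iff_le_centralizer]
      exact ih D hD (hR.to_le hD.le) h1 h2
        (hfix.trans (centralizer_le (inf_le_inf_right _ hD.le)))
    have hle : ⁅R, Q⁆ ≤ R := commutator_le_of_le_normalizer hQR
    rcases eq_or_lt_of_le hle with hRQ | hlt
    · have hMle : ⁅R, P⁆ ≤ R := commutator_le_of_le_normalizer hPR
      rcases eq_or_lt_of_le hMle with hRP | hMlt
      · have hbot : R = ⊥ := by
          have hK : IsPGroup p ↥(R ⊔ P) := hR.to_sup_of_normal_left' hP hPR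
          haveI : Group.IsNilpotent ↥(R ⊔ P) := hK.isNilpotent
          have key : ∀ n, R ≤ (R ⊔ P).lowerCentralSeries n := by
            intro n
            induction n with
            | zero => exact le_sup_left
            | succ n ihn => exact hRP.ge.trans (commutator_mono ihn le_sup_right)
          obtain ⟨n, hn⟩ := (isNilpotent_iff_lowerCentralSeries (R ⊔ P)).1 ‹_›
          exact eq_bot_iff.2 (hn ▸ key n)
        exact le_centralizer_iff.1 (hbot ▸ bot_le)
      · have h1 : ⁅⁅R, P⁆, Q⁆ = ⊥ := by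
          refine hsub _ hMlt (normalizer_commutator_ge_right R P) ?_
          intro x hx
          rw [← map_conj_eq_iff, Subgroup.map_commutator, map_conj_eq_iff.2 (hQR hx),
            map_conj_eq_iff.2 ((
              hQP.trans (centralizer_le_normalizer P)) hx)]
        have h2 : ⁅⁅P, Q⁆, R⁆ = ⊥ := by
          rw [commutator_eq_bot_iff_le_centralizer.2 (le_centralizer_iff.1 hQP), commutator_bot_left]
        have h3 : ⁅⁅Q, R⁆, P⁆ = ⊥ := commutator_commutator_eq_bot_of_rotate h1 h2
        rw [commutator_comm Q R, hRQ, commutator_eq_bot_iff_le_centralizer] at h3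
        exact hfix.trans (centralizer_le (le_inf le_rfl h3))
    · have h1 : ⁅⁅R, Q⁆, Q⁆ = ⊥ := by
        refine hsub _ hlt ?_ (normalizer_commutator_ge_right R Q)
        intro x hx
        rw [← map_conj_eq_iff, Subgroup.map_commutator, map_conj_eq_iff.2 (hPR hx),
          map_conj_eq_iff.2 (hPQ hx)]
      haveI : Group.IsNilpotent R := hR.isNilpotent
      have h2 := CfsgLib.Coprime.commutator_eq_bot_of_commutator_commutator hQR
        (coprime_card_of_isPGroup hR hQ).symm (Or.inr inferInstance) h1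
      rw [commutator_comm, commutator_eq_bot_iff_le_centralizer] at h2
      exact h2

/-- A subgroup centralizing every `O_q(G)` centralizes the Fitting subgroup. -/
theorem le_centralizer_fittingSubgroup {H : Subgroup G}
    (h : ∀ q : ℕ, q.Prime → H ≤ centralizer (Cfsg.pCore q G : Set G)) :
    H ≤ centralizer (Cfsg.fittingSubgroup G : Set G) := by
  rw [le_centralizer_iff, CfsgLib.Solvable.fittingSubgroup_eq_iSup_pCore]
  exact iSup_le fun q => le_centralizer_iff.1 (h q q.2)

theorem pCore_le_pPrimeCore {q : ℕ} (hq : q.Prime) (hne : q ≠ p) :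
    Cfsg.pCore q G ≤ Cfsg.pPrimeCore p G := by
  haveI := Fact.mk hq
  obtain ⟨n, hn⟩ := IsPGroup.iff_card.1 (isPGroup_pCore q G)
  exact le_sSup ⟨Cfsg.pCore_normal q G, hn ▸ Nat.Coprime.pow_left _ ((Nat.coprime_primes hq hp.out).2 hne)⟩

/-- With trivial `p'`-core the Fitting subgroup is `O_p(G)`. -/
theorem fittingSubgroup_eq_pCore_of_core (hO : Cfsg.pPrimeCore p G = ⊥) :
    Cfsg.fittingSubgroup G = Cfsg.pCore p G := by
  refine le_antisymm ?_ (CfsgLib.Solvable.pCore_le_fittingSubgroup p)
  rw [CfsgLib.Solvable.fittingSubgroup_eq_iSup_pCore]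
  refine iSup_le fun q => ?_
  by_cases hq : (q : ℕ) = p
  · rw [hq]
  · exact ((pCore_le_pPrimeCore q.2 hq).trans_eq hO).trans bot_le

/-- `O_{p'}(G)` centralizes `O_p(G)`. -/
theorem pPrimeCore_le_centralizer_pCore (p : ℕ) [Fact p.Prime] (G : Type*) [Group G] [Finite G] :
    Cfsg.pPrimeCore p G ≤ centralizer (Cfsg.pCore p G : Set G) := by
  rw [← commutator_eq_bot_iff_le_centralizer, eq_bot_iff,
    ← inf_eq_bot_of_isPGroup (isPGroup_pCore p G) (coprime_card_pPrimeCore p G)]
  exact (commutator_le_inf_of_le_normalizer (le_normalizer_of_normal' _ _)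
    (le_normalizer_of_normal' _ _)).trans_eq (inf_comm _ _)

/-- `C_G(O_p(G)) ≤ O_p(G)` exactly when there is no component and no nontrivial `p'`-core. -/
theorem centralizer_pCore_le_iff (p : ℕ) [Fact p.Prime] (G : Type*) [Group G] [Finite G] :
    centralizer (Cfsg.pCore p G : Set G) ≤ Cfsg.pCore p G ↔
      Cfsg.layer G = ⊥ ∧ Cfsg.pPrimeCore p G = ⊥ := by
  constructor
  · intro h
    refine ⟨(centralizer_fitting_le_iff G).1 ?_, ?_⟩
    · exact ((centralizer_le (CfsgLib.Solvable.pCore_le_fittingSubgroup p)).trans h).trans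
        (CfsgLib.Solvable.pCore_le_fittingSubgroup p)
    · have h1 := inf_eq_bot_of_isPGroup (isPGroup_pCore p G) (coprime_card_pPrimeCore p G)
      rwa [inf_eq_right.2 ((pPrimeCore_le_centralizer_pCore p G).trans h)] at h1
  · rintro ⟨hE, hO⟩
    have h := (centralizer_fitting_le_iff G).2 hE
    rwa [fittingSubgroup_eq_pCore_of_core hO] at h

/-- `F*(G) = O_p(G)` exactly when `C_G(O_p(G)) ≤ O_p(G)`. -/
theorem generalizedFitting_eq_pCore_iff (p : ℕ) [Fact p.Prime] (G : Type*) [Group G] [Finite G] :
    Cfsg.generalizedFittingSubgroup G = Cfsg.pCore p G ↔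
      centralizer (Cfsg.pCore p G : Set G) ≤ Cfsg.pCore p G := by
  constructor
  · intro h; rw [← h]; exact centralizer_generalizedFitting_le G
  · intro h
    obtain ⟨hE, hO⟩ := (centralizer_pCore_le_iff p G).1 h
    rw [Cfsg.generalizedFittingSubgroup, hE, bot_sup_eq, fittingSubgroup_eq_pCore_of_core hO]

theorem layer_map_le_layer {H : Type*} [Group H] [Finite H] (f : G →* H) (hf : Function.Surjective f) :
    (Cfsg.layer G).map f ≤ Cfsg.layer H := by
  rw [map_le_iff_le_comap]
  refine sSup_le fun L hL => map_le_iff_le_comap.1 ?_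
  by_cases hne : L.map f = ⊥
  · rw [hne]; exact bot_le
  · haveI := (Subgroup.nontrivial_iff_ne_bot _).2 hne
    exact le_layer ⟨hL.1.map hf, isQuasisimple_of_surjective hL.2 (f.subgroupMap_surjective L)⟩

variable (p) in
/-- The preimage in `N` of the layer of `N / O_{p'}(N)`, as a subgroup of `G`. -/
def localLayer (N : Subgroup G) : Subgroup G :=
  ((Cfsg.layer (↥N ⧸ Cfsg.pPrimeCore p ↥N)).comap
    (QuotientGroup.mk' (Cfsg.pPrimeCore p ↥N))).map N.subtype

theorem layer_le_localLayer (N : Subgroup G) : (Cfsg.layer N).map N.subtype ≤ localLayer p N :=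
  map_mono (map_le_iff_le_comap.1 (layer_map_le_layer _ (QuotientGroup.mk'_surjective _)))

theorem pPrimeCore_le_localLayer (N : Subgroup G) :
    (Cfsg.pPrimeCore p N).map N.subtype ≤ localLayer p N := by
  refine map_mono fun x hx => ?_
  rw [mem_comap, QuotientGroup.mk'_apply, (QuotientGroup.eq_one_iff x).2 hx]
  exact one_mem _

theorem localLayer_le (N : Subgroup G) : localLayer p N ≤ N := map_subtype_le _

/-- The preimage of the layer centralizes every normal `p`-subgroup of `N`. -/
theorem commutator_localLayer_eq_bot {N X : Subgroup G} (hXN : X ≤ N)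
    (hN : N ≤ normalizer (X : Set G)) (hX : IsPGroup p X) :
    localLayer p N ≤ centralizer (X : Set G) := by
  set q := QuotientGroup.mk' (Cfsg.pPrimeCore p ↥N)
  set W := (Cfsg.layer (↥N ⧸ Cfsg.pPrimeCore p ↥N)).comap q with hW
  haveI : (X.subgroupOf N).Normal := normal_subgroupOf_of_le_normalizer hN
  haveI := layer_normal (↥N ⧸ Cfsg.pPrimeCore p ↥N)
  haveI : W.Normal := Normal.comap ‹_› _
  have hXp : IsPGroup p (X.subgroupOf N) := hX.comap_subtype
  have himg : (X.subgroupOf N).map q ≤ Cfsg.pCore p _ :=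
    le_sSup ⟨Subgroup.Normal.map ‹_› _ (QuotientGroup.mk'_surjective _), hXp.map q⟩
  have hbot : ⁅W, X.subgroupOf N⁆.map q = ⊥ := by
    rw [Subgroup.map_commutator, commutator_eq_bot_iff_le_centralizer]
    refine (map_comap_le _ _).trans ((layer_le_centralizer_fittingSubgroup _).trans (centralizer_le ?_))
    exact himg.trans (CfsgLib.Solvable.pCore_le_fittingSubgroup p)
  have h1 : ⁅W, X.subgroupOf N⁆ = ⊥ := by
    rw [eq_bot_iff, ← inf_eq_bot_of_isPGroup hXp (coprime_card_pPrimeCore p N)]
    refine le_inf ?_ ?_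
    · exact (commutator_le_inf_of_le_normalizer (le_normalizer_of_normal' _ _)
        (le_normalizer_of_normal' _ _)).trans inf_le_right
    · rwa [Subgroup.map_eq_bot_iff, QuotientGroup.ker_mk'] at hbot
  have h2 := congrArg (Subgroup.map N.subtype) h1
  rw [Subgroup.map_commutator, map_subgroupOf_eq_of_le hXN, Subgroup.map_bot,
    commutator_eq_bot_iff_le_centralizer] at h2
  exact h2

/-- The preimage of the layer of `N_G(P) / O_{p'}(N_G(P))` centralizes `O_p(G)`. -/
theorem localLayer_le_centralizer_pCore {P : Subgroup G} (hP : IsPGroup p P) :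
    localLayer p (normalizer (P : Set G)) ≤ centralizer (Cfsg.pCore p G : Set G) := by
  set N := normalizer (P : Set G)
  set R := Cfsg.pCore p G
  have hcP : localLayer p N ≤ centralizer (P : Set G) :=
    commutator_localLayer_eq_bot le_normalizer le_rfl hP
  have hcR : localLayer p N ≤ centralizer ((R ⊓ N : Subgroup G) : Set G) :=
    commutator_localLayer_eq_bot inf_le_right
      (le_normalizer_inf (le_normalizer_of_normal' _ _) le_normalizer) (isPGroup_pCore p G).to_inf_left
  have hsmall : ∀ Q : Subgroup G, Q ≤ localLayer p N → (Nat.card Q).Coprime p →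
      Q ≤ centralizer (R : Set G) := fun Q hQ hcop =>
    le_centralizer_of_centralizes_fixed (isPGroup_pCore p G) hP hcop (le_normalizer_of_normal' _ _)
      (le_normalizer_of_normal' _ _) (hQ.trans hcP)
      ((hQ.trans hcR).trans (centralizer_le
        (inf_le_inf_left _ (centralizer_le_normalizer P))))
  set W := localLayer p N with hW
  haveI hCn : (centralizer (R : Set G)).Normal :=
    normal_of_top_le_normalizer (le_normalizer_centralizer (le_normalizer_of_normal' _ _))
  set K := (centralizer (R : Set G)).subgroupOf W with hK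
  have hp' : IsPGroup p (↥W ⧸ K) := by
    intro x
    obtain ⟨x, rfl⟩ := QuotientGroup.mk'_surjective _ x
    obtain ⟨m, n, hpn, hmn⟩ := Nat.exists_eq_pow_mul_and_not_dvd (n := orderOf x)
      (orderOf_pos x).ne' p hp.out.ne_one
    refine ⟨m, ?_⟩
    rw [← map_pow, QuotientGroup.mk'_apply, QuotientGroup.eq_one_iff, hK, mem_subgroupOf]
    refine hsmall (zpowers ((x ^ p ^ m : W) : G)) (zpowers_le.2 (x ^ p ^ m).2) ?_ (mem_zpowers _)
    rw [Nat.card_zpowers, orderOf_coe, orderOf_pow, hmn, Nat.gcd_mul_right_left,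
      Nat.mul_div_cancel_left _ (pow_pos hp.out.pos m)]
    exact (hp.out.coprime_iff_not_dvd.2 hpn).symm
  haveI : Group.IsPerfect (↥W ⧸ K) := by
    refine ⟨top_le_iff.1 fun x _ => ?_⟩
    obtain ⟨⟨x, hx⟩, rfl⟩ := QuotientGroup.mk'_surjective _ x
    obtain ⟨y, hy, rfl⟩ := hx
    have hy' : y ∈ ⁅(Cfsg.layer (↥N ⧸ Cfsg.pPrimeCore p ↥N)).comap (QuotientGroup.mk' _),
        (Cfsg.layer (↥N ⧸ Cfsg.pPrimeCore p ↥N)).comap (QuotientGroup.mk' _)⁆ ⊔
          Cfsg.pPrimeCore p ↥N := by
      have e := comap_map_eq (QuotientGroup.mk' (Cfsg.pPrimeCore p ↥N))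
        ⁅(Cfsg.layer (↥N ⧸ Cfsg.pPrimeCore p ↥N)).comap (QuotientGroup.mk' _),
          (Cfsg.layer (↥N ⧸ Cfsg.pPrimeCore p ↥N)).comap (QuotientGroup.mk' _)⁆
      rw [Subgroup.map_commutator, map_comap_eq_self_of_surjective (QuotientGroup.mk'_surjective _),
        commutator_layer_self, QuotientGroup.ker_mk'] at e
      exact e ▸ hy
    obtain ⟨a, ha, b, hb, rfl⟩ := exists_mul_of_mem_sup (le_normalizer_of_normal' _ _)
      (SetLike.le_def.1 (sup_comm _ _).le hy')
    have haW : N.subtype a ∈ W := pPrimeCore_le_localLayer N ⟨a, ha, rfl⟩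
    have hbW : N.subtype b ∈ W := mem_map_of_mem _ ((commutator_le_self _) hb)
    have ha1 : QuotientGroup.mk' K ⟨N.subtype a, haW⟩ = 1 := by
      rw [QuotientGroup.mk'_apply, QuotientGroup.eq_one_iff, hK, mem_subgroupOf]
      refine hsmall _ (pPrimeCore_le_localLayer N) ?_ ⟨a, ha, rfl⟩
      rw [card_map_of_injective N.subtype_injective]
      exact coprime_card_pPrimeCore p N
    change QuotientGroup.mk' K (⟨N.subtype a, haW⟩ * ⟨N.subtype b, hbW⟩) ∈ _
    rw [map_mul, ha1, one_mul]
    have hbc : (⟨N.subtype b, hbW⟩ : W) ∈ commutator ↥W := by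
      have h0 : N.subtype b ∈ (commutator ↥W).map W.subtype := by
        rw [map_subtype_commutator, hW, localLayer, ← Subgroup.map_commutator]
        exact mem_map_of_mem _ hb
      obtain ⟨c, hc, hcb⟩ := h0
      have : c = ⟨N.subtype b, hbW⟩ := Subtype.ext hcb
      exact this ▸ hc
    have := mem_map_of_mem (QuotientGroup.mk' K) hbc
    rw [_root_.commutator_def, Subgroup.map_commutator,
      map_top_of_surjective _ (QuotientGroup.mk'_surjective _), ← _root_.commutator_def] at this
    exact this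
  haveI : Group.IsNilpotent (↥W ⧸ K) := hp'.isNilpotent
  have htop : Subsingleton (↥W ⧸ K) := by
    by_contra h
    haveI := not_subsingleton_iff_nontrivial.1 h
    exact Group.IsPerfect.not_isNilpotent (↥W ⧸ K) inferInstance
  intro x hx
  exact (QuotientGroup.eq_one_iff (N := K) (⟨x, hx⟩ : W)).1 (Subsingleton.elim _ _)

/-- Frattini argument modulo a normal `p'`-subgroup. -/
theorem map_normalizer_eq {O P : Subgroup G} [O.Normal] (hO : (Nat.card O).Coprime p)
    (hP : IsPGroup p P) :
    (normalizer (P : Set G)).map (QuotientGroup.mk' O) =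
      normalizer ((P.map (QuotientGroup.mk' O) : Subgroup _) : Set _) := by
  refine le_antisymm (le_normalizer_map _) fun x hx => ?_
  obtain ⟨x, rfl⟩ := QuotientGroup.mk'_surjective O x
  haveI : Group.IsNilpotent P := hP.isNilpotent
  have h1 : (P.map (MulAut.conj x).toMonoidHom).map (QuotientGroup.mk' O) = P.map (QuotientGroup.mk' O) := by
    rw [CfsgLib.Coprime.map_conj_map]
    exact map_conj_eq_iff.2 hx
  have h2 : O ⊔ P.map (MulAut.conj x).toMonoidHom = O ⊔ P := by
    have := congrArg (comap (QuotientGroup.mk' O)) h1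
    rwa [comap_map_eq, comap_map_eq, QuotientGroup.ker_mk', sup_comm _ O, sup_comm _ O] at this
  obtain ⟨n, hn, hconj⟩ := CfsgLib.Coprime.exists_conj_eq_of_coprime (le_normalizer_of_normal' O P)
    (le_normalizer_of_normal' O _) h2.symm (coprime_card_of_isPGroup hP hO)
    (coprime_card_of_isPGroup (hP.map _) hO) (Or.inl inferInstance)
  refine ⟨n⁻¹ * x, map_conj_eq_iff.1 ?_, ?_⟩
  · rw [map_conj_mul, hconj, map_conj_inv]
  · rw [map_mul, map_inv, (QuotientGroup.mk'_apply O n), (QuotientGroup.eq_one_iff n).2 hn, inv_one,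
      one_mul]

theorem map_centralizer_eq {O P : Subgroup G} [O.Normal] (hO : (Nat.card O).Coprime p)
    (hP : IsPGroup p P) :
    (centralizer (P : Set G)).map (QuotientGroup.mk' O) =
      centralizer ((P.map (QuotientGroup.mk' O) : Subgroup _) : Set _) := by
  refine le_antisymm ?_ fun x hx => ?_
  · rw [← commutator_eq_bot_iff_le_centralizer, ← Subgroup.map_commutator,
      commutator_eq_bot_iff_le_centralizer.2 le_rfl, Subgroup.map_bot]
  · obtain ⟨n, hn, rfl⟩ : x ∈ (normalizer (P : Set G)).map (QuotientGroup.mk' O) := by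
      rw [map_normalizer_eq hO hP]; exact centralizer_le_normalizer _ hx
    refine ⟨n, mem_centralizer_iff.2 fun y hy => ?_, rfl⟩
    have h1 : ⁅n, y⁆ ∈ P := by
      have := mul_mem ((mem_normalizer_iff.1 hn y).1 hy) (inv_mem hy)
      simpa [commutatorElement_def] using this
    have h2 : ⁅n, y⁆ ∈ O := by
      rw [← QuotientGroup.eq_one_iff, ← QuotientGroup.mk'_apply, map_commutatorElement,
        commutatorElement_eq_one_iff_mul_comm]
      exact (mem_centralizer_iff.1 hx _ (mem_map_of_mem _ hy)).symm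
    have h3 : ⁅n, y⁆ ∈ P ⊓ O := ⟨h1, h2⟩
    rw [inf_eq_bot_of_isPGroup hP hO, mem_bot, commutatorElement_eq_one_iff_mul_comm] at h3
    exact h3.symm

end CfsgLib.Comp
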