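import Cfsg.Prelude.Def_Local
import Mathlib.Tactic

/-!
Elementary facts on conjugation, normalizers, commuting subgroups and relative normality.
-/

namespace CfsgLib.Comp

open Subgroup

variable {G : Type*} [Group G]

theorem mem_map_conj {H : Subgroup G} {g x : G} :
    x ∈ H.map (MulAut.conj g).toMonoidHom ↔ g⁻¹ * x * g ∈ H := by
  rw [Subgroup.mem_map]
  constructor
  · rintro ⟨y, hy, rfl⟩; simpa [mul_assoc] using hy
  · intro h; exact ⟨_, h, by simp [mul_assoc]⟩

theorem map_conj_eq_iff {H : Subgroup G} {g : G} :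
    H.map (MulAut.conj g).toMonoidHom = H ↔ g ∈ normalizer (H : Set G) := by
  rw [mem_normalizer_iff'']
  simp only [SetLike.ext_iff, mem_map_conj]
  exact ⟨fun h x => (h x).symm, fun h x => (h x).symm⟩

theorem map_conj_mul (H : Subgroup G) (g h : G) :
    H.map (MulAut.conj (g * h)).toMonoidHom =
      (H.map (MulAut.conj h).toMonoidHom).map (MulAut.conj g).toMonoidHom := by
  ext x; rw [mem_map_conj, mem_map_conj, mem_map_conj]; simp [mul_assoc]

theorem map_conj_one (H : Subgroup G) : H.map (MulAut.conj (1 : G)).toMonoidHom = H := by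
  ext x; rw [mem_map_conj]; simp

theorem map_conj_inv (H : Subgroup G) (g : G) :
    (H.map (MulAut.conj g).toMonoidHom).map (MulAut.conj g⁻¹).toMonoidHom = H := by
  rw [← map_conj_mul, inv_mul_cancel, map_conj_one]

theorem map_conj_injective (g : G) :
    Function.Injective (fun H : Subgroup G => H.map (MulAut.conj g).toMonoidHom) :=
  fun H K h => by
    have h' := congrArg (Subgroup.map (MulAut.conj g⁻¹).toMonoidHom) h
    rwa [map_conj_inv, map_conj_inv] at h'

theorem le_normalizer_sup {M H K : Subgroup G} (hH : M ≤ normalizer (H : Set G))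
    (hK : M ≤ normalizer (K : Set G)) : M ≤ normalizer ((H ⊔ K : Subgroup G) : Set G) := by
  intro m hm
  rw [← map_conj_eq_iff, Subgroup.map_sup, map_conj_eq_iff.2 (hH hm), map_conj_eq_iff.2 (hK hm)]

theorem le_normalizer_inf {M H K : Subgroup G} (hH : M ≤ normalizer (H : Set G))
    (hK : M ≤ normalizer (K : Set G)) : M ≤ normalizer ((H ⊓ K : Subgroup G) : Set G) := by
  intro m hm
  rw [← map_conj_eq_iff, Subgroup.map_inf _ _ _ (MulAut.conj m).injective,
    map_conj_eq_iff.2 (hH hm), map_conj_eq_iff.2 (hK hm)]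

theorem le_normalizer_iSup {ι : Sort*} {M : Subgroup G} (f : ι → Subgroup G)
    (h : ∀ i, M ≤ normalizer (f i : Set G)) : M ≤ normalizer ((⨆ i, f i : Subgroup G) : Set G) := by
  intro m hm
  rw [← map_conj_eq_iff, Subgroup.map_iSup]
  simp_rw [map_conj_eq_iff.2 (h _ hm)]

/-- A family of subgroups permuted by conjugation with elements of `M` has `M`-invariant join. -/
theorem le_normalizer_sSup {M : Subgroup G} (S : Set (Subgroup G))
    (h : ∀ m ∈ M, ∀ K ∈ S, K.map (MulAut.conj m).toMonoidHom ∈ S) :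
    M ≤ normalizer ((sSup S : Subgroup G) : Set G) := by
  have hle : ∀ m ∈ M, (sSup S).map (MulAut.conj m).toMonoidHom ≤ sSup S := by
    intro m hm
    rw [Subgroup.map_le_iff_le_comap]
    refine sSup_le fun K hK => ?_
    rw [← Subgroup.map_le_iff_le_comap]
    exact le_sSup (h m hm K hK)
  intro m hm
  rw [← map_conj_eq_iff]
  refine le_antisymm (hle m hm) ?_
  calc sSup S = ((sSup S).map (MulAut.conj m⁻¹).toMonoidHom).map (MulAut.conj m).toMonoidHom := by
        rw [← map_conj_mul, mul_inv_cancel, map_conj_one]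
    _ ≤ _ := Subgroup.map_mono (hle m⁻¹ (inv_mem hm))

theorem normal_of_top_le_normalizer {H : Subgroup G} (h : (⊤ : Subgroup G) ≤ normalizer (H : Set G)) :
    H.Normal :=
  normalizer_eq_top_iff.1 (top_le_iff.1 h)

theorem le_normalizer_of_normal' (H M : Subgroup G) [H.Normal] : M ≤ normalizer (H : Set G) := by
  rw [normalizer_eq_top]; exact le_top

/-- A normalizing subgroup also normalizes the centralizer. -/
theorem le_normalizer_centralizer {M H : Subgroup G} (h : M ≤ normalizer (H : Set G)) :
    M ≤ normalizer ((centralizer (H : Set G) : Subgroup G) : Set G) := by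
  intro m hm
  rw [mem_normalizer_iff'']
  intro x
  have hH := mem_normalizer_iff''.1 (h hm)
  have hH' := mem_normalizer_iff''.1 (h (inv_mem hm))
  simp only [SetLike.mem_coe, mem_centralizer_iff] at *
  constructor
  · intro hx y hy
    have := hx (m * y * m⁻¹) (by have := (hH' y).1 hy; simpa [mul_assoc] using this)
    calc y * (m⁻¹ * x * m) = m⁻¹ * ((m * y * m⁻¹) * x) * m := by group
      _ = m⁻¹ * (x * (m * y * m⁻¹)) * m := by rw [this]
      _ = _ := by group
  · intro hx y hy
    have := hx (m⁻¹ * y * m) ((hH y).1 hy)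
    calc y * x = m * ((m⁻¹ * y * m) * (m⁻¹ * x * m)) * m⁻¹ := by group
      _ = m * ((m⁻¹ * x * m) * (m⁻¹ * y * m)) * m⁻¹ := by rw [this]
      _ = _ := by group

theorem normalizer_le_normalizer_centralizer (H : Subgroup G) :
    normalizer (H : Set G) ≤ normalizer ((centralizer (H : Set G) : Subgroup G) : Set G) :=
  le_normalizer_centralizer le_rfl

theorem centralizer_le_normalizer (H : Subgroup G) :
    centralizer (H : Set G) ≤ normalizer (H : Set G) := by
  intro g hg
  rw [mem_normalizer_iff]
  have hg' := mem_centralizer_iff.1 hg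
  intro x
  constructor
  · intro hx; rwa [← hg' x hx, mul_inv_cancel_right]
  · intro hx
    have h := hg' _ hx
    simp only [mul_assoc, inv_mul_cancel, mul_one, mul_right_inj] at h
    rw [h, ← mul_assoc]; exact hx

theorem le_centralizer_symm {H K : Subgroup G} (h : H ≤ centralizer (K : Set G)) :
    K ≤ centralizer (H : Set G) :=
  le_centralizer_iff.1 h

theorem le_centralizer_sSup {H : Subgroup G} {S : Set (Subgroup G)}
    (h : ∀ K ∈ S, H ≤ centralizer (K : Set G)) :
    H ≤ centralizer ((sSup S : Subgroup G) : Set G) := by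
  rw [le_centralizer_iff]
  exact sSup_le fun K hK => le_centralizer_iff.1 (h K hK)

theorem le_centralizer_sup {H A B : Subgroup G} (hA : H ≤ centralizer (A : Set G))
    (hB : H ≤ centralizer (B : Set G)) : H ≤ centralizer ((A ⊔ B : Subgroup G) : Set G) := by
  rw [le_centralizer_iff]
  exact sup_le (le_centralizer_iff.1 hA) (le_centralizer_iff.1 hB)

theorem commutator_le_of_le_normalizer {H K : Subgroup G} (h : K ≤ normalizer (H : Set G)) :
    ⁅H, K⁆ ≤ H := by
  rw [commutator_le]
  intro a ha b hb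
  have hb' := (mem_normalizer_iff.1 (h hb) a⁻¹).1 (inv_mem ha)
  rw [commutatorElement_def]
  have : a * b * a⁻¹ * b⁻¹ = a * (b * a⁻¹ * b⁻¹) := by simp [mul_assoc]
  rw [this]; exact mul_mem ha hb'

theorem commutator_le_inf_of_le_normalizer {H K : Subgroup G} (h : K ≤ normalizer (H : Set G))
    (h' : H ≤ normalizer (K : Set G)) : ⁅H, K⁆ ≤ H ⊓ K :=
  le_inf (commutator_le_of_le_normalizer h)
    (by rw [commutator_comm]; exact commutator_le_of_le_normalizer h')

/-- Three subgroups: if `⁅H, K⁆` centralizes `K` and `K` is perfect, then `⁅H, K⁆ = ⊥`. -/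
theorem commutator_eq_bot_of_perfect {H K : Subgroup G} (hK : ⁅K, K⁆ = K)
    (h : ⁅⁅H, K⁆, K⁆ = ⊥) : ⁅H, K⁆ = ⊥ := by
  have h1 : ⁅⁅K, H⁆, K⁆ = ⊥ := by rw [commutator_comm K H]; exact h
  have h3 : ⁅⁅K, K⁆, H⁆ = ⊥ := commutator_commutator_eq_bot_of_rotate h1 h
  rw [hK] at h3
  rw [commutator_comm]; exact h3

/-- If `M` normalizes `A` and `B` and both are subgroups of commuting factors, products stay in order. -/
theorem exists_mul_of_mem_sup {H K : Subgroup G} (h : K ≤ normalizer (H : Set G)) {x : G}
    (hx : x ∈ H ⊔ K) : ∃ a ∈ H, ∃ b ∈ K, a * b = x := by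
  have : x ∈ ((H ⊔ K : Subgroup G) : Set G) := hx
  rw [coe_mul_of_right_le_normalizer_left H K h] at this
  exact Set.mem_mul.1 this

end CfsgLib.Comp
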