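import Cfsg.Agent.Lib.Comp.Quasisimple

/-!
Components and the layer.
-/

set_option linter.style.haveILetI false
set_option linter.unusedSectionVars false

namespace CfsgLib.Comp

open Subgroup

variable {G : Type*} [Group G]

theorem commutator_self_of_isComponent {L : Subgroup G} (hL : Cfsg.IsComponent L) : ⁅L, L⁆ = L :=
  Subgroup.isPerfect_iff.1 hL.2.1

theorem isComponent_map_conj {L : Subgroup G} (hL : Cfsg.IsComponent L) (g : G) :
    Cfsg.IsComponent (L.map (MulAut.conj g).toMonoidHom) :=
  ⟨isSubnormal_map_conj hL.1 g,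
    isQuasisimple_congr (L.equivMapOfInjective _ (MulAut.conj g).injective) hL.2⟩

theorem isComponent_map_mulEquiv {G' : Type*} [Group G'] (e : G ≃* G') {L : Subgroup G}
    (hL : Cfsg.IsComponent L) : Cfsg.IsComponent (L.map e.toMonoidHom) :=
  ⟨hL.1.map e.surjective, isQuasisimple_congr (L.equivMapOfInjective _ e.injective) hL.2⟩

theorem not_le_center_of_isQuasisimple {L : Subgroup G} (hL : Cfsg.IsQuasisimple L) :
    ¬ L ≤ centralizer (L : Set G) := by
  intro h
  apply center_lt_top_of_isQuasisimple hL
  rw [eq_top_iff]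
  intro x _
  rw [mem_center_iff]
  intro y
  exact Subtype.ext (mem_centralizer_iff.1 (h x.2) y y.2)

theorem ne_bot_of_isComponent {L : Subgroup G} (hL : Cfsg.IsComponent L) : L ≠ ⊥ := by
  rintro rfl
  exact not_le_center_of_isQuasisimple hL.2 bot_le

/-- Inside a quasisimple subgroup, a subnormal subgroup is the whole subgroup or is central. -/
theorem eq_or_le_centralizer_of_subnormal {L H : Subgroup G} (hL : Cfsg.IsQuasisimple L)
    (hle : H ≤ L) (hH : (H.subgroupOf L).IsSubnormal) : H = L ∨ H ≤ centralizer (L : Set G) := by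
  rcases subnormal_eq_top_or_le_center hL hH with h | h
  · exact Or.inl (le_antisymm hle (subgroupOf_eq_top.1 h))
  · right
    intro x hx
    rw [mem_centralizer_iff]
    intro y hy
    exact congrArg Subtype.val (mem_center_iff.1 (h (x := ⟨x, hle hx⟩) hx) ⟨y, hy⟩)

variable [Finite G]

/-- A component is contained in a given subnormal subgroup or centralizes it. -/
theorem component_le_or_commutator_eq_bot {L H : Subgroup G} (hL : Cfsg.IsComponent L)
    (hH : H.IsSubnormal) : L ≤ H ∨ ⁅L, H⁆ = ⊥ := by
  suffices key : ∀ M : Subgroup G, ∀ H : Subgroup G, L ≤ M → M.IsSubnormal → H ≤ M → H.IsSubnormal →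
      L ≤ H ∨ ⁅L, H⁆ = ⊥ from key ⊤ H le_top .top le_top hH
  intro M
  induction M using WellFoundedLT.induction with
  | ind M ih =>
    intro H hLM hM hHM hH
    rcases eq_or_lt_of_le hHM with rfl | hHlt
    · exact Or.inl hLM
    rcases eq_or_lt_of_le hLM with rfl | hLlt
    · rcases eq_or_le_centralizer_of_subnormal hL.2 hHM hH.subgroupOf with e | e
      · exact Or.inl e.ge
      · exact Or.inr (commutator_eq_bot_iff_le_centralizer.2 (le_centralizer_iff.1 e))
    obtain ⟨M₁, hL1, hM1, hM1n⟩ := exists_lt_le_normalizer hL.1.subgroupOf hLlt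
    obtain ⟨N, hHN, hN, hNn⟩ := exists_lt_le_normalizer hH.subgroupOf hHlt
    have hM1s := isSubnormal_of_le_normalizer hM1.le hM hM1n
    have hNs := isSubnormal_of_le_normalizer hN.le hM hNn
    rcases ih M₁ hM1 (M₁ ⊓ N) hL1 hM1s inf_le_left (hM1s.inf hNs) with h | h
    · exact ih N hN H (h.trans inf_le_right) hNs hHN hH
    · right
      have hLN : ⁅L, N⁆ ≤ M₁ ⊓ N := le_inf
        ((commutator_mono hL1 le_rfl).trans (commutator_le_of_le_normalizer (hN.le.trans hM1n)))
        (by rw [commutator_comm]; exact commutator_le_of_le_normalizer (hLlt.le.trans hNn))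
      have h1 : ⁅⁅N, L⁆, L⁆ = ⊥ := by
        rw [eq_bot_iff, ← h, commutator_comm N L, commutator_comm L (M₁ ⊓ N)]
        exact commutator_mono hLN le_rfl
      have h2 := commutator_eq_bot_of_perfect (commutator_self_of_isComponent hL) h1
      rw [commutator_comm] at h2
      rw [eq_bot_iff, ← h2]
      exact commutator_mono le_rfl hHN

theorem component_le_or_le_centralizer {L H : Subgroup G} (hL : Cfsg.IsComponent L)
    (hH : H.IsSubnormal) : L ≤ H ∨ L ≤ centralizer (H : Set G) :=
  (component_le_or_commutator_eq_bot hL hH).imp id commutator_eq_bot_iff_le_centralizer.1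

/-- Two components are equal or commute. -/
theorem component_eq_or_le_centralizer {L K : Subgroup G} (hL : Cfsg.IsComponent L)
    (hK : Cfsg.IsComponent K) : L = K ∨ L ≤ centralizer (K : Set G) := by
  rcases component_le_or_le_centralizer hL hK.1 with h | h
  · rcases eq_or_le_centralizer_of_subnormal hK.2 h hL.1.subgroupOf with e | e
    · exact Or.inl e
    · exact Or.inr e
  · exact Or.inr h

theorem component_commutator_eq_bot {L K : Subgroup G} (hL : Cfsg.IsComponent L)
    (hK : Cfsg.IsComponent K) (hne : L ≠ K) : ⁅L, K⁆ = ⊥ :=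
  commutator_eq_bot_iff_le_centralizer.2 ((component_eq_or_le_centralizer hL hK).resolve_left hne)

/-- A component is not solvable, so it centralizes every subnormal solvable subgroup. -/
theorem component_le_centralizer_of_isSolvable {L H : Subgroup G} (hL : Cfsg.IsComponent L)
    (hH : H.IsSubnormal) (hs : Group.IsSolvable H) : L ≤ centralizer (H : Set G) := by
  refine (component_le_or_le_centralizer hL hH).resolve_left fun h => ?_
  exact not_isSolvable_of_isQuasisimple hL.2
    (Group.isSolvable_of_isSolvable_injective (inclusion_injective h))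

theorem layer_normal (G : Type*) [Group G] : (Cfsg.layer G).Normal :=
  normal_of_top_le_normalizer (le_normalizer_sSup _ fun g _ _ hK => isComponent_map_conj hK g)

theorem le_layer {L : Subgroup G} (hL : Cfsg.IsComponent L) : L ≤ Cfsg.layer G := le_sSup hL

/-- The layer normalizes each component. -/
theorem layer_le_normalizer_component {L : Subgroup G} (hL : Cfsg.IsComponent L) :
    Cfsg.layer G ≤ normalizer (L : Set G) :=
  sSup_le fun K hK => by
    rcases component_eq_or_le_centralizer hK hL with rfl | h
    · exact le_normalizer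
    · exact h.trans (centralizer_le_normalizer L)

theorem commutator_layer_self (G : Type*) [Group G] : ⁅Cfsg.layer G, Cfsg.layer G⁆ = Cfsg.layer G :=
  le_antisymm (commutator_le_self _) (sSup_le fun K hK => by
    rw [← commutator_self_of_isComponent hK]
    exact commutator_mono (le_sSup hK) (le_sSup hK))

theorem isPerfect_layer (G : Type*) [Group G] : Group.IsPerfect (Cfsg.layer G) :=
  Subgroup.isPerfect_iff.2 (commutator_layer_self G)

/-- The layer centralizes every subnormal solvable subgroup. -/
theorem layer_le_centralizer_of_isSolvable {H : Subgroup G} (hH : H.IsSubnormal)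
    (hs : Group.IsSolvable H) : Cfsg.layer G ≤ centralizer (H : Set G) :=
  sSup_le fun _ hK => component_le_centralizer_of_isSolvable hK hH hs

/-- The layer centralizes the Fitting subgroup. -/
theorem layer_le_centralizer_fittingSubgroup (G : Type*) [Group G] [Finite G] :
    Cfsg.layer G ≤ centralizer (Cfsg.fittingSubgroup G : Set G) := by
  haveI := isNilpotent_fittingSubgroup G
  exact layer_le_centralizer_of_isSolvable (fittingSubgroup_normal G).isSubnormal inferInstance

theorem fittingSubgroup_le_centralizer_layer (G : Type*) [Group G] [Finite G] :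
    Cfsg.fittingSubgroup G ≤ centralizer (Cfsg.layer G : Set G) :=
  le_centralizer_iff.1 (layer_le_centralizer_fittingSubgroup G)

/-- Components of a subnormal subgroup are the components of the group inside it. -/
theorem isComponent_map_subtype {H : Subgroup G} (hH : H.IsSubnormal) {K : Subgroup H}
    (hK : Cfsg.IsComponent K) : Cfsg.IsComponent (K.map H.subtype) :=
  ⟨hK.1.trans' hH, isQuasisimple_congr (K.equivMapOfInjective _ H.subtype_injective) hK.2⟩

theorem isComponent_subgroupOf {H L : Subgroup G} (hle : L ≤ H) (hL : Cfsg.IsComponent L) :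
    Cfsg.IsComponent (L.subgroupOf H) :=
  ⟨hL.1.subgroupOf, isQuasisimple_congr (subgroupOfEquivOfLe hle).symm hL.2⟩

theorem isComponent_map_subtype_iff {H : Subgroup G} (hH : H.IsSubnormal) (K : Subgroup H) :
    Cfsg.IsComponent K ↔ Cfsg.IsComponent (K.map H.subtype) := by
  refine ⟨isComponent_map_subtype hH, fun h => ?_⟩
  have := isComponent_subgroupOf (map_subtype_le K) h
  rwa [subgroupOf, comap_map_eq_self_of_injective H.subtype_injective] at this

/-- The layer of a subnormal subgroup, seen in the group. -/
theorem layer_map_subtype {H : Subgroup G} (hH : H.IsSubnormal) :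
    (Cfsg.layer H).map H.subtype = sSup {L : Subgroup G | Cfsg.IsComponent L ∧ L ≤ H} := by
  apply le_antisymm
  · rw [map_le_iff_le_comap]
    exact sSup_le fun K hK => map_le_iff_le_comap.1
      (le_sSup ⟨isComponent_map_subtype hH hK, map_subtype_le K⟩)
  · refine sSup_le fun L hL => ?_
    rw [← map_subgroupOf_eq_of_le hL.2]
    exact map_mono (le_sSup (isComponent_subgroupOf hL.2 hL.1))

theorem layer_map_subtype_le {H : Subgroup G} (hH : H.IsSubnormal) :
    (Cfsg.layer H).map H.subtype ≤ Cfsg.layer G := by
  rw [layer_map_subtype hH]; exact sSup_le fun L hL => le_sSup hL.1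

/-- In a product of pairwise commuting subgroups, an element centralizing all the factors outside
`T` lies in the product of the factors in `T` and of the centres of the others. -/
theorem mem_sup_of_pairwise_commute {S : Finset (Subgroup G)}
    (hS : ∀ A ∈ S, ∀ B ∈ S, A ≠ B → A ≤ centralizer (B : Set G)) (T : Set (Subgroup G)) {x : G}
    (hx : x ∈ S.sup id) (hc : ∀ A ∈ S, A ∉ T → x ∈ centralizer (A : Set G)) :
    x ∈ sSup {A : Subgroup G | (A ∈ S ∧ A ∈ T) ∨ ∃ B ∈ S, A = B ⊓ centralizer (B : Set G)} := by
  classical
  induction S using Finset.induction_on generalizing x with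
  | empty =>
    have : x = 1 := by simpa using hx
    rw [this]; exact one_mem _
  | @insert A S hA ih =>
    rw [Finset.sup_insert] at hx
    have hcomm : S.sup id ≤ centralizer (A : Set G) :=
      Finset.sup_le fun B hB => hS B (Finset.mem_insert_of_mem hB) A (Finset.mem_insert_self A S)
        (by rintro rfl; exact hA hB)
    obtain ⟨a, ha, b, hb, rfl⟩ := exists_mul_of_mem_sup (hcomm.trans (centralizer_le_normalizer A)) hx
    refine mul_mem ?_ ?_
    · by_cases hAT : A ∈ T
      · exact le_sSup (a := A) (Or.inl ⟨Finset.mem_insert_self A S, hAT⟩) ha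
      · refine le_sSup (a := A ⊓ centralizer (A : Set G))
          (Or.inr ⟨A, Finset.mem_insert_self A S, rfl⟩) ⟨ha, ?_⟩
        have h1 := mul_mem (hc A (Finset.mem_insert_self A S) hAT) (inv_mem (hcomm hb))
        simpa using h1
    · refine SetLike.le_def.1 (sSup_le_sSup ?_) (ih (fun B hB C hC => hS B (Finset.mem_insert_of_mem hB) C
        (Finset.mem_insert_of_mem hC)) hb fun B hB hBT => ?_)
      · rintro C (⟨hC, hT⟩ | ⟨B, hB, rfl⟩)
        · exact Or.inl ⟨Finset.mem_insert_of_mem hC, hT⟩
        · exact Or.inr ⟨B, Finset.mem_insert_of_mem hB, rfl⟩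
      · have hab : a ∈ centralizer (B : Set G) := hS A (Finset.mem_insert_self A S) B
          (Finset.mem_insert_of_mem hB) (by rintro rfl; exact hA hB) ha
        have h1 := mul_mem (inv_mem hab) (hc B (Finset.mem_insert_of_mem hB) hBT)
        simpa using h1

/-- The part of the layer centralizing all components outside a given set. -/
theorem mem_of_mem_layer_of_centralizes (T : Set (Subgroup G)) {x : G} (hx : x ∈ Cfsg.layer G)
    (hc : ∀ L : Subgroup G, Cfsg.IsComponent L → L ∉ T → x ∈ centralizer (L : Set G)) :
    x ∈ sSup {L : Subgroup G | Cfsg.IsComponent L ∧ L ∈ T} ⊔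
      sSup {A : Subgroup G | ∃ L, Cfsg.IsComponent L ∧ A = L ⊓ centralizer (L : Set G)} := by
  classical
  have hfin : ({L : Subgroup G | Cfsg.IsComponent L}).Finite := Set.toFinite _
  have hx' : x ∈ hfin.toFinset.sup id := by
    rw [Finset.sup_id_eq_sSup, hfin.coe_toFinset]; exact hx
  have h := mem_sup_of_pairwise_commute (S := hfin.toFinset)
    (fun A hA B hB hne => (component_eq_or_le_centralizer (hfin.mem_toFinset.1 hA)
      (hfin.mem_toFinset.1 hB)).resolve_left hne) T hx'
    (fun A hA hAT => hc A (hfin.mem_toFinset.1 hA) hAT)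
  refine SetLike.le_def.1 (sSup_le ?_) h
  rintro A (⟨hA, hT⟩ | ⟨B, hB, rfl⟩)
  · exact (le_sSup (s := {L : Subgroup G | Cfsg.IsComponent L ∧ L ∈ T})
      ⟨hfin.mem_toFinset.1 hA, hT⟩).trans le_sup_left
  · exact (le_sSup (s := {A : Subgroup G | ∃ L, Cfsg.IsComponent L ∧ A = L ⊓ centralizer (L : Set G)})
      ⟨B, hfin.mem_toFinset.1 hB, rfl⟩).trans le_sup_right

/-- Components centres: abelian subnormal subgroups. -/
theorem component_inf_centralizer_le_fittingSubgroup {L : Subgroup G} (hL : Cfsg.IsComponent L) :
    L ⊓ centralizer (L : Set G) ≤ Cfsg.fittingSubgroup G := by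
  refine le_fittingSubgroup_of_isSubnormal (isSubnormal_of_le_normalizer inf_le_left hL.1
    (le_normalizer_inf le_normalizer (le_normalizer_centralizer le_normalizer))) ?_
  haveI : IsMulCommutative ↥(L ⊓ centralizer (L : Set G)) :=
    ⟨⟨fun a b => Subtype.ext (mem_centralizer_iff.1 b.2.2 a a.2.1)⟩⟩
  open scoped IsMulCommutative in exact inferInstance

end CfsgLib.Comp
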