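import Cfsg.Agent.Lib.Coprime.Sylow
import Cfsg.Agent.Lib.Coprime.Action
import Mathlib.GroupTheory.Abelianization.Defs
import Mathlib.GroupTheory.SpecificGroups.Cyclic

/-!
Wielandt's order formula: a group `E` of order `p^2` and exponent `p` acting on a group `K` of
order prime to `p`: `|K| |C(E)|^p = ∏ |C(D)|` over the `p + 1` subgroups `D` of order `p`.
-/

set_option autoImplicit false
open Subgroup

namespace CfsgLib.Comp

variable {p : ℕ} [hp : Fact p.Prime]

/-- Subgroups of order `p`. -/
abbrev Lines (p : ℕ) (E : Type*) [Group E] := {D : Subgroup E // Nat.card ↥D = p}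

section Lines

variable {E : Type*} [Group E] [Finite E]

theorem line_eq_zpowers (hE : ∀ x : E, x ^ p = 1) (D : Lines p E) {d : E} (hd : d ∈ D.1)
    (h1 : d ≠ 1) : D.1 = zpowers d := by
  refine (eq_of_le_of_card_ge (zpowers_le.2 hd) ?_).symm
  rw [D.2, Nat.card_zpowers, orderOf_eq_prime (hE d) h1]

theorem lineEquiv_bijective (hE : ∀ x : E, x ^ p = 1) :
    Function.Bijective (fun s : Σ D : Lines p E, {d : ↥D.1 // d ≠ 1} =>
      (⟨(s.2.1 : E), fun h => s.2.2 (Subtype.ext h)⟩ : {x : E // x ≠ 1})) := by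
  refine ⟨?_, fun x => ?_⟩
  · rintro ⟨D, ⟨⟨d, hd⟩, hd1⟩⟩ ⟨D', ⟨⟨d', hd'⟩, hd1'⟩⟩ h
    simp only [Subtype.mk.injEq] at h
    subst h
    have h1 : d ≠ 1 := fun e => hd1 (Subtype.ext e)
    obtain rfl : D = D' :=
      Subtype.ext ((line_eq_zpowers hE D hd h1).trans (line_eq_zpowers hE D' hd' h1).symm)
    rfl
  · refine ⟨⟨⟨zpowers x.1, ?_⟩, ⟨⟨x.1, mem_zpowers _⟩, fun h => x.2 (congrArg Subtype.val h)⟩⟩,
      rfl⟩
    rw [Nat.card_zpowers, orderOf_eq_prime (hE _) x.2]

theorem card_ne_one (H : Type*) [Group H] [Finite H] :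
    Nat.card {x : H // x ≠ 1} + 1 = Nat.card H := by
  classical
  have := Fintype.ofFinite H
  rw [Nat.card_eq_fintype_card, Nat.card_eq_fintype_card, Fintype.card_subtype_compl,
    Fintype.card_subtype_eq]
  have := Fintype.card_pos (α := H)
  omega

theorem card_lines (hE : ∀ x : E, x ^ p = 1) (hcard : Nat.card E = p ^ 2) :
    Nat.card (Lines p E) = p + 1 := by
  classical
  have := Fintype.ofFinite (Lines p E)
  have h := Nat.card_eq_of_bijective _ (lineEquiv_bijective (E := E) hE)
  rw [Nat.card_sigma] at h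
  have h2 : ∀ D : Lines p E, Nat.card {d : ↥D.1 // d ≠ 1} = p - 1 := fun D => by
    have := card_ne_one ↥D.1
    rw [D.2] at this
    omega
  rw [Finset.sum_congr rfl fun D _ => h2 D, Finset.sum_const, Finset.card_univ,
    ← Nat.card_eq_fintype_card, smul_eq_mul] at h
  have h3 := card_ne_one E
  rw [← h, hcard] at h3
  have hp2 := hp.out.two_le
  obtain ⟨q, rfl⟩ : ∃ q, p = q + 1 := ⟨p - 1, by omega⟩
  rw [Nat.add_sub_cancel] at h3
  refine Nat.eq_of_mul_eq_mul_right (show 0 < q by omega) ?_
  linarith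

theorem sup_lines_eq_top (hcard : Nat.card E = p ^ 2) {D D' : Lines p E} (h : D ≠ D') :
    D.1 ⊔ D'.1 = ⊤ := by
  obtain ⟨i, hi, he⟩ := (Nat.dvd_prime_pow hp.out).1 (hcard ▸ card_subgroup_dvd_card (D.1 ⊔ D'.1))
  by_cases hi2 : i = 2
  · exact eq_top_of_card_eq _ (by rw [he, hi2, hcard])
  · exfalso
    have hle : Nat.card ↥(D.1 ⊔ D'.1) ≤ p := by
      rw [he]
      calc p ^ i ≤ p ^ 1 := Nat.pow_le_pow_right hp.out.pos (by omega)
        _ = p := pow_one p
    have h1 := eq_of_le_of_card_ge (le_sup_left : D.1 ≤ D.1 ⊔ D'.1) (by rw [D.2]; exact hle)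
    have h2 := eq_of_le_of_card_ge (le_sup_right : D'.1 ≤ D.1 ⊔ D'.1) (by rw [D'.2]; exact hle)
    exact h (Subtype.ext (h1.trans h2.symm))

end Lines

theorem prod_eq_one_mul {H R : Type*} [Group H] [Fintype H] [DecidableEq H] [CommMonoid R]
    (f : H → R) : ∏ h, f h = f 1 * ∏ h : {h : H // h ≠ 1}, f h := by
  rw [← Finset.mul_prod_erase Finset.univ _ (Finset.mem_univ (1 : H))]
  congr 1
  exact Finset.prod_subtype _ (fun d => by simp) f

/-- Fixed points of a subgroup under an action by automorphisms. -/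
def fixSub {E R : Type*} [Group E] [Group R] (φ : E →* MulAut R) (D : Subgroup E) : Subgroup R where
  carrier := {x | ∀ d ∈ D, φ d x = x}
  one_mem' := fun d _ => map_one _
  mul_mem' := fun {x y} hx hy d hd => by rw [map_mul, hx d hd, hy d hd]
  inv_mem' := fun {x} hx d hd => by rw [map_inv, hx d hd]

theorem mem_fixSub {E R : Type*} [Group E] [Group R] {φ : E →* MulAut R} {D : Subgroup E} {x : R} :
    x ∈ fixSub φ D ↔ ∀ d ∈ D, φ d x = x := Iff.rfl

/-- Order formula, abelian case. -/
theorem card_formula_comm {E R : Type*} [CommGroup E] [Finite E] [CommGroup R] [Finite R]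
    (hE : ∀ x : E, x ^ p = 1) (hcard : Nat.card E = p ^ 2) (hR : ¬ p ∣ Nat.card R)
    (φ : E →* MulAut R) [Fintype (Lines p E)] :
    Nat.card R * Nat.card ↥(fixSub φ ⊤) ^ p = ∏ D : Lines p E, Nat.card ↥(fixSub φ D.1) := by
  classical
  have := Fintype.ofFinite E
  let nrm : Subgroup E → R →* R := fun D =>
    { toFun := fun x => ∏ d : ↥D, φ d x
      map_one' := by simp
      map_mul' := fun x y => by simp [Finset.prod_mul_distrib] }
  have nrm_fix : ∀ (D : Subgroup E) (x : R), nrm D x ∈ fixSub φ D := by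
    intro D x c hc
    show φ c (∏ d : ↥D, φ d x) = ∏ d : ↥D, φ d x
    rw [map_prod]
    refine Fintype.prod_equiv (Equiv.mulLeft (⟨c, hc⟩ : ↥D)) _ _ fun d => ?_
    show φ c (φ d x) = φ (c * d) x
    rw [map_mul]; rfl
  have nrm_fix' : ∀ (D D' : Subgroup E) (x : R), x ∈ fixSub φ D' → nrm D x ∈ fixSub φ D' := by
    intro D D' x hx c hc
    show φ c (∏ d : ↥D, φ d x) = ∏ d : ↥D, φ d x
    rw [map_prod]
    refine Finset.prod_congr rfl fun d _ => ?_
    have : φ c (φ d x) = φ d (φ c x) := by
      rw [← MulAut.mul_apply, ← MulAut.mul_apply, ← map_mul, ← map_mul, mul_comm]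
    rw [this, hx c hc]
  have nrm_pow : ∀ (D : Lines p E) (x : R), x ∈ fixSub φ D.1 → nrm D.1 x = x ^ p := by
    intro D x hx
    show ∏ d : ↥D.1, φ d x = x ^ p
    rw [Finset.prod_congr rfl fun (d : ↥D.1) _ => hx d d.2, Finset.prod_const, Finset.card_univ,
      ← Nat.card_eq_fintype_card, D.2]
  have top_of_two : ∀ {D D' : Lines p E}, D ≠ D' → ∀ {x : R}, x ∈ fixSub φ D.1 →
      x ∈ fixSub φ D'.1 → x ∈ fixSub φ ⊤ := by
    intro D D' h x hx hx' c _
    let S : Subgroup E :=
      { carrier := {c | φ c x = x}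
        one_mem' := by simp
        mul_mem' := fun {a b} ha hb => by
          show φ (a * b) x = x
          rw [map_mul, MulAut.mul_apply, hb, ha]
        inv_mem' := fun {a} ha => by
          show φ a⁻¹ x = x
          rw [map_inv]
          exact (φ a).symm_apply_eq.2 ha.symm }
    have : D.1 ⊔ D'.1 ≤ S := sup_le (fun a ha => hx a ha) (fun a ha => hx' a ha)
    rw [sup_lines_eq_top hcard h] at this
    exact this (mem_top c)
  have root : ∀ (S : Subgroup R) (x : R), x ^ p ∈ S → x ∈ S := by
    intro S x hx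
    obtain ⟨m, hm⟩ := exists_pow_eq_self_of_coprime (x := x) (n := p)
      ((hp.out.coprime_iff_not_dvd).2 fun h => hR (h.trans (orderOf_dvd_natCard x)))
    exact hm ▸ pow_mem hx m
  let Φ : ((D : Lines p E) → ↥(fixSub φ D.1)) →* R :=
    { toFun := fun x => ∏ D, (x D : R)
      map_one' := by simp
      map_mul' := fun x y => by simp [Finset.prod_mul_distrib] }
  have hn : Fintype.card (Lines p E) = p + 1 := by
    rw [← Nat.card_eq_fintype_card]; exact card_lines hE hcard
  have mem_range : ∀ (D : Lines p E) (x : R), x ∈ fixSub φ D.1 → x ∈ Φ.range := by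
    intro D x hx
    refine ⟨Pi.mulSingle D ⟨x, hx⟩, ?_⟩
    show ∏ D', ((Pi.mulSingle D (⟨x, hx⟩ : ↥(fixSub φ D.1)) :
      (D : Lines p E) → ↥(fixSub φ D.1)) D' : R) = x
    rw [Finset.prod_eq_single D]
    · rw [Pi.mulSingle_eq_same]
    · intro D' _ h
      rw [Pi.mulSingle_eq_of_ne h]; rfl
    · simp
  have hsurj : Φ.range = ⊤ := by
    refine eq_top_iff.2 fun x _ => root _ x ?_
    have h1 : ∏ D : Lines p E, nrm D.1 x = x ^ (p + 1) * ∏ y : {y : E // y ≠ 1}, φ y x := by
      have h2 : ∀ D : Lines p E, nrm D.1 x = x * ∏ d : {d : ↥D.1 // d ≠ 1}, φ d.1 x := fun D => by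
        show ∏ d : ↥D.1, φ d x = _
        rw [prod_eq_one_mul]
        simp
      rw [Finset.prod_congr rfl fun D _ => h2 D, Finset.prod_mul_distrib, Finset.prod_const,
        Finset.card_univ, hn]
      congr 1
      rw [← Fintype.prod_sigma' (f := fun (D : Lines p E) (d : {d : ↥D.1 // d ≠ 1}) => φ d.1 x)]
      exact Fintype.prod_bijective _ (lineEquiv_bijective hE) _ _ fun s => rfl
    have h3 : nrm ⊤ x = x * ∏ y : {y : E // y ≠ 1}, φ y x := by
      show ∏ d : ↥(⊤ : Subgroup E), φ d x = _
      rw [Fintype.prod_equiv (Subgroup.topEquiv (G := E)).toEquiv (fun d => φ d x) (fun d => φ d x)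
        (fun _ => rfl), prod_eq_one_mul]
      simp
    have h4 : x ^ p * nrm ⊤ x = ∏ D : Lines p E, nrm D.1 x := by
      rw [h1, h3, pow_succ, mul_assoc]
    obtain ⟨D0⟩ : Nonempty (Lines p E) := by
      rw [← Fintype.card_pos_iff, hn]; omega
    have h5 : x ^ p = (∏ D : Lines p E, nrm D.1 x) * (nrm ⊤ x)⁻¹ := by rw [← h4]; simp
    rw [h5]
    exact mul_mem (prod_mem fun D _ => mem_range D _ (nrm_fix _ x))
      (inv_mem (mem_range D0 _ fun d hd => nrm_fix ⊤ x d (mem_top d)))
  have hker : ∀ x, Φ x = 1 → ∀ D, (x D : R) ∈ fixSub φ ⊤ := by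
    intro x hx D0
    refine root _ _ ?_
    have h1 : nrm D0.1 (∏ D, (x D : R)) = 1 := by
      rw [show (∏ D, (x D : R)) = 1 from hx, map_one]
    rw [map_prod, ← Finset.mul_prod_erase Finset.univ _ (Finset.mem_univ D0),
      nrm_pow D0 _ (x D0).2] at h1
    rw [eq_inv_of_mul_eq_one_left h1]
    exact inv_mem (prod_mem fun D hD => top_of_two (Finset.ne_of_mem_erase hD)
      (nrm_fix' _ _ _ (x D).2) (nrm_fix _ _))
  let Ψ : (Lines p E → ↥(fixSub φ ⊤)) →* ↥(fixSub φ ⊤) :=
    { toFun := fun x => ∏ D, x D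
      map_one' := by simp
      map_mul' := fun x y => by simp [Finset.prod_mul_distrib] }
  have hk : Nat.card Φ.ker = Nat.card Ψ.ker := by
    refine Nat.card_congr
      { toFun := fun x => ⟨fun D => ⟨x.1 D, hker x.1 x.2 D⟩, Subtype.ext ?_⟩
        invFun := fun x => ⟨fun D => ⟨x.1 D, fun d _ => (x.1 D).2 d (mem_top d)⟩, ?_⟩
        left_inv := fun x => by ext; rfl
        right_inv := fun x => by ext; rfl }
    · show ((∏ D, (⟨x.1 D, hker x.1 x.2 D⟩ : ↥(fixSub φ ⊤))) : ↥(fixSub φ ⊤)) = ((1 : ↥(fixSub φ ⊤)) : R)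
      rw [SubmonoidClass.coe_finsetProd]
      exact x.2
    · have := congrArg (Subtype.val : ↥(fixSub φ ⊤) → R) x.2
      rw [show Ψ x.1 = ∏ D, x.1 D from rfl, SubmonoidClass.coe_finsetProd] at this
      exact this
  have hΨ : Function.Surjective Ψ := by
    obtain ⟨D0⟩ : Nonempty (Lines p E) := by
      rw [← Fintype.card_pos_iff, hn]; omega
    exact fun c => ⟨Pi.mulSingle D0 c, by simp [Ψ]⟩
  have e1 := Φ.ker.card_eq_card_quotient_mul_card_subgroup
  rw [Nat.card_congr (QuotientGroup.quotientKerEquivRange Φ).toEquiv, hsurj,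
    Subgroup.card_top, Nat.card_pi] at e1
  have e2 := Ψ.ker.card_eq_card_quotient_mul_card_subgroup
  rw [Nat.card_congr (QuotientGroup.quotientKerEquivOfSurjective Ψ hΨ).toEquiv, Nat.card_pi,
    Finset.prod_const, Finset.card_univ, hn, pow_succ'] at e2
  have e3 := Nat.eq_of_mul_eq_mul_left Nat.card_pos e2
  rw [e3, ← hk, ← e1]

variable {G : Type*} [Group G] [Finite G] {E : Type*} [CommGroup E] [Finite E]

theorem coprime_card_map (hcard : Nat.card E = p ^ 2) (e : E →* G) (D : Subgroup E)
    {R : Subgroup G} (hR : ¬ p ∣ Nat.card ↥R) :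
    (Nat.card ↥(D.map e)).Coprime (Nat.card ↥R) := by
  refine Nat.Coprime.coprime_dvd_left ((card_map_dvd D e).trans (card_subgroup_dvd_card D)) ?_
  rw [hcard]
  exact (hp.out.coprime_iff_not_dvd.2 hR).pow_left 2

theorem isSolvable_map (e : E →* G) (D : Subgroup E) : Group.IsSolvable ↥(D.map e) :=
  Group.isSolvable_of_comm fun a b => by
    obtain ⟨_, a', -, rfl⟩ := a
    obtain ⟨_, b', -, rfl⟩ := b
    exact Subtype.ext (by simp [← map_mul, mul_comm])

theorem card_formula_solvable (hE : ∀ x : E, x ^ p = 1) (hcard : Nat.card E = p ^ 2) (e : E →* G)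
    [Fintype (Lines p E)] {R : Subgroup G} (hR : ¬ p ∣ Nat.card ↥R) (hs : Group.IsSolvable ↥R)
    (hn : e.range ≤ normalizer (R : Set G)) :
    Nat.card ↥R * Nat.card ↥(R ⊓ centralizer (((⊤ : Subgroup E).map e : Subgroup G) : Set G)) ^ p
      = ∏ D : Lines p E, Nat.card ↥(R ⊓ centralizer ((D.1.map e : Subgroup G) : Set G)) := by
  induction hm : Nat.card ↥R using Nat.strong_induction_on generalizing R with
  | _ m ih =>
  subst hm
  by_cases hbot : R = ⊥
  · subst hbot
    simp
  set N := ⁅R, R⁆ with hN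
  have hNR : N ≤ R := commutator_le_self R
  have hNn : e.range ≤ normalizer (N : Set G) := by
    intro b hb
    refine CfsgLib.Coprime.mem_normalizer_iff_map_conj.mpr ?_
    rw [hN, map_commutator, CfsgLib.Coprime.mem_normalizer_iff_map_conj.mp (hn hb)]
  have hne : N ≠ R := by
    intro h
    have : Nontrivial ↥R := (nontrivial_iff_ne_bot R).2 hbot
    apply (Group.IsSolvable.commutator_lt_top_of_nontrivial ↥R).ne
    apply map_injective R.subtype_injective
    rw [map_subtype_commutator, ← MonoidHom.range_eq_map, range_subtype]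
    exact h
  have hNlt : Nat.card ↥N < Nat.card ↥R :=
    lt_of_not_ge fun h => hne (eq_of_le_of_card_ge hNR h)
  have hsN : Group.IsSolvable ↥N :=
    Group.isSolvable_of_isSolvable_injective (inclusion_injective hNR)
  have hIH := ih _ hNlt (fun h => hR (h.trans (card_dvd_of_le hNR))) hsN hNn rfl
  -- the action on the abelianization
  let ψ : E →* MulAut ↥R :=
    (Subgroup.normalizerMonoidHom R).comp (e.codRestrict _ fun x => hn ⟨x, rfl⟩)
  have hψ : ∀ (d : E) (r : ↥R), ((ψ d r : ↥R) : G) = e d * r * (e d)⁻¹ := fun d r => rfl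
  let φ : E →* MulAut (Abelianization ↥R) :=
    { toFun := fun d => (ψ d).abelianizationCongr
      map_one' := MulEquiv.toMonoidHom_injective (Abelianization.hom_ext _ _ (by ext r; simp))
      map_mul' := fun a b =>
        MulEquiv.toMonoidHom_injective (Abelianization.hom_ext _ _ (by ext r; simp)) }
  have key : ∀ D : Subgroup E,
      Nat.card ↥(R ⊓ centralizer ((D.map e : Subgroup G) : Set G))
        = Nat.card ↥(N ⊓ centralizer ((D.map e : Subgroup G) : Set G))
          * Nat.card ↥(fixSub φ D) := by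
    intro D
    let W := R ⊓ centralizer ((D.map e : Subgroup G) : Set G)
    let f : ↥W →* Abelianization ↥R :=
      Abelianization.of.comp (inclusion (inf_le_left : W ≤ R))
    have hof : ∀ r : ↥R, Abelianization.of r = 1 ↔ (r : G) ∈ N := by
      intro r
      rw [← MonoidHom.mem_ker, Abelianization.ker_of, hN, ← map_subtype_commutator]
      refine ⟨fun h => mem_map_of_mem R.subtype h, ?_⟩
      rintro ⟨r', hr', h'⟩
      exact Subtype.ext h' ▸ hr'
    have hrange : f.range = fixSub φ D := by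
      ext y
      constructor
      · rintro ⟨w, rfl⟩ d hd
        show (ψ d).abelianizationCongr (Abelianization.of _) = Abelianization.of _
        rw [abelianizationCongr_of]
        congr 1
        refine Subtype.ext ?_
        rw [hψ]
        exact mul_inv_eq_iff_eq_mul.2 (mem_centralizer_iff.1 w.2.2 _ (mem_map_of_mem e hd))
      · intro hy
        obtain ⟨r, rfl⟩ := QuotientGroup.mk_surjective y
        have hc : ∀ a ∈ D.map e, (r : G)⁻¹ * a * r * a⁻¹ ∈ N := by
          rintro _ ⟨d, hd, rfl⟩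
          have h := hy d hd
          have h2 : Abelianization.of (r⁻¹ * ψ d r) = 1 := by
            rw [map_mul, map_inv, ← abelianizationCongr_of]
            show (Abelianization.of r)⁻¹ * φ d (Abelianization.of r) = 1
            rw [inv_mul_eq_one]
            exact h.symm
          have h3 := (hof _).1 h2
          simpa [hψ, mul_assoc] using h3
        obtain ⟨n, hnN, hnc⟩ := CfsgLib.Coprime.exists_mem_centralizer_of_coset
          ((map_le_range e D).trans hn) ((map_le_range e D).trans hNn) hNR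
          (coprime_card_map hcard e D hR) (Or.inl (isSolvable_map e D)) r.2 hc
        refine ⟨⟨r * n, mul_mem r.2 (hNR hnN), hnc⟩, ?_⟩
        show Abelianization.of (r * ⟨n, hNR hnN⟩ : ↥R) = QuotientGroup.mk r
        rw [map_mul, (hof ⟨n, hNR hnN⟩).2 hnN, mul_one]
        rfl
    have hker : Nat.card f.ker
        = Nat.card ↥(N ⊓ centralizer ((D.map e : Subgroup G) : Set G)) := by
      refine Nat.card_congr
        { toFun := fun w => ⟨w.1.1, (hof ⟨w.1.1, w.1.2.1⟩).1 w.2, w.1.2.2⟩
          invFun := fun n => ⟨⟨n.1, hNR n.2.1, n.2.2⟩, (hof ⟨n.1, hNR n.2.1⟩).2 n.2.1⟩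
          left_inv := fun w => rfl
          right_inv := fun w => rfl }
    rw [← hker, ← hrange, ← Nat.card_congr (QuotientGroup.quotientKerEquivRange f).toEquiv,
      mul_comm]
    exact f.ker.card_eq_card_quotient_mul_card_subgroup
  have hQ : ¬ p ∣ Nat.card (Abelianization ↥R) := fun h => hR (h.trans
    (card_dvd_of_surjective (Abelianization.of (G := ↥R)) QuotientGroup.mk_surjective))
  have : Finite (Abelianization ↥R) := Finite.of_surjective _ QuotientGroup.mk_surjective
  have hab := card_formula_comm hE hcard hQ φ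
  have hcardR : Nat.card ↥R = Nat.card ↥N * Nat.card (Abelianization ↥R) := by
    rw [hN, ← map_subtype_commutator, card_map_of_injective R.subtype_injective, mul_comm]
    exact (_root_.commutator ↥R).card_eq_card_quotient_mul_card_subgroup
  rw [key, hcardR, Finset.prod_congr rfl fun D _ => key D.1, Finset.prod_mul_distrib, mul_pow,
    mul_mul_mul_comm, hIH, hab]

/-- **Wielandt's order formula** for a group of order `p^2` and exponent `p`. -/
theorem card_formula (hE : ∀ x : E, x ^ p = 1) (hcard : Nat.card E = p ^ 2) (e : E →* G)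
    [Fintype (Lines p E)] {K : Subgroup G} (hK : ¬ p ∣ Nat.card ↥K)
    (hn : e.range ≤ normalizer (K : Set G)) :
    Nat.card ↥K * Nat.card ↥(K ⊓ centralizer (((⊤ : Subgroup E).map e : Subgroup G) : Set G)) ^ p
      = ∏ D : Lines p E, Nat.card ↥(K ⊓ centralizer ((D.1.map e : Subgroup G) : Set G)) := by
  have h0 : ∀ H : Subgroup G, Nat.card ↥H ≠ 0 := fun H => Nat.card_pos.ne'
  refine Nat.eq_of_factorization_eq (mul_ne_zero (h0 _) (pow_ne_zero _ (h0 _)))
    (Finset.prod_ne_zero_iff.2 fun D _ => h0 _) fun r => ?_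
  by_cases hr : r.Prime
  swap
  · rw [Nat.factorization_eq_zero_of_not_prime _ hr, Nat.factorization_eq_zero_of_not_prime _ hr]
  have : Fact r.Prime := ⟨hr⟩
  have hsE : ∀ D : Subgroup E, Group.IsSolvable ↥(D.map e) := isSolvable_map e
  have hA : (⊤ : Subgroup E).map e ≤ normalizer (K : Set G) := (map_le_range e _).trans hn
  obtain ⟨P, hP⟩ := CfsgLib.Coprime.exists_invariant_sylow hA (coprime_card_map hcard e ⊤ hK)
    (Or.inl (hsE ⊤)) r
  set R := (P : Subgroup ↥K).map K.subtype with hRdef
  have hRK : R ≤ K := map_subtype_le _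
  have hRr : IsPGroup r ↥R := P.2.map _
  have hpart : ∀ D : Subgroup E,
      (Nat.card ↥(K ⊓ centralizer ((D.map e : Subgroup G) : Set G))).factorization r
        = (Nat.card ↥(R ⊓ centralizer ((D.map e : Subgroup G) : Set G))).factorization r := by
    intro D
    set C := K ⊓ centralizer ((D.map e : Subgroup G) : Set G) with hC
    have hDA : D.map e ≤ normalizer (K : Set G) := (map_le_range e _).trans hn
    have hcop := coprime_card_map hcard e D hK
    obtain ⟨U⟩ : Nonempty (Sylow r ↥C) := inferInstance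
    set U' := (U : Subgroup ↥C).map C.subtype with hU'
    have hUC : U' ≤ C := map_subtype_le _
    have hDU : D.map e ≤ normalizer (U' : Set G) := by
      refine le_trans ?_ (centralizer_le_normalizer _)
      exact le_centralizer_iff.1 (hUC.trans inf_le_right)
    obtain ⟨Q, hUQ, hQ⟩ := CfsgLib.Coprime.exists_invariant_sylow_ge hDA hcop (Or.inl (hsE D))
      (U.2.map C.subtype) (hUC.trans inf_le_left) hDU
    obtain ⟨c, hc', hc⟩ := CfsgLib.Coprime.exists_conj_invariant_sylow hDA hcop
      (Or.inl (hsE D)) Q P hQ ((map_mono le_top).trans hP)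
    have hle : U'.map (MulAut.conj c).toMonoidHom ≤
        R ⊓ centralizer ((D.map e : Subgroup G) : Set G) := by
      refine le_inf ((map_mono hUQ).trans hc.le) ?_
      rintro _ ⟨u, hu, rfl⟩
      have hcD := (mem_inf.mp hc').2
      simpa using mul_mem (mul_mem hcD (hUC hu).2) (inv_mem hcD)
    have hcardU : Nat.card ↥U' = r ^ (Nat.card ↥C).factorization r := by
      rw [hU', card_map_of_injective C.subtype_injective]
      exact U.card_eq_multiplicity
    have h1 : r ^ (Nat.card ↥C).factorization r ∣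
        Nat.card ↥(R ⊓ centralizer ((D.map e : Subgroup G) : Set G)) := by
      rw [← hcardU, ← CfsgLib.Coprime.card_map_conj c U']
      exact card_dvd_of_le hle
    have h2 : Nat.card ↥(R ⊓ centralizer ((D.map e : Subgroup G) : Set G)) ∣ Nat.card ↥C :=
      card_dvd_of_le (inf_le_inf_right _ hRK)
    exact le_antisymm ((hr.pow_dvd_iff_le_factorization (h0 _)).1 h1)
      ((Nat.factorization_le_iff_dvd (h0 _) (h0 _)).2 h2 r)
  have hKR : (Nat.card ↥K).factorization r = (Nat.card ↥R).factorization r := by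
    rw [hRdef, card_map_of_injective K.subtype_injective, P.card_eq_multiplicity,
      hr.factorization_pow, Finsupp.single_eq_same]
  have hpR : ¬ p ∣ Nat.card ↥R := fun h => hK (h.trans (card_dvd_of_le hRK))
  have hRn : e.range ≤ normalizer (R : Set G) := by
    rw [← MonoidHom.range_eq_map] at hP
    exact hP
  have : Group.IsNilpotent ↥R := hRr.isNilpotent
  have hf := card_formula_solvable hE hcard e hpR inferInstance hRn
  have hf' := congrArg (fun n : ℕ => n.factorization r) hf
  simp only [Nat.factorization_mul (h0 _) (pow_ne_zero _ (h0 _)), Nat.factorization_pow,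
    Nat.factorization_prod fun D _ => h0 _, Finsupp.add_apply, Finsupp.smul_apply,
    Finsupp.finsetSum_apply] at hf' ⊢
  rw [hKR, hpart, Finset.sum_congr rfl fun D _ => hpart D.1]
  exact hf'

end CfsgLib.Comp
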