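import Cfsg.Agent.Lib.Comp.FStar
import Mathlib.GroupTheory.SchurZassenhaus

/-!
`p`-components and the `p`-layer.
-/

set_option linter.style.haveILetI false
set_option linter.unusedSectionVars false

namespace CfsgLib.Comp

open Subgroup
open scoped commutatorElement

variable {G : Type*} [Group G] [Finite G] {p : ℕ} [hp : Fact p.Prime]

/-- The subgroup generated by the elements of `p`-power order of a subgroup: `O^{p'}(H)`. -/
def pElemClosure (p : ℕ) {G : Type*} [Group G] (H : Subgroup G) : Subgroup G :=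
  closure {x | x ∈ H ∧ ∃ k : ℕ, x ^ p ^ k = 1}

theorem pElemClosure_le (H : Subgroup G) : pElemClosure p H ≤ H :=
  (closure_le H).2 fun _ hx => hx.1

theorem le_normalizer_pElemClosure (H : Subgroup G) :
    normalizer (H : Set G) ≤ normalizer ((pElemClosure p H : Subgroup G) : Set G) := by
  intro g hg
  rw [← map_conj_eq_iff, pElemClosure, MonoidHom.map_closure]
  congr 1
  ext x
  simp only [Set.mem_image, Set.mem_ofPred_eq, MulEquiv.coe_toMonoidHom, MulAut.conj_apply]
  constructor
  · rintro ⟨y, ⟨hy, k, hk⟩, rfl⟩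
    exact ⟨(mem_normalizer_iff.1 hg y).1 hy, k, by rw [conj_pow, hk]; group⟩
  · rintro ⟨hx, k, hk⟩
    refine ⟨g⁻¹ * x * g, ⟨(mem_normalizer_iff''.1 hg x).1 hx, k, ?_⟩, by group⟩
    have h1 := conj_pow (a := g⁻¹) (b := x) (i := p ^ k)
    rw [inv_inv] at h1
    rw [h1, hk]; group

theorem exists_pow_eq_one_of_orderOf {x : G} (h : ∃ k, orderOf x = p ^ k) : ∃ k : ℕ, x ^ p ^ k = 1 :=
  h.elim fun k hk => ⟨k, hk ▸ pow_orderOf_eq_one x⟩

/-- A subgroup containing all `p`-elements of the group has index prime to `p`. -/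
theorem coprime_index_of_mem {R : Subgroup G} [R.Normal]
    (h : ∀ x : G, (∃ k : ℕ, x ^ p ^ k = 1) → x ∈ R) : R.index.Coprime p := by
  let P : Sylow p G := default
  have hle : (P : Subgroup G) ≤ R := fun x hx => by
    obtain ⟨k, hk⟩ := P.isPGroup' ⟨x, hx⟩
    exact h x ⟨k, by simpa using congrArg Subtype.val hk⟩
  exact (hp.out.coprime_iff_not_dvd.2 fun hd =>
    P.not_dvd_index (hd.trans (index_dvd_of_le hle))).symm

/-- A subnormal subgroup of index prime to `p` contains every `p`-element. -/
theorem mem_of_isSubnormal_of_coprime_index {H : Subgroup G} (hH : H.IsSubnormal)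
    (hi : H.index.Coprime p) {x : G} {k : ℕ} (hx : x ^ p ^ k = 1) : x ∈ H := by
  induction hH with
  | top => trivial
  | step H K hle hK hN ih =>
    have hxK : x ∈ K := ih (Nat.Coprime.coprime_dvd_left (index_dvd_of_le hle) hi)
    haveI := hN
    have h1 : (⟨x, hxK⟩ : K) ^ (H.subgroupOf K).index ∈ H.subgroupOf K := pow_index_mem _ _
    have h2 : (H.relIndex K).Coprime (p ^ k) :=
      Nat.Coprime.pow_right _ (Nat.Coprime.coprime_dvd_left (relIndex_dvd_index_of_le hle) hi)
    obtain ⟨a, b, hab⟩ : ∃ a b : ℤ, a * (H.relIndex K : ℤ) + b * (p ^ k : ℕ) = 1 :=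
      Nat.isCoprime_iff_coprime.2 h2
    have h3 : x ^ (H.relIndex K : ℤ) ∈ H := by
      rw [zpow_natCast]; exact h1
    have : x = (x ^ (H.relIndex K : ℤ)) ^ a * (x ^ ((p ^ k : ℕ) : ℤ)) ^ b := by
      rw [← zpow_mul, ← zpow_mul, ← zpow_add, mul_comm (H.relIndex K : ℤ),
        mul_comm ((p ^ k : ℕ) : ℤ), hab, zpow_one]
    rw [this, zpow_natCast x (p ^ k), hx, one_zpow, mul_one]
    exact zpow_mem h3 a

/-- The `p'`-core of the quotient by the `p'`-core is trivial. -/
theorem pPrimeCore_quotient_eq_bot (p : ℕ) (G : Type*) [Group G] [Finite G] :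
    Cfsg.pPrimeCore p (G ⧸ Cfsg.pPrimeCore p G) = ⊥ := by
  set q := QuotientGroup.mk' (Cfsg.pPrimeCore p G)
  have h : (Cfsg.pPrimeCore p (G ⧸ Cfsg.pPrimeCore p G)).comap q ≤ Cfsg.pPrimeCore p G := by
    refine le_sSup ⟨inferInstance, ?_⟩
    set M := (Cfsg.pPrimeCore p (G ⧸ Cfsg.pPrimeCore p G)).comap q
    have hle : Cfsg.pPrimeCore p G ≤ M := by
      have := ker_le_comap q (Cfsg.pPrimeCore p (G ⧸ Cfsg.pPrimeCore p G))
      rwa [QuotientGroup.ker_mk'] at this
    have hM : Nat.card M = Nat.card (Cfsg.pPrimeCore p G) *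
        Nat.card (Cfsg.pPrimeCore p (G ⧸ Cfsg.pPrimeCore p G)) := by
      have h1 : Nat.card ((q.comp M.subtype).range) =
          Nat.card (Cfsg.pPrimeCore p (G ⧸ Cfsg.pPrimeCore p G)) := by
        rw [MonoidHom.range_comp, range_subtype, map_comap_eq_self_of_surjective
          (QuotientGroup.mk'_surjective _)]
      rw [← card_mul_index (q.comp M.subtype).ker, index_ker, h1, ← MonoidHom.comap_ker,
        QuotientGroup.ker_mk']
      congr 1
      exact Nat.card_congr (subgroupOfEquivOfLe hle).toEquiv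
    rw [hM]
    exact (coprime_card_pPrimeCore p G).mul_left (coprime_card_pPrimeCore p _)
  rw [← map_comap_eq_self_of_surjective (QuotientGroup.mk'_surjective (Cfsg.pPrimeCore p G))
    (Cfsg.pPrimeCore p (G ⧸ Cfsg.pPrimeCore p G)), Subgroup.map_eq_bot_iff, QuotientGroup.ker_mk']
  exact h

/-- A component in a group with trivial `p'`-core has central quotient of order divisible by `p`. -/
theorem dvd_index_center_of_isComponent (hO : Cfsg.pPrimeCore p G = ⊥) {K : Subgroup G}
    (hK : Cfsg.IsComponent K) : p ∣ (center K).index := by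
  by_contra hnd
  haveI := hK.2.1
  let S : Sylow p (center K) := default
  let Z := (S : Subgroup (center K)).map (center K).subtype
  have hZc : Z ≤ center K := map_subtype_le _
  haveI hZn : Z.Normal := ⟨fun x hx g => by rwa [mem_center_iff.1 (hZc hx) g, mul_inv_cancel_right]⟩
  have hZi : ¬ p ∣ Z.index := by
    rw [index_map_subtype]
    exact hp.out.not_dvd_mul (S.not_dvd_index) hnd
  obtain ⟨n, hn⟩ := IsPGroup.iff_card.1 (S.isPGroup'.map (center K).subtype)
  have hcop : (Nat.card Z).Coprime Z.index := by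
    change (Nat.card ↥((S : Subgroup (center K)).map (center K).subtype)).Coprime _
    rw [hn]; exact Nat.Coprime.pow_left _ (hp.out.coprime_iff_not_dvd.2 hZi)
  obtain ⟨C, hC⟩ := exists_right_complement'_of_coprime hcop
  have hCtop : C = ⊤ := eq_top_of_sup_center_eq_top
    (top_le_iff.1 (le_trans (by rw [sup_comm]; exact hC.sup_eq_top.ge) (sup_le_sup_left hZc C)))
  have hZbot : Z = ⊥ := by
    have := hC.disjoint
    rwa [hCtop, disjoint_top] at this
  have hcard : (Nat.card K).Coprime p := by
    rw [← index_bot, ← hZbot]; exact (hp.out.coprime_iff_not_dvd.2 hZi).symm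
  have := le_pPrimeCore_of_isSubnormal hK.1 hcard
  rw [hO, le_bot_iff] at this
  exact ne_bot_of_isComponent hK this

theorem dvd_card_of_isComponent (hO : Cfsg.pPrimeCore p G = ⊥) {K : Subgroup G}
    (hK : Cfsg.IsComponent K) : p ∣ Nat.card K :=
  (dvd_index_center_of_isComponent hO hK).trans (index_dvd_card _)

/-- A subnormal subgroup of a component with index prime to `p` is the component. -/
theorem eq_of_isSubnormal_of_not_dvd_relIndex (hO : Cfsg.pPrimeCore p G = ⊥) {K H : Subgroup G}
    (hK : Cfsg.IsComponent K) (hle : H ≤ K) (hH : (H.subgroupOf K).IsSubnormal)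
    (hi : ¬ p ∣ H.relIndex K) : H = K := by
  rcases subnormal_eq_top_or_le_center hK.2 hH with h | h
  · exact le_antisymm hle (subgroupOf_eq_top.1 h)
  · exact absurd ((dvd_index_center_of_isComponent hO hK).trans (index_dvd_of_le h)) hi

variable (p) in
/-- The quotient map modulo the `p'`-core. -/
abbrev toModCore (G : Type*) [Group G] : G →* G ⧸ Cfsg.pPrimeCore p G :=
  QuotientGroup.mk' (Cfsg.pPrimeCore p G)

theorem ker_toModCore : (toModCore p G).ker = Cfsg.pPrimeCore p G := QuotientGroup.ker_mk' _

theorem toModCore_surjective : Function.Surjective (toModCore p G) := QuotientGroup.mk'_surjective _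

theorem coprime_relIndex_comap {Kb : Subgroup (G ⧸ Cfsg.pPrimeCore p G)} {K : Subgroup G}
    (himg : K.map (toModCore p G) = Kb) : (K.relIndex (Kb.comap (toModCore p G))).Coprime p := by
  haveI := Cfsg.pPrimeCore_normal p G
  rw [← himg, comap_map_eq, ker_toModCore]
  have h1 : K.relIndex (K ⊔ Cfsg.pPrimeCore p G) ∣ Nat.card (Cfsg.pPrimeCore p G) := by
    have hd := card_sup_dvd_mul (le_normalizer_of_normal' (Cfsg.pPrimeCore p G) K)
    rw [sup_comm, ← card_mul_index (K.subgroupOf (K ⊔ Cfsg.pPrimeCore p G)),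
      Nat.card_congr (subgroupOfEquivOfLe le_sup_left).toEquiv, mul_comm (Nat.card ↥(Cfsg.pPrimeCore p G))] at hd
    exact Nat.dvd_of_mul_dvd_mul_left Nat.card_pos hd
  exact Nat.Coprime.coprime_dvd_left h1 (coprime_card_pPrimeCore p G)

/-- The `p`-component over a component of the quotient by the `p'`-core. -/
theorem isPComponent_pElemClosure_comap {Kb : Subgroup (G ⧸ Cfsg.pPrimeCore p G)}
    (hKb : Cfsg.IsComponent Kb) :
    Cfsg.IsPComponent p (pElemClosure p (Kb.comap (toModCore p G))) ∧
      (pElemClosure p (Kb.comap (toModCore p G))).map (toModCore p G) = Kb := by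
  set P := Kb.comap (toModCore p G) with hP
  set R := pElemClosure p P with hR
  have hPs : P.IsSubnormal := hKb.1.comap _
  have hnorm : P ≤ normalizer (R : Set G) := le_normalizer.trans (le_normalizer_pElemClosure P)
  have hRs : R.IsSubnormal := isSubnormal_of_le_normalizer (pElemClosure_le P) hPs hnorm
  haveI : (R.subgroupOf P).Normal := normal_subgroupOf_of_le_normalizer hnorm
  have hidx : (R.subgroupOf P).index.Coprime p := coprime_index_of_mem fun x ⟨k, hk⟩ =>
    subset_closure ⟨x.2, k, by simpa using congrArg Subtype.val hk⟩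
  have himg : R.map (toModCore p G) = Kb := by
    have hPmap : P.map (toModCore p G) = Kb := map_comap_eq_self_of_surjective toModCore_surjective Kb
    have hle : R.map (toModCore p G) ≤ Kb := (map_mono (pElemClosure_le P)).trans_eq hPmap
    refine eq_of_isSubnormal_of_not_dvd_relIndex (pPrimeCore_quotient_eq_bot p G) hKb hle
      ((hRs.map toModCore_surjective).subgroupOf) fun hd => ?_
    have h1 : (R.map (toModCore p G)).relIndex Kb ∣ R.relIndex P := by
      rw [← hPmap]
      conv_rhs => rw [← inf_relIndex_right]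
      rw [← relIndex_comap, inf_relIndex_right]
      exact relIndex_dvd_of_le_left P (le_comap_map _ _)
    exact (hp.out.coprime_iff_not_dvd.1 hidx.symm) (hd.trans h1)
  refine ⟨⟨hRs, himg ▸ hKb, fun H hH hle himgH => le_antisymm hle ?_⟩, himg⟩
  rw [himg] at himgH
  have hHP : H ≤ P := hle.trans (pElemClosure_le P)
  refine (closure_le H).2 fun x hx => ?_
  obtain ⟨k, hk⟩ := hx.2
  exact mem_of_isSubnormal_of_coprime_index (hH.subgroupOf (K := P))
    (coprime_relIndex_comap himgH) (x := ⟨x, hx.1⟩) (k := k) (Subtype.ext (by simpa using hk))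

/-- A `p`-component is determined by its image. -/
theorem isPComponent_eq_pElemClosure {K : Subgroup G} (hK : Cfsg.IsPComponent p K) :
    K = pElemClosure p ((K.map (toModCore p G)).comap (toModCore p G)) := by
  obtain ⟨hR, hRimg⟩ := isPComponent_pElemClosure_comap hK.2.1
  refine (hK.2.2 _ hR.1 ?_ hRimg).symm
  refine (closure_le K).2 fun x hx => ?_
  obtain ⟨k, hk⟩ := hx.2
  exact mem_of_isSubnormal_of_coprime_index
    (hK.1.subgroupOf (K := (K.map (toModCore p G)).comap (toModCore p G)))
    (coprime_relIndex_comap rfl) (x := ⟨x, hx.1⟩) (k := k) (Subtype.ext (by simpa using hk))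

theorem isPComponent_ext {K L : Subgroup G} (hK : Cfsg.IsPComponent p K)
    (hL : Cfsg.IsPComponent p L) (h : K.map (toModCore p G) = L.map (toModCore p G)) : K = L := by
  rw [isPComponent_eq_pElemClosure hK, isPComponent_eq_pElemClosure hL, h]

theorem existsUnique_pComponent {Kb : Subgroup (G ⧸ Cfsg.pPrimeCore p G)}
    (hKb : Cfsg.IsComponent Kb) :
    ∃! K : Subgroup G, Cfsg.IsPComponent p K ∧ K.map (toModCore p G) = Kb :=
  ⟨_, isPComponent_pElemClosure_comap hKb, fun _ hL =>
    isPComponent_ext hL.1 (isPComponent_pElemClosure_comap hKb).1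
      (hL.2.trans (isPComponent_pElemClosure_comap hKb).2.symm)⟩

theorem pLayer_map (p : ℕ) [Fact p.Prime] (G : Type*) [Group G] [Finite G] :
    (Cfsg.pLayer p G).map (toModCore p G) = Cfsg.layer (G ⧸ Cfsg.pPrimeCore p G) := by
  apply le_antisymm
  · exact map_le_iff_le_comap.2 (sSup_le fun K hK => map_le_iff_le_comap.1 (le_layer hK.2.1))
  · refine sSup_le fun Kb hKb => ?_
    obtain ⟨h1, h2⟩ := isPComponent_pElemClosure_comap (p := p) hKb
    rw [← h2]
    exact map_mono (le_sSup h1)

theorem pLayer_eq_bot_iff (p : ℕ) [Fact p.Prime] (G : Type*) [Group G] [Finite G] :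
    Cfsg.pLayer p G = ⊥ ↔ Cfsg.layer (G ⧸ Cfsg.pPrimeCore p G) = ⊥ := by
  refine ⟨fun h => by rw [← pLayer_map, h, Subgroup.map_bot], fun h => ?_⟩
  refine le_bot_iff.1 (sSup_le fun K hK => ?_)
  exact absurd (le_bot_iff.1 (h ▸ le_layer hK.2.1)) (ne_bot_of_isComponent hK.2.1)

theorem isPComponent_map_conj {K : Subgroup G} (hK : Cfsg.IsPComponent p K) (g : G) :
    Cfsg.IsPComponent p (K.map (MulAut.conj g).toMonoidHom) := by
  have hcomm : ∀ (H : Subgroup G) (g : G), (H.map (MulAut.conj g).toMonoidHom).map (toModCore p G) =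
      (H.map (toModCore p G)).map (MulAut.conj (toModCore p G g)).toMonoidHom := by
    intro H g
    rw [Subgroup.map_map, Subgroup.map_map]
    congr 1
  refine ⟨isSubnormal_map_conj hK.1 g, ?_, fun H hH hle himg => ?_⟩
  · change Cfsg.IsComponent ((K.map (MulAut.conj g).toMonoidHom).map (toModCore p G))
    rw [hcomm]
    exact isComponent_map_conj hK.2.1 _
  · have h1 := hK.2.2 (H.map (MulAut.conj g⁻¹).toMonoidHom) (isSubnormal_map_conj hH _)
      ((map_mono hle).trans_eq (map_conj_inv K g)) (by
        change (H.map (MulAut.conj g⁻¹).toMonoidHom).map (toModCore p G) = K.map (toModCore p G)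
        change H.map (toModCore p G) = _ at himg
        rw [hcomm, himg]
        change ((K.map (MulAut.conj g).toMonoidHom).map (toModCore p G)).map _ = _
        rw [hcomm, map_inv, map_conj_inv])
    apply map_conj_injective g⁻¹
    change H.map (MulAut.conj g⁻¹).toMonoidHom =
      (K.map (MulAut.conj g).toMonoidHom).map (MulAut.conj g⁻¹).toMonoidHom
    rw [h1, map_conj_inv]

theorem pLayer_normal (p : ℕ) [Fact p.Prime] (G : Type*) [Group G] [Finite G] :
    (Cfsg.pLayer p G).Normal :=
  normal_of_top_le_normalizer (le_normalizer_sSup _ fun g _ _ hK => isPComponent_map_conj hK g)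

/-- Whatever normalizes the image of a `p`-component normalizes the `p`-component. -/
theorem mem_normalizer_of_image {K : Subgroup G} (hK : Cfsg.IsPComponent p K) {g : G}
    (h : toModCore p G g ∈ normalizer ((K.map (toModCore p G) : Subgroup _) : Set _)) :
    g ∈ normalizer (K : Set G) := by
  refine map_conj_eq_iff.1 (isPComponent_ext (isPComponent_map_conj hK g) hK ?_)
  rw [← map_conj_eq_iff] at h
  conv_rhs => rw [← h]
  rw [Subgroup.map_map, Subgroup.map_map]
  congr 1

theorem pLayer_le_normalizer {K : Subgroup G} (hK : Cfsg.IsPComponent p K) :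
    Cfsg.pLayer p G ≤ normalizer (K : Set G) := fun g hg => by
  refine mem_normalizer_of_image hK (layer_le_normalizer_component hK.2.1 ?_)
  rw [← pLayer_map]
  exact mem_map_of_mem _ hg

theorem pPrimeCore_le_normalizer {K : Subgroup G} (hK : Cfsg.IsPComponent p K) :
    Cfsg.pPrimeCore p G ≤ normalizer (K : Set G) := fun g hg => by
  refine mem_normalizer_of_image hK ?_
  have : toModCore p G g = 1 := (QuotientGroup.eq_one_iff g).2 hg
  rw [this]; exact one_mem _

theorem commutator_self_of_isPComponent {K : Subgroup G} (hK : Cfsg.IsPComponent p K) :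
    ⁅K, K⁆ = K := by
  refine hK.2.2 _ ?_ (commutator_le_self K) ?_
  · refine isSubnormal_of_le_normalizer (commutator_le_self K) hK.1 ?_
    intro k hk
    rw [← map_conj_eq_iff, Subgroup.map_commutator, map_conj_eq_iff.2 (le_normalizer hk)]
  · rw [Subgroup.map_commutator]
    exact commutator_self_of_isComponent hK.2.1

theorem dvd_card_of_isPComponent {K : Subgroup G} (hK : Cfsg.IsPComponent p K) : p ∣ Nat.card K :=
  (dvd_card_of_isComponent (pPrimeCore_quotient_eq_bot p G) hK.2.1).trans (card_map_dvd K _)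

/-- For a subnormal subgroup, the `p'`-core is the intersection with the `p'`-core. -/
theorem pPrimeCore_map_subtype {S : Subgroup G} (hS : S.IsSubnormal) :
    (Cfsg.pPrimeCore p S).map S.subtype = Cfsg.pPrimeCore p G ⊓ S := by
  haveI := Cfsg.pPrimeCore_normal p G
  apply le_antisymm
  · refine le_inf (le_pPrimeCore_of_isSubnormal (isSubnormal_map_of_normal hS _) ?_) (map_subtype_le _)
    rw [card_map_of_injective S.subtype_injective]
    exact coprime_card_pPrimeCore p S
  · have hle : (Cfsg.pPrimeCore p G ⊓ S).subgroupOf S ≤ Cfsg.pPrimeCore p S := by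
      refine le_sSup ⟨normal_subgroupOf_of_le_normalizer
        (le_normalizer_inf (le_normalizer_of_normal' _ _) le_normalizer), ?_⟩
      rw [Nat.card_congr (subgroupOfEquivOfLe inf_le_right).toEquiv]
      exact Nat.Coprime.coprime_dvd_left (card_dvd_of_le inf_le_left) (coprime_card_pPrimeCore p G)
    calc Cfsg.pPrimeCore p G ⊓ S = ((Cfsg.pPrimeCore p G ⊓ S).subgroupOf S).map S.subtype :=
          (map_subgroupOf_eq_of_le inf_le_right).symm
      _ ≤ _ := map_mono hle

theorem isQuasisimple_quotient_core {K : Subgroup G} (hK : Cfsg.IsPComponent p K) :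
    Cfsg.IsQuasisimple (↥K ⧸ Cfsg.pPrimeCore p K) := by
  refine isQuasisimple_congr ?_ hK.2.1.2
  refine ((QuotientGroup.quotientMulEquivOfEq (?_ : Cfsg.pPrimeCore p ↥K =
      ((toModCore p G).comp K.subtype).ker)).trans
    ((QuotientGroup.quotientKerEquivRange ((toModCore p G).comp K.subtype)).trans
      (MulEquiv.subgroupCongr ?_))).symm
  · apply map_injective K.subtype_injective
    rw [pPrimeCore_map_subtype hK.1, ← MonoidHom.comap_ker, ker_toModCore, map_comap_eq,
      range_subtype, inf_comm]
  · rw [MonoidHom.range_comp, range_subtype]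

/-- A component with order divisible by `p` modulo the core gives a `p`-component. -/
theorem isPComponent_of_isComponent {L : Subgroup G} (hL : Cfsg.IsComponent L)
    (h : ¬ L ≤ Cfsg.pPrimeCore p G) : Cfsg.IsPComponent p L := by
  have hne : L.map (toModCore p G) ≠ ⊥ := by
    rw [Ne, Subgroup.map_eq_bot_iff, ker_toModCore]; exact h
  haveI := (Subgroup.nontrivial_iff_ne_bot _).2 hne
  refine ⟨hL.1, ⟨hL.1.map toModCore_surjective,
    isQuasisimple_of_surjective hL.2 ((toModCore p G).subgroupMap_surjective L)⟩, fun H hH hle himg => ?_⟩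
  rcases eq_or_le_centralizer_of_subnormal hL.2 hle hH.subgroupOf with e | e
  · exact e
  · exfalso
    have h1 : ⁅H.map (toModCore p G), L.map (toModCore p G)⁆ = ⊥ := by
      rw [← Subgroup.map_commutator, commutator_eq_bot_iff_le_centralizer.2 e, Subgroup.map_bot]
    change H.map (toModCore p G) = L.map (toModCore p G) at himg
    rw [himg, ← Subgroup.map_commutator, commutator_self_of_isComponent hL] at h1
    exact hne h1

end CfsgLib.Comp
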