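import Cfsg.Agent.Lib.Comp.Subnormal
import Cfsg.Agent.Lib.Coprime.Sylow
import Cfsg.Agent.Lib.Coprime.Generation
import Cfsg.Prelude.Def_Balance

/-!
Elementary abelian groups acting coprimely, and basic facts on signalizer functors and their families.
-/

set_option autoImplicit false
set_option linter.style.haveILetI false
set_option linter.unusedSectionVars false

namespace CfsgLib.Comp

open Subgroup

theorem centralizer_zpowers {G : Type*} [Group G] (a : G) :
    centralizer ((zpowers a : Subgroup G) : Set G) = centralizer ({a} : Set G) := by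
  rw [zpowers_eq_closure, centralizer_closure]

variable {G : Type*} [Group G] [Finite G] {p : ℕ} [hp : Fact p.Prime]

theorem isPGroup_of_elemAb {A : Subgroup G} (hA : Cfsg.IsElementaryAbelian p A) : IsPGroup p A :=
  fun x => ⟨1, Subtype.ext (by simpa using hA.2 x x.2)⟩

theorem elemAb_mono {A B : Subgroup G} (hA : Cfsg.IsElementaryAbelian p A) (hB : B ≤ A) :
    Cfsg.IsElementaryAbelian p B :=
  ⟨⟨⟨fun x y => Subtype.ext (show (x : G) * y = y * x from congrArg (fun z : ↥A => (z : G))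
    (hA.1.is_comm.comm ⟨(x : G), hB x.2⟩ ⟨(y : G), hB y.2⟩))⟩⟩, fun x hx => hA.2 x (hB hx)⟩

theorem isSolvable_elemAb {A : Subgroup G} (hA : Cfsg.IsElementaryAbelian p A) :
    Group.IsSolvable A := by
  haveI := (isPGroup_of_elemAb hA).isNilpotent
  infer_instance

theorem not_isCyclic_elemAb {A : Subgroup G} (hA : Cfsg.IsElementaryAbelian p A)
    (h2 : p ^ 2 ≤ Nat.card A) : ¬ IsCyclic A := by
  intro hc
  obtain ⟨g, hg⟩ := hc.exists_ofOrder_eq_natCard
  have h1 : orderOf g ∣ p := orderOf_dvd_of_pow_eq_one (Subtype.ext (by simpa using hA.2 g g.2))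
  have h3 := Nat.le_of_dvd hp.out.pos h1
  rw [hg] at h3
  have h4 : p < p ^ 2 := lt_self_pow₀ hp.out.one_lt one_lt_two
  omega

theorem coprime_card_elemAb {A K : Subgroup G} (hA : Cfsg.IsElementaryAbelian p A)
    (hK : ¬ p ∣ Nat.card K) : (Nat.card A).Coprime (Nat.card K) := by
  obtain ⟨n, hn⟩ := IsPGroup.iff_card.1 (isPGroup_of_elemAb hA)
  rw [hn]; exact Nat.Coprime.pow_left _ (hp.out.coprime_iff_not_dvd.2 hK)

theorem le_normalizer_of_conj_mem {A U : Subgroup G} (h : ∀ b ∈ A, ∀ u ∈ U, b * u * b⁻¹ ∈ U) :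
    A ≤ normalizer (U : Set G) := by
  intro b hb
  rw [mem_normalizer_iff]
  intro u
  refine ⟨h b hb u, fun hu => ?_⟩
  have := h b⁻¹ (inv_mem hb) _ hu
  simpa [mul_assoc] using this

theorem conj_mem_of_le_normalizer {A U : Subgroup G} (h : A ≤ normalizer (U : Set G)) :
    ∀ b ∈ A, ∀ u ∈ U, b * u * b⁻¹ ∈ U :=
  fun _ hb u hu => (mem_normalizer_iff.1 (h hb) u).1 hu

theorem relIndex_dvd_of_sup_zpowers {A B : Subgroup G} (hA : Cfsg.IsElementaryAbelian p A)
    (hB : B ≤ A) {a : G} (ha : a ∈ A) (h : B ⊔ zpowers a = A) : B.relIndex A ∣ p := by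
  have hn : zpowers a ≤ normalizer (B : Set G) := by
    refine le_trans ?_ (centralizer_le_normalizer B)
    rw [zpowers_le, mem_centralizer_iff]
    exact fun b hb => congrArg Subtype.val (hA.1.is_comm.comm ⟨b, hB hb⟩ ⟨a, ha⟩)
  have h1 := card_sup_dvd_mul hn
  rw [h, ← relIndex_bot_left, ← relIndex_mul_relIndex ⊥ B A bot_le hB, relIndex_bot_left,
    Nat.card_zpowers] at h1
  exact (Nat.dvd_of_mul_dvd_mul_left Nat.card_pos h1).trans (orderOf_dvd_of_pow_eq_one (hA.2 a ha))

/-- A noncyclic elementary abelian group acting coprimely: generation by centralizers of hyperplanes. -/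
theorem eq_iSup_centralizer_hyperplane {A X : Subgroup G} (hA : Cfsg.IsElementaryAbelian p A)
    (hne : A ≠ ⊥) (hX : ¬ p ∣ Nat.card X) (hAX : A ≤ normalizer (X : Set G)) :
    X = ⨆ B : {B : Subgroup G // B ≤ A ∧ B.relIndex A = p},
      X ⊓ centralizer ((B : Subgroup G) : Set G) := by
  refine le_antisymm ?_ (iSup_le fun _ => inf_le_left)
  conv_lhs => rw [← CfsgLib.Coprime.cocyclicJoin_eq hA.1 hAX (coprime_card_elemAb hA hX)]
  refine iSup₂_le fun B hB => ?_
  obtain ⟨hBA, a, ha, hBa⟩ := hB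
  rcases (Nat.dvd_prime hp.out).1 (relIndex_dvd_of_sup_zpowers hA hBA ha hBa) with h | h
  · -- `B = A`: use any hyperplane inside
    have hBe : B = A := le_antisymm hBA (relIndex_eq_one.1 h)
    obtain ⟨n, hn⟩ := IsPGroup.iff_card.1 (isPGroup_of_elemAb hA)
    rcases n with _ | n
    · exact absurd (card_eq_one.1 (by simpa using hn)) hne
    · obtain ⟨D, hD⟩ := Sylow.exists_subgroup_card_pow_prime (G := ↥A) p (n := n)
        ⟨p, by rw [hn, pow_succ]⟩
      have hDA : D.map A.subtype ≤ A := map_subtype_le D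
      have hDi : (D.map A.subtype).relIndex A = p := by
        have h1 := relIndex_mul_relIndex ⊥ (D.map A.subtype) A bot_le hDA
        rw [relIndex_bot_left, relIndex_bot_left, card_map_of_injective A.subtype_injective, hD,
          hn, pow_succ] at h1
        exact Nat.eq_of_mul_eq_mul_left (pow_pos hp.out.pos n) h1
      exact le_iSup_of_le ⟨D.map A.subtype, hDA, hDi⟩
        (inf_le_inf_left _ (centralizer_le (hDA.trans hBe.ge)))
  · exact le_iSup_of_le (⟨B, hBA, h⟩ : {B : Subgroup G // B ≤ A ∧ B.relIndex A = p}) le_rfl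

theorem exists_mem_ne_one {B : Subgroup G} (h : B ≠ ⊥) : ∃ b ∈ B, b ≠ 1 :=
  let ⟨x, hx, hx1⟩ := B.bot_or_exists_ne_one.resolve_left h
  ⟨x, hx, hx1⟩

/-- A member of the family meets the centralizer of `B` inside the intersection over `B`. -/
theorem family_inf_centralizer_le {A : Subgroup G} {θ : G → Subgroup G} {X : Subgroup G}
    (hX : X ∈ Cfsg.signalizerFamily p A θ) {B : Subgroup G} (hB : B ≤ A) :
    X ⊓ centralizer (B : Set G) ≤ Cfsg.signalizerInf B θ := by
  refine le_iInf fun b => ?_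
  refine le_trans (inf_le_inf_left _ ?_) (hX.2.2.2 b.1 (hB b.2.1) b.2.2)
  exact centralizer_le (Set.singleton_subset_iff.2 b.2.1)

/-- The product of two members of the family, one normalizing the other, is a member. -/
theorem family_sup {A : Subgroup G} (hA : Cfsg.IsElementaryAbelian p A) {θ : G → Subgroup G}
    {X Y : Subgroup G} (hX : X ∈ Cfsg.signalizerFamily p A θ)
    (hY : Y ∈ Cfsg.signalizerFamily p A θ) (hn : Y ≤ normalizer (X : Set G)) :
    X ⊔ Y ∈ Cfsg.signalizerFamily p A θ := by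
  have hAX := le_normalizer_of_conj_mem hX.2.2.1
  have hAY := le_normalizer_of_conj_mem hY.2.2.1
  have hcop : (Nat.card ↥(X ⊔ Y)).Coprime p :=
    coprime_card_sup hn ((hp.out.coprime_iff_not_dvd.2 hX.2.1).symm)
      ((hp.out.coprime_iff_not_dvd.2 hY.2.1).symm)
  refine ⟨isSolvable_sup hn hX.1 hY.1, hp.out.coprime_iff_not_dvd.1 hcop.symm,
    conj_mem_of_le_normalizer (le_normalizer_sup hAX hAY), fun a ha ha1 => ?_⟩
  rintro x ⟨hx, hxa⟩
  obtain ⟨u, hu, v, hv, rfl⟩ := exists_mul_of_mem_sup hn hx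
  have hle : zpowers a ≤ A := zpowers_le.2 ha
  obtain ⟨u', hu', v', hv', he⟩ := CfsgLib.Coprime.exists_mul_centralizer
    (A := zpowers a) (G := X ⊔ Y) (hle.trans (le_normalizer_sup hAX hAY))
    (coprime_card_elemAb (elemAb_mono hA hle) (hp.out.coprime_iff_not_dvd.1 hcop.symm))
    (Or.inl (isSolvable_elemAb (elemAb_mono hA hle))) le_sup_left le_sup_right
    (hle.trans hAX) (hle.trans hAY) hu hv (by rw [centralizer_zpowers]; exact hxa)
  rw [centralizer_zpowers] at hu' hv'
  rw [← he]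
  exact mul_mem (hX.2.2.2 a ha ha1 hu') (hY.2.2.2 a ha ha1 hv')

/-- Each value of the functor is a member of the family. -/
theorem theta_mem_family {A : Subgroup G} {θ : G → Subgroup G}
    (hθ : Cfsg.IsSolvableSignalizerFunctor p A θ) {a : G} (ha : a ∈ A) (ha1 : a ≠ 1) :
    θ a ∈ Cfsg.signalizerFamily p A θ :=
  ⟨hθ.2 a ha ha1, hθ.1.2.1 a ha ha1, hθ.1.2.2.1 a ha ha1,
    fun b hb hb1 => hθ.1.2.2.2 a ha ha1 b hb hb1⟩

/-- The balance condition passes to quotients by normal `p'`-subgroups. -/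
theorem balance_quotient {A : Subgroup G} (hA : Cfsg.IsElementaryAbelian p A) {θ : G → Subgroup G}
    (hθ : Cfsg.IsSignalizerFunctor p A θ) {H : Type*} [Group H] (f : G →* H) {a b : G}
    (ha : a ∈ A) (ha1 : a ≠ 1) (hb : b ∈ A) (hb1 : b ≠ 1) :
    (θ a).map f ⊓ centralizer ({f b} : Set H) ≤ (θ b).map f := by
  have hle : zpowers b ≤ A := zpowers_le.2 hb
  have h := CfsgLib.Coprime.map_inf_centralizer f (A := zpowers b) (G := θ a)
    (hle.trans (le_normalizer_of_conj_mem (hθ.2.2.1 a ha ha1)))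
    (coprime_card_elemAb (elemAb_mono hA hle) (hθ.2.1 a ha ha1))
    (Or.inl (isSolvable_elemAb (elemAb_mono hA hle)))
  rw [MonoidHom.map_zpowers, centralizer_zpowers (f b), centralizer_zpowers b] at h
  rw [← h]
  exact map_mono (hθ.2.2.2 a ha ha1 b hb hb1)

end CfsgLib.Comp
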