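import Cfsg.Agent.Lib.Comp.Local

/-!
`p`-constrained groups and `p`-local subgroups of groups with trivial `p`-layer.
-/

set_option autoImplicit false
set_option linter.style.haveILetI false
set_option linter.unusedSectionVars false

namespace CfsgLib.Comp

open Subgroup

variable {G : Type*} [Group G] [Finite G] {p : ℕ} [hp : Fact p.Prime]

theorem isComponent_comap_of_injective {H : Type*} [Group H] (f : H →* G) (hf : Function.Injective f)
    {L : Subgroup G} (hL : Cfsg.IsComponent L) (hle : L ≤ f.range) :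
    Cfsg.IsComponent (L.comap f) := by
  refine ⟨hL.1.comap f, isQuasisimple_congr (MulEquiv.symm ?_) hL.2⟩
  exact ((L.comap f).equivMapOfInjective f hf).trans
    (MulEquiv.subgroupCongr (by rw [map_comap_eq, inf_eq_right.2 hle]))

theorem isPGroup_eq_bot_of_coprime {H : Subgroup G} (hH : IsPGroup p H)
    (hc : (Nat.card H).Coprime p) : H = ⊥ := by
  have := inf_eq_bot_of_isPGroup hH hc
  rwa [inf_idem] at this

/-- A `p`-local subgroup of a group with `C(O_p) ≤ O_p` again has that property. -/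
theorem centralizer_pCore_normalizer_le (h : centralizer (Cfsg.pCore p G : Set G) ≤ Cfsg.pCore p G)
    {P : Subgroup G} (hP : IsPGroup p P) :
    centralizer (Cfsg.pCore p ↥(normalizer (P : Set G)) : Set ↥(normalizer (P : Set G))) ≤
      Cfsg.pCore p ↥(normalizer (P : Set G)) := by
  set N := normalizer (P : Set G)
  have hW : IsPGroup p ↥(localLayer p N) :=
    (isPGroup_pCore p G).to_le ((localLayer_le_centralizer_pCore hP).trans h)
  rw [centralizer_pCore_le_iff]
  constructor
  · have h1 : IsPGroup p ↥(Cfsg.layer N) :=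
      (hW.to_le (layer_le_localLayer N)).of_equiv
        ((Cfsg.layer N).equivMapOfInjective _ N.subtype_injective).symm
    exact eq_bot_of_perfect_of_isSolvable (commutator_layer_self N)
      (@IsNilpotent.to_isSolvable _ _ h1.isNilpotent)
  · have h1 : IsPGroup p ↥(Cfsg.pPrimeCore p N) :=
      (hW.to_le (pPrimeCore_le_localLayer N)).of_equiv
        ((Cfsg.pPrimeCore p N).equivMapOfInjective _ N.subtype_injective).symm
    exact isPGroup_eq_bot_of_coprime h1 (coprime_card_pPrimeCore p N)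

/-- The image of a Sylow subgroup of `O_{p',p}(G)` is `O_p(G / O_{p'}(G))`. -/
theorem sylow_pPrimePCore_map (P : Sylow p ↥(Cfsg.pPrimePCore p G)) :
    ((P : Subgroup ↥(Cfsg.pPrimePCore p G)).map (Cfsg.pPrimePCore p G).subtype).map (toModCore p G) =
      Cfsg.pCore p (G ⧸ Cfsg.pPrimeCore p G) := by
  set f := (toModCore p G).comp (Cfsg.pPrimePCore p G).subtype with hf
  have hr : f.range = Cfsg.pCore p (G ⧸ Cfsg.pPrimeCore p G) := by
    rw [hf, MonoidHom.range_comp, range_subtype, Cfsg.pPrimePCore,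
      map_comap_eq_self_of_surjective toModCore_surjective]
  rw [Subgroup.map_map, ← hr, ← hf]
  have htop : (P : Subgroup ↥(Cfsg.pPrimePCore p G)).map f.rangeRestrict = ⊤ := by
    rw [← index_eq_one]
    have hd : ((P : Subgroup ↥(Cfsg.pPrimePCore p G)).map f.rangeRestrict).index ∣ (P : Subgroup ↥(Cfsg.pPrimePCore p G)).index :=
      index_map_dvd _ f.rangeRestrict_surjective
    have hpg : IsPGroup p ↥f.range := hr ▸ isPGroup_pCore p _
    obtain ⟨n, hn⟩ := IsPGroup.iff_card.1 hpg
    have hd' := hd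
    have hdn : ((P : Subgroup ↥(Cfsg.pPrimePCore p G)).map f.rangeRestrict).index ∣ p ^ n := hn ▸ index_dvd_card _
    exact Nat.eq_one_of_dvd_coprimes
      (Nat.Coprime.pow_left _ (hp.out.coprime_iff_not_dvd.2 P.not_dvd_index)) hdn hd'
  have := congrArg (Subgroup.map f.range.subtype) htop
  rwa [Subgroup.map_map, MonoidHom.subtype_comp_rangeRestrict, ← MonoidHom.range_eq_map,
    range_subtype] at this

/-- A finite group is `p`-constrained iff its `p`-layer is trivial. -/
theorem isPConstrained_iff (p : ℕ) [Fact p.Prime] (G : Type*) [Group G] [Finite G] :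
    Cfsg.IsPConstrained p G ↔
      centralizer (Cfsg.pCore p (G ⧸ Cfsg.pPrimeCore p G) : Set (G ⧸ Cfsg.pPrimeCore p G)) ≤
        Cfsg.pCore p (G ⧸ Cfsg.pPrimeCore p G) := by
  have key : ∀ P : Sylow p ↥(Cfsg.pPrimePCore p G),
      centralizer (((P : Subgroup ↥(Cfsg.pPrimePCore p G)).map (Cfsg.pPrimePCore p G).subtype :
        Subgroup G) : Set G) ≤ Cfsg.pPrimePCore p G ↔
      centralizer (Cfsg.pCore p (G ⧸ Cfsg.pPrimeCore p G) : Set (G ⧸ Cfsg.pPrimeCore p G)) ≤
        Cfsg.pCore p (G ⧸ Cfsg.pPrimeCore p G) := fun P => by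
    have hPp : IsPGroup p ↥((P : Subgroup ↥(Cfsg.pPrimePCore p G)).map (Cfsg.pPrimePCore p G).subtype) :=
      P.isPGroup'.map _
    rw [← sylow_pPrimePCore_map P, ← map_centralizer_eq (coprime_card_pPrimeCore p G) hPp,
      map_le_iff_le_comap, sylow_pPrimePCore_map P]
    rfl
  exact ⟨fun h => (key default).1 (h default), fun h P => (key P).2 h⟩

theorem isPConstrained_iff_pLayer (p : ℕ) [Fact p.Prime] (G : Type*) [Group G] [Finite G] :
    Cfsg.IsPConstrained p G ↔ Cfsg.pLayer p G = ⊥ := by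
  rw [isPConstrained_iff, centralizer_pCore_le_iff, pLayer_eq_bot_iff]
  exact ⟨fun h => h.1, fun h => ⟨h, pPrimeCore_quotient_eq_bot p G⟩⟩

/-- In a group with trivial `p`-layer, `p`-locals have trivial `p`-layer and `p'`-core inside `O_{p'}(G)`. -/
theorem pLocal_of_pLayer_eq_bot (hL : Cfsg.pLayer p G = ⊥) {P : Subgroup G} (hP : IsPGroup p P) :
    Cfsg.pLayer p ↥(normalizer (P : Set G)) = ⊥ ∧
      (Cfsg.pPrimeCore p ↥(normalizer (P : Set G))).map (normalizer (P : Set G)).subtype ≤
        Cfsg.pPrimeCore p G := by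
  set N := normalizer (P : Set G) with hN
  set q := toModCore p G
  set Pb := P.map q
  have hQ := (isPConstrained_iff p G).1 ((isPConstrained_iff_pLayer p G).2 hL)
  have hNb : N.map q = normalizer (Pb : Set (G ⧸ Cfsg.pPrimeCore p G)) :=
    map_normalizer_eq (coprime_card_pPrimeCore p G) hP
  have hloc := centralizer_pCore_normalizer_le hQ (hP.map q : IsPGroup p Pb)
  obtain ⟨hE, hO⟩ := (centralizer_pCore_le_iff p _).1 hloc
  let r : ↥N →* ↥(normalizer (Pb : Set (G ⧸ Cfsg.pPrimeCore p G))) :=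
    (MulEquiv.subgroupCongr hNb).toMonoidHom.comp (q.subgroupMap N)
  have hr : Function.Surjective r :=
    (MulEquiv.subgroupCongr hNb).surjective.comp (q.subgroupMap_surjective N)
  have hker : Cfsg.pPrimeCore p ↥N ≤ r.ker := by
    have h1 : (Cfsg.pPrimeCore p ↥N).map r ≤ Cfsg.pPrimeCore p ↥(normalizer (Pb : Set (G ⧸ Cfsg.pPrimeCore p G))) :=
      le_sSup ⟨Subgroup.Normal.map (Cfsg.pPrimeCore_normal p _) r hr,
        Nat.Coprime.coprime_dvd_left (card_map_dvd _ r) (coprime_card_pPrimeCore p N)⟩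
    rw [hO, le_bot_iff, Subgroup.map_eq_bot_iff] at h1
    exact h1
  have hkerle : r.ker ≤ (Cfsg.pPrimeCore p G).comap N.subtype := by
    intro x hx
    have h1 : q (x : G) = 1 := congrArg Subtype.val (MonoidHom.mem_ker.1 hx)
    exact (QuotientGroup.eq_one_iff (N := Cfsg.pPrimeCore p G) (x : G)).1 h1
  have hker' : r.ker ≤ Cfsg.pPrimeCore p ↥N := by
    refine le_sSup ⟨inferInstance, ?_⟩
    rw [← card_map_of_injective N.subtype_injective]
    exact Nat.Coprime.coprime_dvd_left (card_dvd_of_le (map_le_iff_le_comap.2 hkerle))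
      (coprime_card_pPrimeCore p G)
  refine ⟨(pLayer_eq_bot_iff p _).2 ?_, (map_mono hker).trans (map_le_iff_le_comap.2 hkerle)⟩
  let e : (↥N ⧸ Cfsg.pPrimeCore p ↥N) ≃* ↥(normalizer (Pb : Set (G ⧸ Cfsg.pPrimeCore p G))) :=
    (QuotientGroup.quotientMulEquivOfEq (le_antisymm hker hker')).trans
      (QuotientGroup.quotientKerEquivOfSurjective r hr)
  have h1 := layer_map_le_layer e.toMonoidHom e.surjective
  rw [hE, le_bot_iff, Subgroup.map_eq_bot_iff_of_injective (f := e.toMonoidHom) _ e.injective] at h1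
  exact h1

end CfsgLib.Comp
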