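import Cfsg.Agent.Lib.Comp.Signalizer
import Cfsg.Agent.Lib.Amalgam.WeaklyClosed
import Cfsg.Agent.Lib.PLocal.Offender
import Cfsg.Prelude.Def_PLocal

/-!
Failure of factorization: a faithful group generated by best offenders with self-centralizing
`p'`-core. Order bound for elementary abelian subgroups and the hyperplane family.
-/

set_option autoImplicit false
set_option linter.style.haveILetI false
set_option linter.unusedSectionVars false

namespace CfsgLib.Comp.FF

open Subgroup
open scoped commutatorElement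

variable {G : Type*} [Group G] {p : ℕ}

/-- The standing hypotheses: `H` acts faithfully on the elementary abelian group `V` and contains the
centralizer of its `p'`-core. -/
structure Setup (p : ℕ) (V H : Subgroup G) : Prop where
  elem : Cfsg.IsElementaryAbelian p V
  norm : H ≤ normalizer (V : Set G)
  faith : H ⊓ centralizer (V : Set G) = ⊥
  selfcent : centralizer (Cfsg.pPrimeCore p ↥H : Set ↥H) ≤ Cfsg.pPrimeCore p ↥H

/-- `O_{p'}(H)` as a subgroup of the ambient group. -/
abbrev PH (p : ℕ) (H : Subgroup G) : Subgroup G := (Cfsg.pPrimeCore p ↥H).map H.subtype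

/-- `B` is a hyperplane of `A` with `[C_P(B), A] ≠ 1`. -/
def Good (p : ℕ) (H A B : Subgroup G) : Prop :=
  B ≤ A ∧ Nat.card A = p * Nat.card B ∧ ⁅PH p H ⊓ centralizer (B : Set G), A⁆ ≠ ⊥

theorem le_normalizer_inf {X Y Z : Subgroup G} (hY : X ≤ normalizer (Y : Set G))
    (hZ : X ≤ normalizer (Z : Set G)) : X ≤ normalizer ((Y ⊓ Z : Subgroup G) : Set G) := by
  intro x hx
  rw [mem_normalizer_iff]
  intro y
  exact and_congr (mem_normalizer_iff.1 (hY hx) y) (mem_normalizer_iff.1 (hZ hx) y)

variable {V H : Subgroup G}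

theorem PH_le : PH p H ≤ H := map_subtype_le _

variable [Finite G] [hp : Fact p.Prime]

theorem le_normalizer_commutator {X Y Z : Subgroup G} (hY : X ≤ normalizer (Y : Set G))
    (hZ : X ≤ normalizer (Z : Set G)) : X ≤ normalizer ((⁅Y, Z⁆ : Subgroup G) : Set G) := by
  intro x hx
  rw [CfsgLib.Coprime.mem_normalizer_iff_map_conj, map_commutator,
    CfsgLib.Coprime.map_conj_of_mem_normalizer (hY hx),
    CfsgLib.Coprime.map_conj_of_mem_normalizer (hZ hx)]

theorem le_normalizer_centralizer {X Y : Subgroup G} (h : X ≤ normalizer (Y : Set G)) :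
    X ≤ normalizer ((centralizer (Y : Set G) : Subgroup G) : Set G) := by
  intro x hx
  rw [mem_normalizer_iff]
  intro z
  simp only [mem_centralizer_iff, SetLike.mem_coe]
  constructor
  · intro hz y hy
    have h2 := hz (x⁻¹ * y * x) ((mem_normalizer_iff''.1 (h hx) y).1 hy)
    calc y * (x * z * x⁻¹) = x * (x⁻¹ * y * x * z) * x⁻¹ := by group
      _ = x * z * x⁻¹ * y := by rw [h2]; group
  · intro hz y hy
    have h2 := hz (x * y * x⁻¹) ((mem_normalizer_iff.1 (h hx) y).1 hy)
    calc y * z = x⁻¹ * (x * y * x⁻¹ * (x * z * x⁻¹)) * x := by group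
      _ = z * y := by rw [h2]; group

theorem eq_bot_of_faith (S : Setup p V H) {X : Subgroup G} (hXH : X ≤ H)
    (hX : X ≤ centralizer (V : Set G)) : X = ⊥ :=
  le_bot_iff.1 ((le_inf hXH hX).trans S.faith.le)

theorem not_dvd_card_PH : ¬ p ∣ Nat.card (PH p H) := by
  rw [card_map_of_injective H.subtype_injective]
  exact not_dvd_card_pPrimeCore p ↥H

theorem le_normalizer_PH : H ≤ normalizer ((PH p H : Subgroup G) : Set G) := by
  have : (Cfsg.pPrimeCore p ↥H).Normal := CfsgLib.Solvable.pPrimeCore_normal p ↥H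
  have h := le_normalizer_map (H := Cfsg.pPrimeCore p ↥H) H.subtype
  rwa [normalizer_eq_top_iff.2 this, ← MonoidHom.range_eq_map, range_subtype] at h

theorem inf_centralizer_PH (S : Setup p V H) :
    H ⊓ centralizer ((PH p H : Subgroup G) : Set G) ≤ PH p H := by
  rintro x ⟨hxH, hxc⟩
  refine ⟨⟨x, hxH⟩, S.selfcent (mem_centralizer_iff.2 fun y hy => Subtype.ext ?_), rfl⟩
  exact mem_centralizer_iff.1 hxc (y : G) ⟨y, hy, rfl⟩

theorem isPGroup_inf_PH {R : Subgroup G} (hR : IsPGroup p R) : R ⊓ PH p H = ⊥ := by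
  refine card_eq_one.1 ?_
  obtain ⟨n, hn⟩ := hR.exists_card_eq
  exact Nat.eq_one_of_dvd_coprimes (Nat.Coprime.pow_left n
    (hp.out.coprime_iff_not_dvd.2 (not_dvd_card_PH (H := H))))
    (hn ▸ card_dvd_of_le inf_le_left) (card_dvd_of_le inf_le_right)

/-- A `p`-subgroup of `H` centralizing `O_{p'}(H)` is trivial. -/
theorem eq_bot_of_centralizes_PH (S : Setup p V H) {R : Subgroup G} (hR : IsPGroup p R)
    (hRH : R ≤ H) (hc : R ≤ centralizer ((PH p H : Subgroup G) : Set G)) : R = ⊥ :=
  le_bot_iff.1 ((le_inf le_rfl ((le_inf hRH hc).trans (inf_centralizer_PH S))).trans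
    (isPGroup_inf_PH hR).le)

theorem isPGroup_V (S : Setup p V H) : IsPGroup p V := isPGroup_of_elemAb S.elem

theorem coprime_card_V (S : Setup p V H) {Q : Subgroup G} (hQ : Q ≤ PH p H) :
    (Nat.card Q).Coprime (Nat.card V) :=
  (coprime_card_elemAb S.elem (not_dvd_card_PH (H := H))).symm.coprime_dvd_left (card_dvd_of_le hQ)

/-- Best offenders inside `H` are elementary abelian. -/
theorem elem_of_best (S : Setup p V H) {A : Subgroup G} (hAH : A ≤ H)
    (hA : Cfsg.IsBestOffenderOn p V A) : Cfsg.IsElementaryAbelian p A := by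
  have h : ∀ x ∈ H, x ∈ centralizer (V : Set G) → x = 1 := fun x h1 h2 =>
    mem_bot.1 (S.faith.le ⟨h1, h2⟩)
  refine ⟨⟨⟨fun a b => Subtype.ext ?_⟩⟩, fun a ha => h _ (pow_mem (hAH ha) _) (hA.2.2 a ha)⟩
  have hab : ⁅(a : G), (b : G)⁆ ∈ ⁅A, A⁆ := commutator_mem_commutator a.2 b.2
  exact commutatorElement_eq_one_iff_mul_comm.1 (h _ (le_trans
    (commutator_mono hAH hAH) (commutator_le_self H) hab) (hA.2.1 hab))

theorem le_centralizer_of_elem {A B : Subgroup G} (hA : Cfsg.IsElementaryAbelian p A) (hB : B ≤ A) :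
    A ≤ centralizer (B : Set G) := fun a ha =>
  mem_centralizer_iff.2 fun b hb => congrArg Subtype.val (hA.1.is_comm.comm ⟨b, hB hb⟩ ⟨a, ha⟩)

/-- For every nontrivial subgroup `K` of `A` some good hyperplane does not contain `K`. -/
theorem exists_good_not_le (S : Setup p V H) {A K : Subgroup G}
    (hA : Cfsg.IsElementaryAbelian p A) (hAH : A ≤ H) (hK : K ≤ A) (hK1 : K ≠ ⊥) :
    ∃ B, Good p H A B ∧ ¬ K ≤ B := by
  by_contra hcon
  push Not at hcon
  apply hK1
  have hAP : A ≤ normalizer ((PH p H : Subgroup G) : Set G) := hAH.trans le_normalizer_PH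
  have hcop := coprime_card_elemAb hA (not_dvd_card_PH (H := H))
  have h1 : ⁅PH p H, A⁆ ≤ centralizer (K : Set G) := by
    rw [← CfsgLib.Coprime.iSup_commutator_eq hA.1 hAP hcop]
    refine iSup₂_le fun B hB => ?_
    obtain ⟨hBA, a, ha, hBa⟩ := hB
    by_cases hne : ⁅PH p H ⊓ centralizer (B : Set G), A⁆ = ⊥
    · rw [hne]; exact bot_le
    have hgood : Good p H A B := by
      refine ⟨hBA, ?_, hne⟩
      rcases (Nat.dvd_prime hp.out).1 (relIndex_dvd_of_sup_zpowers hA hBA ha hBa) with h | h
      · exfalso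
        have hBe : B = A := le_antisymm hBA (relIndex_eq_one.1 h)
        refine hne (commutator_eq_bot_iff_le_centralizer.2 ?_)
        rw [hBe]; exact inf_le_right
      · have h2 := relIndex_mul_relIndex ⊥ B A bot_le hBA
        rw [relIndex_bot_left, relIndex_bot_left, h] at h2
        rw [← h2, mul_comm]
    have hAn : A ≤ normalizer ((PH p H ⊓ centralizer (B : Set G) : Subgroup G) : Set G) :=
      le_normalizer_inf hAP ((le_centralizer_of_elem hA hBA).trans le_normalizer)
    exact (le_normalizer_iff_commutator_le_left.1 hAn).trans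
      (inf_le_right.trans (centralizer_le (hcon B hgood)))
  have hKn : K ≤ normalizer ((PH p H : Subgroup G) : Set G) := hK.trans hAP
  have h2 : ⁅⁅PH p H, K⁆, K⁆ = ⊥ :=
    commutator_eq_bot_iff_le_centralizer.2 ((commutator_mono le_rfl hK).trans h1)
  have h3 := CfsgLib.Coprime.commutator_eq_bot_of_commutator_commutator hKn
    (hcop.coprime_dvd_left (card_dvd_of_le hK)) (Or.inl (isSolvable_elemAb (elemAb_mono hA hK))) h2
  exact eq_bot_of_centralizes_PH S (isPGroup_of_elemAb (elemAb_mono hA hK)) (hK.trans hAH)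
    (le_centralizer_iff.1 (commutator_eq_bot_iff_le_centralizer.1 h3))

/-- The fixed points strictly grow along a good hyperplane. -/
theorem mul_card_fix_le_of_good (S : Setup p V H) {A B : Subgroup G}
    (hA : Cfsg.IsElementaryAbelian p A) (hAH : A ≤ H) (hB : Good p H A B) :
    p * Nat.card ↥(V ⊓ centralizer (A : Set G)) ≤ Nat.card ↥(V ⊓ centralizer (B : Set G)) := by
  obtain ⟨hBA, -, hne⟩ := hB
  set C := PH p H ⊓ centralizer (B : Set G) with hCdef
  set Q := ⁅C, A⁆ with hQdef
  have hAB : A ≤ centralizer (B : Set G) := le_centralizer_of_elem hA hBA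
  have hAP : A ≤ normalizer ((PH p H : Subgroup G) : Set G) := hAH.trans le_normalizer_PH
  have hAC : A ≤ normalizer (C : Set G) := le_normalizer_inf hAP (hAB.trans le_normalizer)
  have hQC : Q ≤ C := le_normalizer_iff_commutator_le_left.1 hAC
  have hQP : Q ≤ PH p H := hQC.trans inf_le_left
  have hQn : C ≤ normalizer (Q : Set G) := normalizer_commutator_ge_left C A
  have hAQ : A ≤ normalizer (Q : Set G) := normalizer_commutator_ge_right C A
  have hCV : C ≤ normalizer (V : Set G) := (inf_le_left.trans PH_le).trans S.norm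
  have hAV : A ≤ normalizer (V : Set G) := hAH.trans S.norm
  have hQV : Q ≤ normalizer (V : Set G) := hQC.trans hCV
  set W0 := ⁅V, Q⁆ with hW0def
  have hW0V : W0 ≤ V := le_normalizer_iff_commutator_le_left.1 hQV
  have hW0 : W0 ≠ ⊥ := fun h => hne (eq_bot_of_faith S (hQP.trans PH_le)
    (le_centralizer_iff.1 (commutator_eq_bot_iff_le_centralizer.1 h)))
  have hAW0 : A ≤ normalizer (W0 : Set G) := le_normalizer_commutator hAV hAQ
  have hCW0 : C ≤ normalizer (W0 : Set G) := le_normalizer_commutator hCV hQn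
  set W := W0 ⊓ centralizer (B : Set G) with hWdef
  have hW : W ≠ ⊥ := CfsgLib.Amalgam.inf_centralizer_ne_bot
    ((isPGroup_of_elemAb hA).to_le hBA) ((isPGroup_V S).to_le hW0V) hW0 (hBA.trans hAW0)
  have hCW : C ≤ normalizer (W : Set G) :=
    le_normalizer_inf hCW0 ((inf_le_right : C ≤ centralizer (B : Set G)).trans le_normalizer)
  have hnot : ¬ W ≤ centralizer (A : Set G) := by
    intro hWA
    apply hW
    have hQW : Q ≤ centralizer (W : Set G) := by
      refine commutator_le.2 fun x hx a ha => mem_centralizer_iff.2 fun w hw => ?_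
      have h1 : x⁻¹ * w * x ∈ W := (mem_normalizer_iff''.1 (hCW hx) w).1 hw
      have h2 := mem_centralizer_iff.1 (hWA h1) a ha
      have h3 : a * w = w * a := mem_centralizer_iff.1 (hWA hw) a ha
      rw [commutatorElement_def]
      calc w * (x * a * x⁻¹ * a⁻¹) = x * (x⁻¹ * w * x * a) * x⁻¹ * a⁻¹ := by group
        _ = x * (a * (x⁻¹ * w * x)) * x⁻¹ * a⁻¹ := by rw [h2]
        _ = x * a * x⁻¹ * a⁻¹ * (a * w) * a⁻¹ := by group
        _ = x * a * x⁻¹ * a⁻¹ * w := by rw [h3]; group
    have h4 : W ≤ W0 ⊓ centralizer (Q : Set G) := le_inf inf_le_left (le_centralizer_iff.1 hQW)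
    rw [hW0def, CfsgLib.Coprime.commutator_inf_centralizer_eq_bot S.elem.1 hQV
      (coprime_card_V S hQP)] at h4
    exact le_bot_iff.1 h4
  have hle : V ⊓ centralizer (A : Set G) ≤ V ⊓ centralizer (B : Set G) :=
    inf_le_inf_left _ (centralizer_le hBA)
  have hlt : V ⊓ centralizer (A : Set G) ≠ V ⊓ centralizer (B : Set G) := by
    intro he
    apply hnot
    have h5 : W ≤ V ⊓ centralizer (B : Set G) := inf_le_inf_right _ hW0V
    rw [← he] at h5
    exact h5.trans inf_le_right
  obtain ⟨k, hk⟩ := ((isPGroup_V S).to_le (inf_le_left : V ⊓ centralizer (B : Set G) ≤ V)).exists_card_eq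
  obtain ⟨j, hj⟩ := ((isPGroup_V S).to_le (inf_le_left : V ⊓ centralizer (A : Set G) ≤ V)).exists_card_eq
  rw [hk, hj, ← pow_succ']
  refine Nat.pow_le_pow_right hp.out.pos ?_
  by_contra hc
  exact hlt (eq_of_le_of_card_ge hle
    (by rw [hk, hj]; exact Nat.pow_le_pow_right hp.out.pos (by omega)))

/-- `|A| |C_V(A)| ≤ |V|` for elementary abelian `p`-subgroups of `H`. -/
theorem card_mul_card_fix_le (S : Setup p V H) {A : Subgroup G} (hAH : A ≤ H)
    (hA : Cfsg.IsElementaryAbelian p A) :
    Nat.card A * Nat.card ↥(V ⊓ centralizer (A : Set G)) ≤ Nat.card V := by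
  induction hn : Nat.card A using Nat.strong_induction_on generalizing A with
  | _ n ih =>
    subst hn
    by_cases hA1 : A = ⊥
    · subst hA1
      rw [Subgroup.card_bot, one_mul]
      exact card_le_of_le inf_le_left
    obtain ⟨B, hB, -⟩ := exists_good_not_le S hA hAH le_rfl hA1
    have h1 := mul_card_fix_le_of_good S hA hAH hB
    have hlt : Nat.card B < Nat.card A := by
      rw [hB.2.1]
      exact lt_mul_of_one_lt_left Nat.card_pos hp.out.one_lt
    have h2 := ih _ hlt (hB.1.trans hAH) (elemAb_mono hA hB.1) rfl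
    calc Nat.card A * Nat.card ↥(V ⊓ centralizer (A : Set G))
        = Nat.card B * (p * Nat.card ↥(V ⊓ centralizer (A : Set G))) := by rw [hB.2.1]; ring
      _ ≤ _ := (Nat.mul_le_mul_left _ h1).trans h2

theorem card_mul_card_fix_of_best (S : Setup p V H) {A : Subgroup G} (hAH : A ≤ H)
    (hA : Cfsg.IsBestOffenderOn p V A) :
    Nat.card A * Nat.card ↥(V ⊓ centralizer (A : Set G)) = Nat.card V := by
  refine le_antisymm (card_mul_card_fix_le S hAH (elem_of_best S hAH hA)) ?_
  have h := hA.1 ⊥ bot_le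
  rw [Subgroup.card_bot, one_mul, centralizer_eq_top_iff_subset.2 (by simp), inf_top_eq] at h
  exact h

theorem best_of_card_mul_card_fix (S : Setup p V H) {A : Subgroup G} (hAH : A ≤ H)
    (hA : Cfsg.IsElementaryAbelian p A)
    (h : Nat.card A * Nat.card ↥(V ⊓ centralizer (A : Set G)) = Nat.card V) :
    Cfsg.IsBestOffenderOn p V A := by
  refine ⟨fun B hB => ?_, ?_, fun a ha => ?_⟩
  · rw [h]; exact card_mul_card_fix_le S (hB.trans hAH) (elemAb_mono hA hB)
  · rw [commutator_eq_bot_iff_le_centralizer.2 (le_centralizer_of_elem hA le_rfl)]; exact bot_le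
  · rw [hA.2 a ha]; exact one_mem _

theorem best_of_good (S : Setup p V H) {A B : Subgroup G} (hAH : A ≤ H)
    (hA : Cfsg.IsBestOffenderOn p V A) (hB : Good p H A B) : Cfsg.IsBestOffenderOn p V B := by
  have hAe := elem_of_best S hAH hA
  refine best_of_card_mul_card_fix S (hB.1.trans hAH) (elemAb_mono hAe hB.1)
    (le_antisymm (card_mul_card_fix_le S (hB.1.trans hAH) (elemAb_mono hAe hB.1)) ?_)
  rw [← card_mul_card_fix_of_best S hAH hA, hB.2.1]
  calc p * Nat.card B * Nat.card ↥(V ⊓ centralizer (A : Set G))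
      = Nat.card B * (p * Nat.card ↥(V ⊓ centralizer (A : Set G))) := by ring
    _ ≤ _ := Nat.mul_le_mul_left _ (mul_card_fix_le_of_good S hAe hAH hB)

theorem commutator_ne_bot_iff (S : Setup p V H) {A : Subgroup G} (hAH : A ≤ H) :
    ⁅V, A⁆ ≠ ⊥ ↔ A ≠ ⊥ := by
  refine ⟨fun h h' => h (by rw [h', commutator_bot_right]), fun h h' => h ?_⟩
  exact eq_bot_of_faith S hAH (le_centralizer_iff.1 (commutator_eq_bot_iff_le_centralizer.1 h'))

end CfsgLib.Comp.FF
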