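import Cfsg.Agent.S0713
import Mathlib.GroupTheory.GroupAction.Jordan
import Mathlib.GroupTheory.GroupAction.Primitive
import Mathlib.GroupTheory.Transfer
import Mathlib.GroupTheory.Perm.Centralizer
import Mathlib.GroupTheory.SpecificGroups.Alternating.Simple
import Mathlib.Data.Fintype.CardEmbedding
import Mathlib.Tactic

/-!
Groups generated by two elements of prime orders `p < q` of the alternating group of degree `m`
with `m ≤ 2p`: transitive and primitive on the moved points, and alternating (Jordan, and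
small exceptional degrees).
-/

set_option autoImplicit false
set_option linter.unusedSectionVars false
set_option linter.style.haveILetI false

namespace CfsgLib.Comp

open Equiv Equiv.Perm Subgroup MulAction Pointwise

variable {β : Type*} [Fintype β] [DecidableEq β]

theorem zpowers_eq_of_prime_order {x : Perm β} {p : ℕ} (hp : p.Prime) (hx : orderOf x = p)
    {a : β} (ha : x a ≠ a) : (x.cycleOf a).support.card = p := by
  have hc : (x.cycleOf a).IsCycle := isCycle_cycleOf x ha
  have h1 : orderOf (x.cycleOf a) ∣ p := hx ▸ orderOf_cycleOf_dvd_orderOf x a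
  rw [hc.orderOf] at h1
  rcases (Nat.dvd_prime hp).1 h1 with h | h
  · exact absurd h (by have := hc.two_le_card_support; omega)
  · exact h

theorem closure_pair_isPreprimitive {x y : Perm β} {p q : ℕ} (hp : p.Prime)
    (hx : orderOf x = p) (hy : y.IsCycle) (hys : y.support.card = q) (hq : q.Prime)
    (hU : ∀ a, x a ≠ a ∨ y a ≠ a) (hpq : Fintype.card β < p + q) (h2q : Fintype.card β < 2 * q) :
    IsPreprimitive (closure ({x, y} : Set (Perm β))) β := by
  classical
  set H := closure ({x, y} : Set (Perm β)) with hH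
  have hxH : x ∈ H := subset_closure (by simp)
  have hyH : y ∈ H := subset_closure (by simp)
  have hreach : ∀ a, ∃ g ∈ H, y (g a) ≠ g a := by
    intro a
    rcases em (y a ≠ a) with h | h
    · exact ⟨1, H.one_mem, by simpa using h⟩
    have hxa : x a ≠ a := (hU a).resolve_right h
    by_contra hne
    push Not at hne
    have hd : Disjoint (x.cycleOf a).support y.support := by
      rw [Finset.disjoint_left]
      intro z hz hzy
      obtain ⟨i, hi⟩ := (mem_support_cycleOf_iff.1 hz).1
      refine (Equiv.Perm.mem_support.1 hzy) ?_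
      have := hne (x ^ i) (H.zpow_mem hxH i)
      rwa [hi] at this
    have h1 := Finset.card_le_univ ((x.cycleOf a).support ∪ y.support)
    rw [Finset.card_union_of_disjoint hd, zpowers_eq_of_prime_order hp hx hxa, hys] at h1
    omega
  haveI : IsPretransitive H β := by
    refine IsPretransitive.mk fun a b => ?_
    obtain ⟨g, hg, hga⟩ := hreach a
    obtain ⟨k, hk, hkb⟩ := hreach b
    obtain ⟨i, hi⟩ := hy.sameCycle hga hkb
    refine ⟨⟨k⁻¹ * y ^ i * g, H.mul_mem (H.mul_mem (H.inv_mem hk) (H.zpow_mem hyH i)) hg⟩, ?_⟩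
    show (k⁻¹ * y ^ i * g) a = b
    rw [Perm.mul_apply, Perm.mul_apply, hi, Perm.inv_eq_iff_eq]
  have hq1 := hq.two_le
  obtain ⟨a, ha⟩ := Finset.card_pos.1 (show 0 < y.support.card by omega)
  refine IsPreprimitive.of_isTrivialBlock_base a fun {B} haB hB => ?_
  by_contra hnt
  rw [IsTrivialBlock, not_or] at hnt
  obtain ⟨hns, hnu⟩ := hnt
  let yH : H := ⟨y, hyH⟩
  have hB2 : 2 ≤ B.ncard := by
    rw [Nat.succ_le_iff, Set.one_lt_ncard_iff_nontrivial]
    exact Set.not_subsingleton_iff.1 hns
  have hdvd : B.ncard ∣ Nat.card β := hB.ncard_dvd_card ⟨a, haB⟩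
  rw [Nat.card_eq_fintype_card] at hdvd
  have hlt : 2 * B.ncard ≤ Fintype.card β := by
    obtain ⟨c, hc⟩ := hdvd
    rcases Nat.lt_or_ge c 2 with h | h
    · have : c = 1 := by
        have := Fintype.card_pos_iff.2 ⟨a⟩
        rcases c with _ | _ | c <;> simp_all
      subst this
      refine absurd (Set.eq_univ_of_forall fun z => ?_) hnu
      have : B = Set.univ := Set.eq_of_subset_of_ncard_le (Set.subset_univ _)
        (by rw [Set.ncard_univ, Nat.card_eq_fintype_card, hc, mul_one]) Set.finite_univ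
      rw [this]; trivial
    · rw [hc, mul_comm 2]; exact Nat.mul_le_mul_left _ h
  by_cases hyB : yH • B = B
  · have hsub : (y.support : Set β) ⊆ B := by
      intro z hz
      obtain ⟨i, hi⟩ := hy.sameCycle (Equiv.Perm.mem_support.1 ha) (Equiv.Perm.mem_support.1 hz)
      have : yH ^ i • B = B := smul_eq_self_of_mem_zpowers ⟨i, rfl⟩ hyB
      rw [← this, Set.mem_smul_set]
      exact ⟨a, haB, by rw [← hi]; rfl⟩
    have := Set.ncard_le_ncard hsub (Set.toFinite B)
    rw [Set.ncard_coe_finset, hys] at this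
    omega
  · -- `q` pairwise disjoint translates of `B`
    have hord : orderOf yH = q := by rw [Subgroup.orderOf_mk, hy.orderOf, hys]
    have hdis : Set.PairwiseDisjoint (↑(Finset.range q) : Set ℕ) fun i => yH ^ i • B := by
      intro i hi j hj hij
      refine (hB.smul_eq_smul_or_disjoint (yH ^ i) (yH ^ j)).resolve_left fun he => hyB ?_
      simp only [Finset.coe_range, Set.mem_Iio] at hi hj
      have h1 : ((yH ^ j)⁻¹ * yH ^ i) ∈ stabilizer H B := by
        rw [mem_stabilizer_iff, mul_smul, he, inv_smul_smul]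
      rw [← zpow_natCast, ← zpow_natCast, ← zpow_neg, ← zpow_add] at h1
      have hp1 : IsCoprime (-(j : ℤ) + i) (q : ℤ) := by
        apply IsCoprime.symm
        refine ((Nat.prime_iff_prime_int.1 hq).coprime_iff_not_dvd).2 fun hd => hij ?_
        have := Int.eq_zero_of_abs_lt_dvd hd (by rw [abs_lt]; omega)
        omega
      obtain ⟨u, v, huv⟩ := hp1
      have h2 := (stabilizer H B).zpow_mem h1 u
      rw [← zpow_mul] at h2
      have h3 : yH = yH ^ ((-(j : ℤ) + i) * u) := by
        have h4 : yH ^ (v * (q : ℤ)) = 1 := by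
          rw [mul_comm, zpow_mul, zpow_natCast, ← hord, pow_orderOf_eq_one, one_zpow]
        calc yH = yH ^ (u * (-(j : ℤ) + i) + v * (q : ℤ)) := by rw [huv, zpow_one]
          _ = _ := by rw [zpow_add, h4, mul_one, mul_comm u]
      rw [← h3] at h2
      exact h2
    have h1 := (Finset.range q).card_nsmul_le_sum (fun i => (yH ^ i • B).ncard) 2
      fun i _ => by rw [Set.ncard_smul_set]; exact hB2
    have h2 : ∑ i ∈ Finset.range q, (yH ^ i • B).ncard ≤ Fintype.card β := by
      have hcard : ∀ i, (yH ^ i • B).ncard = (yH ^ i • B).toFinset.card := fun i =>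
        Set.ncard_eq_toFinset_card' _
      simp only [hcard]
      rw [← Finset.card_biUnion]
      · exact Finset.card_le_univ _
      · intro i hi j hj hij
        rw [Function.onFun, Set.disjoint_toFinset]
        exact hdis hi hj hij
    simp only [Finset.card_range, smul_eq_mul] at h1
    omega

theorem exists_triple {G : Subgroup (Perm β)} (hG : IsMultiplyPretransitive G β 3)
    {a b c a' b' c' : β} (hab : a ≠ b) (hac : a ≠ c) (hbc : b ≠ c) (hab' : a' ≠ b') (hac' : a' ≠ c')
    (hbc' : b' ≠ c') : ∃ g ∈ G, g a = a' ∧ g b = b' ∧ g c = c' := by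
  have hinj : ∀ {u v w : β}, u ≠ v → u ≠ w → v ≠ w → Function.Injective ![u, v, w] := by
    intro u v w h1 h2 h3 i j
    fin_cases i <;> fin_cases j <;> simp [h1, h2, h3, h1.symm, h2.symm, h3.symm]
  obtain ⟨g, hg⟩ := MulAction.isMultiplyPretransitive_iff.1 hG
    ⟨![a, b, c], hinj hab hac hbc⟩ ⟨![a', b', c'], hinj hab' hac' hbc'⟩
  exact ⟨g, g.2, DFunLike.congr_fun hg 0, DFunLike.congr_fun hg 1, DFunLike.congr_fun hg 2⟩

theorem three_transitive_of_cycle {G : Subgroup (Perm β)} (hG : IsPreprimitive G β) {p : ℕ}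
    (hp : p.Prime) (h5 : 4 ≤ Fintype.card β) {g : Perm β} (hgc : g.IsCycle)
    (hgp : g.support.card = p) (hd : Fintype.card β = p + 2) (hg : g ∈ G) :
    IsMultiplyPretransitive G β 3 := by
  classical
  have h1 : ((g.support : Set β)ᶜ).ncard = 1 + 1 := by
    rw [← Finset.coe_compl, Set.ncard_coe_finset, Finset.card_compl, hgp, hd]; omega
  haveI := Equiv.Perm.isPretransitive_of_isCycle_mem hgc hg
  have h2 : IsPreprimitive (fixingSubgroup G ((g.support : Set β)ᶜ))
      (SubMulAction.ofFixingSubgroup G ((g.support : Set β)ᶜ)) := by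
    apply IsPreprimitive.of_prime_card
    convert! hp
    rw [Nat.card_eq_fintype_card, Fintype.card_subtype, ← hgp]
    apply congr_arg
    ext x
    simp [SubMulAction.mem_ofFixingSubgroup_iff]
  haveI := hG.isMultiplyPreprimitive h1 (by rw [Nat.card_eq_fintype_card]; omega) h2
  exact MulAction.IsMultiplyPreprimitive.isMultiplyPretransitive ..

theorem sign_invol {σ : Perm β} (h : σ ^ 2 = 1) : sign σ = (-1 : ℤˣ) ^ (σ.support.card / 2) := by
  have hn : ∀ n ∈ σ.cycleType, n = 2 := fun n hn =>
    le_antisymm (Nat.le_of_dvd two_pos ((dvd_of_mem_cycleType hn).trans (orderOf_dvd_of_pow_eq_one h)))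
      (two_le_of_mem_cycleType hn)
  have he := Multiset.eq_replicate_card.2 hn
  rw [sign_of_cycleType, ← sum_cycleType, he, Multiset.sum_replicate, Multiset.card_replicate,
    smul_eq_mul, pow_add, pow_mul', Int.units_sq, one_pow, one_mul, Nat.mul_div_cancel _ two_pos]

theorem invol_support {σ : Perm β} {d k : ℕ} (hd : Fintype.card β = d)
    (hk : (Finset.univ.filter fun a => σ a = a).card = k) : σ.support.card = d - k := by
  have h := Finset.card_filter_add_card_filter_not (s := (Finset.univ : Finset β))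
    (fun a => σ a = a)
  rw [Finset.card_univ, hd, hk] at h
  have : σ.support = Finset.univ.filter fun a => ¬ σ a = a := by ext; simp
  rw [this]; omega

/-- A subgroup of small index of an alternating group is the whole group. -/
theorem alternating_le_of_index {G : Subgroup (Perm β)} (h5 : 5 ≤ Fintype.card β)
    (hsmall : (G.subgroupOf (alternatingGroup β)).index.factorial < Nat.card (alternatingGroup β)) :
    alternatingGroup β ≤ G := by
  haveI : IsSimpleGroup (alternatingGroup β) :=
    alternatingGroup.isSimpleGroup (by rw [Nat.card_eq_fintype_card]; omega)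
  set K := G.subgroupOf (alternatingGroup β) with hK
  rcases (MonoidHom.normal_ker (MulAction.toPermHom (alternatingGroup β)
    (alternatingGroup β ⧸ K))).eq_bot_or_eq_top with h | h
  · exfalso
    have hinj := (MonoidHom.ker_eq_bot_iff _).1 h
    have := Nat.card_le_card_of_injective _ hinj
    rw [Nat.card_perm] at this
    change _ ≤ K.index.factorial at this
    omega
  · intro z hz
    have h1 := h.ge (mem_top (⟨z, hz⟩ : alternatingGroup β))
    rw [← normalCore_eq_ker] at h1
    exact normalCore_le K h1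

theorem card_alternating {d : ℕ} (hd : Fintype.card β = d) (h2 : 2 ≤ d) :
    2 * Nat.card (alternatingGroup β) = d.factorial := by
  haveI : Nontrivial β := Fintype.one_lt_card_iff_nontrivial.1 (by omega)
  rw [two_mul_nat_card_alternatingGroup, Nat.card_perm, Nat.card_eq_fintype_card (α := β), hd]

/-- The even permutations fixing everything outside `U` form an alternating group. -/
theorem equiv_alternating_supported {γ : Type*} [Fintype γ] [DecidableEq γ] (U : Finset γ)
    {S : Subgroup (Perm γ)} (hS : ∀ σ, σ ∈ S ↔ sign σ = 1 ∧ ∀ z ∉ U, σ z = z) :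
    Nonempty (S ≃* alternatingGroup (Fin U.card)) := by
  have hmap : (alternatingGroup {z // z ∈ U}).map (ofSubtype : Perm {z // z ∈ U} →* Perm γ) = S := by
    ext σ
    rw [hS, Subgroup.mem_map]
    refine ⟨?_, fun ⟨h1, h2⟩ => ?_⟩
    · rintro ⟨τ, hτ, rfl⟩
      exact ⟨by rw [sign_ofSubtype]; exact hτ, fun z hz => ofSubtype_apply_of_not_mem τ hz⟩
    · have hp : ∀ z, σ z ∈ U ↔ z ∈ U := fun z => by
        refine ⟨fun h => ?_, fun h => ?_⟩
        · by_contra hz; rw [h2 z hz] at h; exact hz h
        · by_contra hz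
          exact hz (by rwa [σ.injective (h2 _ hz)])
      have he := ofSubtype_subtypePerm hp (fun z hz => by by_contra h; exact hz (h2 z h))
      refine ⟨σ.subtypePerm hp, ?_, he⟩
      rw [mem_alternatingGroup, ← sign_ofSubtype, he, h1]
  refine ⟨((MulEquiv.subgroupCongr hmap).symm.trans (equivMapOfInjective _ _
    ofSubtype_injective).symm).trans (Equiv.altCongrHom (U.equivFin))⟩

set_option maxHeartbeats 800000 in
theorem card_of_six {G : Subgroup (Perm β)} (hA : G ≤ alternatingGroup β)
    (hG : IsPreprimitive G β) (hd : Fintype.card β = 6) {g : Perm β} (hgc : g.IsCycle)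
    (hgp : g.support.card = 5) (hg : g ∈ G) :
    G = alternatingGroup β ∨ Nonempty (G ≃* alternatingGroup (Fin 5)) := by
  classical
  by_cases hle : alternatingGroup β ≤ G
  · exact Or.inl (le_antisymm hA hle)
  refine Or.inr ?_
  have hAc := card_alternating hd (by norm_num)
  rw [show Nat.factorial 6 = 720 by rfl] at hAc
  set K := G.subgroupOf (alternatingGroup β) with hK
  have hidx : 6 ≤ K.index := by
    by_contra h
    refine hle (alternating_le_of_index (by omega) (lt_of_le_of_lt (Nat.factorial_le (n := 5) ?_) ?_))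
    · rw [← hK]; omega
    · rw [show Nat.factorial 5 = 120 by rfl]; omega
  have hmul := K.card_mul_index
  rw [hK, Nat.card_congr (subgroupOfEquivOfLe hA).toEquiv, ← hK] at hmul
  haveI : Fact (Nat.Prime 5) := ⟨by norm_num⟩
  have h5 : 5 ∣ Nat.card G := by
    have e : orderOf (⟨g, hg⟩ : G) = 5 := (Subgroup.orderOf_mk g hg).trans (hgc.orderOf.trans hgp)
    rw [← e]; exact orderOf_dvd_natCard _
  obtain ⟨a⟩ : Nonempty β := Fintype.card_pos_iff.1 (by omega)
  have horb := Nat.card_congr (orbitProdStabilizerEquivGroup G a)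
  rw [Nat.card_prod, MulAction.orbit_eq_univ G a, Nat.card_univ, Nat.card_eq_fintype_card (α := β),
    hd] at horb
  have h60 : Nat.card G = 60 := by
    have hle' : Nat.card G ≤ 60 := by
      by_contra h
      have := Nat.mul_le_mul (show 61 ≤ Nat.card G by omega) hidx
      omega
    rcases (show Nat.card G = 30 ∨ Nat.card G = 60 by
      obtain ⟨k, hk⟩ := h5
      have : 1 ≤ Nat.card G := Nat.card_pos
      omega) with h | h
    · exfalso
      haveI : Fact (Nat.Prime 2) := ⟨by norm_num⟩
      obtain ⟨t, ht⟩ := exists_prime_orderOf_dvd_card' (G := G) 2 (by rw [h]; norm_num)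
      have ht2 : (t : Perm β) ^ 2 = 1 := by
        rw [← Subgroup.coe_pow, ← ht, pow_orderOf_eq_one, Subgroup.coe_one]
      by_cases hf : ∃ c, (t : Perm β) c = c
      · obtain ⟨c, hc⟩ := hf
        have hc' := Nat.card_congr (orbitProdStabilizerEquivGroup G c)
        rw [Nat.card_prod, MulAction.orbit_eq_univ G c, Nat.card_univ,
          Nat.card_eq_fintype_card (α := β), hd, h] at hc'
        have hd2 : orderOf t ∣ Nat.card (stabilizer G c) := by
          have := orderOf_dvd_natCard (⟨t, hc⟩ : stabilizer G c)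
          rwa [← Subgroup.orderOf_coe] at this
        rw [ht, show Nat.card (stabilizer G c) = 5 by omega] at hd2
        norm_num at hd2
      · push Not at hf
        have hs := sign_invol ht2
        rw [invol_support hd (k := 0) (by simp [hf]), mem_alternatingGroup.1 (hA t.2)] at hs
        exact absurd hs (by decide)
    · exact h
  have hi6 : K.index = 6 := by
    rw [h60] at hmul; omega
  -- `G` is a point stabiliser in the action on its six cosets
  let φ : alternatingGroup β →* Perm (alternatingGroup β ⧸ K) :=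
    MulAction.toPermHom (alternatingGroup β) (alternatingGroup β ⧸ K)
  haveI : IsSimpleGroup (alternatingGroup β) :=
    alternatingGroup.isSimpleGroup (by rw [Nat.card_eq_fintype_card]; omega)
  have hinj : Function.Injective φ := by
    rcases (MonoidHom.normal_ker φ).eq_bot_or_eq_top with h | h
    · exact (MonoidHom.ker_eq_bot_iff φ).1 h
    · exfalso
      rw [← normalCore_eq_ker] at h
      have : K = ⊤ := top_le_iff.1 (h ▸ normalCore_le K)
      rw [this, index_top] at hi6
      omega
  haveI : Fintype (alternatingGroup β ⧸ K) := Fintype.ofFinite _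
  have hQ : Fintype.card (alternatingGroup β ⧸ K) = 6 := by
    rw [← Nat.card_eq_fintype_card]; exact hi6
  have hrange : φ.range = alternatingGroup (alternatingGroup β ⧸ K) := by
    apply Equiv.Perm.eq_alternatingGroup_of_index_eq_two
    have h1 := φ.range.card_mul_index
    rw [Nat.card_congr (MonoidHom.ofInjective hinj).toEquiv.symm, Nat.card_perm,
      Nat.card_eq_fintype_card (α := alternatingGroup β ⧸ K), hQ,
      show Nat.factorial 6 = 720 by rfl] at h1
    rw [show Nat.card (alternatingGroup β) = 360 by omega] at h1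
    omega
  set q0 : alternatingGroup β ⧸ K := ((1 : alternatingGroup β) : alternatingGroup β ⧸ K) with hq0
  have hS : ∀ σ, σ ∈ K.map φ ↔ sign σ = 1 ∧ ∀ z ∉ (Finset.univ.erase q0), σ z = z := by
    intro σ
    have hfix : (∀ z ∉ (Finset.univ.erase q0), σ z = z) ↔ σ q0 = q0 :=
      ⟨fun h => h q0 (by simp), fun h z hz => by
        obtain rfl : z = q0 := by simpa using hz
        exact h⟩
    rw [hfix, ← mem_alternatingGroup, ← hrange, Subgroup.mem_map]
    have key : ∀ k : alternatingGroup β, φ k q0 = q0 ↔ k ∈ K := fun k => by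
      show k • q0 = q0 ↔ k ∈ K
      rw [hq0, MulAction.Quotient.smul_coe, smul_eq_mul, mul_one, eq_comm, QuotientGroup.eq]
      simp
    refine ⟨?_, ?_⟩
    · rintro ⟨k, hk, rfl⟩
      exact ⟨⟨k, rfl⟩, (key k).2 hk⟩
    · rintro ⟨⟨k, rfl⟩, hk⟩
      exact ⟨k, (key k).1 hk, rfl⟩
  obtain ⟨e⟩ := equiv_alternating_supported _ hS
  have hc5 : (Finset.univ.erase q0).card = 5 := by
    rw [Finset.card_erase_of_mem (Finset.mem_univ _), Finset.card_univ, hQ]
  exact ⟨((subgroupOfEquivOfLe hA).symm.trans (equivMapOfInjective K φ hinj)).trans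
    (e.trans (Equiv.altCongrHom (finCongr hc5)))⟩

theorem twin_five {G : Subgroup (Perm β)} (hA : G ≤ alternatingGroup β)
    (hG : IsPreprimitive G β) (hd : Fintype.card β = 7) {g : Perm β} (hgc : g.IsCycle)
    (hgp : g.support.card = 5) (hg : g ∈ G) : alternatingGroup β ≤ G := by
  classical
  have h3 := three_transitive_of_cycle hG (by norm_num) (by omega) hgc hgp (by omega) hg
  obtain ⟨s, hs⟩ : ∃ s : Finset β, s.card = 3 :=
    (Finset.exists_subset_card_eq (s := (Finset.univ : Finset β)) (n := 3) (by simp [hd])).imp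
      fun s h => h.2
  obtain ⟨a, b, c, hab, hac, hbc, -⟩ := Finset.card_eq_three.1 hs
  obtain ⟨t, htG, hta, htb, htc⟩ := exists_triple h3 hab hac hbc hab.symm hbc hac
  have hex : ∃ u ∈ G, u ≠ 1 ∧ ∃ a b c, a ≠ b ∧ a ≠ c ∧ b ≠ c ∧ u a = a ∧ u b = b ∧ u c = c := by
    by_cases ht2 : t ^ 2 = 1
    · by_cases hf : 2 ≤ (Finset.univ.filter fun z => t z = z).card
      · refine ⟨t, htG, fun h => hab (by rw [h] at hta; simpa using hta), ?_⟩
        have heven : Even t.support.card := even_iff_two_dvd.2 (two_dvd_card_support ht2)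
        have h3 : 3 ≤ (Finset.univ.filter fun z => t z = z).card := by
          by_contra h
          rw [invol_support hd (show _ = 2 by omega)] at heven
          exact absurd heven (by decide)
        obtain ⟨x, y, z, hx, hy, hz, hxy, hxz, hyz⟩ := Finset.two_lt_card_iff.1 h3
        simp only [Finset.mem_filter, Finset.mem_univ, true_and] at hx hy hz
        exact ⟨x, y, z, hxy, hxz, hyz, hx, hy, hz⟩
      · have h1 : (Finset.univ.filter fun z => t z = z).card = 1 := by
          have hc : c ∈ Finset.univ.filter fun z => t z = z := by simp [htc]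
          have := Finset.card_pos.2 ⟨c, hc⟩
          omega
        have hs := sign_invol ht2
        rw [invol_support hd h1, mem_alternatingGroup.1 (hA htG)] at hs
        exact absurd hs (by decide)
    · refine ⟨t ^ 2, G.pow_mem htG 2, ht2, a, b, c, hab, hac, hbc, ?_, ?_, ?_⟩ <;>
        simp [pow_two, hta, htb, htc]
  obtain ⟨u, huG, hu1, a, b, c, hab, hac, hbc, hua, hub, huc⟩ := hex
  have hinj : Function.Injective ![a, b, c] := by
    intro i j
    fin_cases i <;> fin_cases j <;> simp [hab, hac, hbc, hab.symm, hac.symm, hbc.symm]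
  let e : Fin 3 ↪ β := ⟨![a, b, c], hinj⟩
  have hst : 2 ≤ Nat.card (stabilizer G e) := by
    haveI : Nontrivial (stabilizer G e) := ⟨⟨⟨⟨u, huG⟩, by
      ext i; fin_cases i <;> assumption⟩, 1, fun h => hu1 (congrArg (fun z : stabilizer G e => (z : Perm β)) h)⟩⟩
    exact Finite.one_lt_card
  have horb : Nat.card (orbit G e) = 210 := by
    have hu : orbit G e = Set.univ := Set.eq_univ_of_forall fun f =>
      MulAction.isMultiplyPretransitive_iff.1 h3 e f
    rw [hu, Nat.card_univ, Nat.card_eq_fintype_card, Fintype.card_embedding_eq, hd,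
      Fintype.card_fin]
    rfl
  have hGc : 420 ≤ Nat.card G := by
    have h1 := Nat.card_congr (orbitProdStabilizerEquivGroup G e)
    rw [Nat.card_prod] at h1
    exact (Nat.mul_le_mul horb.ge hst).trans h1.le
  have hAc := card_alternating hd (by norm_num)
  have hmul := (G.subgroupOf (alternatingGroup β)).card_mul_index
  rw [Nat.card_congr (subgroupOfEquivOfLe hA).toEquiv] at hmul
  rw [show Nat.factorial 7 = 5040 by rfl] at hAc
  refine alternating_le_of_index (by omega) (lt_of_le_of_lt (Nat.factorial_le (n := 6) ?_) ?_)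
  · nlinarith
  · rw [show Nat.factorial 6 = 720 by rfl]; omega

/-- Burnside: a subgroup containing a cycle `g` of prime length `r` in which only powers of `g`
normalise `⟨g⟩` has a normal subgroup of index `r` (if `r` divides its order exactly once). -/
theorem complement_of_self_normalizing {M : Subgroup (Perm β)} {r : ℕ} (hr : r.Prime) {g : Perm β}
    (hgr : orderOf g = r) (hg : g ∈ M) (hsq : ¬ r ^ 2 ∣ Nat.card M)
    (hN : ∀ h ∈ M, h * g * h⁻¹ ∈ zpowers g → h ∈ zpowers g) :
    ∃ K ≤ M, Nat.card K * r = Nat.card M ∧ (∀ m ∈ M, ∀ k ∈ K, m * k * m⁻¹ ∈ K) ∧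
      ∀ m ∈ M, (orderOf m).Coprime r → m ∈ K := by
  haveI : Fact r.Prime := ⟨hr⟩
  let gM : M := ⟨g, hg⟩
  have hgo : orderOf gM = r := (Subgroup.orderOf_mk g hg).trans hgr
  have hrd : r ∣ Nat.card M := hgo ▸ orderOf_dvd_natCard gM
  have hf : (Nat.card M).factorization r = 1 := by
    refine le_antisymm ?_ (hr.factorization_pos_of_dvd Nat.card_pos.ne' hrd)
    by_contra h
    exact hsq ((pow_dvd_pow r (show 2 ≤ (Nat.card M).factorization r by omega)).trans
      (Nat.ordProj_dvd _ r))
  let P : Sylow r M := Sylow.ofCard (zpowers gM) (by rw [Nat.card_zpowers, hgo, hf, pow_one])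
  have hP : (P : Subgroup M) = zpowers gM := rfl
  have hle : normalizer ((P : Subgroup M) : Set M) ≤ centralizer ((P : Subgroup M) : Set M) := by
    intro h hh
    have h1 : h * gM * h⁻¹ ∈ zpowers gM :=
      hP ▸ (mem_normalizer_iff.1 hh gM).1 (hP ▸ mem_zpowers gM)
    obtain ⟨i, hi⟩ := h1
    have h2 := hN h h.2 ⟨i, by simpa [gM] using congrArg Subtype.val hi⟩
    obtain ⟨j, hj⟩ := h2
    have hjM : h = gM ^ j := Subtype.ext (by rw [SubgroupClass.coe_zpow]; exact hj.symm)
    rw [hjM, mem_centralizer_iff]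
    rintro z ⟨l, rfl⟩
    exact (Commute.zpow_zpow (Commute.refl gM) l j).eq
  obtain ⟨K, hKn, hc⟩ : ∃ K : Subgroup M, K.Normal ∧ K.IsComplement' (P : Subgroup M) :=
    ⟨_, MonoidHom.normal_ker _, MonoidHom.ker_transferSylow_isComplement' P hle⟩
  have hidx : K.index = r := by
    have h := hc.symm.index_eq_card
    rwa [hP, Nat.card_zpowers, hgo] at h
  refine ⟨K.map M.subtype, map_subtype_le K, ?_, ?_, ?_⟩
  · rw [Nat.card_congr (equivMapOfInjective K M.subtype M.subtype_injective).toEquiv.symm, ← hidx]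
    exact K.card_mul_index
  · rintro m hm _ ⟨k, hk, rfl⟩
    exact ⟨⟨m, hm⟩ * k * ⟨m, hm⟩⁻¹, hKn.conj_mem k hk ⟨m, hm⟩, rfl⟩
  · intro m hm hco
    refine ⟨⟨m, hm⟩, ?_, rfl⟩
    show (⟨m, hm⟩ : M) ∈ K
    rw [← QuotientGroup.eq_one_iff, ← orderOf_eq_one_iff]
    refine Nat.eq_one_of_dvd_coprimes hco ?_ ?_
    · have := orderOf_map_dvd (QuotientGroup.mk' K) (⟨m, hm⟩ : M)
      rwa [Subgroup.orderOf_mk] at this
    · exact hidx ▸ orderOf_dvd_natCard _

theorem pow_apply_inj {g : Perm β} (hgc : g.IsCycle) {c : β} (hc : g c ≠ c) {i j : ℕ}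
    (h : (g ^ i) c = (g ^ j) c) : i ≡ j [MOD g.support.card] := by
  have := (hgc.pow_eq_pow_iff (a := i) (b := j)).2 ⟨c, hc, h⟩
  rwa [pow_eq_pow_iff_modEq, hgc.orderOf] at this

theorem conj_apply_pow {g σ : Perm β} {k : ℕ} (hk : σ * g * σ⁻¹ = g ^ k) {c : β} (hc : σ c = c)
    (j : ℕ) : σ ((g ^ j) c) = (g ^ (k * j)) c := by
  rw [pow_mul, ← hk, conj_pow, Perm.mul_apply, Perm.mul_apply,
    show σ⁻¹ c = c by rw [Perm.inv_eq_iff_eq, hc]]

theorem fix_set_of_cycle {g : Perm β} (hgc : g.IsCycle) {r : ℕ} (hr : r.Prime)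
    (hgr : g.support.card = r) {σ : Perm β} {k : ℕ} (hk : σ * g * σ⁻¹ = g ^ k) {c : β}
    (hcS : g c ≠ c) (hc : σ c = c) (hout : ∀ z, g z = z → σ z = z) (hne : σ ≠ 1) :
    ∀ z, σ z = z ↔ (g z = z ∨ z = c) := by
  have hk1 : ¬ k ≡ 1 [MOD r] := by
    intro h1
    have hco : σ * g * σ⁻¹ = g := by
      rw [hk]
      conv_rhs => rw [← pow_one g]
      rwa [pow_eq_pow_iff_modEq, hgc.orderOf, hgr]
    refine hne (Equiv.ext fun z => ?_)
    by_cases hz : g z = z
    · exact hout z hz
    · obtain ⟨i, hi⟩ := hgc.exists_pow_eq hcS hz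
      rw [← hi, conj_apply_pow (k := 1) (by rw [hco, pow_one]) hc, one_mul]
      rfl
  intro z
  refine ⟨fun hz => ?_, fun h => ?_⟩
  · by_cases hgz : g z = z
    · exact Or.inl hgz
    refine Or.inr ?_
    obtain ⟨i, hi⟩ := hgc.exists_pow_eq hcS hgz
    rw [← hi, conj_apply_pow hk hc] at hz
    have hm := pow_apply_inj hgc hcS hz
    rw [hgr] at hm
    have hri : r ∣ i := by
      by_contra hri
      refine hk1 (Nat.ModEq.cancel_right_of_coprime (c := i) ?_ (by rwa [one_mul]))
      rw [Nat.gcd_comm]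
      exact (Nat.coprime_comm.1 ((hr.coprime_iff_not_dvd).2 hri))
    rw [← hi, ← pow_mod_orderOf, hgc.orderOf, hgr, Nat.mod_eq_zero_of_dvd hri]
    rfl
  · rcases h with h | rfl
    · exact hout z h
    · exact hc

theorem eq_one_of_commute_cycle {g σ : Perm β} (hgc : g.IsCycle) (h : σ * g * σ⁻¹ = g) {c : β}
    (hcS : g c ≠ c) (hc : σ c = c) (hout : ∀ z, g z = z → σ z = z) : σ = 1 := by
  refine Equiv.ext fun z => ?_
  by_cases hz : g z = z
  · exact hout z hz
  · obtain ⟨i, hi⟩ := hgc.exists_pow_eq hcS hz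
    rw [← hi, conj_apply_pow (k := 1) (by rw [h, pow_one]) hc, one_mul]
    rfl

/-- In a 3-transitive even group of degree 13 with an 11-cycle some element of order 5 fixes
exactly three points. -/
theorem exists_order_five {G : Subgroup (Perm β)} (hA : G ≤ alternatingGroup β)
    (hd : Fintype.card β = 13) (h3 : IsMultiplyPretransitive G β 3) {g : Perm β} (hgc : g.IsCycle)
    (hgp : g.support.card = 11) (hg : g ∈ G) :
    ∃ u ∈ G, orderOf u = 5 ∧ (Finset.univ.filter fun z => u z = z).card = 3 := by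
  classical
  have hF : (Finset.univ.filter fun z => g z = z).card = 2 := by
    have h := Finset.card_filter_add_card_filter_not (s := (Finset.univ : Finset β))
      (fun a => g a = a)
    have e : g.support = Finset.univ.filter fun a => ¬ g a = a := by ext; simp
    rw [Finset.card_univ, hd, ← e, hgp] at h
    omega
  obtain ⟨a, b, hab, hFe⟩ := Finset.card_eq_two.1 hF
  have hfix : ∀ z, g z = z ↔ z = a ∨ z = b := fun z => by
    have := Finset.ext_iff.1 hFe z
    simpa using this
  have hgo : orderOf g = 11 := hgc.orderOf.trans hgp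
  set H : Subgroup (Perm β) := G ⊓ stabilizer (Perm β) a ⊓ stabilizer (Perm β) b with hH
  have hmem : ∀ h, h ∈ H ↔ h ∈ G ∧ h a = a ∧ h b = b := fun h => by
    simp [hH, and_assoc]
  have hgH : g ∈ H := (hmem g).2 ⟨hg, (hfix a).2 (Or.inl rfl), (hfix b).2 (Or.inr rfl)⟩
  have hout : ∀ h ∈ H, ∀ z, g z = z → h z = z := fun h hh z hz => by
    rcases (hfix z).1 hz with rfl | rfl
    · exact ((hmem h).1 hh).2.1
    · exact ((hmem h).1 hh).2.2
  obtain ⟨c, hcS⟩ := Finset.card_pos.1 (show 0 < g.support.card by omega)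
  rw [Equiv.Perm.mem_support] at hcS
  have hac : a ≠ c := fun h => hcS ((hfix c).2 (Or.inl h.symm))
  have hbc : b ≠ c := fun h => hcS ((hfix c).2 (Or.inr h.symm))
  by_cases hN : ∀ h ∈ H, h * g * h⁻¹ ∈ zpowers g → h ∈ zpowers g
  · exfalso
    have hHsq : ¬ 11 ^ 2 ∣ Nat.card H := by
      intro h2
      have hinj : Function.Injective (fun h : H => ((h : Perm β).subtypePerm
          (p := fun z => g z ≠ z) (fun z => by
            refine ⟨fun h1 h2 => h1 (by rwa [hout h h.2 z h2]), fun h1 h2 => h1 ?_⟩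
            have := hout h h.2 _ h2
            rwa [(h : Perm β).injective this] at h2) : Perm {z // g z ≠ z})) := by
        intro x y hxy
        refine Subtype.ext (Equiv.ext fun z => ?_)
        by_cases hz : g z = z
        · rw [hout x x.2 z hz, hout y y.2 z hz]
        · exact congrArg Subtype.val (Equiv.congr_fun hxy ⟨z, hz⟩)
      let r : H →* Perm {z // g z ≠ z} :=
        { toFun := fun h => (h : Perm β).subtypePerm (p := fun z => g z ≠ z) (fun z => by
            refine ⟨fun h1 h2 => h1 (by rwa [hout h h.2 z h2]), fun h1 h2 => h1 ?_⟩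
            have := hout h h.2 _ h2
            rwa [(h : Perm β).injective this] at h2)
          map_one' := rfl
          map_mul' := fun _ _ => rfl }
      have hd11 := h2.trans (Subgroup.card_dvd_of_injective r hinj)
      have e : Nat.card {z // g z ≠ z} = 11 := by
        rw [Nat.card_eq_fintype_card, Fintype.card_subtype, ← hgp]
        congr 1
      rw [Nat.card_perm, e] at hd11
      norm_num [Nat.factorial] at hd11
    obtain ⟨K, hKH, hKc, hKn, hKm⟩ :=
      complement_of_self_normalizing (by norm_num) hgo hgH hHsq hN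
    -- the orbit of `c` under `K`
    have hK1 : ∀ k ∈ K, k c = c := by
      by_contra hne
      push Not at hne
      obtain ⟨k₀, hk₀, hk₀c⟩ := hne
      have hkS : ∀ k ∈ K, g (k c) ≠ k c := fun k hk h => by
        have h' := hout k (hKH hk) _ h
        rw [k.injective h'] at h
        exact hcS h
      let J : Set ℕ := {i | ∃ k ∈ K, k c = (g ^ i) c}
      have hadd : ∀ i ∈ J, ∀ j ∈ J, i + j ∈ J := by
        rintro i ⟨k, hk, hki⟩ j ⟨l, hl, hlj⟩
        refine ⟨(g ^ i * l * (g ^ i)⁻¹) * k,
          K.mul_mem (hKn _ (H.pow_mem hgH i) l hl) hk, ?_⟩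
        rw [Perm.mul_apply, hki, Perm.mul_apply, Perm.mul_apply, Perm.inv_def,
          Equiv.symm_apply_apply, hlj, pow_add]
        rfl
      obtain ⟨i₀, hi₀⟩ := hgc.exists_pow_eq hcS (hkS k₀ hk₀)
      have hi0 : ¬ 11 ∣ i₀ := fun hdv => hk₀c (by
        rw [← hi₀, ← pow_mod_orderOf, hgo, Nat.mod_eq_zero_of_dvd hdv]; rfl)
      have hall : ∀ m : ℕ, m * i₀ ∈ J := by
        intro m
        induction m with
        | zero => exact ⟨1, K.one_mem, by simp⟩
        | succ m ih => rw [add_one_mul]; exact hadd _ ih _ ⟨k₀, hk₀, hi₀.symm⟩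
      have hsurj : ∀ z, g z ≠ z → ∃ k : K, k • c = z := by
        intro z hz
        obtain ⟨j, hj⟩ := hgc.exists_pow_eq hcS hz
        obtain ⟨v, hv⟩ := Nat.exists_mul_mod_eq_one_of_coprime
          (((show Nat.Prime 11 by norm_num).coprime_iff_not_dvd).2 hi0).symm (by norm_num)
        obtain ⟨k, hk, hkz⟩ := hall (v * j)
        refine ⟨⟨k, hk⟩, ?_⟩
        show k c = z
        rw [hkz, ← hj, ← pow_mod_orderOf, hgo,
          show v * j * i₀ = i₀ * v * j by ring, Nat.mul_mod, hv.2, one_mul, Nat.mod_mod,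
          ← hgo, pow_mod_orderOf]
      have horb : orbit K c = {z | g z ≠ z} := Set.ext fun z =>
        ⟨fun ⟨k, hk⟩ => hk ▸ hkS k k.2, fun hz => hsurj z hz⟩
      have h11 : Nat.card (orbit K c) = 11 := by
        rw [Nat.card_congr (Equiv.setCongr horb), Nat.card_eq_fintype_card, Fintype.card_subtype,
          ← hgp]
        congr 1
      have hdvd : 11 ∣ Nat.card K := by
        have := Nat.card_congr (orbitProdStabilizerEquivGroup K c)
        rw [Nat.card_prod, h11] at this
        exact Dvd.intro _ this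
      have h2 := Nat.mul_dvd_mul_right hdvd 11
      rw [hKc] at h2
      exact hHsq (by rwa [pow_two])
    have hKbot : ∀ k ∈ K, k = 1 := by
      intro k hk
      refine Equiv.ext fun z => ?_
      by_cases hz : g z = z
      · exact hout k (hKH hk) z hz
      obtain ⟨i, hi⟩ := hgc.exists_pow_eq hcS hz
      have := hK1 _ (hKn _ (H.inv_mem (H.pow_mem hgH i)) k hk)
      rw [Perm.mul_apply, Perm.mul_apply, inv_inv, hi, Perm.inv_eq_iff_eq, hi] at this
      exact this
    have hHz : ∀ h ∈ H, h ∈ zpowers g := by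
      have hKc1 : Nat.card K = 1 := by
        rw [Subgroup.card_eq_one]
        exact (eq_bot_iff_forall K).2 hKbot
      intro h hh
      have : zpowers g = H := Subgroup.eq_of_le_of_card_ge (zpowers_le.2 hgH)
        (by rw [Nat.card_zpowers, hgo, ← hKc, hKc1])
      rwa [this]
    -- only the identity fixes three points
    have hG3 : ∀ h ∈ G, h a = a → h b = b → h c = c → h = 1 := by
      intro h hh ha hb hc
      have hhH := (hmem h).2 ⟨hh, ha, hb⟩
      obtain ⟨i, hi⟩ := hHz h hhH
      refine eq_one_of_commute_cycle hgc ?_ hcS hc (hout h hhH)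
      rw [← hi]; group
    -- the stabiliser of `a`
    set M : Subgroup (Perm β) := G ⊓ stabilizer (Perm β) a with hM
    have hMmem : ∀ h, h ∈ M ↔ h ∈ G ∧ h a = a := fun h => by simp [hM]
    let e : Fin 3 ↪ β := ⟨![a, b, c], by
      intro i j; fin_cases i <;> fin_cases j <;> simp [hab, hac, hbc, hab.symm, hac.symm, hbc.symm]⟩
    have hGc : Nat.card G = 1716 := by
      have hst : Nat.card (stabilizer G e) = 1 := by
        rw [Subgroup.card_eq_one]
        refine (eq_bot_iff_forall _).2 fun x hx => Subtype.ext ?_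
        have hx' : x • e = e := hx
        exact hG3 x x.2 (DFunLike.congr_fun hx' 0) (DFunLike.congr_fun hx' 1)
          (DFunLike.congr_fun hx' 2)
      have h1 := Nat.card_congr (orbitProdStabilizerEquivGroup G e)
      rw [Nat.card_prod] at h1
      have hu : orbit G e = Set.univ := Set.eq_univ_of_forall fun f =>
        MulAction.isMultiplyPretransitive_iff.1 h3 e f
      have h2 : Nat.card (orbit G e) = 1716 := by
        rw [hu, Nat.card_univ, Nat.card_eq_fintype_card, Fintype.card_embedding_eq, hd,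
          Fintype.card_fin]
        rfl
      exact h1.symm.trans ((congrArg₂ (· * ·) h2 hst).trans (by norm_num))
    have hMc : Nat.card M = 132 := by
      have h1 := Nat.card_congr (orbitProdStabilizerEquivGroup G a)
      have ht : orbit G a = Set.univ := Set.eq_univ_of_forall fun z => by
        by_cases hz : z = a
        · rw [hz]; exact mem_orbit_self a
        obtain ⟨w, hw⟩ : ∃ w, w ≠ a ∧ w ≠ z := by
          by_cases hzb : z = b
          · exact ⟨c, hac.symm, hzb ▸ hbc.symm⟩
          · exact ⟨b, hab.symm, Ne.symm hzb⟩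
        obtain ⟨t, ht, hta, -, -⟩ := exists_triple h3 hab hac hbc hz (Ne.symm hw.2) (Ne.symm hw.1)
        exact ⟨⟨t, ht⟩, hta⟩
      rw [Nat.card_prod, ht, Nat.card_univ, Nat.card_eq_fintype_card (α := β), hd, hGc] at h1
      let e' : stabilizer G a ≃ M :=
        { toFun := fun x => ⟨(x : Perm β), (hMmem _).2 ⟨x.1.2, x.2⟩⟩
          invFun := fun x => ⟨⟨x, ((hMmem _).1 x.2).1⟩, ((hMmem _).1 x.2).2⟩
          left_inv := fun _ => rfl
          right_inv := fun _ => rfl }
      rw [← Nat.card_congr e']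
      omega
    have hgM : g ∈ M := (hMmem g).2 ⟨hg, (hfix a).2 (Or.inl rfl)⟩
    have hNM : ∀ h ∈ M, h * g * h⁻¹ ∈ zpowers g → h ∈ zpowers g := by
      intro h hh hn
      have hb : g (h b) = h b := by
        have hs : ∀ z, (h * g * h⁻¹) z = z → g z = z := by
          obtain ⟨i, hi⟩ := hn
          intro z hz
          have h' : (h * g * h⁻¹) ∈ zpowers g := ⟨i, hi⟩
          have hgz : g ∈ zpowers (h * g * h⁻¹) := by
            have e : zpowers (h * g * h⁻¹) = zpowers g := Subgroup.eq_of_le_of_card_ge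
              (zpowers_le.2 h') (by
                rw [Nat.card_zpowers, Nat.card_zpowers, ← MulAut.conj_apply, MulEquiv.orderOf_eq])
            rw [e]; exact mem_zpowers g
          obtain ⟨l, hl⟩ := hgz
          rw [← hl]
          exact Equiv.Perm.zpow_apply_eq_self_of_apply_eq_self hz l
        refine hs _ ?_
        rw [Perm.mul_apply, Perm.mul_apply, Perm.inv_def, Equiv.symm_apply_apply,
          (hfix b).2 (Or.inr rfl)]
      rcases (hfix _).1 hb with h1 | h1
      · exact absurd (h.injective (h1.trans ((hMmem h).1 hh).2.symm)) hab.symm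
      · exact hHz h ((hmem h).2 ⟨((hMmem h).1 hh).1, ((hMmem h).1 hh).2, h1⟩)
    obtain ⟨L, hLM, hLc, hLn, hLm⟩ := complement_of_self_normalizing (by norm_num) hgo hgM
      (by rw [hMc]; norm_num) hNM
    rw [hMc] at hLc
    have hdist : ∀ x ∈ M, (orderOf x).Coprime 11 → x ≠ 1 →
        Function.Injective fun i : Fin 11 => g ^ (i : ℕ) * x * (g ^ (i : ℕ))⁻¹ := by
      intro x hx hco hx1 i j hij
      by_contra hne
      simp only at hij
      set n : ℕ := (j : ℕ) + 11 - i with hn
      have hn11 : ¬ 11 ∣ n := by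
        intro hd'
        refine hne (Fin.ext ?_)
        omega
      have hgn : g ^ (j : ℕ) = g ^ (i : ℕ) * g ^ n := by
        rw [← pow_add, pow_eq_pow_iff_modEq, hgo, show (i : ℕ) + n = j + 11 by omega]
        exact (Nat.ModEq.symm (Nat.add_modEq_right))
      have hcomm : Commute (g ^ n) x := by
        rw [hgn] at hij
        have h' : g ^ n * x * (g ^ n)⁻¹ = x := by
          calc g ^ n * x * (g ^ n)⁻¹
              = (g ^ (i : ℕ))⁻¹ * (g ^ (i : ℕ) * g ^ n * x * (g ^ (i : ℕ) * g ^ n)⁻¹) * g ^ (i : ℕ) := by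
                group
            _ = x := by rw [← hij]; group
        exact mul_inv_eq_iff_eq_mul.1 h'
      obtain ⟨v, hv⟩ := Nat.exists_mul_mod_eq_one_of_coprime
        (((show Nat.Prime 11 by norm_num).coprime_iff_not_dvd).2 hn11).symm (by norm_num)
      have hgx : Commute g x := by
        have h' := hcomm.pow_left v
        rwa [← pow_mul, ← pow_mod_orderOf, hgo, hv.2, pow_one] at h'
      have hxz : x ∈ zpowers g := hNM x hx (by
        rw [← hgx.eq, mul_inv_cancel_right]; exact mem_zpowers g)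
      exact hx1 (orderOf_eq_one_iff.1 (Nat.eq_one_of_dvd_coprimes hco dvd_rfl
        (hgo ▸ orderOf_dvd_of_mem_zpowers hxz)))
    haveI : Fact (Nat.Prime 2) := ⟨by norm_num⟩
    haveI : Fact (Nat.Prime 3) := ⟨by norm_num⟩
    obtain ⟨x, hx⟩ := exists_prime_orderOf_dvd_card' (G := M) 2 (by rw [hMc]; norm_num)
    obtain ⟨y, hy⟩ := exists_prime_orderOf_dvd_card' (G := M) 3 (by rw [hMc]; norm_num)
    rw [← Subgroup.orderOf_coe] at hx hy
    have hxL : (x : Perm β) ∈ L := hLm x x.2 (by rw [hx]; norm_num)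
    have hyL : (y : Perm β) ∈ L := hLm y y.2 (by rw [hy]; norm_num)
    have hf : Function.Injective (fun w : Fin 11 ⊕ Fin 11 => (Sum.elim
        (fun i : Fin 11 => (⟨g ^ (i : ℕ) * (x : Perm β) * (g ^ (i : ℕ))⁻¹,
          hLn _ (M.pow_mem hgM _) _ hxL⟩ : L))
        (fun i : Fin 11 => (⟨g ^ (i : ℕ) * (y : Perm β) * (g ^ (i : ℕ))⁻¹,
          hLn _ (M.pow_mem hgM _) _ hyL⟩ : L)) w)) := by
      have ho : ∀ i : ℕ, ∀ z : Perm β, orderOf (g ^ i * z * (g ^ i)⁻¹) = orderOf z := fun i z => by
        rw [← MulAut.conj_apply, MulEquiv.orderOf_eq]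
      rintro (i | i) (j | j) h <;> simp only [Sum.elim_inl, Sum.elim_inr, Subtype.mk.injEq] at h
      · rw [hdist x x.2 (by rw [hx]; norm_num) (fun h1 => by rw [h1, orderOf_one] at hx; omega) h]
      · have := congrArg orderOf h
        rw [ho, ho, hx, hy] at this
        omega
      · have := congrArg orderOf h
        rw [ho, ho, hx, hy] at this
        omega
      · rw [hdist y y.2 (by rw [hy]; norm_num) (fun h1 => by rw [h1, orderOf_one] at hy; omega) h]
    have := Nat.card_le_card_of_injective _ hf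
    rw [Nat.card_sum, Nat.card_eq_fintype_card, Fintype.card_fin] at this
    omega
  push Not at hN
  obtain ⟨h, hhH, hn, hnp⟩ := hN
  have hhc : g (h c) ≠ h c := fun hz => by
    have h' := hout h hhH _ hz
    rw [h.injective h'] at hz
    exact hcS hz
  obtain ⟨i, hi⟩ := hgc.exists_pow_eq hhc hcS
  set σ := g ^ i * h with hσ
  have hσH : σ ∈ H := H.mul_mem (H.pow_mem hgH i) hhH
  have hσc : σ c = c := hi
  have hσ1 : σ ≠ 1 := fun h1 => hnp (by
    rw [show h = (g ^ i)⁻¹ * σ by rw [hσ]; group, h1, mul_one]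
    exact Subgroup.inv_mem _ (pow_mem (mem_zpowers g) i))
  obtain ⟨k, hk0⟩ := mem_powers_iff_mem_zpowers.2 hn
  have hk : σ * g * σ⁻¹ = g ^ k := by
    calc σ * g * σ⁻¹ = g ^ i * (h * g * h⁻¹) * (g ^ i)⁻¹ := by rw [hσ]; group
      _ = g ^ i * g ^ k * (g ^ i)⁻¹ := by simp only at hk0; rw [hk0]
      _ = g ^ k := by rw [← pow_add, add_comm, pow_add, mul_inv_cancel_right]
  have hkpow : ∀ n : ℕ, σ ^ n * g * (σ ^ n)⁻¹ = g ^ (k ^ n) := by
    intro n
    induction n with
    | zero => simp
    | succ n ih =>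
      calc σ ^ (n + 1) * g * (σ ^ (n + 1))⁻¹ = σ * (σ ^ n * g * (σ ^ n)⁻¹) * σ⁻¹ := by
            rw [pow_succ']; group
        _ = (σ * g * σ⁻¹) ^ (k ^ n) := by rw [ih, conj_pow]
        _ = g ^ (k ^ (n + 1)) := by rw [hk, ← pow_mul, pow_succ']
  have hfixpow : ∀ n : ℕ, (σ ^ n) c = c := fun n =>
    Equiv.Perm.pow_apply_eq_self_of_apply_eq_self hσc n
  have hk11 : ¬ 11 ∣ k := fun hd => by
    have h1 : σ * g * σ⁻¹ = 1 := by
      rw [hk, ← orderOf_dvd_iff_pow_eq_one, hgo]; exact hd
    rw [conj_eq_one_iff] at h1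
    exact hgc.ne_one h1
  have h10 : σ ^ 10 = 1 := by
    refine eq_one_of_commute_cycle hgc ?_ hcS (hfixpow 10) (hout _ (H.pow_mem hσH 10))
    rw [hkpow]
    conv_rhs => rw [← pow_one g]
    rw [pow_eq_pow_iff_modEq, hgo]
    have := Nat.ModEq.pow_totient
      (((show Nat.Prime 11 by norm_num).coprime_iff_not_dvd).2 hk11).symm
    rwa [show Nat.totient 11 = 10 from Nat.totient_prime (by norm_num)] at this
  have h3set : ∀ τ : Perm β, ∀ m : ℕ, τ ∈ H → τ ≠ 1 → τ * g * τ⁻¹ = g ^ m → τ c = c →
      (Finset.univ.filter fun z => τ z = z).card = 3 := by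
    intro τ m hτ hτ1 hm hτc
    have := fix_set_of_cycle hgc (by norm_num) hgp hm hcS hτc (hout τ hτ) hτ1
    rw [show (Finset.univ.filter fun z => τ z = z) = {a, b, c} by
      ext z; simp [this z, hfix z, or_assoc]]
    rw [Finset.card_eq_three]
    exact ⟨a, b, c, hab, hac, hbc, rfl⟩
  have hσ2 : σ ^ 2 ≠ 1 := by
    intro h2
    have hs := sign_invol h2
    rw [invol_support hd (h3set σ k hσH hσ1 hk hσc),
      mem_alternatingGroup.1 (hA ((hmem σ).1 hσH).1)] at hs
    exact absurd hs (by decide)
  refine ⟨σ ^ 2, G.pow_mem ((hmem σ).1 hσH).1 2, ?_, ?_⟩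
  · haveI : Fact (Nat.Prime 5) := ⟨by norm_num⟩
    exact orderOf_eq_prime (by rw [← pow_mul]; exact h10) hσ2
  · exact h3set _ _ (H.pow_mem hσH 2) hσ2 (hkpow 2) (hfixpow 2)

theorem twin_eleven {G : Subgroup (Perm β)} (hA : G ≤ alternatingGroup β)
    (hG : IsPreprimitive G β) (hd : Fintype.card β = 13) {g : Perm β} (hgc : g.IsCycle)
    (hgp : g.support.card = 11) (hg : g ∈ G) : alternatingGroup β ≤ G := by
  classical
  have h3 := three_transitive_of_cycle hG (by norm_num) (by omega) hgc hgp (by omega) hg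
  obtain ⟨u, huG, huo, huF⟩ := exists_order_five hA hd h3 hgc hgp hg
  have hsupp : u.support.card = 10 := by rw [invol_support hd huF]
  obtain ⟨a, b, c, hab, hac, hbc, hFe⟩ := Finset.card_eq_three.1 huF
  have hfix : ∀ z, u z = z ↔ z = a ∨ z = b ∨ z = c := fun z => by
    have := Finset.ext_iff.1 hFe z
    simpa using this
  haveI : Fact (Nat.Prime 5) := ⟨by norm_num⟩
  have hct : u.cycleType = Multiset.replicate 2 5 := by
    obtain ⟨n, hn⟩ := cycleType_prime_order (σ := u) (by rw [huo]; norm_num)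
    rw [huo] at hn
    have := sum_cycleType u
    rw [hn, Multiset.sum_replicate, hsupp, smul_eq_mul] at this
    rw [hn, show n + 1 = 2 by omega]
  -- permutations fixing `a`, `b`, `c`
  set F : Subgroup (Perm β) :=
    stabilizer (Perm β) a ⊓ stabilizer (Perm β) b ⊓ stabilizer (Perm β) c with hF
  have hFmem : ∀ h, h ∈ F ↔ h a = a ∧ h b = b ∧ h c = c := fun h => by simp [hF, and_assoc]
  set C : Subgroup (Perm β) := centralizer {u} with hC
  have huF' : u ∈ F := (hFmem u).2 ⟨(hfix a).2 (by simp), (hfix b).2 (by simp), (hfix c).2 (by simp)⟩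
  -- the permutations commuting with `u` which fix `a`, `b`, `c` form a group of order 50
  have hC' : Nat.card (C ⊓ F : Subgroup (Perm β)) = 50 := by
    have hCc : Nat.card C = 300 := by
      rw [hC, nat_card_centralizer, hct, Multiset.sum_replicate, Multiset.prod_replicate,
        Multiset.toFinset_replicate, if_neg (by norm_num), Finset.prod_singleton,
        Multiset.count_replicate_self, hd]
      rfl
    let τ : Perm {z // u z = z} → Perm β := fun π => ofSubtype π
    have hτ : ∀ π, τ π * u = u * τ π := fun π => by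
      refine (Equiv.Perm.Disjoint.commute fun z => ?_).eq
      by_cases hz : u z = z
      · exact Or.inr hz
      · exact Or.inl (ofSubtype_apply_of_not_mem π hz)
    have hpres : ∀ σ ∈ C, ∀ z, u (σ z) = σ z ↔ u z = z := by
      intro σ hσ z
      have h := mem_centralizer_singleton_iff.1 hσ
      rw [← Perm.mul_apply, ← h, Perm.mul_apply, σ.injective.eq_iff]
    let f : Perm {z // u z = z} × (C ⊓ F : Subgroup (Perm β)) → C := fun w =>
      ⟨τ w.1 * w.2, C.mul_mem (mem_centralizer_singleton_iff.2 (hτ w.1)) w.2.2.1⟩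
    have hf : Function.Bijective f := by
      constructor
      · rintro ⟨π, ρ⟩ ⟨π', ρ'⟩ h
        have h' := congrArg Subtype.val h
        simp only [f] at h'
        have hρ : ∀ ρ : (C ⊓ F : Subgroup (Perm β)), ∀ z, u z = z → (ρ : Perm β) z = z := by
          intro ρ z hz
          obtain ⟨h1, h2, h3⟩ := (hFmem _).1 ρ.2.2
          rcases (hfix z).1 hz with rfl | rfl | rfl <;> assumption
        have hπ : π = π' := by
          ext ⟨z, hz⟩
          have h2 := Equiv.congr_fun h' z
          rw [Perm.mul_apply, Perm.mul_apply, hρ ρ z hz, hρ ρ' z hz,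
            ofSubtype_apply_of_mem π hz, ofSubtype_apply_of_mem π' hz] at h2
          exact h2
        subst hπ
        rw [mul_right_inj] at h'
        exact Prod.ext rfl (Subtype.ext h')
      · rintro ⟨σ, hσ⟩
        refine ⟨⟨σ.subtypePerm (p := fun z => u z = z) (hpres σ hσ), (τ (σ.subtypePerm (p := fun z => u z = z) (hpres σ hσ)))⁻¹ * σ, ?_, ?_⟩, ?_⟩
        · exact C.mul_mem (C.inv_mem (mem_centralizer_singleton_iff.2 (hτ _))) hσ
        · have : ∀ z, u z = z → ((τ (σ.subtypePerm (p := fun z => u z = z) (hpres σ hσ)))⁻¹ * σ) z = z := by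
            intro z hz
            rw [Perm.mul_apply, Perm.inv_eq_iff_eq]
            exact (ofSubtype_apply_of_mem (σ.subtypePerm (p := fun z => u z = z) (hpres σ hσ)) hz).symm
          exact (hFmem _).2 ⟨this a ((hfix a).2 (by simp)), this b ((hfix b).2 (by simp)),
            this c ((hfix c).2 (by simp))⟩
        · exact Subtype.ext (by simp [f])
    have h := Nat.card_congr (Equiv.ofBijective f hf)
    rw [Nat.card_prod, Nat.card_perm, hCc, Nat.card_eq_fintype_card, Fintype.card_subtype, huF,
      show Nat.factorial 3 = 6 by rfl] at h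
    omega
  set G3 := G ⊓ F with hG3
  have huG3 : u ∈ G3 := ⟨huG, huF'⟩
  have hG3c : ¬ 5 ^ 3 ∣ Nat.card G3 := by
    intro h
    let r : G3 →* Perm {z // u z ≠ z} :=
      { toFun := fun h => (h : Perm β).subtypePerm (p := fun z => u z ≠ z) (fun z => by
          obtain ⟨h1, h2, h3⟩ := (hFmem _).1 h.2.2
          have hh : ∀ w, u w = w → (h : Perm β) w = w := fun w hw => by
            rcases (hfix w).1 hw with rfl | rfl | rfl <;> assumption
          refine ⟨fun e1 e2 => e1 (by rwa [hh z e2]), fun e1 e2 => e1 ?_⟩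
          rwa [(h : Perm β).injective (hh _ e2)] at e2)
        map_one' := rfl
        map_mul' := fun _ _ => rfl }
    have hinj : Function.Injective r := by
      intro x y hxy
      refine Subtype.ext (Equiv.ext fun z => ?_)
      by_cases hz : u z = z
      · obtain ⟨h1, h2, h3⟩ := (hFmem _).1 x.2.2
        obtain ⟨k1, k2, k3⟩ := (hFmem _).1 y.2.2
        rcases (hfix z).1 hz with rfl | rfl | rfl <;> simp [*]
      · exact congrArg Subtype.val (Equiv.congr_fun hxy ⟨z, hz⟩)
    have h' := h.trans (Subgroup.card_dvd_of_injective r hinj)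
    have e : Nat.card {z // u z ≠ z} = 10 := by
      rw [Nat.card_eq_fintype_card, Fintype.card_subtype, ← hsupp]
      congr 1
    rw [Nat.card_perm, e] at h'
    norm_num [Nat.factorial] at h'
  have hU : IsPGroup 5 (zpowers (⟨u, huG3⟩ : G3)) := IsPGroup.of_card (n := 1)
    (by rw [Nat.card_zpowers, Subgroup.orderOf_mk, huo, pow_one])
  obtain ⟨R, hUR⟩ := hU.exists_le_sylow
  have huR : (⟨u, huG3⟩ : G3) ∈ (R : Subgroup G3) := hUR (mem_zpowers _)
  obtain ⟨n, hn⟩ := IsPGroup.iff_card.1 R.2
  have hn2 : n ≤ 2 := by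
    by_contra h
    exact hG3c ((pow_dvd_pow 5 (show 3 ≤ n by omega)).trans (hn ▸ card_subgroup_dvd_card _))
  have hn1 : 1 ≤ n := by
    by_contra h
    have h5 := orderOf_dvd_natCard (⟨_, huR⟩ : (R : Subgroup G3))
    rw [hn, show n = 0 by omega, Subgroup.orderOf_mk, Subgroup.orderOf_mk, huo] at h5
    norm_num at h5
  rcases (show n = 1 ∨ n = 2 by omega) with rfl | rfl
  · -- `⟨u⟩` is a Sylow subgroup: some element inducing a 3-cycle normalises it
    have hR : (R : Subgroup G3) = zpowers ⟨u, huG3⟩ := (Subgroup.eq_of_le_of_card_ge hUR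
      (by rw [hn, Nat.card_zpowers, Subgroup.orderOf_mk, huo, pow_one])).symm
    obtain ⟨k₀, hk₀, hka, hkb, hkc⟩ := exists_triple h3 hab hac hbc hbc hab.symm hac.symm
    have hu₁ : k₀ * u * k₀⁻¹ ∈ G3 := by
      refine ⟨G.mul_mem (G.mul_mem hk₀ huG) (G.inv_mem hk₀), (hFmem _).2 ⟨?_, ?_, ?_⟩⟩
      · rw [← hkc, Perm.mul_apply, Perm.mul_apply, Perm.inv_def, Equiv.symm_apply_apply,
          (hfix c).2 (by simp)]
      · rw [← hka, Perm.mul_apply, Perm.mul_apply, Perm.inv_def, Equiv.symm_apply_apply,
          (hfix a).2 (by simp)]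
      · rw [← hkb, Perm.mul_apply, Perm.mul_apply, Perm.inv_def, Equiv.symm_apply_apply,
          (hfix b).2 (by simp)]
    have ho : orderOf (⟨_, hu₁⟩ : G3) = 5 := by
      rw [Subgroup.orderOf_mk, ← MulAut.conj_apply, MulEquiv.orderOf_eq, huo]
    let Q : Sylow 5 G3 := Sylow.ofCard (zpowers (⟨_, hu₁⟩ : G3)) (by
      rw [Nat.card_zpowers, ho, ← R.card_eq_multiplicity, hn, pow_one])
    obtain ⟨w, hw⟩ := MulAction.exists_smul_eq G3 Q R
    have hmem : w * ⟨_, hu₁⟩ * w⁻¹ ∈ (R : Subgroup G3) := by
      rw [← hw]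
      exact Subgroup.smul_mem_pointwise_smul _ (MulAut.conj w) _ (Subgroup.mem_zpowers _)
    rw [hR, ← mem_powers_iff_mem_zpowers] at hmem
    obtain ⟨i, hi⟩ := hmem
    set k : Perm β := (w : Perm β) * k₀ with hkdef
    have hk : k * u * k⁻¹ = u ^ i := by
      have := congrArg (fun z : G3 => (z : Perm β)) hi
      simp only [Subgroup.coe_mul, Subgroup.coe_inv, SubgroupClass.coe_pow] at this
      rw [this, hkdef]; group
    obtain ⟨wa, wb, wc⟩ := (hFmem _).1 w.2.2
    have ka : k a = b := by rw [hkdef, Perm.mul_apply, hka, wb]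
    have kb : k b = c := by rw [hkdef, Perm.mul_apply, hkb, wc]
    have kc : k c = a := by rw [hkdef, Perm.mul_apply, hkc, wa]
    have hi5 : ¬ 5 ∣ i := fun hd5 => by
      have h1 : k * u * k⁻¹ = 1 := by rw [hk, ← orderOf_dvd_iff_pow_eq_one, huo]; exact hd5
      rw [conj_eq_one_iff] at h1
      rw [h1, orderOf_one] at huo; omega
    have hkpow : ∀ n : ℕ, k ^ n * u * (k ^ n)⁻¹ = u ^ (i ^ n) := by
      intro n
      induction n with
      | zero => simp
      | succ n ih =>
        calc k ^ (n + 1) * u * (k ^ (n + 1))⁻¹ = k * (k ^ n * u * (k ^ n)⁻¹) * k⁻¹ := by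
              rw [pow_succ']; group
          _ = (k * u * k⁻¹) ^ (i ^ n) := by rw [ih, conj_pow]
          _ = u ^ (i ^ (n + 1)) := by rw [hk, ← pow_mul, pow_succ']
    set τ : Perm β := swap b a * swap b c with hτ
    have hτ3 : τ.IsThreeCycle :=
      isThreeCycle_swap_mul_swap_same hab.symm hbc hac
    have ta : τ a = b := by
      rw [hτ, Perm.mul_apply, swap_apply_of_ne_of_ne hab hac, swap_apply_right]
    have tb : τ b = c := by
      rw [hτ, Perm.mul_apply, swap_apply_left, swap_apply_of_ne_of_ne hbc.symm hac.symm]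
    have tc : τ c = a := by rw [hτ, Perm.mul_apply, swap_apply_right, swap_apply_left]
    have hτu : Commute τ u := by
      refine Equiv.Perm.Disjoint.commute fun z => ?_
      by_cases hz : u z = z
      · exact Or.inr hz
      · refine Or.inl ?_
        rw [hfix z] at hz
        push Not at hz
        rw [hτ, Perm.mul_apply, swap_apply_of_ne_of_ne hz.2.1 hz.2.2,
          swap_apply_of_ne_of_ne hz.2.1 hz.1]
    set ρ := τ⁻¹ * k ^ 4 with hρ
    have hk4 : Commute (k ^ 4) u := by
      have h1 : k ^ 4 * u * (k ^ 4)⁻¹ = u := by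
        rw [hkpow]
        conv_rhs => rw [← pow_one u]
        rw [pow_eq_pow_iff_modEq, huo]
        have := Nat.ModEq.pow_totient
          (((show Nat.Prime 5 by norm_num).coprime_iff_not_dvd).2 hi5).symm
        rwa [show Nat.totient 5 = 4 from Nat.totient_prime (by norm_num)] at this
      exact mul_inv_eq_iff_eq_mul.1 h1
    have k4 : (k ^ 4) a = b ∧ (k ^ 4) b = c ∧ (k ^ 4) c = a := by
      simp [pow_succ, ka, kb, kc]
    have hρC : ρ ∈ (C ⊓ F : Subgroup (Perm β)) := by
      refine ⟨mem_centralizer_singleton_iff.2 (hτu.inv_left.mul_left hk4).eq, (hFmem _).2 ?_⟩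
      simp only [hρ, Perm.mul_apply, k4.1, k4.2.1, k4.2.2]
      refine ⟨?_, ?_, ?_⟩ <;> rw [Perm.inv_eq_iff_eq]
      · exact ta.symm
      · exact tb.symm
      · exact tc.symm
    have hρ50 : ρ ^ 50 = 1 := by
      have := orderOf_dvd_natCard (⟨ρ, hρC⟩ : (C ⊓ F : Subgroup (Perm β)))
      rw [hC', Subgroup.orderOf_mk] at this
      exact orderOf_dvd_iff_pow_eq_one.1 this
    obtain ⟨r1, r2, r3⟩ := (hFmem _).1 hρC.2
    have hτρ : Commute τ ρ := by
      refine Equiv.Perm.Disjoint.commute fun z => ?_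
      by_cases hz : u z = z
      · rcases (hfix z).1 hz with rfl | rfl | rfl <;> exact Or.inr (by assumption)
      · refine Or.inl ?_
        rw [hfix z] at hz
        push Not at hz
        rw [hτ, Perm.mul_apply, swap_apply_of_ne_of_ne hz.2.1 hz.2.2,
          swap_apply_of_ne_of_ne hz.2.1 hz.1]
    have hfin : (k ^ 4) ^ 50 = τ ^ 2 := by
      rw [show k ^ 4 = τ * ρ by rw [hρ, mul_inv_cancel_left], hτρ.mul_pow, hρ50, mul_one,
        ← pow_mod_orderOf, hτ3.orderOf]
    have hmemG : τ ^ 2 ∈ G := hfin ▸ G.pow_mem (G.pow_mem (G.mul_mem w.2.1 hk₀) 4) 50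
    rw [pow_two] at hmemG
    exact alternatingGroup_le_of_isPreprimitive_of_isThreeCycle_mem hG hτ3.isThreeCycle_sq hmemG
  · -- the Sylow subgroup of order 25 contains a 5-cycle
    haveI hRc := IsPGroup.isMulCommutative_of_card_eq_prime_sq (p := 5) hn
    set R' := (R : Subgroup G3).map G3.subtype with hR'
    have hR'C : R' ≤ C ⊓ F := by
      rintro _ ⟨x, hx, rfl⟩
      refine ⟨mem_centralizer_singleton_iff.2 ?_, x.2.2⟩
      have := congrArg (fun z : G3 => (z : Perm β)) (congrArg Subtype.val
        (hRc.is_comm.comm (⟨x, hx⟩ : ↥(R : Subgroup G3)) ⟨_, huR⟩))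
      simpa using this
    have hidx : (R'.subgroupOf (C ⊓ F)).index = 2 := by
      have h1 := (R'.subgroupOf (C ⊓ F)).card_mul_index
      rw [Nat.card_congr (subgroupOfEquivOfLe hR'C).toEquiv, hR',
        Nat.card_congr (equivMapOfInjective _ _ G3.subtype_injective).toEquiv.symm, hn, hC'] at h1
      norm_num at h1
      rw [← hR'] at h1; omega
    obtain ⟨z, hz⟩ := Finset.card_pos.1 (show 0 < u.support.card by omega)
    rw [Equiv.Perm.mem_support] at hz
    have hc1 := isCycle_cycleOf u hz
    have hc5 := zpowers_eq_of_prime_order (by norm_num : Nat.Prime 5) huo hz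
    have hcC : u.cycleOf z ∈ (C ⊓ F : Subgroup (Perm β)) := by
      refine ⟨mem_centralizer_singleton_iff.2 ?_, (hFmem _).2 ?_⟩
      · exact (Equiv.Perm.self_mem_cycle_factors_commute (cycleOf_mem_cycleFactorsFinset_iff.2
          (Equiv.Perm.mem_support.2 hz))).eq
      · have hh : ∀ w, u w = w → u.cycleOf z w = w := fun w hw => by
          rw [cycleOf_apply]; split_ifs <;> [exact hw; rfl]
        exact ⟨hh a ((hfix a).2 (by simp)), hh b ((hfix b).2 (by simp)), hh c ((hfix c).2 (by simp))⟩
    have h2 := Subgroup.sq_mem_of_index_two hidx (⟨_, hcC⟩ : (C ⊓ F : Subgroup (Perm β)))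
    rw [mem_subgroupOf, Subgroup.coe_pow] at h2
    have h3' := R'.pow_mem h2 3
    rw [← pow_mul, ← pow_mod_orderOf, hc1.orderOf, hc5, pow_one] at h3'
    obtain ⟨x, -, hx⟩ := h3'
    exact Cfsg.Agent.S0713.result G hG (by norm_num : Nat.Prime 5) (by omega) (by omega) hc1 hc5
      (by have := x.2.1; rwa [show (x : Perm β) = u.cycleOf z from hx] at this)

end CfsgLib.Comp
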