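import Cfsg.Agent.Lib.Comp.FFStructure
import Cfsg.Agent.Lib.PLength.Series
import Cfsg.Agent.Lib.StructC.PSolvableQuot
import Cfsg.Agent.Lib.BlockB.PSolvableCentralizer
import Cfsg.Agent.Lib.PLocal.OmegaJoin
import Cfsg.Agent.Lib.PLocal.Thompson

/-!
The semidirect product `V ⋊ G / C_G(V)` as an ambient group for the failure-of-factorization theorem.
-/

set_option autoImplicit false
set_option linter.style.haveILetI false
set_option linter.unusedSectionVars false

namespace CfsgLib.Comp.FF

open Subgroup CfsgLib.PLocal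

variable {G : Type*} [Group G]

section Amb

variable (V : Subgroup G) [V.Normal]

theorem centralizer_le_conjNormal_ker :
    centralizer (V : Set G) ≤ (MulAut.conjNormal : G →* MulAut V).ker := by
  intro g hg
  refine MonoidHom.mem_ker.2 (MulEquiv.ext fun v => Subtype.ext ?_)
  show g * (v : G) * g⁻¹ = v
  rw [← mem_centralizer_iff.1 hg v v.2, mul_inv_cancel_right]

/-- The action of `G / C(V)` on `V`. -/
noncomputable def actHom : G ⧸ centralizer (V : Set G) →* MulAut V :=
  QuotientGroup.lift _ MulAut.conjNormal (centralizer_le_conjNormal_ker V)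

/-- The ambient group. -/
abbrev Amb := V ⋊[actHom V] (G ⧸ centralizer (V : Set G))

/-- `G` mapped to the acting part. -/
noncomputable def rho : G →* Amb V :=
  (SemidirectProduct.inr : G ⧸ centralizer (V : Set G) →* Amb V).comp (QuotientGroup.mk' _)

/-- The copy of `V`. -/
noncomputable def iota : V →* Amb V := SemidirectProduct.inl

theorem iota_injective : Function.Injective (iota V) := SemidirectProduct.inl_injective

theorem rho_conj_iota (g : G) (v : V) :
    rho V g * iota V v * (rho V g)⁻¹ =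
      iota V ⟨g * v * g⁻¹, Subgroup.Normal.conj_mem inferInstance (v : G) v.2 g⟩ := by
  rw [rho, iota, MonoidHom.comp_apply, ← map_inv, ← SemidirectProduct.inl_aut]
  rfl

theorem rho_ker : (rho V).ker = centralizer (V : Set G) := by
  rw [rho, ← MonoidHom.comap_ker, (MonoidHom.ker_eq_bot_iff _).2 SemidirectProduct.inr_injective,
    MonoidHom.comap_bot, QuotientGroup.ker_mk']

theorem rho_conj_iota_eq_iff (g : G) (v : V) :
    rho V g * iota V v * (rho V g)⁻¹ = iota V v ↔ g * v = (v : G) * g := by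
  rw [rho_conj_iota, (iota_injective V).eq_iff, Subtype.ext_iff, mul_inv_eq_iff_eq_mul]

/-- `V` in the ambient group. -/
noncomputable abbrev Vb : Subgroup (Amb V) := (iota V).range

theorem range_le_normalizer : (rho V).range ≤ normalizer ((Vb V : Subgroup (Amb V)) : Set (Amb V)) := by
  rintro _ ⟨g, rfl⟩
  rw [mem_normalizer_iff]
  intro x
  constructor
  · rintro ⟨v, rfl⟩
    exact ⟨_, (rho_conj_iota V g v).symm⟩
  · rintro ⟨v, hv⟩
    refine ⟨⟨g⁻¹ * v * (g⁻¹)⁻¹, Subgroup.Normal.conj_mem inferInstance (v : G) v.2 g⁻¹⟩, ?_⟩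
    rw [← rho_conj_iota, hv, map_inv]
    group

theorem faith_amb :
    (rho V).range ⊓ centralizer ((Vb V : Subgroup (Amb V)) : Set (Amb V)) = ⊥ := by
  refine le_bot_iff.1 ?_
  rintro _ ⟨⟨g, rfl⟩, hc⟩
  have hg : g ∈ centralizer (V : Set G) := fun v hv => by
    have h1 := mem_centralizer_iff.1 hc (iota V ⟨v, hv⟩) ⟨_, rfl⟩
    exact ((rho_conj_iota_eq_iff V g ⟨v, hv⟩).1 (mul_inv_eq_iff_eq_mul.2 h1.symm)).symm
  rw [mem_bot, ← MonoidHom.mem_ker, rho_ker]
  exact hg

theorem mem_centralizer_map_iff (B : Subgroup G) (v : V) :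
    iota V v ∈ centralizer ((B.map (rho V) : Subgroup (Amb V)) : Set (Amb V)) ↔
      (v : G) ∈ centralizer (B : Set G) := by
  constructor
  · intro h b hb
    exact (rho_conj_iota_eq_iff V b v).1
      (mul_inv_eq_iff_eq_mul.2 (mem_centralizer_iff.1 h _ (mem_map_of_mem _ hb)))
  · rintro h _ ⟨b, hb, rfl⟩
    exact mul_inv_eq_iff_eq_mul.1 ((rho_conj_iota_eq_iff V b v).2 (h b hb))

theorem card_fix_map (B : Subgroup G) :
    Nat.card ↥(Vb V ⊓ centralizer ((B.map (rho V) : Subgroup (Amb V)) : Set (Amb V))) =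
      Nat.card ↥(V ⊓ centralizer (B : Set G)) := by
  have e : Vb V ⊓ centralizer ((B.map (rho V) : Subgroup (Amb V)) : Set (Amb V)) =
      ((V ⊓ centralizer (B : Set G)).subgroupOf V).map (iota V) := by
    ext x
    constructor
    · rintro ⟨⟨v, rfl⟩, hx⟩
      exact ⟨v, ⟨v.2, (mem_centralizer_map_iff V B v).1 hx⟩, rfl⟩
    · rintro ⟨v, hv, rfl⟩
      exact ⟨⟨v, rfl⟩, (mem_centralizer_map_iff V B v).2 hv.2⟩
  rw [e, card_map_of_injective (iota_injective V), CfsgLib.Coprime.card_subgroupOf inf_le_left]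

variable [Finite G]

instance instFiniteAmb : Finite (Amb V) := Finite.of_equiv _ SemidirectProduct.equivProd.symm

theorem card_map_rho (B : Subgroup G) :
    Nat.card ↥(B.map (rho V)) * Nat.card ↥(B ⊓ centralizer (V : Set G)) = Nat.card B := by
  let f : B →* Amb V := (rho V).comp B.subtype
  have h2 : f.range = B.map (rho V) := by
    show ((rho V).comp B.subtype).range = _
    rw [MonoidHom.range_comp, range_subtype]
  have h3 : f.ker = (B ⊓ centralizer (V : Set G)).subgroupOf B := by
    show ((rho V).comp B.subtype).ker = _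
    rw [← MonoidHom.comap_ker, rho_ker, inf_subgroupOf_left]
    rfl
  rw [← h2, ← index_ker, h3, ← CfsgLib.Coprime.card_subgroupOf (inf_le_left : B ⊓ centralizer (V : Set G) ≤ B),
    mul_comm, card_mul_index]

variable {p : ℕ}

theorem vb_elem (hV : Cfsg.IsElementaryAbelian p V) : Cfsg.IsElementaryAbelian p (Vb V) := by
  refine ⟨?_, ?_⟩
  · refine ⟨⟨fun a b => Subtype.ext ?_⟩⟩
    obtain ⟨v, hv⟩ := a.2
    obtain ⟨w, hw⟩ := b.2
    show (a : Amb V) * b = b * a
    rw [← hv, ← hw, ← map_mul, ← map_mul, hV.1.is_comm.comm v w]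
  · rintro _ ⟨v, rfl⟩
    rw [← map_pow, show v ^ p = 1 from Subtype.ext (by simpa using hV.2 v v.2), map_one]

/-- The image of `J(G)`. -/
noncomputable def JH (p : ℕ) : Subgroup (Amb V) := (Cfsg.thompsonSubgroup p G).map (rho V)

theorem JH_le_range : JH V p ≤ (rho V).range := map_le_range _ _

variable [hp : Fact p.Prime]

theorem setup_amb (hV : Cfsg.IsElementaryAbelian p V) (hsep : Cfsg.IsPSolvable p G)
    (hO : Cfsg.pCore p (G ⧸ centralizer (V : Set G)) = ⊥) : Setup p (Vb V) (JH V p) := by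
  refine ⟨vb_elem V hV, (JH_le_range V).trans (range_le_normalizer V),
    le_bot_iff.1 ((inf_le_inf_right _ (JH_le_range V)).trans (faith_amb V).le), ?_⟩
  haveI : (Cfsg.thompsonSubgroup p G).Characteristic := thompson_characteristic
  have hs1 : Cfsg.IsPSolvable p (G ⧸ centralizer (V : Set G)) :=
    CfsgLib.StructC.isPSolvable_quotient _ hsep
  set Jq := (Cfsg.thompsonSubgroup p G).map (QuotientGroup.mk' (centralizer (V : Set G))) with hJq
  haveI : Jq.Normal := Normal.map inferInstance _ (QuotientGroup.mk'_surjective _)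
  have hs2 : Cfsg.IsPSolvable p Jq := CfsgLib.PLength.isPSolvable_subgroup hs1 Jq
  have hO2 : Cfsg.pCore p Jq = ⊥ := by
    refine (map_eq_bot_iff_of_injective _ Jq.subtype_injective).1 ?_
    haveI : (Cfsg.pCore p Jq).Normal := CfsgLib.Solvable.pCore_normal p Jq
    have h1 := le_pCore_of_isSubnormal (p := p)
      (isSubnormal_map_of_normal (Normal.isSubnormal inferInstance : Jq.IsSubnormal) (Cfsg.pCore p Jq))
      ((isPGroup_pCore p Jq).map _)
    exact le_bot_iff.1 (h1.trans hO.le)
  have hJH : JH V p = Jq.map SemidirectProduct.inr := by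
    rw [JH, rho, ← map_map]
  let e : Jq ≃* JH V p := (equivMapOfInjective Jq _ SemidirectProduct.inr_injective).trans
    (MulEquiv.subgroupCongr hJH.symm)
  have h := CfsgLib.BlockB.centralizer_pPrimeCore_le_of_isPSolvable hs2 hO2
  rw [← CfsgLib.Solvable.map_pPrimeCore_equiv e]
  intro x hx
  obtain ⟨y, rfl⟩ := e.surjective x
  refine mem_map_of_mem _ (h ?_)
  rw [mem_centralizer_iff] at hx ⊢
  intro z hz
  exact e.injective (by rw [map_mul, map_mul]; exact hx (e z) ⟨z, hz, rfl⟩)

theorem best_map (hV : Cfsg.IsElementaryAbelian p V) {A : Subgroup G}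
    (hA : A ∈ Cfsg.maxElementaryAbelianSubgroups p G) :
    Cfsg.IsBestOffenderOn p (Vb V) (A.map (rho V)) := by
  have hA' : A ∈ maxElemIn p (⊤ : Subgroup G) := by rwa [maxElemIn_top]
  refine ⟨fun B hB => ?_, ?_, ?_⟩
  · set B' := A ⊓ B.comap (rho V) with hB'
    have hBe : B'.map (rho V) = B := by
      refine le_antisymm ((map_mono inf_le_right).trans (map_comap_le _ _)) fun y hy => ?_
      obtain ⟨a, ha, rfl⟩ := hB hy
      exact ⟨a, ⟨ha, hy⟩, rfl⟩
    have h1 := maxElemIn_offender le_top hV hA' (inf_le_left : B' ≤ A)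
    rw [← card_map_rho V B', ← card_map_rho V A] at h1
    have h2 : B' ⊓ centralizer (V : Set G) = A ⊓ centralizer (V : Set G) := by
      refine le_antisymm (inf_le_inf_right _ inf_le_left) (le_inf (le_inf inf_le_left ?_) inf_le_right)
      intro a ha
      rw [mem_comap, show rho V a = 1 from MonoidHom.mem_ker.1 (by rw [rho_ker]; exact ha.2)]
      exact one_mem B
    rw [h2] at h1
    rw [← card_fix_map V B', ← card_fix_map V A, hBe] at h1
    refine Nat.le_of_mul_le_mul_right (c := Nat.card ↥(A ⊓ centralizer (V : Set G))) ?_ Nat.card_pos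
    rw [mul_right_comm, mul_right_comm (Nat.card ↥(A.map (rho V)))]
    exact h1
  · rw [← map_commutator, commutator_eq_bot_iff_le_centralizer.2 (elemAb_le_centralizer hA.1),
      Subgroup.map_bot]
    exact bot_le
  · rintro _ ⟨a, ha, rfl⟩
    rw [← map_pow, hA.1.2 a ha, map_one]
    exact one_mem _

theorem JH_eq_iSup (hV : Cfsg.IsElementaryAbelian p V) :
    JH V p = ⨆ A : {A : Subgroup (Amb V) // A ≤ JH V p ∧ Cfsg.IsBestOffenderOn p (Vb V) A},
      (A : Subgroup (Amb V)) := by
  refine le_antisymm ?_ (iSup_le fun A => A.2.1)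
  conv_lhs => rw [JH, Cfsg.thompsonSubgroup, sSup_eq_iSup, Subgroup.map_iSup]
  refine iSup_le fun A => ?_
  rw [Subgroup.map_iSup]
  refine iSup_le fun hA => ?_
  exact le_iSup_of_le ⟨A.map (rho V), map_mono (le_thompson hA), best_map V hV hA⟩ le_rfl

theorem map_maxElem_le_JH {A : Subgroup G} (hA : A ∈ Cfsg.maxElementaryAbelianSubgroups p G) :
    A.map (rho V) ≤ JH V p := map_mono (le_thompson hA)

/-- `|A| |C_V(A)| = |V| |C_A(V)|` for elementary abelian subgroups of largest order. -/
theorem card_maxElem (hV : Cfsg.IsElementaryAbelian p V) (hsep : Cfsg.IsPSolvable p G)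
    (hO : Cfsg.pCore p (G ⧸ centralizer (V : Set G)) = ⊥) {A : Subgroup G}
    (hA : A ∈ Cfsg.maxElementaryAbelianSubgroups p G) :
    Nat.card A * Nat.card ↥(V ⊓ centralizer (A : Set G)) =
      Nat.card V * Nat.card ↥(A ⊓ centralizer (V : Set G)) := by
  have h := card_mul_card_fix_of_best (setup_amb V hV hsep hO) (map_maxElem_le_JH V hA)
    (best_map V hV hA)
  rw [card_fix_map] at h
  have hVc : Nat.card ↥(Vb V) = Nat.card V :=
    (Nat.card_congr (MonoidHom.ofInjective (iota_injective V)).toEquiv).symm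
  rw [← card_map_rho V A, mul_right_comm, h, hVc]

end Amb

end CfsgLib.Comp.FF
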