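import Mathlib

/-!
Products over the orbit of a subgroup under a group of automorphisms, when distinct images commute.
-/

set_option autoImplicit false
set_option linter.style.haveILetI false
set_option linter.unusedSectionVars false

namespace CfsgLib.Comp.OrbitProd

open Subgroup

theorem noncommProd_comp_equiv {ι L : Type*} [Fintype ι] [Monoid L] (f : ι → L) (σ : ι ≃ ι)
    (c1) (c2) :
    Finset.univ.noncommProd (f ∘ σ) c1 = Finset.univ.noncommProd f c2 := by
  unfold Finset.noncommProd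
  congr 1
  rw [← Multiset.map_map, Multiset.map_univ_val_equiv]

variable {Γ X : Type*} [Group Γ] [Group X] (Φ : X →* MulAut Γ) (Y : Subgroup Γ)

/-- Image of `Y` under `x`. -/
abbrev img (x : X) : Subgroup Γ := Y.map (Φ x).toMonoidHom

theorem img_mul (x y : X) : img Φ Y (x * y) = (img Φ Y y).map (Φ x).toMonoidHom := by
  rw [img, img, Subgroup.map_map]
  congr 1
  ext z
  show (Φ (x * y)) z = Φ x (Φ y z)
  rw [map_mul]; rfl

/-- The orbit of `Y`. -/
abbrev Orb : Type _ := Set.range (img Φ Y)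

/-- A chosen element moving `Y` to `i`. -/
noncomputable def rep (i : Orb Φ Y) : X := i.2.choose

theorem img_rep (i : Orb Φ Y) : img Φ Y (rep Φ Y i) = i.1 := i.2.choose_spec

variable {Φ Y}

theorem img_one : img Φ Y 1 = Y := by
  ext z
  constructor
  · rintro ⟨y, hy, rfl⟩
    simpa using hy
  · exact fun hz => ⟨z, hz, by simp⟩

theorem apply_eq_of_img_eq (hfix : ∀ x, img Φ Y x = Y → ∀ y ∈ Y, Φ x y = y) {x x' : X}
    (h : img Φ Y x = img Φ Y x') {y : Γ} (hy : y ∈ Y) : Φ x y = Φ x' y := by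
  have h1 : img Φ Y (x'⁻¹ * x) = Y := by
    rw [img_mul, h, ← img_mul, inv_mul_cancel, img_one]
  have h2 := hfix _ h1 y hy
  rw [map_mul, map_inv] at h2
  have h3 : Φ x' ((Φ x')⁻¹ (Φ x y)) = Φ x' y := congrArg (Φ x') h2
  simpa using h3

variable [Finite X]

/-- The diagonal embedding of `Y` into the orbit product. -/
theorem exists_orbitHom (hfix : ∀ x, img Φ Y x = Y → ∀ y ∈ Y, Φ x y = y)
    (hcomm : ∀ x x', img Φ Y x ≠ img Φ Y x' → ∀ u ∈ img Φ Y x, ∀ v ∈ img Φ Y x', Commute u v) :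
    ∃ θ : Y →* Γ, (∀ (x : X) (y : Y), Φ x (θ y) = θ y) ∧
      (∀ y : Y, (y : Γ)⁻¹ * θ y ∈ ⨆ (x : X) (_ : img Φ Y x ≠ Y), img Φ Y x) ∧
      (∀ (K : Subgroup Γ), (∀ x, img Φ Y x ≤ K) → ∀ y : Y, θ y ∈ K) ∧
      ∀ (c : Γ →* Γ) (y y' : Y), (∀ (x : X) (z : Γ), Φ x (c z) = c (Φ x z)) → c y = y' →
        c (θ y) = θ y' := by
  classical
  haveI : Fintype (Orb Φ Y) := Fintype.ofFinite _
  have hmem : ∀ (i : Orb Φ Y) (y : Y), Φ (rep Φ Y i) y ∈ i.1 := fun i y => by
    rw [← img_rep Φ Y i]; exact mem_map_of_mem _ y.2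
  have hc : ∀ y y' : Y, (↑(Finset.univ : Finset (Orb Φ Y)) : Set (Orb Φ Y)).Pairwise
      fun i j => Commute (Φ (rep Φ Y i) y) (Φ (rep Φ Y j) y') := fun y y' i _ j _ hij =>
    hcomm (rep Φ Y i) (rep Φ Y j) (fun e => hij (Subtype.ext (by rw [← img_rep Φ Y i, e, img_rep])))
      _ (mem_map_of_mem _ y.2) _ (mem_map_of_mem _ y'.2)
  let θ : Y →* Γ := MonoidHom.mk' (fun y => Finset.univ.noncommProd (fun i => Φ (rep Φ Y i) y)
    (hc y y)) (fun a b => by
      rw [← Finset.noncommProd_mul_distrib (fun i => Φ (rep Φ Y i) a) (fun i => Φ (rep Φ Y i) b)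
        (hc a a) (hc b b) (hc b a)]
      exact Finset.noncommProd_congr rfl (fun i _ => map_mul (Φ (rep Φ Y i)) (a : Γ) b) _)
  have hθ : ∀ y, θ y = Finset.univ.noncommProd (fun i => Φ (rep Φ Y i) y) (hc y y) := fun _ => rfl
  refine ⟨θ, fun x y => ?_, fun y => ?_, fun K hK y => ?_, fun c y y' hc' hy => ?_⟩
  · have hσ : ∀ (z : X) (i : Orb Φ Y), (i.1.map (Φ z).toMonoidHom) ∈ Set.range (img Φ Y) := fun z i =>
      ⟨z * rep Φ Y i, by rw [img_mul, img_rep]⟩
    let σ : Orb Φ Y ≃ Orb Φ Y :=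
      { toFun := fun i => ⟨_, hσ x i⟩
        invFun := fun i => ⟨_, hσ x⁻¹ i⟩
        left_inv := fun i => Subtype.ext (by
          show (i.1.map (Φ x).toMonoidHom).map (Φ x⁻¹).toMonoidHom = i.1
          rw [← img_rep Φ Y i, ← img_mul Φ Y, ← img_mul Φ Y, inv_mul_cancel_left])
        right_inv := fun i => Subtype.ext (by
          show (i.1.map (Φ x⁻¹).toMonoidHom).map (Φ x).toMonoidHom = i.1
          rw [← img_rep Φ Y i, ← img_mul Φ Y, ← img_mul Φ Y, mul_inv_cancel_left]) }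
    have he : ∀ i, Φ x (Φ (rep Φ Y i) y) = Φ (rep Φ Y (σ i)) y := fun i => by
      have h1 : Φ x (Φ (rep Φ Y i) y) = Φ (x * rep Φ Y i) y := by rw [map_mul]; rfl
      rw [h1]
      refine apply_eq_of_img_eq hfix ?_ y.2
      rw [img_mul, img_rep, img_rep]
      rfl
    rw [hθ, Finset.map_noncommProd]
    refine (Finset.noncommProd_congr rfl (fun i _ => he i) _).trans ?_
    exact noncommProd_comp_equiv (fun i => Φ (rep Φ Y i) y) σ _ _
  · let i₀ : Orb Φ Y := ⟨Y, 1, img_one⟩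
    have h0 : Φ (rep Φ Y i₀) y = (y : Γ) := hfix _ (img_rep Φ Y i₀) _ y.2
    rw [hθ, ← Finset.mul_noncommProd_erase _ (Finset.mem_univ i₀) _ (hc y y), h0, inv_mul_cancel_left]
    refine Finset.noncommProd_induction _ _ _ (· ∈ _) (fun a b ha hb => mul_mem ha hb) (one_mem _)
      fun i hi => ?_
    refine le_iSup₂ (f := fun x (_ : img Φ Y x ≠ Y) => img Φ Y x) (rep Φ Y i) ?_ (mem_map_of_mem _ y.2)
    exact fun e => Finset.ne_of_mem_erase hi (Subtype.ext ((img_rep Φ Y i).symm.trans e))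
  · rw [hθ]
    exact Finset.noncommProd_induction _ _ (hc y y) (· ∈ K) (fun a b ha hb => mul_mem ha hb) (one_mem _)
      fun i _ => hK _ (mem_map_of_mem _ y.2)
  · rw [hθ, hθ, Finset.map_noncommProd]
    exact Finset.noncommProd_congr rfl (fun i _ => by rw [← hc', hy]) _

end CfsgLib.Comp.OrbitProd
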