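import Cfsg.Agent.Lib.Comp.FFFail
import Cfsg.Agent.Lib.Comp.OrbitProd

/-!
A coprime group of automorphisms acting on the failure-of-factorization configuration: fixed diagonal
planes and fixed lifts of the `SL(2, p)` factors.
-/

set_option autoImplicit false
set_option linter.style.haveILetI false
set_option linter.unusedSectionVars false

namespace CfsgLib.Comp.FF

open Subgroup CfsgLib.PLocal

section AmbAut

variable {G : Type*} [Group G] (V : Subgroup G) [hV : V.Characteristic]

theorem map_char (e : MulAut G) : V.map e.toMonoidHom = V := characteristic_iff_map_eq.1 hV e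

/-- An automorphism restricted to a characteristic subgroup. -/
noncomputable def restrAut (e : MulAut G) : MulAut V :=
  (e.subgroupMap V).trans (MulEquiv.subgroupCongr (map_char V e))

theorem restrAut_apply (e : MulAut G) (v : V) : ((restrAut V e v : V) : G) = e v := rfl

theorem map_centralizer_char (e : MulAut G) :
    (centralizer (V : Set G)).map e.toMonoidHom = centralizer (V : Set G) :=
  characteristic_iff_map_eq.1 inferInstance e

/-- An automorphism induced on the quotient by the centralizer. -/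
noncomputable def quotAut (e : MulAut G) : MulAut (G ⧸ centralizer (V : Set G)) :=
  QuotientGroup.congr _ _ e (map_centralizer_char V e)

theorem quotAut_mk (e : MulAut G) (g : G) :
    quotAut V e (QuotientGroup.mk g) = QuotientGroup.mk (e g) := rfl

theorem actHom_quotAut (e : MulAut G) (g : G ⧸ centralizer (V : Set G)) :
    (actHom V g).trans (restrAut V e) = (restrAut V e).trans (actHom V (quotAut V e g)) := by
  induction g using QuotientGroup.induction_on with
  | H g =>
    refine MulEquiv.ext fun v => Subtype.ext ?_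
    show e (g * (v : G) * g⁻¹) = e g * e v * (e g)⁻¹
    rw [map_mul, map_mul, map_inv]

/-- Functoriality of the ambient group. -/
noncomputable def ambAut : MulAut G →* MulAut (Amb V) where
  toFun e := SemidirectProduct.congr (restrAut V e) (quotAut V e) (actHom_quotAut V e)
  map_one' := by
    refine MulEquiv.ext fun z => SemidirectProduct.ext ?_ ?_
    · exact Subtype.ext rfl
    · show quotAut V 1 z.right = z.right
      induction z.right using QuotientGroup.induction_on with | H g => rfl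
  map_mul' e f := by
    refine MulEquiv.ext fun z => SemidirectProduct.ext ?_ ?_
    · exact Subtype.ext rfl
    · show quotAut V (e * f) z.right = quotAut V e (quotAut V f z.right)
      induction z.right using QuotientGroup.induction_on with | H g => rfl

theorem ambAut_rho (e : MulAut G) (g : G) : ambAut V e (rho V g) = rho V (e g) := by
  refine SemidirectProduct.ext ?_ ?_
  · show restrAut V e 1 = 1
    exact map_one _
  · rfl

theorem ambAut_iota (e : MulAut G) (v : V) : ambAut V e (iota V v) = iota V (restrAut V e v) := by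
  refine SemidirectProduct.ext ?_ ?_
  · rfl
  · show quotAut V e 1 = 1
    exact map_one _

theorem map_Vb (e : MulAut G) : (Vb V).map (ambAut V e).toMonoidHom = Vb V := by
  refine le_antisymm ?_ ?_
  · rintro _ ⟨_, ⟨v, rfl⟩, rfl⟩
    exact ⟨restrAut V e v, (ambAut_iota V e v).symm⟩
  · rintro _ ⟨v, rfl⟩
    refine ⟨iota V ((restrAut V e).symm v), ⟨_, rfl⟩, ?_⟩
    show ambAut V e _ = _
    rw [ambAut_iota, MulEquiv.apply_symm_apply]

theorem map_JH {p : ℕ} (e : MulAut G) : (JH V p).map (ambAut V e).toMonoidHom = JH V p := by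
  have h1 : (ambAut V e).toMonoidHom.comp (rho V) = (rho V).comp e.toMonoidHom :=
    MonoidHom.ext fun g => ambAut_rho V e g
  rw [JH, Subgroup.map_map, h1, ← Subgroup.map_map, thompson_map_equiv]

end AmbAut

section Transport

variable {G : Type*} [Group G] [Finite G] {p : ℕ} [hp : Fact p.Prime] {V H : Subgroup G}
  {e : MulAut G}

theorem PH_map (hH : H.map e.toMonoidHom = H) : (PH p H).map e.toMonoidHom = PH p H := by
  let r : MulAut H := (e.subgroupMap H).trans (MulEquiv.subgroupCongr hH)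
  have h1 : e.toMonoidHom.comp H.subtype = H.subtype.comp r.toMonoidHom := rfl
  rw [PH, Subgroup.map_map, h1, ← Subgroup.map_map, CfsgLib.Solvable.map_pPrimeCore_equiv]

theorem Ec_map (hH : H.map e.toMonoidHom = H) (A : Subgroup G) :
    (Ec p H A).map e.toMonoidHom = Ec p H (A.map e.toMonoidHom) := by
  show (⁅PH p H, A⁆ ⊔ A).map _ = ⁅PH p H, A.map _⁆ ⊔ _
  rw [Subgroup.map_sup, map_commutator, PH_map hH]

theorem atom_map (S : Setup p V H) (hV : V.map e.toMonoidHom = V) (hH : H.map e.toMonoidHom = H)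
    {A : Subgroup G} (h : Atom p V H A) : Atom p V H (A.map e.toMonoidHom) := by
  have hle : A.map e.toMonoidHom ≤ H := (map_mono h.1).trans hH.le
  have hc : Nat.card ↥(A.map e.toMonoidHom) = p := by
    rw [card_map_of_injective e.injective]; exact h.2.1
  refine ⟨hle, hc, best_of_card_mul_card_fix S hle (elemAb_map _ (elem_of_best S h.1 h.2.2)) ?_⟩
  have e1 : V ⊓ centralizer ((A.map e.toMonoidHom : Subgroup G) : Set G) =
      (V ⊓ centralizer (A : Set G)).map e.toMonoidHom := by
    rw [Subgroup.map_inf _ _ e.toMonoidHom e.injective, hV]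
    congr 1
    ext z
    obtain ⟨z, rfl⟩ := e.surjective z
    simp only [mem_centralizer_iff, mem_map, SetLike.mem_coe, MulEquiv.coe_toMonoidHom]
    constructor
    · exact fun hz => ⟨z, fun a ha => e.injective (by rw [map_mul, map_mul]; exact hz _ ⟨a, ha, rfl⟩), rfl⟩
    · rintro ⟨w, hw, hwz⟩ _ ⟨a, ha, rfl⟩
      rw [← e.injective hwz, ← map_mul, ← map_mul, hw a ha]
  rw [hc, e1, card_map_of_injective e.injective]
  exact card_fix_mul_of_atom S h

theorem plane_map (hV : V.map e.toMonoidHom = V) (hH : H.map e.toMonoidHom = H) (A : Subgroup G) :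
    (⁅V, Ec p H A⁆).map e.toMonoidHom = ⁅V, Ec p H (A.map e.toMonoidHom)⁆ := by
  rw [map_commutator, hV, Ec_map hH]

end Transport

/-- An automorphism of order dividing a prime `q ≥ 5` of a group of order `4` or `9` is trivial. -/
theorem aut_eq_one_of_small {U : Type*} [Group U] [Finite U] {p q : ℕ} [Fact q.Prime]
    (hp : p = 2 ∨ p = 3) (hU : Nat.card U = p ^ 2) (h2 : q ≠ 2) (h3 : q ≠ 3) {r : MulAut U}
    (hr : r ^ q = 1) (u : U) : r u = u := by
  have hq := (Fact.out : q.Prime)
  have hR : IsPGroup q (zpowers r) := by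
    rintro ⟨s, hs⟩
    obtain ⟨k, rfl⟩ := mem_zpowers_iff.1 hs
    refine ⟨1, Subtype.ext ?_⟩
    show (r ^ k) ^ q ^ 1 = 1
    rw [pow_one, ← zpow_natCast (r ^ k), ← zpow_mul, mul_comm, zpow_mul, zpow_natCast, hr, one_zpow]
  let F : Subgroup U := r.toMonoidHom.eqLocus (MonoidHom.id U)
  have hfix : Nat.card (MulAction.fixedPoints (zpowers r) U) = Nat.card F := by
    refine Nat.card_congr (Equiv.subtypeEquivRight fun v => ?_)
    constructor
    · intro h; exact h ⟨r, mem_zpowers r⟩
    · rintro h ⟨s, hs⟩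
      show s v = v
      have h1 : r ∈ MulAction.stabilizer (MulAut U) v := h
      exact (zpowers_le.2 h1 hs : s ∈ MulAction.stabilizer (MulAut U) v)
  have hmod := hR.card_modEq_card_fixedPoints (α := U)
  rw [hfix, hU] at hmod
  obtain ⟨i, hi, hF⟩ := (Nat.dvd_prime_pow (hp.elim (fun e => e ▸ Nat.prime_two)
    (fun e => e ▸ Nat.prime_three))).1 (hU ▸ Subgroup.card_subgroup_dvd_card F)
  rw [hF] at hmod
  have hi2 : i = 2 := by
    by_contra hi2
    have hle : p ^ i ≤ p ^ 2 := Nat.pow_le_pow_right (by omega) hi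
    have hd : q ∣ p ^ 2 - p ^ i := (Nat.modEq_iff_dvd' hle).1 hmod.symm
    have hi1 : i < 2 := by omega
    rcases hp with rfl | rfl <;> interval_cases i <;> norm_num at hd
    all_goals
      first
        | exact h3 ((Nat.prime_dvd_prime_iff_eq hq Nat.prime_three).1 hd)
        | exact h2 ((Nat.prime_dvd_prime_iff_eq hq Nat.prime_two).1 hd)
        | exact h2 ((Nat.prime_dvd_prime_iff_eq hq Nat.prime_two).1 (hq.dvd_of_dvd_pow (n := 3) hd))
        | rcases hq.dvd_mul.1 (show q ∣ 2 * 3 from hd) with h | h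
          · exact h2 ((Nat.prime_dvd_prime_iff_eq hq Nat.prime_two).1 h)
          · exact h3 ((Nat.prime_dvd_prime_iff_eq hq Nat.prime_three).1 h)
  have htop : F = ⊤ := eq_top_of_card_eq F (by rw [hF, hU, hi2])
  exact (htop ▸ mem_top u : u ∈ F)

section Orbit

variable {G : Type*} [Group G] [Finite G] {p : ℕ} [hp : Fact p.Prime] {X : Type*} [Group X] [Finite X]
  {q : ℕ} [hq : Fact q.Prime]

theorem vz_characteristic : (VZ p G).Characteristic := by
  refine characteristic_iff_map_eq.2 fun e => le_antisymm ?_ ?_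
  · rw [VZ, Subgroup.map_iSup]
    refine iSup_le fun S => ?_
    refine le_iSup_of_le (S.mapSurjective (f := e.toMonoidHom) e.surjective) ?_
    rw [omegaOne_map_equiv, inf_centralizer_map]
    exact le_rfl
  · intro z hz
    refine ⟨e.symm z, ?_, e.apply_symm_apply z⟩
    have h : (VZ p G).map e.symm.toMonoidHom ≤ VZ p G := by
      rw [VZ, Subgroup.map_iSup]
      refine iSup_le fun S => ?_
      refine le_iSup_of_le (S.mapSurjective (f := e.symm.toMonoidHom) e.symm.surjective) ?_
      rw [omegaOne_map_equiv, inf_centralizer_map]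
      exact le_rfl
    exact h (mem_map_of_mem _ hz)

instance : (VZ p G).Characteristic := vz_characteristic

variable (ψ : X →* MulAut G)

/-- The induced action on the ambient group. -/
noncomputable abbrev ambAct : X →* MulAut (Amb (VZ p G)) := (ambAut (VZ p G)).comp ψ

theorem exists_diag (hsep : Cfsg.IsPSolvable p G) (hO : Cfsg.pPrimeCore p G = ⊥)
    (hX : ∀ x : X, x ^ q = 1) (hqG : ¬ q ∣ Nat.card G) {A : Subgroup (Amb (VZ p G))}
    (h : Atom p (Vb (VZ p G)) (JH (VZ p G) p) A) :
    ∃ θ : ↥(⁅Vb (VZ p G), Ec p (JH (VZ p G) p) A⁆) →* Amb (VZ p G), Function.Injective θ ∧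
      (∀ u, θ u ∈ Vb (VZ p G)) ∧ (∀ (x : X) u, ambAct (p := p) ψ x (θ u) = θ u) ∧
      (∀ P ∈ JH (VZ p G) p, (∀ x : X, ambAct (p := p) ψ x P = P) →
        ∀ u u' : ↥(⁅Vb (VZ p G), Ec p (JH (VZ p G) p) A⁆), P * u * P⁻¹ = u' → P * θ u * P⁻¹ = θ u') ∧
      ∀ e ∈ Ec p (JH (VZ p G) p) A, ∃ P ∈ JH (VZ p G) p,
        (∀ x : X, ambAct (p := p) ψ x P = P) ∧
          e⁻¹ * P ∈ Fc p (Vb (VZ p G)) (JH (VZ p G) p) A := by
  classical
  set V := VZ p G with hVdef
  set W := Vb V with hWdef
  set H := JH V p with hHdef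
  set E := Ec p H A with hEdef
  set U := ⁅W, E⁆ with hUdef
  set Φ := ambAct (p := p) ψ with hΦdef
  have S : Setup p W H := setup_fail hsep hO
  have hS3 := hS3_fail hsep hO
  have d := ecData S h
  have hWΦ : ∀ x, W.map (Φ x).toMonoidHom = W := fun x => map_Vb V (ψ x)
  have hHΦ : ∀ x, H.map (Φ x).toMonoidHom = H := fun x => map_JH V (ψ x)
  have hAtom : ∀ x, Atom p W H (A.map (Φ x).toMonoidHom) := fun x => atom_map S (hWΦ x) (hHΦ x) h
  have hEimg : ∀ x, OrbitProd.img Φ E x = Ec p H (A.map (Φ x).toMonoidHom) := fun x => Ec_map (hHΦ x) A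
  have hUimg : ∀ x, OrbitProd.img Φ U x = ⁅W, OrbitProd.img Φ E x⁆ := fun x => by
    show (⁅W, E⁆).map _ = _
    rw [map_commutator, hWΦ]
  have hUE : ∀ x, OrbitProd.img Φ U x = U → OrbitProd.img Φ E x = E := fun x hx => by
    rw [hEimg]
    refine Ec_eq_of_plane_eq S (hAtom x) h ?_
    rw [← hEimg, ← hUimg, hx]
  -- the prime `q` is at least `5`
  have hp23 := prime_of_atom S h
  obtain ⟨eiso⟩ := d.iso
  have hdvd : p * (p ^ 2 - 1) ∣ Nat.card G := by
    rw [← card_sl_two, ← Nat.card_congr eiso.toEquiv]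
    exact (card_dvd_of_le d.le).trans
      ((card_map_dvd _ _).trans (Subgroup.card_subgroup_dvd_card _))
  have h6 : 6 ∣ Nat.card G := by
    rcases hp23 with rfl | rfl
    · exact dvd_trans (by norm_num) hdvd
    · exact dvd_trans (by norm_num) hdvd
  have hq2 : q ≠ 2 := fun e => hqG (dvd_trans (by rw [e]; norm_num) h6)
  have hq3 : q ≠ 3 := fun e => hqG (dvd_trans (by rw [e]; norm_num) h6)
  have hUfix : ∀ x, OrbitProd.img Φ U x = U → ∀ u ∈ U, Φ x u = u := by
    intro x hx u hu
    let r : MulAut U := ((Φ x).subgroupMap U).trans (MulEquiv.subgroupCongr hx)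
    have hrv : ∀ (n : ℕ) (v : U), (((r ^ n) v : U) : Amb V) = (Φ x ^ n) v := by
      intro n
      induction n with
      | zero => intro v; rfl
      | succ n ih =>
        intro v
        rw [pow_succ', pow_succ']
        show Φ x (((r ^ n) v : U) : Amb V) = Φ x ((Φ x ^ n) v)
        rw [ih]
    have hr : r ^ q = 1 := MulEquiv.ext fun v => Subtype.ext (by
      rw [hrv, ← map_pow, hX, map_one]; rfl)
    exact congrArg Subtype.val (aut_eq_one_of_small hp23 d.card hq2 hq3 hr ⟨u, hu⟩)
  have hEfix : ∀ x, OrbitProd.img Φ E x = E → ∀ e ∈ E, Φ x e = e := by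
    intro x hx e he
    have hxU : OrbitProd.img Φ U x = U := by rw [hUimg, hx]
    have hxe : Φ x e ∈ E := hx ▸ mem_map_of_mem (Φ x).toMonoidHom he
    have h1 : e⁻¹ * Φ x e ∈ E ⊓ centralizer (U : Set (Amb V)) := by
      refine ⟨(mul_mem (inv_mem he) hxe : e⁻¹ * Φ x e ∈ E), fun u hu => ?_⟩
      have heu : e * u * e⁻¹ ∈ U := (mem_normalizer_iff.1 (d.triv he).2.1 u).1 hu
      have h2 := hUfix x hxU _ heu
      rw [map_mul, map_mul, map_inv, hUfix x hxU u hu] at h2
      calc u * (e⁻¹ * Φ x e) = e⁻¹ * (e * u * e⁻¹) * Φ x e := by group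
        _ = e⁻¹ * (Φ x e * u * (Φ x e)⁻¹) * Φ x e := by rw [h2]
        _ = e⁻¹ * Φ x e * u := by group
    rw [d.faith, mem_bot, inv_mul_eq_one] at h1
    exact h1.symm
  have hUcomm : ∀ x x', OrbitProd.img Φ U x ≠ OrbitProd.img Φ U x' →
      ∀ u ∈ OrbitProd.img Φ U x, ∀ v ∈ OrbitProd.img Φ U x', Commute u v := by
    intro x x' _ u hu v hv
    have hUW : U ≤ W := le_normalizer_iff_commutator_le_left.1 (d.le.trans S.norm)
    exact congrArg Subtype.val (S.elem.1.is_comm.comm
      ⟨u, ((map_mono hUW).trans (hWΦ x).le) hu⟩ ⟨v, ((map_mono hUW).trans (hWΦ x').le) hv⟩)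
  have hEcomm : ∀ x x', OrbitProd.img Φ E x ≠ OrbitProd.img Φ E x' →
      ∀ u ∈ OrbitProd.img Φ E x, ∀ v ∈ OrbitProd.img Φ E x', Commute u v := by
    intro x x' hne u hu v hv
    rw [hEimg, hEimg] at hne
    rw [hEimg] at hu hv
    have h2 : v ∈ Fc p W H (A.map (Φ x).toMonoidHom) :=
      other_le_Fc S hS3 (hAtom x) (hAtom x') (fun e => hne e.symm) hv
    exact commutatorElement_eq_one_iff_mul_comm.1 (mem_bot.1
      ((factorData S hS3 (hAtom x)).comm.le (commutator_mem_commutator hu h2)))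
  obtain ⟨θ, hθ1, hθ2, hθ3, hθ4⟩ := OrbitProd.exists_orbitHom hUfix hUcomm
  obtain ⟨ψE, hψ1, hψ2, hψ3, -⟩ := OrbitProd.exists_orbitHom hEfix hEcomm
  have hUW : U ≤ W := le_normalizer_iff_commutator_le_left.1 (d.le.trans S.norm)
  refine ⟨θ, (injective_iff_map_eq_one θ).2 fun u hu => Subtype.ext ?_,
    hθ3 W (fun x => (map_mono hUW).trans (hWΦ x).le), hθ1, fun P _ hP u u' he => ?_,
    fun e he => ⟨ψE ⟨e, he⟩, hψ3 H (fun x => (map_mono d.le).trans (hHΦ x).le) _,
      fun x => hψ1 x _, ?_⟩⟩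
  · have h1 := hθ2 u
    rw [hu, mul_one] at h1
    have hle : (⨆ (x : X) (_ : OrbitProd.img Φ U x ≠ U), OrbitProd.img Φ U x) ≤
        W ⊓ centralizer (E : Set (Amb V)) := by
      refine iSup₂_le fun x hx => ?_
      rw [hUimg, hEimg]
      refine other_plane_le S hS3 h (hAtom x) fun e => hx ?_
      rw [hUimg, hEimg, e]
    have h2 : (u : Amb V)⁻¹ ∈ U ⊓ (W ⊓ centralizer (E : Set (Amb V))) := ⟨(inv_mem u.2 : (u : Amb V)⁻¹ ∈ U), hle h1⟩
    rw [d.inf, mem_bot, inv_eq_one] at h2
    exact h2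
  · exact hθ4 (MulAut.conj P).toMonoidHom u u' (fun x z => by
      show Φ x (P * z * P⁻¹) = P * Φ x z * P⁻¹
      rw [map_mul, map_mul, map_inv, hP]) he
  · refine (iSup₂_le fun x hx => ?_ : (⨆ (x : X) (_ : OrbitProd.img Φ E x ≠ E), OrbitProd.img Φ E x) ≤ _)
      (hψ2 ⟨e, he⟩)
    rw [hEimg]
    exact other_le_Fc S hS3 h (hAtom x) fun e' => hx (by rw [hEimg, e'])

end Orbit

end CfsgLib.Comp.FF
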