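import Cfsg.Agent.Lib.Comp.FFPlane

/-!
Failure of factorization: the structure theorem.
-/

set_option autoImplicit false
set_option linter.style.haveILetI false
set_option linter.unusedSectionVars false

namespace CfsgLib.Comp.FF

open Subgroup
open scoped commutatorElement MatrixGroups

variable {G : Type*} [Group G] [Finite G] {p : ℕ} [hp : Fact p.Prime] {V H : Subgroup G}

/-- `F = C_H(⁅V, E⁆)`. -/
abbrev Fc (p : ℕ) (V H A : Subgroup G) : Subgroup G :=
  H ⊓ centralizer ((⁅V, Ec p H A⁆ : Subgroup G) : Set G)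

theorem Ec_inf_Fc (S : Setup p V H) {A : Subgroup G} (h : Atom p V H A) :
    Ec p H A ⊓ Fc p V H A = ⊥ :=
  le_bot_iff.1 ((inf_le_inf_left _ inf_le_right).trans (ecData S h).faith.le)

variable (S : Setup p V H)
  (hS3 : H = ⨆ A : {A : Subgroup G // A ≤ H ∧ Cfsg.IsBestOffenderOn p V A}, (A : Subgroup G))

include S hS3

theorem other_le_Fc {A A' : Subgroup G} (h : Atom p V H A) (h' : Atom p V H A')
    (hne : Ec p H A' ≠ Ec p H A) : Ec p H A' ≤ Fc p V H A :=
  (((factorData S hS3 h).dich A' h').resolve_left hne).2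

theorem other_plane_le {A A' : Subgroup G} (h : Atom p V H A) (h' : Atom p V H A')
    (hne : Ec p H A' ≠ Ec p H A) :
    ⁅V, Ec p H A'⁆ ≤ V ⊓ centralizer ((Ec p H A : Subgroup G) : Set G) :=
  (commutator_mono le_rfl (other_le_Fc S hS3 h h' hne)).trans (factorData S hS3 h).comm_V

/-- Factors indexed by a finite set: independence from the fixed points and spanning. -/
theorem planes_finset (s : Finset (Subgroup G))
    (hs : ∀ E ∈ s, ∃ A, Atom p V H A ∧ E = Ec p H A) :
    (V ⊓ centralizer ((s.sup id : Subgroup G) : Set G)) ⊓ s.sup (fun E => ⁅V, E⁆) = ⊥ ∧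
      V ≤ s.sup (fun E => ⁅V, E⁆) ⊔ (V ⊓ centralizer ((s.sup id : Subgroup G) : Set G)) := by
  classical
  induction s using Finset.induction_on with
  | empty =>
    refine ⟨by simp, ?_⟩
    simp only [Finset.sup_empty, bot_sup_eq]
    refine le_inf le_rfl fun x _ y hy => ?_
    rw [SetLike.mem_coe, mem_bot] at hy
    simp [hy]
  | @insert E s hEs ih =>
    obtain ⟨ih1, ih2⟩ := ih fun E' hE' => hs E' (Finset.mem_insert_of_mem hE')
    obtain ⟨A, hA, rfl⟩ := hs E (Finset.mem_insert_self _ s)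
    have d := ecData S hA
    set E := Ec p H A with hE
    set U := ⁅V, E⁆ with hU
    set C := V ⊓ centralizer (E : Set G) with hC
    set W := s.sup (fun E => ⁅V, E⁆) with hW
    set D := s.sup (id : Subgroup G → Subgroup G) with hD
    have hWC : W ≤ C := Finset.sup_le fun E' hE' => by
      obtain ⟨A', hA', rfl⟩ := hs E' (Finset.mem_insert_of_mem hE')
      exact other_plane_le S hS3 hA hA' fun e => hEs (by rw [hE, ← e]; exact hE')
    have hUD : U ≤ V ⊓ centralizer (D : Set G) := by
      refine le_inf (le_normalizer_iff_commutator_le_left.1 (d.le.trans S.norm))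
        (le_centralizer_iff.1 (Finset.sup_le fun E' hE' => ?_))
      obtain ⟨A', hA', rfl⟩ := hs E' (Finset.mem_insert_of_mem hE')
      exact le_centralizer_iff.1 ((other_plane_le S hS3 hA' hA
        fun e => hEs (by rw [hE, e]; exact hE')).trans inf_le_right)
    have hins : (insert E s).sup (id : Subgroup G → Subgroup G) = E ⊔ D := Finset.sup_insert
    have hinsW : (insert E s).sup (fun E => ⁅V, E⁆) = U ⊔ W := Finset.sup_insert
    rw [hins, hinsW, CfsgLib.PLocal.centralizer_sup_eq]
    have hn : ∀ X Y : Subgroup G, X ≤ V → Y ≤ V → X ≤ normalizer (Y : Set G) := fun X Y hX hY =>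
      (hX.trans (le_centralizer_of_elem S.elem hY)).trans (centralizer_le_normalizer _)
    have hUV : U ≤ V := hUD.trans inf_le_left
    have hWV : W ≤ V := hWC.trans inf_le_left
    refine ⟨le_bot_iff.1 fun w hw => ?_, fun v hv => ?_⟩
    · obtain ⟨⟨hwV, hwE, hwD⟩, hwUW⟩ := hw
      obtain ⟨u, hu, r, hr, rfl⟩ := (CfsgLib.Coprime.mem_sup_of_le_normalizer (hn W U hWV hUV)).1 hwUW
      have h1 : u ∈ U ⊓ C := ⟨hu, hUV hu, (Subgroup.mul_mem_cancel_right (centralizer (E : Set G)) (hWC hr).2).1 hwE⟩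
      rw [d.inf, mem_bot] at h1
      rw [h1, one_mul] at hwD hwV ⊢
      rw [← ih1]
      exact ⟨⟨hwV, hwD⟩, hr⟩
    · obtain ⟨w, hw, r, hr, rfl⟩ :=
        (CfsgLib.Coprime.mem_sup_of_le_normalizer (hn (V ⊓ centralizer (D : Set G)) W inf_le_left hWV)).1
          (ih2 hv)
      have hrV : r ∈ U ⊔ C := by rw [d.sup]; exact hr.1
      obtain ⟨u, hu, c, hc, hr'⟩ :=
        (CfsgLib.Coprime.mem_sup_of_le_normalizer (hn C U inf_le_left hUV)).1 hrV
      have hcD : c ∈ centralizer (D : Set G) := by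
        refine (Subgroup.mul_mem_cancel_left (centralizer (D : Set G)) (hUD hu).2).1 ?_
        rw [hr']; exact hr.2
      rw [← hr']
      exact mul_mem (mem_sup_left (mem_sup_right hw))
        (mul_mem (mem_sup_left (mem_sup_left hu)) (mem_sup_right ⟨hc.1, hc.2, hcD⟩))

theorem sup_Ec (s : Finset (Subgroup G)) (hs : ∀ A, Atom p V H A → Ec p H A ∈ s)
    (hs' : ∀ E ∈ s, ∃ A, Atom p V H A ∧ E = Ec p H A) : s.sup id = H := by
  refine le_antisymm (Finset.sup_le fun E hE => ?_) (le_of_atoms S hS3 fun A hA => ?_)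
  · obtain ⟨A, hA, rfl⟩ := hs' E hE
    exact (ecData S hA).le
  · exact (le_sup_right : A ≤ Ec p H A).trans (Finset.le_sup (f := id) (hs A hA))

end CfsgLib.Comp.FF
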