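import Cfsg.Agent.Lib.Comp.PrimeResidualBoth

/-!
Rigid automorphisms of one weakly normal subsystem belong to every other one over the same
subgroup.
-/

set_option autoImplicit false
set_option linter.unusedVariables false
set_option linter.unusedSectionVars false
set_option linter.style.haveILetI false

namespace CfsgLib.Comp.Fus

open Cfsg Cfsg.FusionSystem Subgroup CfsgLib.Fusion

variable {Ω : Type*} [Group Ω] {S T : Subgroup Ω} {F : FusionSystem S} {E E' X : FusionSystem T}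
  {Q M R P : Subgroup Ω} {p : ℕ}

theorem img_img_of_leftInv {r k : Ω → Ω} (hr : IsMap X P r) (hk : IsMap X (img P r) k)
    (hkr : ∀ x ∈ P, k (r x) = x) (hR : R ≤ P) : img (img R r) k = R := by
  ext y
  rw [(hk.mono (img_mono hR)).mem_img]
  constructor
  · rintro ⟨z, hz, rfl⟩
    obtain ⟨x, hx, rfl⟩ := (hr.mono hR).mem_img.1 hz
    rwa [hkr x (hR hx)]
  · exact fun hy => ⟨r y, (hr.mono hR).apply_mem_img hy, hkr y (hR hy)⟩

theorem map_mem_normalizer {f : Ω → Ω} (hf : IsMap X M f) (hR : R ≤ M) {m : Ω} (hm : m ∈ M)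
    (hmn : m ∈ normalizer (R : Set Ω)) : f m ∈ normalizer (img R f : Set Ω) := by
  intro z
  constructor
  · intro hz
    obtain ⟨x, hx, rfl⟩ := (hf.mono hR).mem_img.1 hz
    rw [← hf.map_conj hm (hR hx)]
    exact (hf.mono hR).apply_mem_img ((hmn x).1 hx)
  · intro hz
    obtain ⟨x, hx, hxz⟩ := (hf.mono hR).mem_img.1 hz
    have h' : m⁻¹ * x * m ∈ R := (Subgroup.mem_normalizer_iff''.1 hmn x).1 hx
    have e : f (m⁻¹ * x * m) = z := by
      have h2 := hf.map_conj hm (hR h')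
      rw [show m * (m⁻¹ * x * m) * m⁻¹ = x by group, hxz] at h2
      exact (mul_left_cancel (mul_right_cancel h2)).symm
    exact e ▸ (hf.mono hR).apply_mem_img h'

theorem movable_conj (hR : R ≤ T) {t : Ω} (ht : t ∈ T) (h : Movable E E' Q R) :
    Movable E E' Q (img R fun y => t * y * t⁻¹) := by
  obtain ⟨ψ, hψ, hψ', hi⟩ := h
  set R' := img R fun y => t * y * t⁻¹ with hR'
  have hle : normalizerIn T R' ≤ T := inf_le_left
  have hc : ∀ x ∈ R', t⁻¹ * x * t ∈ R := fun x hx => by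
    obtain ⟨z, hz, rfl⟩ := (isMap_conj E hR ht).mem_img.1 hx
    simpa [mul_assoc] using hz
  have hmem : ∀ x ∈ normalizerIn T R', t⁻¹ * x * t⁻¹⁻¹ ∈ normalizerIn T R := fun x hx => by
    have h1 := map_mem_normalizer (isMap_conj E hle (T.inv_mem ht)) (le_normalizerIn
      (isMap_conj E hR ht).img_le) hx hx.2
    have e : img R' (fun y => t⁻¹ * y * t⁻¹⁻¹) = R :=
      img_img_of_leftInv (isMap_conj E hR ht)
        (isMap_conj E (isMap_conj E hR ht).img_le (T.inv_mem ht)) (fun z _ => by group) le_rfl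
    rw [e] at h1
    exact ⟨T.mul_mem (T.mul_mem (T.inv_mem ht) hx.1) (T.inv_mem (T.inv_mem ht)), h1⟩
  refine ⟨fun x => ψ (t⁻¹ * x * t⁻¹⁻¹), (isMap_conj E hle (T.inv_mem ht)).comp hψ hmem,
    (isMap_conj E' hle (T.inv_mem ht)).comp hψ' hmem, ?_⟩
  rw [← hi]
  ext y
  rw [(hψ.mono (le_normalizerIn hR)).mem_img, (((isMap_conj E hle (T.inv_mem ht)).comp hψ
    hmem).mono (le_normalizerIn (isMap_conj E hR ht).img_le)).mem_img]
  constructor
  · rintro ⟨x, hx, rfl⟩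
    exact ⟨_, by simpa using hc x hx, rfl⟩
  · rintro ⟨x, hx, rfl⟩
    exact ⟨t * x * t⁻¹, (isMap_conj E hR ht).apply_mem_img hx, congrArg ψ (by group)⟩

/-- The maps of the generated system respecting movability onto `Q`. -/
def classSys (E E' : FusionSystem T) (p : ℕ) (Q : Subgroup Ω) : FusionSystem T where
  Hom P := {φ | φ ∈ (genSys E p).Hom P ∧ ∀ R ≤ P, Nat.card R = Nat.card Q →
    (Movable E E' Q R ↔ Movable E E' Q (img R (toFun φ)))}
  le_of_mem h := E.le_of_mem h.1.1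
  injective_of_mem h := E.injective_of_mem h.1.1
  conj_mem {P t} hP ht := ⟨(genSys E p).conj_mem hP ht, fun R hR hc => by
    have e : img R (toFun (conjHom P t)) = img R fun y => t * y * t⁻¹ :=
      img_congr fun x hx => toFun_of_mem _ (hR hx)
    rw [e]
    refine ⟨movable_conj (hR.trans hP) ht, fun h => ?_⟩
    have h2 := movable_conj (isMap_conj E (hR.trans hP) ht).img_le (T.inv_mem ht) h
    rwa [img_img_of_leftInv (isMap_conj E (hR.trans hP) ht)
      (isMap_conj E (isMap_conj E (hR.trans hP) ht).img_le (T.inv_mem ht))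
      (fun z _ => by group) le_rfl] at h2⟩
  comp_mem {P P' φ ψ} hφ hψ h := by
    refine ⟨(genSys E p).comp_mem hφ.1 hψ.1 h, fun R hR hc => ?_⟩
    have hm : IsMap (genSys E p) R (toFun φ) := (isMap_of_hom hφ.1).mono hR
    have hle : img R (toFun φ) ≤ P' := fun y hy => by
      obtain ⟨x, hx, rfl⟩ := hm.mem_img.1 hy
      rw [toFun_of_mem _ (hR hx)]
      exact h ⟨x, hR hx⟩
    rw [hφ.2 R hR hc, hψ.2 _ hle (hm.card_img.trans hc)]
    refine iff_of_eq (congrArg _ ?_)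
    ext y
    rw [((isMap_of_hom hψ.1).mono hle).mem_img,
      ((isMap_of_hom ((genSys E p).comp_mem hφ.1 hψ.1 h)).mono hR).mem_img]
    constructor
    · rintro ⟨z, hz, rfl⟩
      obtain ⟨x, hx, rfl⟩ := hm.mem_img.1 hz
      refine ⟨x, hx, ?_⟩
      rw [toFun_of_mem (ψ.comp (φ.codRestrict P' h)) (hR hx),
        toFun_of_mem ψ (hle (hm.apply_mem_img hx))]
      exact congrArg ψ (Subtype.ext (toFun_of_mem φ (hR hx)).symm)
    · rintro ⟨x, hx, rfl⟩
      refine ⟨_, hm.apply_mem_img hx, ?_⟩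
      rw [toFun_of_mem (ψ.comp (φ.codRestrict P' h)) (hR hx),
        toFun_of_mem ψ (hle (hm.apply_mem_img hx))]
      exact congrArg ψ (Subtype.ext (toFun_of_mem φ (hR hx)))
  inv_mem {P φ} hφ := by
    obtain ⟨ψ, hψ, hψx⟩ := (genSys E p).inv_mem hφ.1
    refine ⟨ψ, ⟨hψ, fun R hR hc => ?_⟩, hψx⟩
    have hm := (isMap_of_hom hψ).mono hR
    have hle : img R (toFun ψ) ≤ P := fun y hy => by
      obtain ⟨x, hx, rfl⟩ := hm.mem_img.1 hy
      obtain ⟨z, hz⟩ := hR hx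
      rw [toFun_of_mem _ (hR hx), show (⟨x, hR hx⟩ : φ.range) = ⟨φ z, z, rfl⟩ from
        Subtype.ext hz.symm, hψx]
      exact z.2
    rw [hφ.2 _ hle (hm.card_img.trans hc)]
    have e : img (img R (toFun ψ)) (toFun φ) = R := by
      refine img_img_of_leftInv (isMap_of_hom hψ) (k := toFun φ) ?_ (fun x hx => ?_) hR
      · refine (isMap_of_hom hφ.1).mono fun y hy => ?_
        obtain ⟨x, hx, rfl⟩ := (isMap_of_hom hψ).mem_img.1 hy
        obtain ⟨z, hz⟩ := id hx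
        rw [toFun_of_mem _ hx, show (⟨x, hx⟩ : φ.range) = ⟨φ z, z, rfl⟩ from
          Subtype.ext hz.symm, hψx]
        exact z.2
      · obtain ⟨z, hz⟩ := id hx
        rw [toFun_of_mem _ hx, show (⟨x, hx⟩ : φ.range) = ⟨φ z, z, rfl⟩ from
          Subtype.ext hz.symm, hψx, toFun_apply]
        exact hz
    rw [e]

section Pair

variable [Fact p.Prime] [Finite S] (hS : IsPGroup p S) (hw : E.IsWeaklyNormalIn F p)
  (hw' : E'.IsWeaklyNormalIn F p) {c : ℕ}
  (IH : ∀ y ∈ E.autGroup T ⊔ E'.autGroup T, ∀ U, E.IsCentric U → c < Nat.card U →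
    IsMap (genSys E p) U (autFun y) → y ∈ bothAut E E' T)

include hS hw hw' IH

theorem both_of_agree {L : Subgroup Ω} {f : Ω → Ω} (hf : IsMap E L f) (hML : M ≤ L)
    (hMc : E.IsCentric M) (hM : c < Nat.card M) (hfM : IsMap E' M f) : IsMap E' L f := by
  have hTS := hw.2.2.2.1.1
  haveI := finite_of_le hTS
  have hTp := hS.to_le hTS
  obtain ⟨a, ha, g₁, hg₁, hfx⟩ := exists_frattini hTp hw.1 hf
  obtain ⟨hg₁E, hg₁E'⟩ := genSys_le_both hS hw hw' hg₁
  obtain ⟨k, hk, hkx, hky, -⟩ := (hg₁E'.mono hML).exists_inv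
  have haM : IsMap E' (img M g₁) (autFun a) :=
    (hk.comp hfM fun z hz => (hky z hz).1).congr fun z hz => by
      obtain ⟨x, hx, rfl⟩ := (hg₁E.mono hML).mem_img.1 hz
      rw [hkx x hx, hfx x (hML hx)]
  obtain ⟨d, hd, g₂, hg₂, hax⟩ := exists_frattini hTp hw'.1 haM
  have hy : d⁻¹ * a ∈ bothAut E E' T := by
    refine IH _ (mul_mem (inv_mem (Subgroup.mem_sup_right hd)) (Subgroup.mem_sup_left ha)) _
      (centric_of_isConj hMc (hg₁E.mono hML).isConj) ((hg₁E.mono hML).card_img.symm ▸ hM) ?_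
    refine (le_iff_isMap.1 (genSys_le_other hS hw' hw) _ _ hg₂).congr fun z hz => ?_
    rw [autFun_mul_apply _ _ (haM.le hz), hax z hz, autFun_inv_apply d (hg₂.mem hz)]
  have ha' : a ∈ E'.autGroup T := by simpa using mul_mem hd hy.2
  exact (hg₁E'.comp (isMap_autFun le_rfl ha') fun x hx => hg₁E'.mem hx).congr fun x hx =>
    (hfx x hx).symm

theorem movable_step (hQc : E.IsCentric Q) (hQn : E.IsFullyNormalized Q)
    (hQ : Nat.card Q = c) {W : Subgroup Ω} {r : Ω → Ω} (hr : IsMap (genSys E p) W r)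
    (hRW : R < W) (h : Movable E E' Q R) : Movable E E' Q (img R r) := by
  have hTS := hw.2.2.2.1.1
  haveI := finite_of_le hTS
  have hTp := hS.to_le hTS
  have hQT := hQc.1
  obtain ⟨hrE, hrE'⟩ := genSys_le_both hS hw hw' hr
  have hWT := hr.le
  haveI := finite_of_le hWT
  have hRT : R ≤ T := hRW.le.trans hWT
  obtain ⟨ψ, hψ, hψ', hψi⟩ := h
  set N₀ := normalizerIn W R
  have hRN₀ : R < N₀ := lt_normalizerIn (hTp.to_le hWT) hRW
  have hN₀W : N₀ ≤ W := inf_le_left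
  have hN₀N : N₀ ≤ normalizerIn T R := inf_le_inf_right _ hWT
  set R' := img R r with hR'
  have hR'T : R' ≤ T := (hrE.mono hRW.le).img_le
  set M₁ := img N₀ r
  have hR'M : R' ≤ M₁ := img_mono hRN₀.le
  have hM₁N : M₁ ≤ normalizerIn T R' := fun y hy => by
    obtain ⟨x, hx, rfl⟩ := (hrE.mono hN₀W).mem_img.1 hy
    exact ⟨hrE.mem hx.1, map_mem_normalizer hrE hRW.le hx.1 hx.2⟩
  obtain ⟨k₁, hk₁, hk₁x, hk₁y, -⟩ := (hrE.mono hN₀W).exists_inv
  obtain ⟨k₁', hk₁', hk₁'x, -, -⟩ := (hrE'.mono hN₀W).exists_inv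
  have hk₁E' : IsMap E' M₁ k₁ := hk₁'.congr fun y hy => by
    obtain ⟨x, hx, rfl⟩ := (hrE.mono hN₀W).mem_img.1 hy
    rw [hk₁x x hx, hk₁'x x hx]
  have hmem : ∀ y ∈ M₁, k₁ y ∈ normalizerIn T R := fun y hy => hN₀N (hk₁y y hy).1
  set φ := fun y => ψ (k₁ y)
  have hφ : IsMap E M₁ φ := hk₁.comp hψ hmem
  have hφ' : IsMap E' M₁ φ := hk₁E'.comp hψ' hmem
  have hφi : img R' φ = Q := by
    rw [← hψi]
    ext y
    rw [(hφ.mono hR'M).mem_img, (hψ.mono (le_normalizerIn hRT)).mem_img]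
    constructor
    · rintro ⟨z, hz, rfl⟩
      obtain ⟨x, hx, rfl⟩ := (hrE.mono hRW.le).mem_img.1 hz
      exact ⟨x, hx, congrArg ψ (hk₁x x (hRN₀.le hx)).symm⟩
    · rintro ⟨x, hx, rfl⟩
      exact ⟨r x, (hrE.mono hRW.le).apply_mem_img hx, congrArg ψ (hk₁x x (hRN₀.le hx))⟩
  haveI := finite_of_le hR'T
  haveI := finite_of_le hQT
  set e : R' ≃* Q := (hφ.mono hR'M).equivImg.trans (MulEquiv.subgroupCongr hφi)
  have he : ∀ x : R', ((e x : Q) : Ω) = φ x := fun x => rfl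
  set θ : (normalizerIn T R' : Subgroup Ω) →* MulAut Q := (MulAut.congr e).toMonoidHom.comp
    (R'.normalizerMonoidHom.comp (Subgroup.inclusion inf_le_right))
  have hθ : ∀ (a : (normalizerIn T R' : Subgroup Ω)) (x : R'),
      ((θ a (e x) : Q) : Ω) = φ ((a : Ω) * x * (a : Ω)⁻¹) := fun a x => by
    show ((e (R'.normalizerMonoidHom (Subgroup.inclusion inf_le_right a) (e.symm (e x))) : Q) : Ω)
      = _
    rw [MulEquiv.symm_apply_apply, he]
    rfl
  have hθX : ∀ {D : FusionSystem T}, IsMap D M₁ φ → θ.range ≤ D.autGroup Q := by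
    intro D hD
    rintro _ ⟨a, rfl⟩
    obtain ⟨k, hk, hkx, hky, -⟩ := (hD.mono hR'M).exists_inv
    rw [hφi] at hk hky
    have hm := (hk.comp (isMap_conj D hR'T a.2.1) fun q hq => (hky q hq).1).comp (hD.mono hR'M)
      fun q hq => (a.2.2 _).1 (hky q hq).1
    refine (autGroup_iff_isMap hQT fun q => ?_).2 hm
    obtain ⟨x, rfl⟩ := e.surjective q
    rw [hθ, he, hkx x x.2]
  have hθB : θ.range ≤ bothAut E E' Q := le_inf (hθX hφ) (hθX hφ')
  have hθp : IsPGroup p θ.range :=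
    (hTp.to_le inf_le_left).of_surjective θ.rangeRestrict θ.rangeRestrict_surjective
  obtain ⟨W₁, hW₁⟩ := exists_sylow_bothAut hS hw hw' hQn
  obtain ⟨W₂, hW₂⟩ := (hθp.of_equiv (Subgroup.subgroupOfEquivOfLe hθB).symm).exists_le_sylow
  haveI : Finite (MulAut Q) := Finite.of_injective (fun e : MulAut Q => (e : Q → Q))
    DFunLike.coe_injective
  obtain ⟨γ, hγ⟩ := MulAction.exists_smul_eq (bothAut E E' Q) W₂ W₁
  have hconj : ∀ a, (γ : MulAut Q) * θ a * (γ : MulAut Q)⁻¹ ∈ autInducedBy T Q := fun a => by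
    have h1 : γ * ⟨θ a, hθB ⟨a, rfl⟩⟩ * γ⁻¹ ∈ (W₁ : Subgroup (bothAut E E' Q)) := by
      rw [← hγ]
      exact ⟨⟨θ a, hθB ⟨a, rfl⟩⟩, hW₂ (Subgroup.mem_subgroupOf.2 ⟨a, rfl⟩), rfl⟩
    rw [hW₁] at h1
    exact h1
  -- the extension
  set f₁ := fun x => autFun (γ : MulAut Q) (φ x)
  have hφQ : ∀ x ∈ R', φ x ∈ Q := fun x hx => hφi ▸ (hφ.mono hR'M).apply_mem_img hx
  have hf₁ : IsMap E R' f₁ := (hφ.mono hR'M).comp (isMap_autFun hQT γ.2.1) hφQ
  have hf₁' : IsMap E' R' f₁ := (hφ'.mono hR'M).comp (isMap_autFun hQT γ.2.2) hφQ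
  have hf₁i : img R' f₁ = Q := by
    rw [show f₁ = fun x => autFun (γ : MulAut Q) (φ x) from rfl,
      img_comp_eq (hφ.mono hR'M) (isMap_autFun hQT γ.2.1) hφQ, hφi, img_autFun]
  obtain ⟨g, hg, hgx⟩ := receptive_extend
    (receptive_of_fullyNormalized hTp hw.1 hQn) hf₁ hf₁i (le_normalizerIn hR'T) fun a ha => by
      refine ⟨ha.1, ha.2, ?_⟩
      obtain ⟨b, hb, hbx⟩ := mem_autInducedBy_iff.1 (hconj ⟨a, ha⟩)
      refine ⟨b, hb, fun x hx => ?_⟩
      have h1 := hbx ((γ : MulAut Q) (e ⟨x, hx⟩))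
      rw [MulAut.mul_apply, MulAut.mul_apply, MulAut.inv_apply_self] at h1
      show autFun (γ : MulAut Q) (φ (a * x * a⁻¹)) = b * autFun (γ : MulAut Q) (φ x) * b⁻¹
      rw [← hθ ⟨a, ha⟩ ⟨x, hx⟩, autFun_apply _ (Subtype.mem _)]
      rw [show φ x = ((e ⟨x, hx⟩ : Q) : Ω) from rfl, autFun_apply _ (Subtype.mem _)]
      exact h1
  refine ⟨g, hg, ?_, (img_congr hgx).trans hf₁i⟩
  refine both_of_agree hS hw hw' IH hg hM₁N ?_ ?_ ?_
  · exact centric_of_le (centric_of_isConj (centric_of_isConj hQc (isConj_symm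
      (hψi ▸ (hψ.mono (le_normalizerIn hRT)).isConj))) (hrE.mono hRW.le).isConj) hR'M
      (hrE.mono hN₀W).img_le
  · rw [(hrE.mono hN₀W).card_img]
    haveI := finite_of_le (hN₀W.trans hWT)
    calc c = Nat.card R := by
          rw [← hQ, ← hψi, (hψ.mono (le_normalizerIn hRT)).card_img]
      _ < Nat.card N₀ := lt_of_not_ge fun hc => hRN₀.ne (eq_of_le_of_card_le hRN₀.le hc)
  · obtain ⟨k₂, hk₂, hk₂x, hk₂y, -⟩ := hφ.exists_inv
    have hh : IsMap E (img M₁ φ) fun q => g (k₂ q) :=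
      hk₂.comp hg fun q hq => hM₁N (hk₂y q hq).1
    obtain ⟨a, ha, g₁, hg₁, hhx⟩ := exists_frattini hTp hw.1 hh
    obtain ⟨hg₁E, hg₁E'⟩ := genSys_le_both hS hw hw' hg₁
    have hQM : Q ≤ img M₁ φ := hφi ▸ img_mono hR'M
    have hMN : img M₁ φ ≤ normalizerIn T Q := fun q hq => by
      obtain ⟨m, hm, rfl⟩ := hφ.mem_img.1 hq
      exact ⟨hφ.mem hm, hφi ▸ map_mem_normalizer hφ hR'M hm (hM₁N hm).2⟩
    have hval : ∀ q : Q, g (k₂ q) = (((γ : MulAut Q) q : Q) : Ω) := fun q => by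
      obtain ⟨x, rfl⟩ := e.surjective q
      rw [he, hk₂x x (hR'M x.2), hgx x x.2]
      show autFun (γ : MulAut Q) (φ x) = _
      rw [← he, autFun_apply _ (Subtype.mem _)]
    have hQ₁ : IsMap E Q fun q => g (k₂ q) := (autGroup_iff_isMap hQT fun q => (hval q).symm).1 γ.2.1
    have hQ₂ : IsMap E' Q fun q => g (k₂ q) :=
      (autGroup_iff_isMap hQT fun q => (hval q).symm).1 γ.2.2
    have hi : img Q (fun q => g (k₂ q)) = Q := by
      refine eq_of_le_of_card_le (fun z hz => ?_) hQ₁.card_img.ge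
      obtain ⟨q, hq, rfl⟩ := hQ₁.mem_img.1 hz
      rw [hval ⟨q, hq⟩]
      exact Subtype.mem _
    have h2 := (both_of_form hS hw hw' hQc hQn hQM hMN (Subgroup.mem_sup_left ha) hg₁E hg₁E' hhx
      hQ₁ hQ₂ hi).2
    exact (hφ'.comp h2 fun m hm => hφ.apply_mem_img hm).congr fun m hm => by
      show g (k₂ (φ m)) = g m
      rw [hk₂x m hm]

theorem genSys_le_classSys (hQc : E.IsCentric Q) (hQn : E.IsFullyNormalized Q)
    (hQ : Nat.card Q = c) : genSys E p ≤ classSys E E' p Q := by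
  refine genSys_le_of fun P hP β hβ => ?_
  have hβg := containsPAut_genSys P hP hβ
  refine (autGroup_mem_iff hP.1).2 ⟨(autGroup_mem_iff hP.1).1 hβg, fun R hR hc => ?_⟩
  have hm := isMap_of_autGroup hP.1 hβg
  have hi := img_toFun_aut (P := P) β
  rcases eq_or_lt_of_le hR with rfl | hlt
  · rw [hi]
  obtain ⟨k, hk, hkx, -, hki⟩ := hm.exists_inv
  refine ⟨movable_step hS hw hw' IH hQc hQn hQ hm hlt, fun h => ?_⟩
  have hlt' : img R (toFun (P.subtype.comp β.toMonoidHom)) < img P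
      (toFun (P.subtype.comp β.toMonoidHom)) := by
    refine lt_of_le_of_ne (img_mono hR) fun he => hlt.ne ?_
    have e1 : img (img R (toFun (P.subtype.comp β.toMonoidHom))) k =
        img (img P (toFun (P.subtype.comp β.toMonoidHom))) k := by rw [he]
    rwa [img_img_of_leftInv hm hk hkx hR, img_img_of_leftInv hm hk hkx le_rfl] at e1
  have h2 := movable_step hS hw hw' IH hQc hQn hQ hk hlt' h
  rwa [img_img_of_leftInv hm hk hkx hR] at h2

end Pair

section Main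

variable [Fact p.Prime] [Finite S] (hS : IsPGroup p S) (hw : E.IsWeaklyNormalIn F p)
  (hw' : E'.IsWeaklyNormalIn F p)

include hS hw hw'

/-- An element of `Aut_E(T) Aut_{E'}(T)` agreeing with a map of the generated system on a centric
subgroup lies in both systems. -/
theorem mem_both_of_agree : ∀ y ∈ E.autGroup T ⊔ E'.autGroup T, ∀ U, E.IsCentric U →
    IsMap (genSys E p) U (autFun y) → y ∈ bothAut E E' T := by
  obtain ⟨hEsat, hF, hinv⟩ := id hw
  obtain ⟨hE'sat, -, hinv'⟩ := id hw'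
  have hTS := hinv.2.1.1
  haveI := finite_of_le hTS
  have hTp := hS.to_le hTS
  suffices key : ∀ k, ∀ y ∈ E.autGroup T ⊔ E'.autGroup T, ∀ U, E.IsCentric U →
      Nat.card T - Nat.card U = k → IsMap (genSys E p) U (autFun y) → y ∈ bothAut E E' T from
    fun y hy U hU h => key _ y hy U hU rfl h
  intro k
  induction k using Nat.strong_induction_on with
  | _ k ih =>
  intro y hy U hU hk hyU
  have hUT := hU.1
  rcases eq_or_lt_of_le hUT with rfl | hlt
  · obtain ⟨h1, h2⟩ := genSys_le_both hS hw hw' hyU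
    exact ⟨(autGroup_iff_isMap le_rfl fun x => (autFun_apply y x.2).symm).2 h1,
      (autGroup_iff_isMap le_rfl fun x => (autFun_apply y x.2).symm).2 h2⟩
  have IH : ∀ z ∈ E.autGroup T ⊔ E'.autGroup T, ∀ V, E.IsCentric V →
      Nat.card U < Nat.card V → IsMap (genSys E p) V (autFun z) → z ∈ bothAut E E' T :=
    fun z hz V hV hc => ih _ (by have := Subgroup.card_le_of_le hV.1; omega) z hz V hV rfl
  have hyF : y ∈ F.autGroup T := by
    have hle : E.autGroup T ⊔ E'.autGroup T ≤ F.autGroup T :=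
      sup_le (fun α hα => (autGroup_mem_iff hTS).2 (hinv.1 T ((autGroup_mem_iff le_rfl).1 hα)))
        (fun α hα => (autGroup_mem_iff hTS).2 (hinv'.1 T ((autGroup_mem_iff le_rfl).1 hα)))
    exact hle hy
  -- a fully normalized conjugate
  obtain ⟨Q₀, hQ₀, hQ₀n⟩ := exists_fullyNormalized_conj E hUT
  obtain ⟨f, hf, hfi⟩ := isConj_iff.1 hQ₀
  obtain ⟨b, hb, g₀, hg₀, hfx⟩ := exists_frattini hTp hEsat hf
  set Q := img U g₀
  have hQn : E.IsFullyNormalized Q := by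
    refine fullyNormalized_of_autFun hTp hEsat hb hg₀.img_le ?_
    have e : img Q (autFun b) = Q₀ := by
      rw [← hfi, ← img_comp_eq (le_iff_isMap.1 genSys_le U g₀ hg₀)
        ((isMap_autFun le_rfl hb).mono hg₀.img_le) fun x hx => hg₀.apply_mem_img hx]
      exact img_congr fun x hx => (hfx x hx).symm
    rwa [e]
  have hQc : E.IsCentric Q :=
    centric_of_isConj hU (le_iff_isMap.1 genSys_le U g₀ hg₀).isConj
  have hcard : Nat.card Q = Nat.card U := hg₀.card_img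
  have hcls := genSys_le_classSys hS hw hw' IH hQc hQn hcard
  have hmove : ∀ {g : Ω → Ω}, IsMap (genSys E p) U g →
      (Movable E E' Q U ↔ Movable E E' Q (img U g)) := fun {g} hg => by
    obtain ⟨φ, hφ, hφx⟩ := le_iff_isMap.1 hcls U g hg
    rw [hφ.2 U le_rfl hcard.symm, img_congr fun x hx => (toFun_of_mem φ hx).trans (hφx ⟨x, hx⟩)]
  have hQQ : Movable E E' Q Q := ⟨id, isMap_id E inf_le_left, isMap_id E' inf_le_left, by
    rw [img]; simp⟩
  have hUm : Movable E E' Q U := (hmove hg₀).2 hQQ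
  obtain ⟨ψ₁, hψ₁, hψ₁', hψ₁i⟩ := hUm
  obtain ⟨ψ₂, hψ₂, hψ₂', hψ₂i⟩ := (hmove hyU).1 ⟨ψ₁, hψ₁, hψ₁', hψ₁i⟩
  set V := img U (autFun y)
  set N := normalizerIn T U
  set M := img N ψ₁
  have hUN : U ≤ N := le_normalizerIn hUT
  have hQM : Q ≤ M := hψ₁i ▸ img_mono hUN
  have hMN : M ≤ normalizerIn T Q := fun q hq => by
    obtain ⟨m, hm, rfl⟩ := hψ₁.mem_img.1 hq
    exact ⟨hψ₁.mem hm, hψ₁i ▸ map_mem_normalizer hψ₁ hUN hm hm.2⟩
  have hym := isMap_autFun hTS hyF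
  have hyN : ∀ x ∈ N, autFun y x ∈ normalizerIn T V := fun x hx =>
    ⟨autFun_mem y hx.1, map_mem_normalizer hym hUT hx.1 hx.2⟩
  obtain ⟨k₁, hk₁, hk₁x, hk₁y, -⟩ := hψ₁.exists_inv
  obtain ⟨k₁', hk₁', hk₁'x, -, -⟩ := hψ₁'.exists_inv
  have hk₁E' : IsMap E' M k₁ := hk₁'.congr fun z hz => by
    obtain ⟨x, hx, rfl⟩ := hψ₁.mem_img.1 hz
    rw [hk₁x x hx, hk₁'x x hx]
  set h := fun q => ψ₂ (autFun y (k₁ q))
  set e := fun q => autFun y⁻¹ (ψ₂ (autFun y (k₁ q)))
  have heX : ∀ {D : FusionSystem T}, D.IsInvariantIn F → IsMap D (normalizerIn T V) ψ₂ →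
      IsMap D M k₁ → IsMap D M e := by
    intro D hD hψ hk
    obtain ⟨ψ', hψ', hψ'x⟩ := IsInvariantIn.transport hD (inv_mem hyF) hψ
    refine (hk.comp hψ' fun q hq => ?_).congr fun q hq => ?_
    · have h1 := ((isMap_autFun hTS (inv_mem hyF)).mono (inf_le_left : normalizerIn T V ≤ T)
        ).apply_mem_img (hyN _ (hk₁y q hq).1)
      rwa [autFun_inv_apply y (hk₁.mem hq)] at h1
    · have h1 := hψ'x _ (hyN _ (hk₁y q hq).1)
      rwa [autFun_inv_apply y (hk₁.mem hq)] at h1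
  have hhx : ∀ q ∈ M, h q = autFun y (e q) := fun q hq =>
    (autFun_apply_inv y (hψ₂.mem (hyN _ (hk₁y q hq).1))).symm
  have hkU : ∀ q ∈ Q, k₁ q ∈ U := fun q hq => by
    obtain ⟨x, hx, rfl⟩ := (hψ₁.mono hUN).mem_img.1 (hψ₁i.symm ▸ hq)
    rwa [hk₁x x (hUN hx)]
  have hkV : ∀ q ∈ Q, autFun y (k₁ q) ∈ V := fun q hq =>
    ((genSys_le_both hS hw hw' hyU).1).apply_mem_img (hkU q hq)
  have hVT : V ≤ normalizerIn T V := le_normalizerIn hyU.img_le
  obtain ⟨hyE, hyE'⟩ := genSys_le_both hS hw hw' hyU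
  have hQ₁ : IsMap E Q h := ((hk₁.mono hQM).comp hyE hkU).comp (hψ₂.mono hVT) hkV
  have hQ₂ : IsMap E' Q h := ((hk₁E'.mono hQM).comp hyE' hkU).comp (hψ₂'.mono hVT) hkV
  have hi : img Q h = Q := by
    haveI := finite_of_le hQc.1
    refine eq_of_le_of_card_le (fun z hz => ?_) hQ₁.card_img.ge
    obtain ⟨q, hq, rfl⟩ := hQ₁.mem_img.1 hz
    have h1 := (hψ₂.mono hVT).apply_mem_img (hkV q hq)
    rwa [hψ₂i] at h1
  obtain ⟨hhE, hhE'⟩ := both_of_form hS hw hw' hQc hQn hQM hMN hy (heX hinv hψ₂ hk₁)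
    (heX hinv' hψ₂' hk₁E') hhx hQ₁ hQ₂ hi
  -- back to the normalizer
  have hback : ∀ {D : FusionSystem T}, IsMap D M h → IsMap D N ψ₁ →
      IsMap D (normalizerIn T V) ψ₂ → IsMap D N (autFun y) := by
    intro D hh hψ hψ'
    obtain ⟨k₂, hk₂, hk₂x, -, -⟩ := hψ'.exists_inv
    have hmem : ∀ x ∈ N, h (ψ₁ x) ∈ img (normalizerIn T V) ψ₂ := fun x hx => by
      show ψ₂ (autFun y (k₁ (ψ₁ x))) ∈ _
      rw [hk₁x x hx]
      exact hψ'.apply_mem_img (hyN x hx)
    refine ((hψ.comp hh fun x hx => hψ₁.apply_mem_img hx).comp hk₂ hmem).congr fun x hx => ?_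
    show k₂ (ψ₂ (autFun y (k₁ (ψ₁ x)))) = _
    rw [hk₁x x hx, hk₂x _ (hyN x hx)]
  have hNc : E.IsCentric N := centric_of_le hU hUN inf_le_left
  have hNlt : Nat.card U < Nat.card N := by
    haveI : Finite N := finite_of_le (inf_le_left : N ≤ T)
    exact lt_of_not_ge fun hc => (lt_normalizerIn hTp hlt).ne (eq_of_le_of_card_le hUN hc)
  refine ⟨?_, ?_⟩
  · obtain ⟨a, ha, g₁, hg₁, hax⟩ := exists_frattini hTp hEsat (hback hhE hψ₁ hψ₂)
    have hz := IH (a⁻¹ * y) (mul_mem (inv_mem (Subgroup.mem_sup_left ha)) hy) N hNc hNlt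
      (hg₁.congr fun x hx => by
        rw [autFun_mul_apply _ _ hx.1, hax x hx, autFun_inv_apply a (hg₁.mem hx)])
    simpa using mul_mem ha hz.1
  · obtain ⟨a, ha, g₁, hg₁, hax⟩ := exists_frattini hTp hE'sat (hback hhE' hψ₁' hψ₂')
    have hz := IH (a⁻¹ * y) (mul_mem (inv_mem (Subgroup.mem_sup_right ha)) hy) N hNc hNlt
      ((le_iff_isMap.1 (genSys_le_other hS hw' hw) _ _ hg₁).congr fun x hx => by
        rw [autFun_mul_apply _ _ hx.1, hax x hx, autFun_inv_apply a (hg₁.mem hx)])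
    simpa using mul_mem ha hz.2

/-- The `p'`-residual of a weakly normal subsystem lies in every other one over the same
subgroup. -/
theorem ppSys_le_other [Finite T] (hT : IsPGroup p T) : ppSys hT hw.1 ≤ E' := by
  refine ppSys_le_of hT hw.1 (fun P φ h => genSys_le P (genSys_le_other hS hw hw' P h))
    fun α hα => ?_
  have hle : rigidAut E p ≤ E'.autGroup T := (Subgroup.closure_le _).2 fun a ⟨ha, U, hU, haU⟩ =>
    (mem_both_of_agree hS hw hw' a (Subgroup.mem_sup_left ha) U hU haU).2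
  exact isMap_autFun le_rfl (hle hα)

end Main

end CfsgLib.Comp.Fus
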