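import Cfsg.Agent.Lib.Comp.FusionStabilizer
import Cfsg.Agent.Lib.Comp.PrimeResidualMove

/-!
Automorphisms of `T` agreeing on a centric subgroup with a map of an invariant subsystem.
-/

set_option autoImplicit false
set_option linter.unusedVariables false
set_option linter.unusedSectionVars false
set_option linter.style.haveILetI false

namespace CfsgLib.Comp.Fus

open Cfsg Cfsg.FusionSystem Subgroup CfsgLib.Fusion

variable {Ω : Type*} [Group Ω] {S T : Subgroup Ω} {F : FusionSystem S} {E : FusionSystem T}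
  {P : Subgroup Ω} {p : ℕ}

variable [Fact p.Prime] [Finite S] (hS : IsPGroup p S) (hw : E.IsWeaklyNormalIn F p)
  {K : Subgroup (MulAut T)} (hKE : E.autGroup T ≤ K)
  (hKp : ∀ π ∈ F.autGroup T, (∃ k : ℕ, π ^ p ^ k = 1) → π ∈ K)

include hS hw hKE hKp

/-- An automorphism agreeing with a map of the invariant subsystem on a centric subgroup lies in
every subgroup containing the automizer of the subsystem and all elements of `p`-power order. -/
theorem mem_of_agree_centric : ∀ y ∈ F.autGroup T, ∀ U, E.IsCentric U →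
    IsMap E U (autFun y) → y ∈ K := by
  obtain ⟨hEsat, hF, hinv⟩ := id hw
  obtain ⟨hsub, hsc, -, hfrat⟩ := isInvariantIn_iff.1 hinv
  have hTS := hsc.1
  haveI := finite_of_le hTS
  have hTp := hS.to_le hTS
  suffices key : ∀ n, ∀ y ∈ F.autGroup T, ∀ U, E.IsCentric U →
      Nat.card T - Nat.card U = n → IsMap E U (autFun y) → y ∈ K from
    fun y hy U hU h => key _ y hy U hU rfl h
  intro n
  induction n using Nat.strong_induction_on with
  | _ n ih =>
  intro y hy U hU hn hyU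
  have hUT := hU.1
  rcases eq_or_lt_of_le hUT with rfl | hlt
  · exact hKE ((autGroup_iff_isMap le_rfl fun x => (autFun_apply y x.2).symm).2 hyU)
  set N := normalizerIn T U with hN
  have hUN : U ≤ N := le_normalizerIn hUT
  have hNT : N ≤ T := inf_le_left
  haveI : Finite N := finite_of_le hNT
  haveI : Finite U := finite_of_le hUT
  have hcard : Nat.card U < Nat.card N :=
    lt_of_not_ge fun hc => (lt_normalizerIn hTp hlt).ne (eq_of_le_of_card_le hUN hc)
  have hym := isMap_autFun hTS hy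
  obtain ⟨g₀, hg₀, hg₀x⟩ := receptive_extend (receptive_of_fullyCentralized hTp hEsat
    (centric_fullyCentralized (centric_of_isConj hU hyU.isConj))) hyU rfl hUN (R := N)
    fun a ha => ⟨ha.1, ha.2, autFun y a, autFun_mem y ha.1,
      fun x hx => hym.map_conj ha.1 (hUT hx)⟩
  -- the difference
  set δ := fun a => autFun y⁻¹ (g₀ a) with hδdef
  have hδF : IsMap F N δ := ((isSubsystemOf_iff.1 hsub) N g₀ hg₀).comp
    (isMap_autFun hTS (inv_mem hy)) fun a ha => hg₀.mem ha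
  have hδU : ∀ x ∈ U, δ x = x := fun x hx => by
    show autFun y⁻¹ (g₀ x) = x
    rw [hg₀x x hx, autFun_inv_apply y (hUT hx)]
  have hδN : ∀ a ∈ N, δ a ∈ N := fun a ha => by
    refine ⟨autFun_mem _ (hg₀.mem ha), ?_⟩
    have h := map_mem_normalizer hδF hUN ha ha.2
    rwa [show img U δ = U from (img_congr hδU).trans (by rw [img]; simp)] at h
  have hδi : img N δ = N := eq_of_le_of_card_le (fun z hz => by
    obtain ⟨a, ha, rfl⟩ := hδF.mem_img.1 hz
    exact hδN a ha) hδF.card_img.ge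
  have hQ : centralizerIn T U ≤ U := hU.2 U (isConj_refl hUT)
  have hδc : hδF.toAut hδi ∈ chainAut F U N := by
    refine mem_chainAut.2 ⟨hδF.toAut_mem hδi, fun x hx => Subtype.ext ?_, fun x => ?_⟩
    · rw [IsMap.toAut_apply, hδU x hx]
    · rw [IsMap.toAut_apply]
      refine hQ ⟨T.mul_mem (T.inv_mem (hNT x.2)) (hNT (hδN x x.2)), fun q hq => ?_⟩
      have hq' : (x : Ω) * q * (x : Ω)⁻¹ ∈ U := (x.2.2 q).1 hq
      have e := hδF.map_conj x.2 (hUN hq)
      rw [hδU _ hq', hδU q hq] at e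
      calc q * ((x : Ω)⁻¹ * δ x) = (x : Ω)⁻¹ * ((x : Ω) * q * (x : Ω)⁻¹) * δ x := by group
        _ = (x : Ω)⁻¹ * (δ x * q * (δ x)⁻¹) * δ x := by rw [← e]
        _ = (x : Ω)⁻¹ * δ x * q := by group
  -- conjugate into the Sylow subgroup at a fully normalized conjugate
  obtain ⟨N₁, hN₁, hN₁n⟩ := exists_fullyNormalized_conj F (hNT.trans hTS)
  obtain ⟨φ, hφ, hφi⟩ := isConj_iff.1 hN₁
  subst hφi
  haveI := finite_of_le hφ.img_le
  set δ₁ := MulAut.congr hφ.equivImg (hδF.toAut hδi)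
  have hδ₁ : δ₁ ∈ F.autGroup (img N φ) := hφ.congr_mem_autGroup (hδF.toAut_mem hδi)
  obtain ⟨k, hk⟩ := isPGroup_chainAut hS (hUT.trans hTS) ⟨_, hδc⟩
  have hk' : δ₁ ^ p ^ k = 1 := by
    rw [← map_pow]
    have h1 : hδF.toAut hδi ^ p ^ k = 1 := congrArg Subtype.val hk
    rw [h1, map_one]
  obtain ⟨i, -, hi⟩ := (Nat.dvd_prime_pow Fact.out).1 (orderOf_dvd_of_pow_eq_one hk')
  obtain ⟨γ, hγ, hγ'⟩ := exists_conj_le_autInducedBy
    (fullyAutomized_of_fullyNormalized hS hF hN₁n) (Subgroup.zpowers δ₁)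
    (IsPGroup.of_card (n := i) (by rw [Nat.card_zpowers, hi])) (Subgroup.zpowers_le.2 hδ₁)
  obtain ⟨s, hs, hsx⟩ := mem_autInducedBy_iff.1 (hγ' δ₁ (Subgroup.mem_zpowers _))
  set φ' := fun a => autFun γ (φ a)
  have hφ' : IsMap F N φ' := hφ.comp (isMap_autFun hφ.img_le hγ) fun a ha => hφ.apply_mem_img ha
  have hφδ : ∀ a ∈ N, φ' (δ a) = s * φ' a * s⁻¹ := fun a ha => by
    have h := hsx (γ (hφ.equivImg ⟨a, ha⟩))
    rw [MulAut.mul_apply, MulAut.mul_apply, MulAut.inv_apply_self] at h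
    show autFun γ (φ (δ a)) = s * autFun γ (φ a) * s⁻¹
    rw [autFun_apply γ (hφ.apply_mem_img (hδN a ha)), autFun_apply γ (hφ.apply_mem_img ha)]
    have e1 : (⟨φ (δ a), hφ.apply_mem_img (hδN a ha)⟩ : img N φ) =
        δ₁ (hφ.equivImg ⟨a, ha⟩) := Subtype.ext (by
      show _ = ((hφ.equivImg ((hδF.toAut hδi) (hφ.equivImg.symm (hφ.equivImg ⟨a, ha⟩))) :
        img N φ) : Ω)
      rw [MulEquiv.symm_apply_apply, IsMap.coe_equivImg, IsMap.toAut_apply])
    rw [e1]
    exact h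
  -- the Frattini decomposition
  obtain ⟨b₀, hb₀, e, he, hex⟩ := hfrat N φ' hNT hφ'
  set b := hb₀.toAut (StronglyClosed.img_eq hsc hb₀ le_rfl)
  have hb : b ∈ F.autGroup T := hb₀.toAut_mem _
  have hbx : ∀ x ∈ T, autFun b x = b₀ x := fun x hx => by
    rw [autFun_apply b hx]; exact hb₀.toAut_apply _ ⟨x, hx⟩
  set cs := T.normalizerMonoidHom ⟨s, StronglyClosed.le_normalizer hsc hs⟩
  have hcsF : cs ∈ F.autGroup T := (autGroup_iff_isMap hTS fun x => rfl).2 (isMap_conj F hTS hs)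
  have hcsx : ∀ x ∈ T, autFun cs x = s * x * s⁻¹ := fun x hx => by rw [autFun_apply cs hx]; rfl
  set π := b⁻¹ * cs * b with hπdef
  have hπF : π ∈ F.autGroup T := mul_mem (mul_mem (inv_mem hb) hcsF) hb
  have hπK : π ∈ K := by
    refine hKp π hπF ?_
    obtain ⟨m, hm⟩ := IsPGroup.iff_card.1 hS
    refine ⟨m, ?_⟩
    have hs1 : s ^ p ^ m = 1 := by
      have h := pow_card_eq_one' (x := (⟨s, hs⟩ : S))
      rw [hm] at h
      exact congrArg Subtype.val h
    have h1 : cs ^ p ^ m = 1 := by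
      have e1 : (⟨s, StronglyClosed.le_normalizer hsc hs⟩ :
          (Subgroup.normalizer (T : Set Ω) : Subgroup Ω)) ^ p ^ m = 1 := Subtype.ext hs1
      rw [← map_pow, e1, map_one]
    have h2 : π = MulAut.conj b⁻¹ cs := by simp [hπdef]
    rw [h2, ← map_pow, h1, map_one]
  have hπg : ∀ a ∈ N, autFun π (e a) = e (δ a) := fun a ha => by
    rw [hπdef, autFun_mul_apply _ _ (he.mem ha), autFun_mul_apply _ _ (autFun_mem b (he.mem ha)),
      hbx _ (he.mem ha), ← hex a ha, hcsx _ (hex a ha ▸ StronglyClosed.apply_mem hsc hb₀ (he.mem ha) (he.mem ha)),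
      ← hφδ a ha, hex _ (hδN a ha), ← hbx _ (he.mem (hδN a ha)),
      autFun_inv_apply b (he.mem (hδN a ha))]
  set N₂ := img N e
  have hN₂T : N₂ ≤ T := he.img_le
  haveI := finite_of_le hN₂T
  have hπm := (isMap_autFun hTS hπF).mono hN₂T
  have hπi : img N₂ (autFun π) = N₂ := eq_of_le_of_card_le (fun z hz => by
    obtain ⟨w, hw', rfl⟩ := hπm.mem_img.1 hz
    obtain ⟨a, ha, rfl⟩ := he.mem_img.1 hw'
    rw [hπg a ha]
    exact he.apply_mem_img (hδN a ha)) hπm.card_img.ge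
  have hπ' : ∀ z ∈ N₂, autFun π⁻¹ z ∈ N₂ := fun z hz => by
    obtain ⟨w, hw', rfl⟩ := hπm.mem_img.1 (hπi.symm ▸ hz)
    rwa [autFun_inv_apply π (hN₂T hw')]
  have hπm' := (isMap_autFun hTS (inv_mem hπF)).mono hN₂T
  have hπi' : img N₂ (autFun π⁻¹) = N₂ := eq_of_le_of_card_le (fun z hz => by
    obtain ⟨w, hw', rfl⟩ := hπm'.mem_img.1 hz
    exact hπ' w hw') hπm'.card_img.ge
  obtain ⟨j, hj, hjx, hjy, -⟩ := he.exists_inv
  obtain ⟨g₁, hg₁, hg₁x⟩ := IsInvariantIn.transport hinv (inv_mem hπF) hj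
  rw [hπi'] at hg₁
  obtain ⟨l, hl, hlx, hly, -⟩ := hg₁.exists_inv
  have hW : IsMap E (img N₂ g₁) (autFun (y * π)) := by
    refine ((hl.comp hj fun z hz => (hly z hz).1).comp hg₀ fun z hz =>
      (hjy _ (hly z hz).1).1).congr fun z hz => ?_
    obtain ⟨x, hx, rfl⟩ := hg₁.mem_img.1 hz
    show g₀ (j (l (g₁ x))) = _
    rw [hlx x hx]
    have hjm := (hjy x hx).1
    have hz' : autFun π x ∈ N₂ := hπi ▸ hπm.apply_mem_img hx
    have e1 := hg₁x _ hz'
    rw [autFun_inv_apply π (hN₂T hx)] at e1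
    have e2 : j (autFun π x) = δ (j x) := by
      conv_lhs => rw [← (hjy x hx).2]
      rw [hπg _ hjm, hjx _ (hδN _ hjm)]
    rw [e1, e2, autFun_mul_apply _ _ (autFun_mem _ (hNT (hδN _ hjm))),
      autFun_apply_inv π (hNT (hδN _ hjm))]
    exact (autFun_apply_inv y (hg₀.mem hjm)).symm
  have hNc : E.IsCentric N := centric_of_le hU hUN hNT
  have hWc : E.IsCentric (img N₂ g₁) :=
    centric_of_isConj (centric_of_isConj hNc he.isConj) hg₁.isConj
  have hWcard : Nat.card U < Nat.card (img N₂ g₁) := by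
    rw [hg₁.card_img, he.card_img]; exact hcard
  have hlt' : Nat.card (img N₂ g₁) ≤ Nat.card T := Subgroup.card_le_of_le hWc.1
  have h := ih _ (by omega) (y * π) (mul_mem hy hπF) _ hWc rfl hW
  simpa using mul_mem h (inv_mem hπK)

end CfsgLib.Comp.Fus
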