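import Cfsg.Agent.Lib.Fusion.CoprimeExtension
import Cfsg.Agent.Lib.Fusion.Alperin

/-!
The saturated subsystem given by an automorphism of order prime to `p` of a subgroup; extremely
sparse fusion systems.
-/

set_option autoImplicit false
set_option linter.unusedVariables false
set_option linter.unusedSectionVars false
set_option linter.style.haveILetI false

namespace CfsgLib.Comp.Fus

open Cfsg Cfsg.FusionSystem Subgroup CfsgLib.Fusion

variable {Ω : Type*} [Group Ω] {S T : Subgroup Ω} [Finite S] {F : FusionSystem S} {p : ℕ}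
  [Fact p.Prime]

/-- An automorphism of order prime to `p` of `T` gives a saturated subsystem on `T`, all of whose
maps are restrictions of powers of it followed by inner automorphisms. -/
theorem exists_autSystem (hS : IsPGroup p S) (hT : T ≤ S) {β : MulAut T}
    (hβ : β ∈ F.autGroup T) (hco : (orderOf β).Coprime p) :
    ∃ E : FusionSystem T, E.IsSaturated p ∧ E.IsSubsystemOf F ∧ β ∈ E.autGroup T ∧
      ∀ (P : Subgroup Ω) (φ : P →* Ω), φ ∈ E.Hom P → ∃ γ ∈ Inn T ⊔ zpowers β,
        ∀ (x : P) (hx : (x : Ω) ∈ T), φ x = ((γ ⟨x, hx⟩ : T) : Ω) := by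
  haveI := finite_of_le hT
  have hTp : IsPGroup p T := isPGroup_of_le hS hT
  let L : Subgroup (MulAut T) := zpowers β
  have hL : (Nat.card L).Coprime p := by rwa [Nat.card_zpowers]
  let G := SemidirectProduct T L L.subtype
  haveI : Finite G := Finite.of_equiv _ (SemidirectProduct.equivProd (φ := L.subtype)).symm
  let ι : T →* G := SemidirectProduct.inl
  have hι : Function.Injective ι := SemidirectProduct.inl_injective
  obtain ⟨e, he⟩ := hTp.exists_card_eq
  have hcard : Nat.card ι.range = p ^ (Nat.card G).factorization p := by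
    have h1 : Nat.card ι.range = p ^ e := by
      rw [← he]
      exact (Nat.card_congr (MonoidHom.ofInjective hι).toEquiv).symm
    have h2 : Nat.card G = p ^ e * Nat.card L := by
      rw [Nat.card_congr (SemidirectProduct.equivProd (φ := L.subtype)), Nat.card_prod, he]
    have hp : p.Prime := Fact.out
    rw [h1, h2, Nat.factorization_mul (pow_ne_zero _ hp.ne_zero) Nat.card_pos.ne',
      Finsupp.add_apply, Nat.factorization_eq_zero_of_not_dvd (hp.coprime_iff_not_dvd.1 hL.symm),
      hp.factorization_pow, Finsupp.single_eq_same, add_zero]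
  -- the automorphism of `T` induced by an element of the semidirect product
  let act : G → MulAut T := fun g => MulAut.conj g.left * (g.right : MulAut T)
  have hact : ∀ (g : G) (x : T), g * ι x * g⁻¹ = ι (act g x) := by
    intro g x
    have h := SemidirectProduct.inl_aut (φ := L.subtype) g.right x
    have hg : g = ι g.left * SemidirectProduct.inr g.right :=
      (SemidirectProduct.inl_left_mul_inr_right g).symm
    calc g * ι x * g⁻¹
        = ι g.left * (SemidirectProduct.inr g.right * ι x * (SemidirectProduct.inr g.right)⁻¹) *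
            (ι g.left)⁻¹ := by
          conv_lhs => rw [hg]
          rw [mul_inv_rev]
          simp only [mul_assoc]
      _ = ι g.left * ι ((g.right : MulAut T) x) * (ι g.left)⁻¹ := by
          rw [← map_inv (SemidirectProduct.inr (φ := L.subtype))]
          exact congrArg (fun z => ι g.left * z * (ι g.left)⁻¹) h.symm
      _ = ι (act g x) := by
          rw [← map_inv, ← map_mul, ← map_mul]
          rfl
  have hacti : ∀ g : G, act g ∈ Inn T ⊔ zpowers β := fun g =>
    mul_mem (mem_sup_left ⟨g.left, rfl⟩) (mem_sup_right g.right.2)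
  have hactF : ∀ g : G, act g ∈ F.autGroup T := by
    intro g
    refine mul_mem ?_ ?_
    · exact (autGroup_iff_isMap (f := fun y => (g.left : Ω) * y * (g.left : Ω)⁻¹) hT
        fun y => rfl).2 (isMap_conj F hT (hT g.left.2))
    · obtain ⟨k, hk⟩ := mem_zpowers_iff.1 g.right.2
      rw [← hk]
      exact zpow_mem hβ k
  have hform : ∀ (P : Subgroup Ω) (φ : P →* Ω), φ ∈ (pullSys ι hι).Hom P →
      ∃ g : G, ∀ (x : P) (hx : (x : Ω) ∈ T), φ x = ((act g ⟨x, hx⟩ : T) : Ω) := by
    rintro P φ ⟨hP, hφ, g, hg⟩
    refine ⟨g, fun x hx => ?_⟩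
    have h := hι ((hg x).trans (hact g ⟨x, hx⟩))
    exact congrArg (fun z : T => (z : Ω)) h
  refine ⟨pullSys ι hι, isSaturated_of_realized (isRealizedBy_pullSys ι hι)
    ⟨Sylow.ofCard ι.range hcard, rfl⟩, fun P φ hφ => ?_, ?_, fun P φ hφ => ?_⟩
  · obtain ⟨g, hg⟩ := hform P φ hφ
    have hP : P ≤ T := ((pullSys ι hι).le_of_mem hφ).1
    refine ((isMap_of_autGroup hT (hactF g)).mono hP).mem_hom fun x => ?_
    rw [toFun_aut_apply _ (hP x.2)]
    exact hg x (hP x.2)
  · refine (autGroup_mem_iff le_rfl).2 ⟨le_rfl, fun x => (β x).2,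
      SemidirectProduct.inr ⟨β, mem_zpowers β⟩, fun x => ?_⟩
    rw [← map_inv]
    exact SemidirectProduct.inl_aut (φ := L.subtype) ⟨β, mem_zpowers β⟩ x
  · obtain ⟨g, hg⟩ := hform P φ hφ
    exact ⟨act g, hacti g, hg⟩

end CfsgLib.Comp.Fus
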