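import Cfsg.Agent.Lib.Comp.LBalance
import Cfsg.Agent.Lib.Comp.Signalizer
import Cfsg.Prelude.Def_Balance

/-!
Components of involution centralizers in groups with the B-property, and the position of a
component of `C(a)` relative to the components of the group.
-/

set_option autoImplicit false
set_option linter.unusedSectionVars false

open Subgroup
open scoped commutatorElement

namespace CfsgLib.Comp

variable {G : Type*} [Group G] [Finite G]

/-- A `2`-component commuting with the core is a component. -/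
theorem isComponent_of_isPComponent_of_commutator {K : Subgroup G} (hK : Cfsg.IsPComponent 2 K)
    (h : ⁅Cfsg.pLayer 2 G, Cfsg.pPrimeCore 2 G⁆ = ⊥) : Cfsg.IsComponent K := by
  have : Fact (Nat.Prime 2) := ⟨Nat.prime_two⟩
  refine ⟨hK.1, ?_⟩
  have : Group.IsPerfect ↥K := Subgroup.isPerfect_iff.2 (commutator_self_of_isPComponent hK)
  have := Cfsg.pPrimeCore_normal 2 ↥K
  refine isQuasisimple_of_central_extension (Z := Cfsg.pPrimeCore 2 ↥K) ?_ (isQuasisimple_quotient_core hK)
  intro z hz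
  rw [mem_center_iff]
  intro k
  have hz' : (z : G) ∈ Cfsg.pPrimeCore 2 G := by
    have := (pPrimeCore_map_subtype (p := 2) hK.1).le (mem_map_of_mem K.subtype hz)
    exact (mem_inf.1 this).1
  have hk : (k : G) ∈ Cfsg.pLayer 2 G := (le_sSup hK : K ≤ Cfsg.pLayer 2 G) k.2
  have h1 := commutator_eq_bot_iff_le_centralizer.1 h hk
  exact Subtype.ext (mem_centralizer_iff.1 h1 _ hz').symm

/-- In a group with `O(X) = 1` and the B-property, 2-layers of involution centralizers are layers. -/
theorem pLayer_centralizer_eq_layer (hO : Cfsg.oddCore G = ⊥) (hB : Cfsg.HasBProperty G) {b : G}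
    (hb : orderOf b = 2) :
    Cfsg.pLayer 2 ↥(centralizer ({b} : Set G)) ≤ Cfsg.layer ↥(centralizer ({b} : Set G)) := by
  refine sSup_le fun K hK => le_layer (isComponent_of_isPComponent_of_commutator hK ?_)
  have h := hB b hb
  rw [hO, le_bot_iff, Subgroup.map_eq_bot_iff_of_injective _ (subtype_injective _)] at h
  exact h

/-- A component of even order of `C(a)`, for an involution `a` of a group whose 2-layer is its
layer, lies in an `a`-invariant component or in the product of two components interchanged by `a`. -/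
theorem component_of_centralizer_involution (hL : Cfsg.pLayer 2 G ≤ Cfsg.layer G) {a : G}
    (ha : a * a = 1) {K : Subgroup G} (hKa : K ≤ centralizer ({a} : Set G))
    (hK : Cfsg.IsComponent (K.subgroupOf (centralizer ({a} : Set G)))) (heven : 2 ∣ Nat.card ↥K) :
    ∃ D : Subgroup G, Cfsg.IsComponent D ∧ ¬ K ≤ centralizer (D : Set G) ∧
      K ≤ D ⊔ D.map (MulAut.conj a).toMonoidHom := by
  have : Fact (Nat.Prime 2) := ⟨Nat.prime_two⟩
  have hzp : centralizer ((zpowers a : Subgroup G) : Set G) = centralizer ({a} : Set G) :=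
    centralizer_zpowers a
  have hT : IsPGroup 2 ↥(zpowers a) := fun ⟨x, hx⟩ => by
    obtain ⟨i, rfl⟩ := hx
    exact ⟨1, Subtype.ext (by
      show (a ^ i) ^ 2 ^ 1 = 1
      rw [← zpow_natCast, ← zpow_mul, mul_comm, zpow_mul, zpow_natCast, pow_one, pow_two, ha,
        one_zpow])⟩
  set C := centralizer ({a} : Set G) with hC
  have hKp : Cfsg.IsPComponent 2 (K.subgroupOf C) := by
    refine isPComponent_of_isComponent hK fun hle => ?_
    have h1 := (card_dvd_of_le hle)
    rw [Nat.card_congr (subgroupOfEquivOfLe hKa).toEquiv] at h1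
    exact (Nat.prime_two.coprime_iff_not_dvd.1 (coprime_card_pPrimeCore 2 ↥C).symm) (heven.trans h1)
  have hKE : K ≤ Cfsg.layer G := by
    have hbal := (pLayer_centralizer_le (T := zpowers a) hT)
    rw [hzp] at hbal
    refine le_trans (fun k hk => ?_) hL
    exact hbal ⟨⟨k, hKa hk⟩, (le_sSup hKp : K.subgroupOf C ≤ Cfsg.pLayer 2 ↥C) (show (⟨k, hKa hk⟩ : ↥C) ∈ K.subgroupOf C from hk), rfl⟩
  have hKperf : ⁅K, K⁆ = K := by
    have h := congrArg (Subgroup.map C.subtype) (commutator_self_of_isComponent hK)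
    rwa [Subgroup.map_commutator, map_subgroupOf_eq_of_le hKa] at h
  have hKne : K ≠ ⊥ := fun e => by
    rw [e, card_bot] at heven; omega
  obtain ⟨D, hD, hKD⟩ : ∃ D : Subgroup G, Cfsg.IsComponent D ∧ ¬ K ≤ centralizer (D : Set G) := by
    by_contra h
    push Not at h
    have h1 : Cfsg.layer G ≤ centralizer (K : Set G) :=
      sSup_le fun D hD => le_centralizer_iff.1 (h D hD)
    refine hKne ?_
    rw [← hKperf, commutator_eq_bot_iff_le_centralizer]
    exact hKE.trans h1
  refine ⟨D, hD, hKD, ?_⟩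
  set Da := D.map (MulAut.conj a).toMonoidHom with hDa
  have hDac : Cfsg.IsComponent Da := isComponent_map_conj hD a
  set P := D ⊔ Da with hP
  have hPE : P ≤ Cfsg.layer G := sup_le (le_layer hD) (le_layer hDac)
  have hPs : P.IsSubnormal := by
    refine isSubnormal_of_le_normalizer hPE (Subgroup.Normal.isSubnormal (layer_normal G)) ?_
    exact le_normalizer_sup (layer_le_normalizer_component hD) (layer_le_normalizer_component hDac)
  rcases component_le_or_le_centralizer hK (hPs.subgroupOf (K := C)) with h | h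
  · intro k hk
    exact h (show (⟨k, hKa hk⟩ : ↥C) ∈ K.subgroupOf C from hk)
  exfalso
  have hcen : ∀ k ∈ K, ∀ x ∈ P, x ∈ C → x * k = k * x := fun k hk x hx hxC =>
    congrArg Subtype.val (mem_centralizer_iff.1 (h (show (⟨k, hKa hk⟩ : ↥C) ∈ K.subgroupOf C from hk))
      ⟨x, hxC⟩ hx)
  have hinv : a⁻¹ = a := inv_eq_of_mul_eq_one_right ha
  have hnK : K ≤ normalizer (D : Set G) := hKE.trans (layer_le_normalizer_component hD)
  have : Group.IsPerfect ↥D := hD.2.1
  apply hKD
  intro k hk
  rw [mem_centralizer_iff]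
  by_cases hinvD : Da = D
  · -- `a` normalizes `D`
    let ρ : ↥K →* MulAut ↥D := D.normalizerMonoidHom.comp (inclusion hnK)
    have hρ : ∀ (k : ↥K) (d : ↥D), ((ρ k d : ↥D) : G) = k * d * (k : G)⁻¹ := fun k d => rfl
    have hdec : ∀ k : ↥K, ∃ d : ↥D, ∀ x : ↥D, ρ k x = d * x * d⁻¹ := by
      intro k
      have hle : Cfsg.layer G ≤ centralizer (D : Set G) ⊔ D := sSup_le fun L hL => by
        rcases component_eq_or_le_centralizer hL hD with e | e
        · exact e ▸ le_sup_right
        · exact e.trans le_sup_left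
      obtain ⟨r, hr, d, hd, hrd⟩ := exists_mul_of_mem_sup
        (normalizer_le_normalizer_centralizer D |> fun h => le_normalizer.trans h)
        (hle (hKE k.2))
      refine ⟨⟨d, hd⟩, fun x => Subtype.ext ?_⟩
      rw [hρ, ← hrd]
      have := mem_centralizer_iff.1 hr _ (mul_mem (mul_mem hd x.2) (inv_mem hd))
      show r * d * x * (r * d)⁻¹ = d * x * d⁻¹
      calc r * d * x * (r * d)⁻¹ = r * (d * x * d⁻¹) * r⁻¹ := by group
        _ = d * x * d⁻¹ := by rw [← this]; group
    choose d hd using hdec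
    have han : a ∈ normalizer (D : Set G) := map_conj_eq_iff.1 hinvD
    let α : MulAut ↥D := D.normalizerMonoidHom ⟨a, han⟩
    have hα : ∀ x : ↥D, ((α x : ↥D) : G) = a * x * a⁻¹ := fun x => rfl
    have hαρ : ∀ (k : ↥K) (x : ↥D), α (ρ k x) = ρ k (α x) := fun k x => Subtype.ext (by
      have hka : (k : G) * a = a * k := mem_centralizer_singleton_iff.1 (hKa k.2)
      rw [hα, hρ, hρ, hα]
      calc a * ((k : G) * x * (k : G)⁻¹) * a⁻¹ = (a * k) * x * (a * k)⁻¹ := by group
        _ = (k * a) * x * (k * a)⁻¹ := by rw [hka]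
        _ = k * (a * x * a⁻¹) * (k : G)⁻¹ := by group)
    have hdz : ∀ k : ↥K, (d k)⁻¹ * α (d k) ∈ center ↥D := by
      intro k
      rw [mem_center_iff]
      intro y
      have h1 := hαρ k (α.symm y)
      rw [hd, hd, MulEquiv.apply_symm_apply, map_mul, map_mul, MulEquiv.apply_symm_apply, map_inv] at h1
      calc y * ((d k)⁻¹ * α (d k)) = (d k)⁻¹ * (d k * y * (d k)⁻¹) * α (d k) := by group
        _ = (d k)⁻¹ * (α (d k) * y * (α (d k))⁻¹) * α (d k) := by rw [← h1]
        _ = (d k)⁻¹ * α (d k) * y := by group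
    have hfixc : ∀ k1 k2 k3 : ↥K, ρ k3 ⁅d k1, d k2⁆ = ⁅d k1, d k2⁆ := by
      intro k1 k2 k3
      have e : α ⁅d k1, d k2⁆ = ⁅d k1, d k2⁆ := by
        rw [map_commutatorElement]
        have e1 : α (d k1) = d k1 * ((d k1)⁻¹ * α (d k1)) := by group
        have e2 : α (d k2) = d k2 * ((d k2)⁻¹ * α (d k2)) := by group
        rw [e1, e2]
        generalize hz1 : (d k1)⁻¹ * α (d k1) = z1
        generalize hz2 : (d k2)⁻¹ * α (d k2) = z2
        have c1 := mem_center_iff.1 (hz1 ▸ hdz k1)
        have c2 := mem_center_iff.1 (hz2 ▸ hdz k2)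
        simp only [commutatorElement_def, mul_inv_rev]
        calc d k1 * z1 * (d k2 * z2) * (z1⁻¹ * (d k1)⁻¹) * (z2⁻¹ * (d k2)⁻¹)
            = d k1 * (z1 * d k2) * z2 * z1⁻¹ * (d k1)⁻¹ * z2⁻¹ * (d k2)⁻¹ := by group
          _ = d k1 * (d k2 * z1) * z2 * z1⁻¹ * (d k1)⁻¹ * z2⁻¹ * (d k2)⁻¹ := by rw [← c1 (d k2)]
          _ = d k1 * d k2 * (z1 * z2) * z1⁻¹ * (d k1)⁻¹ * z2⁻¹ * (d k2)⁻¹ := by group
          _ = d k1 * d k2 * (z2 * z1) * z1⁻¹ * (d k1)⁻¹ * z2⁻¹ * (d k2)⁻¹ := by rw [c2 z1]
          _ = d k1 * d k2 * (z2 * (d k1)⁻¹) * z2⁻¹ * (d k2)⁻¹ := by group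
          _ = d k1 * d k2 * ((d k1)⁻¹ * z2) * z2⁻¹ * (d k2)⁻¹ := by rw [← c2 (d k1)⁻¹]
          _ = d k1 * d k2 * (d k1)⁻¹ * (d k2)⁻¹ := by group
      have hCP : ((⁅d k1, d k2⁆ : ↥D) : G) ∈ C := by
        rw [hC, mem_centralizer_singleton_iff]
        have := congrArg Subtype.val e
        rw [hα, mul_inv_eq_iff_eq_mul] at this
        exact this.symm
      refine Subtype.ext ?_
      rw [hρ, mul_inv_eq_iff_eq_mul]
      exact (hcen k3 k3.2 _ (mem_sup_left (⁅d k1, d k2⁆).2) hCP).symm
    have hcomm : ∀ k1 k2 k3 : ↥K, Commute (ρ ⁅k1, k2⁆) (ρ k3) := by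
      intro k1 k2 k3
      have e : ∀ x, ρ ⁅k1, k2⁆ x = ⁅d k1, d k2⁆ * x * ⁅d k1, d k2⁆⁻¹ := by
        intro x
        have hi : ∀ (k : ↥K) (y : ↥D), (ρ k)⁻¹ y = (d k)⁻¹ * y * d k := fun k y => by
          apply (ρ k).injective
          rw [← MulAut.mul_apply, mul_inv_cancel, MulAut.one_apply, hd]; group
        rw [map_commutatorElement, commutatorElement_def, MulAut.mul_apply, MulAut.mul_apply,
          MulAut.mul_apply, hi, hi, hd, hd, commutatorElement_def]
        group
      refine MulEquiv.ext fun x => ?_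
      rw [MulAut.mul_apply, MulAut.mul_apply, e, e, map_mul, map_mul, map_inv, hfixc k1 k2 k3]
    have : Group.IsPerfect ↥K := Subgroup.isPerfect_iff.2 hKperf
    have hab : ∀ k k' : ↥K, Commute (ρ k) (ρ k') := by
      intro k k'
      have hle : _root_.commutator ↥K ≤ (centralizer ({ρ k'} : Set (MulAut ↥D))).comap ρ := by
        rw [_root_.commutator_def, commutator_le]
        intro p _ q _
        rw [mem_comap, mem_centralizer_singleton_iff]
        exact (hcomm p q k').eq
      rw [Group.IsPerfect.commutator_eq_top] at hle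
      have := hle (mem_top k)
      rw [mem_comap, mem_centralizer_singleton_iff] at this
      exact this
    have hle2 : _root_.commutator ↥K ≤ ρ.ker := by
      rw [_root_.commutator_def, commutator_le]
      intro p _ q _
      rw [MonoidHom.mem_ker, map_commutatorElement, commutatorElement_eq_one_iff_commute]
      exact hab p q
    rw [Group.IsPerfect.commutator_eq_top] at hle2
    intro x hx
    have h1 : ρ ⟨k, hk⟩ ⟨x, hx⟩ = ⟨x, hx⟩ := by
      rw [MonoidHom.mem_ker.1 (hle2 (mem_top ⟨k, hk⟩)), MulAut.one_apply]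
    have h2 : k * x * k⁻¹ = x := congrArg Subtype.val h1
    exact (mul_inv_eq_iff_eq_mul.1 h2).symm
  · -- `a` moves `D`
    have hcomm : ∀ x ∈ D, ∀ y ∈ Da, x * y = y * x := fun x hx y hy =>
      (mem_centralizer_iff.1 ((component_eq_or_le_centralizer hD hDac).resolve_left
        (fun e => hinvD e.symm) hx) y hy).symm
    let κ : MulAut ↥D := D.normalizerMonoidHom ⟨k, hnK hk⟩
    have hκ : ∀ x : ↥D, κ x = x := by
      refine mulEquiv_eq_of_perfect κ fun x => ?_
      rw [mem_center_iff]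
      intro y
      have hxa : a * x * a⁻¹ ∈ Da := ⟨x, x.2, rfl⟩
      have hxC : (x : G) * (a * x * a⁻¹) ∈ C := by
        rw [hC, mem_centralizer_singleton_iff]
        calc (x : G) * (a * x * a⁻¹) * a = x * (a * x) := by group
          _ = a * ((a * x * a) * x) := by
            calc (x : G) * (a * x) = (a * a) * (x * (a * x * a⁻¹)) * a := by rw [ha]; group
              _ = a * a * ((a * x * a⁻¹) * x) * a := by rw [hcomm x x.2 _ hxa]
              _ = a * (a * a * x * (a⁻¹ * x * a)) := by group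
              _ = a * ((a * x * a) * x) := by rw [ha, hinv]; rw [← hcomm x x.2 (a * x * a) (by simpa [hinv] using hxa)]; group
          _ = a * ((x : G) * (a * x * a⁻¹)) := by
            rw [hinv, ← hcomm x x.2 (a * x * a) (by simpa [hinv] using hxa)]
      have h1 := hcen k hk _ (mul_mem (mem_sup_left x.2) (mem_sup_right hxa)) hxC
      have hxk : a * x * a⁻¹ ∈ Da := hxa
      have hkn : k ∈ normalizer (Da : Set G) := layer_le_normalizer_component hDac (hKE hk)
      have hmem : ((κ x * x⁻¹ : ↥D) : G) ∈ Da := by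
        have e : ((κ x * x⁻¹ : ↥D) : G) = k * x * k⁻¹ * (x : G)⁻¹ := rfl
        have e2 : k * x * k⁻¹ = x * (a * x * a⁻¹) * (k * (a * x * a⁻¹) * k⁻¹)⁻¹ := by
          calc k * x * k⁻¹ = k * (x * (a * x * a⁻¹)) * (a * x * a⁻¹)⁻¹ * k⁻¹ := by group
            _ = (x * (a * x * a⁻¹)) * k * (a * x * a⁻¹)⁻¹ * k⁻¹ := by rw [h1]
            _ = _ := by group
        rw [e, e2]
        have h3 : (a * x * a⁻¹) * (k * (a * x * a⁻¹) * k⁻¹)⁻¹ ∈ Da :=
          mul_mem hxa (inv_mem ((mem_normalizer_iff.1 hkn _).1 hxa))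
        have h4 := hcomm x x.2 _ h3
        rw [show (x : G) * (a * x * a⁻¹) * (k * (a * x * a⁻¹) * k⁻¹)⁻¹ * (x : G)⁻¹
          = (x : G) * ((a * x * a⁻¹) * (k * (a * x * a⁻¹) * k⁻¹)⁻¹) * (x : G)⁻¹ by group, h4,
          mul_inv_cancel_right]
        exact h3
      exact Subtype.ext (hcomm y y.2 _ hmem)
    intro x hx
    have h2 : k * x * k⁻¹ = x := congrArg Subtype.val (hκ ⟨x, hx⟩)
    exact (mul_inv_eq_iff_eq_mul.1 h2).symm

end CfsgLib.Comp
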