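import Cfsg.Agent.Lib.Coprime.Action
import Cfsg.Agent.Lib.Coprime.Complements
import Mathlib.GroupTheory.PGroup
import Mathlib.GroupTheory.Perm.Cycle.Type

/-!
The Baer trick for odd `p`-groups of class two and the fixed point lemma it yields: a nontrivial
coprime action commuting up to a `p`-group `A` moves some element of order `p` fixed by `A`.
-/

set_option autoImplicit false
open Subgroup
open scoped commutatorElement

namespace CfsgLib.Comp

/-- A finite group of odd order and class at most two. -/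
class IsBaer (R : Type*) [Group R] : Prop where
  comm : ∀ x y z : R, Commute ⁅x, y⁆ z
  odd : Odd (Nat.card R)

/-- Type copy of `R` carrying the commutative group law of the Baer trick. -/
structure Baer (R : Type*) where
  /-- the underlying element -/
  val : R

namespace Baer

variable {R : Type*} [Group R] [IsBaer R]

theorem comm_mul_left (x y z : R) : ⁅x * y, z⁆ = ⁅x, z⁆ * ⁅y, z⁆ := by
  have h : x * ⁅y, z⁆ = ⁅y, z⁆ * x := (IsBaer.comm y z x).eq.symm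
  calc ⁅x * y, z⁆ = x * ⁅y, z⁆ * x⁻¹ * ⁅x, z⁆ := by simp only [commutatorElement_def]; group
    _ = ⁅y, z⁆ * ⁅x, z⁆ := by rw [h, mul_inv_cancel_right]
    _ = ⁅x, z⁆ * ⁅y, z⁆ := (IsBaer.comm y z _).eq

theorem comm_mul_right (x y z : R) : ⁅x, y * z⁆ = ⁅x, y⁆ * ⁅x, z⁆ := by
  have h : y * ⁅x, z⁆ = ⁅x, z⁆ * y := (IsBaer.comm x z y).eq.symm
  calc ⁅x, y * z⁆ = ⁅x, y⁆ * (y * ⁅x, z⁆ * y⁻¹) := by simp only [commutatorElement_def]; group
    _ = ⁅x, y⁆ * ⁅x, z⁆ := by rw [h, mul_inv_cancel_right]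

theorem comm_pow_left (x y z : R) (k : ℕ) : ⁅x * y ^ k, z⁆ = ⁅x, z⁆ * ⁅y, z⁆ ^ k := by
  induction k with
  | zero => simp
  | succ k ih => rw [pow_succ, ← mul_assoc, comm_mul_left, ih, pow_succ, mul_assoc]

theorem comm_comm_left (x y z : R) : ⁅⁅x, y⁆, z⁆ = 1 :=
  commutatorElement_eq_one_iff_commute.2 (IsBaer.comm x y z)

theorem comm_comm_right (x y z : R) : ⁅z, ⁅x, y⁆⁆ = 1 :=
  commutatorElement_eq_one_iff_commute.2 (IsBaer.comm x y z).symm

variable (R) in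
/-- half of the order plus one -/
noncomputable def half : ℕ := (Nat.card R + 1) / 2

theorem two_half_pow (c : R) : c ^ half R * c ^ half R = c := by
  obtain ⟨m, hm⟩ := IsBaer.odd (R := R)
  have h : half R + half R = Nat.card R + 1 := by rw [half, hm]; omega
  rw [← pow_add, h, pow_succ, pow_card_eq_one', one_mul]

noncomputable instance : Mul (Baer R) :=
  ⟨fun a b => ⟨a.val * b.val * ⁅b.val, a.val⁆ ^ half R⟩⟩
instance : One (Baer R) := ⟨⟨1⟩⟩
instance : Inv (Baer R) := ⟨fun a => ⟨a.val⁻¹⟩⟩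

theorem val_mul (a b : Baer R) : (a * b).val = a.val * b.val * ⁅b.val, a.val⁆ ^ half R := rfl
theorem val_one : (1 : Baer R).val = 1 := rfl
theorem val_inv (a : Baer R) : a⁻¹.val = a.val⁻¹ := rfl

theorem ext' {a b : Baer R} (h : a.val = b.val) : a = b := by
  cases a; cases b; exact congrArg Baer.mk h

noncomputable instance : CommGroup (Baer R) where
  mul_assoc a b c := by
    apply ext'
    simp only [val_mul]
    generalize a.val = x, b.val = y, c.val = z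
    set k := half R
    have e1 : ⁅z, x * y * ⁅y, x⁆ ^ k⁆ = ⁅z, x⁆ * ⁅z, y⁆ := by
      rw [comm_mul_right, comm_mul_right,
        commutatorElement_eq_one_iff_commute.2 ((IsBaer.comm y x z).pow_left k).symm, mul_one]
    have e2 : ⁅y * z * ⁅z, y⁆ ^ k, x⁆ = ⁅y, x⁆ * ⁅z, x⁆ := by
      rw [comm_pow_left, comm_comm_left, one_pow, mul_one, comm_mul_left]
    rw [e1, e2, (IsBaer.comm z x _).mul_pow, (IsBaer.comm y x _).mul_pow]
    have h1 := (IsBaer.comm y x z).pow_left k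
    have h2 : Commute (⁅z, y⁆ ^ k) (⁅y, x⁆ ^ k * ⁅z, x⁆ ^ k) := (IsBaer.comm z y _).pow_left k
    calc x * y * ⁅y, x⁆ ^ k * z * (⁅z, x⁆ ^ k * ⁅z, y⁆ ^ k)
        = x * y * (⁅y, x⁆ ^ k * z) * (⁅z, x⁆ ^ k * ⁅z, y⁆ ^ k) := by group
      _ = x * (y * z) * ((⁅y, x⁆ ^ k * ⁅z, x⁆ ^ k) * ⁅z, y⁆ ^ k) := by rw [h1.eq]; group
      _ = x * (y * z * ⁅z, y⁆ ^ k) * (⁅y, x⁆ ^ k * ⁅z, x⁆ ^ k) := by rw [← h2.eq]; group
  one_mul a := ext' (by simp [val_mul, val_one])
  mul_one a := ext' (by simp [val_mul, val_one])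
  inv_mul_cancel a := ext' (by
    have h : ⁅a.val, a.val⁻¹⁆ = 1 :=
      commutatorElement_eq_one_iff_commute.2 (Commute.refl a.val).inv_right
    simp [val_mul, val_inv, val_one, h])
  mul_comm a b := by
    apply ext'
    simp only [val_mul]
    generalize a.val = x, b.val = y
    set k := half R with hk
    have h1 : y * x = x * y * ⁅y, x⁆ := by
      calc y * x = ⁅y, x⁆ * (x * y) := by simp only [commutatorElement_def]; group
        _ = x * y * ⁅y, x⁆ := (IsBaer.comm y x _).eq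
    have h2 : ⁅x, y⁆ = ⁅y, x⁆⁻¹ := (commutatorElement_inv y x).symm
    have h3 : ⁅y, x⁆ * ⁅y, x⁆⁻¹ ^ k = ⁅y, x⁆ ^ k := by
      rw [inv_pow, mul_inv_eq_iff_eq_mul, hk, two_half_pow]
    rw [h1, h2, mul_assoc (x * y) ⁅y, x⁆, h3]

theorem val_pow (a : Baer R) (n : ℕ) : (a ^ n).val = a.val ^ n := by
  induction n with
  | zero => rw [pow_zero, pow_zero, val_one]
  | succ n ih =>
    rw [pow_succ, val_mul, ih, commutatorElement_eq_one_iff_commute.2 (Commute.self_pow a.val n),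
      one_pow, mul_one, pow_succ]

/-- `R` and its Baer group have the same elements. -/
def equiv : Baer R ≃ R := ⟨Baer.val, Baer.mk, fun _ => rfl, fun _ => rfl⟩

instance [Finite R] : Finite (Baer R) := Finite.of_equiv R equiv.symm

/-- Automorphisms of `R` act on the Baer group. -/
noncomputable def congrHom : MulAut R →* MulAut (Baer R) where
  toFun φ :=
    { toFun := fun a => ⟨φ a.val⟩
      invFun := fun a => ⟨φ.symm a.val⟩
      left_inv := fun a => ext' (φ.symm_apply_apply a.val)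
      right_inv := fun a => ext' (φ.apply_symm_apply a.val)
      map_mul' := fun a b => ext' (by
        simp [val_mul, map_commutatorElement]) }
  map_one' := MulEquiv.ext fun _ => rfl
  map_mul' _ _ := MulEquiv.ext fun _ => rfl

theorem congrHom_val (φ : MulAut R) (a : Baer R) : (congrHom φ a).val = φ a.val := rfl

end Baer

variable {X : Type*} [Group X] [Finite X] {p : ℕ} [hp : Fact p.Prime]

/-- Fixed point lemma for an odd `p`-group `P` of class two. -/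
theorem exists_fixed_moved {P A Q : Subgroup X} (hp2 : p ≠ 2) (hP : IsPGroup p ↥P)
    (hcl : ∀ x ∈ P, ∀ y ∈ P, ∀ z ∈ P, Commute ⁅x, y⁆ z) (hA : IsPGroup p ↥A)
    (hQ : ¬ p ∣ Nat.card ↥Q) (hAP : A ≤ normalizer (P : Set X))
    (hQP : Q ≤ normalizer (P : Set X)) (hAQ : A ≤ normalizer (Q : Set X))
    (hne : ¬ Q ≤ centralizer (P : Set X)) :
    ∃ x ∈ P, orderOf x = p ∧ x ∈ centralizer (A : Set X) ∧ x ∉ centralizer (Q : Set X) := by
  classical
  have : Fintype ↥Q := Fintype.ofFinite _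
  obtain ⟨m, hm⟩ := IsPGroup.iff_card.1 hP
  have hodd : Odd (Nat.card ↥P) := hm ▸ (hp.out.odd_of_ne_two hp2).pow
  have : IsBaer ↥P := ⟨fun x y z => Subtype.ext (hcl x x.2 y y.2 z z.2).eq, hodd⟩
  let ρ : ↥(normalizer (P : Set X)) →* MulAut (Baer ↥P) :=
    Baer.congrHom.comp (Subgroup.normalizerMonoidHom P)
  have hρ : ∀ g (a : Baer ↥P), (((ρ g a).val : ↥P) : X) = (g : X) * a.val * (g : X)⁻¹ := fun g a => rfl
  let N : Baer ↥P →* Baer ↥P :=
    { toFun := fun a => ∏ q : ↥Q, ρ ⟨q, hQP q.2⟩ a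
      map_one' := by simp
      map_mul' := fun a b => by simp [Finset.prod_mul_distrib] }
  have hNA : ∀ (g : ↥A) (a : Baer ↥P), ρ ⟨g, hAP g.2⟩ (N a) = N (ρ ⟨g, hAP g.2⟩ a) := by
    intro g a
    show ρ ⟨g, hAP g.2⟩ (∏ q : ↥Q, ρ ⟨q, hQP q.2⟩ a) = _
    rw [map_prod]
    let e : ↥Q ≃ ↥Q :=
      { toFun := fun q => ⟨g * q * (g : X)⁻¹, (mem_normalizer_iff.1 (hAQ g.2) q).1 q.2⟩
        invFun := fun q => ⟨(g : X)⁻¹ * q * g, by
          simpa using (mem_normalizer_iff.1 (inv_mem (hAQ g.2)) q).1 q.2⟩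
        left_inv := fun q => Subtype.ext (by simp [mul_assoc])
        right_inv := fun q => Subtype.ext (by simp [mul_assoc]) }
    refine Fintype.prod_equiv e _ _ fun q => Baer.ext' (Subtype.ext ?_)
    simp only [hρ]
    show _ = (e q : X) * _ * (e q : X)⁻¹
    show _ = ((g : X) * (q : X) * (g : X)⁻¹) * _ * ((g : X) * (q : X) * (g : X)⁻¹)⁻¹
    group
  have hNQ : ∀ (q : ↥Q) (a : Baer ↥P), N (ρ ⟨q, hQP q.2⟩ a) = N a := by
    intro q a
    refine Fintype.prod_equiv (Equiv.mulRight q) _ _ fun r => Baer.ext' (Subtype.ext ?_)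
    simp only [hρ, Equiv.coe_mulRight, Subgroup.coe_mul]
    group
  obtain ⟨q, hq, x, hx, hqx⟩ : ∃ q ∈ Q, ∃ x ∈ P, x * q ≠ q * x := by
    obtain ⟨q, hq, h⟩ := SetLike.not_le_iff_exists.1 hne
    rw [mem_centralizer_iff] at h
    push Not at h
    obtain ⟨x, hx, h⟩ := h
    exact ⟨q, hq, x, hx, h⟩
  let a0 : Baer ↥P := ⟨⟨x, hx⟩⟩
  have hy : a0⁻¹ * ρ ⟨q, hQP hq⟩ a0 ∈ N.ker := by
    rw [MonoidHom.mem_ker, map_mul, map_inv, hNQ ⟨q, hq⟩, inv_mul_cancel]
  have hy1 : a0⁻¹ * ρ ⟨q, hQP hq⟩ a0 ≠ 1 := by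
    intro h
    have h2 := congrArg (fun a : Baer ↥P => (a.val : X)) (inv_mul_eq_one.1 h)
    simp only [hρ, a0] at h2
    exact hqx (eq_mul_inv_iff_mul_eq.1 h2)
  have : Nontrivial ↥N.ker := ⟨⟨⟨_, hy⟩, 1, fun h => hy1 (congrArg Subtype.val h)⟩⟩
  have hdvd : p ∣ Nat.card ↥N.ker := by
    have h1 : Nat.card ↥N.ker ∣ p ^ m := by
      rw [← hm, ← Nat.card_congr (Baer.equiv (R := ↥P))]
      exact card_subgroup_dvd_card _
    obtain ⟨i, -, hi⟩ := (Nat.dvd_prime_pow hp.out).1 h1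
    rw [hi]
    refine dvd_pow_self p fun h0 => ?_
    rw [h0, pow_zero] at hi
    exact (Finite.one_lt_card (α := ↥N.ker)).ne hi.symm
  letI : MulAction ↥A ↥N.ker :=
    { smul := fun g a => ⟨ρ ⟨g, hAP g.2⟩ a.1, by
        rw [MonoidHom.mem_ker, ← hNA, show N a.1 = 1 from a.2, map_one]⟩
      one_smul := fun a => Subtype.ext (by
        show ρ ⟨((1 : ↥A) : X), _⟩ a.1 = a.1
        rw [show (⟨((1 : ↥A) : X), hAP (1 : ↥A).2⟩ : ↥(normalizer (P : Set X))) = 1 from rfl,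
          map_one, MulAut.one_apply])
      mul_smul := fun g h a => Subtype.ext (by
        show ρ ⟨((g * h : ↥A) : X), _⟩ a.1 = ρ _ (ρ _ a.1)
        rw [← MulAut.mul_apply, ← map_mul]
        rfl) }
  obtain ⟨w, hw, hw1⟩ := hA.exists_fixed_point_of_prime_dvd_card_of_fixed_point (α := ↥N.ker) hdvd
    (a := 1) (fun g => Subtype.ext (map_one (ρ ⟨g, hAP g.2⟩)))
  -- a power of `w` of order `p`
  obtain ⟨z, hzK, hz1, hzp, hzA⟩ : ∃ z : Baer ↥P, z ∈ N.ker ∧ z ≠ 1 ∧ z ^ p = 1 ∧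
      ∀ g : ↥A, ρ ⟨g, hAP g.2⟩ z = z := by
    have hd : orderOf w.1 ∣ p ^ m := by
      rw [← hm, ← Nat.card_congr (Baer.equiv (R := ↥P))]
      exact orderOf_dvd_natCard _
    obtain ⟨i, -, hi⟩ := (Nat.dvd_prime_pow hp.out).1 hd
    obtain _ | i := i
    · rw [pow_zero, orderOf_eq_one_iff] at hi
      exact absurd (Subtype.ext hi : w = 1) hw1.symm
    refine ⟨w.1 ^ p ^ i, pow_mem w.2 _, fun h => ?_, ?_, fun g => ?_⟩
    · have := orderOf_dvd_of_pow_eq_one h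
      rw [hi, Nat.pow_dvd_pow_iff_le_right hp.out.one_lt] at this
      omega
    · rw [← pow_mul, ← pow_succ, ← hi, pow_orderOf_eq_one]
    · rw [map_pow]
      exact congrArg (· ^ p ^ i) (congrArg Subtype.val (hw g))
  have hzX : (z.val : X) ^ p = 1 := by
    have := congrArg (fun a : Baer ↥P => (a.val : X)) hzp
    simpa [Baer.val_pow, Baer.val_one] using this
  refine ⟨(z.val : X), z.val.2, orderOf_eq_prime hzX fun h => hz1 (Baer.ext' (Subtype.ext h)),
    mem_centralizer_iff.2 fun g hg => ?_, fun hzQ => hz1 ?_⟩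
  · have := congrArg (fun a : Baer ↥P => (a.val : X)) (hzA ⟨g, hg⟩)
    simp only [hρ] at this
    exact mul_inv_eq_iff_eq_mul.1 this
  · have h1 : z ^ Nat.card ↥Q = 1 := by
      have h2 : ∀ q : ↥Q, ρ ⟨q, hQP q.2⟩ z = z := fun q => Baer.ext' (Subtype.ext (by
        rw [hρ]
        exact mul_inv_eq_iff_eq_mul.2 (mem_centralizer_iff.1 hzQ _ q.2)))
      have h3 : N z = 1 := hzK
      rw [show N z = ∏ q : ↥Q, ρ ⟨q, hQP q.2⟩ z from rfl, Finset.prod_congr rfl fun q _ => h2 q,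
        Finset.prod_const, Finset.card_univ, ← Nat.card_eq_fintype_card] at h3
      exact h3
    have h4 : z ^ p.gcd (Nat.card ↥Q) = 1 := pow_gcd_eq_one.2 ⟨hzp, h1⟩
    rwa [(hp.out.coprime_iff_not_dvd.2 hQ).gcd_eq_one, pow_one] at h4

/-- Fixed point lift modulo a normal subgroup of coprime order. -/
theorem exists_centralizer_lift {A O : Subgroup X} [O.Normal] (hA : Group.IsSolvable ↥A)
    (hcop : (Nat.card ↥A).Coprime (Nat.card ↥O)) {g : X}
    (h : ∀ a ∈ A, g⁻¹ * a * g * a⁻¹ ∈ O) : ∃ n ∈ O, g * n ∈ centralizer (A : Set X) := by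
  have hnt : ∀ B : Subgroup X, B ≤ normalizer (O : Set X) := fun B => by
    rw [Subgroup.normalizer_eq_top_iff.2 ‹O.Normal›]; exact le_top
  let B : Subgroup X := A.map (MulAut.conj g⁻¹).toMonoidHom
  have hsup : O ⊔ A = O ⊔ B := by
    refine le_antisymm (sup_le le_sup_left fun a ha => ?_) (sup_le le_sup_left ?_)
    · have hb : g⁻¹ * a * g ∈ B := ⟨a, ha, by simp⟩
      have h2 := mul_mem (inv_mem (mem_sup_left (T := B) (h a ha))) (mem_sup_right (S := O) hb)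
      rwa [show (g⁻¹ * a * g * a⁻¹)⁻¹ * (g⁻¹ * a * g) = a by group] at h2
    · rintro _ ⟨a, ha, rfl⟩
      have e : (MulAut.conj g⁻¹).toMonoidHom a = g⁻¹ * a * g * a⁻¹ * a := by simp [mul_assoc]
      rw [e]
      exact mul_mem (mem_sup_left (h a ha)) (mem_sup_right ha)
  obtain ⟨n, hn, hnB⟩ := CfsgLib.Coprime.exists_conj_eq_of_coprime (hnt A) (hnt B) hsup hcop
    ((CfsgLib.Coprime.card_map_conj g⁻¹ A).symm ▸ hcop) (Or.inl hA)
  refine ⟨n, hn, mem_centralizer_iff.2 fun a ha => ?_⟩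
  obtain ⟨a', ha', e⟩ : g⁻¹ * a * g ∈ A.map (MulAut.conj n).toMonoidHom :=
    hnB ▸ (⟨a, ha, by simp⟩ : g⁻¹ * a * g ∈ B)
  simp only [MulEquiv.coe_toMonoidHom, MulAut.conj_apply] at e
  have h1 : a' * a⁻¹ ∈ O := by
    have e2 : a' * a⁻¹ = n⁻¹ * (g⁻¹ * a * g * a⁻¹) * (a * n * a⁻¹) := by
      rw [show n⁻¹ * (g⁻¹ * a * g * a⁻¹) * (a * n * a⁻¹) = n⁻¹ * (g⁻¹ * a * g) * n * a⁻¹ by group,
        ← e]
      group
    rw [e2]
    exact mul_mem (mul_mem (inv_mem hn) (h a ha)) (‹O.Normal›.conj_mem n hn a)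
  have h2 : a' * a⁻¹ ∈ A ⊓ O := mem_inf.2 ⟨mul_mem ha' (inv_mem ha), h1⟩
  rw [inf_eq_bot_of_coprime hcop, mem_bot, mul_inv_eq_one] at h2
  rw [h2] at e
  calc a * (g * n) = g * (g⁻¹ * a * g) * n := by group
    _ = g * (n * a * n⁻¹) * n := by rw [e]
    _ = g * n * a := by group

end CfsgLib.Comp
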