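import Cfsg.Agent.Lib.Comp.NormalizeComponents
import Cfsg.Prelude.Def_Balance

/-!
`O_{p'}(C_G(x))` and components: normalization, centralization and reduction to automorphism groups.
-/

set_option autoImplicit false
set_option linter.style.haveILetI false
set_option linter.unusedSectionVars false

namespace CfsgLib.Comp

open Subgroup
open scoped commutatorElement

variable {G : Type*} [Group G] [Finite G] {p : ℕ} [hp : Fact p.Prime]

theorem centralizerPPrimeCore_le (x : G) :
    Cfsg.centralizerPPrimeCore p x ≤ centralizer ({x} : Set G) := map_subtype_le _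

theorem coprime_card_centralizerPPrimeCore (x : G) :
    (Nat.card (Cfsg.centralizerPPrimeCore p x)).Coprime p := by
  rw [Cfsg.centralizerPPrimeCore, card_map_of_injective (centralizer ({x} : Set G)).subtype_injective]
  exact coprime_card_pPrimeCore p _

theorem le_centralizerPPrimeCore {x : G} {K : Subgroup G} (hK : K ≤ centralizer ({x} : Set G))
    (hn : centralizer ({x} : Set G) ≤ normalizer (K : Set G)) (hc : (Nat.card K).Coprime p) :
    K ≤ Cfsg.centralizerPPrimeCore p x := by
  rw [Cfsg.centralizerPPrimeCore, ← map_subgroupOf_eq_of_le hK]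
  refine map_mono (le_sSup ⟨normal_subgroupOf_of_le_normalizer hn, ?_⟩)
  rwa [Nat.card_congr (subgroupOfEquivOfLe hK).toEquiv]

theorem centralizer_le_normalizer_centralizerPPrimeCore (x : G) :
    centralizer ({x} : Set G) ≤
      normalizer ((Cfsg.centralizerPPrimeCore p x : Subgroup G) : Set G) := by
  have h := le_normalizer_map (f := (centralizer ({x} : Set G)).subtype)
    (H := Cfsg.pPrimeCore p ↥(centralizer ({x} : Set G)))
  haveI := Cfsg.pPrimeCore_normal p ↥(centralizer ({x} : Set G))
  rwa [normalizer_eq_top, ← MonoidHom.range_eq_map, range_subtype] at h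

theorem isPGroup_zpowers_of_orderOf {x : G} {k : ℕ} (hx : orderOf x = p ^ k) :
    IsPGroup p (zpowers x) := IsPGroup.of_card (n := k) (by rw [Nat.card_zpowers, hx])

theorem mem_centralizer_zpowers_iff {x g : G} :
    g ∈ centralizer ((zpowers x : Subgroup G) : Set G) ↔ g ∈ centralizer ({x} : Set G) := by
  rw [zpowers_eq_closure, centralizer_closure]

variable {x : G} (hx : IsPGroup p (zpowers x)) (hO : Cfsg.pPrimeCore p G = ⊥)
include hx

theorem centralizerPPrimeCore_le_centralizer_pCore :
    Cfsg.centralizerPPrimeCore p x ≤ centralizer (Cfsg.pCore p G : Set G) := by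
  set D := Cfsg.centralizerPPrimeCore p x
  haveI := Cfsg.pCore_normal p G
  refine le_centralizer_of_centralizes_fixed (isPGroup_pCore p G) hx
    (coprime_card_centralizerPPrimeCore x) (le_normalizer_of_normal' _ _) (le_normalizer_of_normal' _ _)
    (fun d hd => mem_centralizer_zpowers_iff.2 (centralizerPPrimeCore_le x hd)) ?_
  set C := Cfsg.pCore p G ⊓ centralizer ((zpowers x : Subgroup G) : Set G)
  have hCn : C ≤ normalizer (D : Set G) := fun c hc =>
    centralizer_le_normalizer_centralizerPPrimeCore x (mem_centralizer_zpowers_iff.1 hc.2)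
  have hDn : D ≤ normalizer (C : Set G) := by
    refine le_normalizer_inf (le_normalizer_of_normal' _ _) (le_normalizer_centralizer ?_)
    intro d hd
    exact centralizer_le_normalizer _ (mem_centralizer_zpowers_iff.2 (centralizerPPrimeCore_le x hd))
  rw [← commutator_eq_bot_iff_le_centralizer, eq_bot_iff, ← inf_eq_bot_of_isPGroup
    ((isPGroup_pCore p G).to_inf_left : IsPGroup p C) (coprime_card_centralizerPPrimeCore x)]
  exact (commutator_le_inf_of_le_normalizer hCn hDn).trans_eq (inf_comm _ _)

include hO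

theorem centralizerPPrimeCore_le_normalizer_component {L : Subgroup G} (hL : Cfsg.IsComponent L) :
    Cfsg.centralizerPPrimeCore p x ≤ normalizer (L : Set G) := by
  intro d hd
  refine mem_normalizer_component hO hx (mem_centralizer_zpowers_iff.2 (centralizerPPrimeCore_le x hd))
    (centralizerPPrimeCore_le_centralizer_pCore hx hd) ?_ (fun s _ hs => ?_) hL
  · refine Nat.Coprime.coprime_dvd_left ?_ (coprime_card_centralizerPPrimeCore (p := p) x)
    have h := orderOf_dvd_natCard (⟨d, hd⟩ : Cfsg.centralizerPPrimeCore p x)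
    rwa [← orderOf_coe] at h
  · have hmem : ⁅d, s⁆ ∈ Cfsg.centralizerPPrimeCore p x := by
      rw [commutatorElement_def]
      have h := (mem_normalizer_iff.1
        (centralizer_le_normalizer_centralizerPPrimeCore x (mem_centralizer_zpowers_iff.1 hs)) d⁻¹).1
        (inv_mem hd)
      have e : d * s * d⁻¹ * s⁻¹ = d * (s * d⁻¹ * s⁻¹) := by group
      rw [e]; exact mul_mem hd h
    refine Nat.Coprime.coprime_dvd_left ?_ (coprime_card_centralizerPPrimeCore (p := p) x)
    have h := orderOf_dvd_natCard (⟨_, hmem⟩ : Cfsg.centralizerPPrimeCore p x)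
    rwa [← orderOf_coe] at h

omit hx in
theorem centralizerPPrimeCore_le_centralizer_of_le (x : G) {L : Subgroup G} (hL : Cfsg.IsComponent L)
    (hLx : L ≤ centralizer ({x} : Set G)) :
    Cfsg.centralizerPPrimeCore p x ≤ centralizer (L : Set G) := by
  set C := centralizer ({x} : Set G)
  set D := Cfsg.centralizerPPrimeCore p x
  have hDC : D ≤ C := centralizerPPrimeCore_le x
  rcases component_le_or_le_centralizer (isComponent_subgroupOf hLx hL)
    (subgroupOf_isSubnormal_of_le_normalizer (centralizer_le_normalizer_centralizerPPrimeCore (p := p) x))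
    with h | h
  · exfalso
    have hd : Nat.card L ∣ Nat.card D := card_dvd_of_le fun l hl => h (x := ⟨l, hLx hl⟩) hl
    exact hp.out.coprime_iff_not_dvd.1 (coprime_card_centralizerPPrimeCore x).symm
      ((dvd_card_of_isComponent hO hL).trans hd)
  · have h2 := congrArg (Subgroup.map C.subtype) (commutator_eq_bot_iff_le_centralizer.2 h)
    rw [Subgroup.map_commutator, map_subgroupOf_eq_of_le hLx, map_subgroupOf_eq_of_le hDC,
      Subgroup.map_bot, commutator_eq_bot_iff_le_centralizer] at h2
    exact le_centralizer_iff.1 h2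

/-- A component moved by `x` is centralized by `O_{p'}(C_G(x))`. -/
theorem centralizerPPrimeCore_le_centralizer_of_moved (hxp : orderOf x = p) {L : Subgroup G}
    (hL : Cfsg.IsComponent L) (hxL : x ∉ normalizer (L : Set G)) :
    Cfsg.centralizerPPrimeCore p x ≤ centralizer (L : Set G) := by
  set D := Cfsg.centralizerPPrimeCore p x
  haveI := layer_normal G
  have hDL : D ≤ normalizer (L : Set G) := centralizerPPrimeCore_le_normalizer_component hx hO hL
  have hxp1 : x ^ p = 1 := hxp ▸ pow_orderOf_eq_one x
  have hdist : ∀ i, 0 < i → i < p →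
      L.map (MulAut.conj (x ^ i)).toMonoidHom ≤ centralizer (L : Set G) := by
    intro i hi hip
    refine (component_eq_or_le_centralizer (isComponent_map_conj hL _) hL).resolve_left fun e => hxL ?_
    have hm : x ^ i ∈ normalizer (L : Set G) := map_conj_eq_iff.1 e
    obtain ⟨a, b, hab⟩ : IsCoprime (i : ℤ) (p : ℤ) := Nat.isCoprime_iff_coprime.2
      ((hp.out.coprime_iff_not_dvd.2 fun hd => absurd (Nat.le_of_dvd hi hd) (not_le.2 hip)).symm)
    have : x = (x ^ (i : ℤ)) ^ a * (x ^ (p : ℤ)) ^ b := by
      rw [← zpow_mul, ← zpow_mul, ← zpow_add, mul_comm (i : ℤ), mul_comm (p : ℤ), hab, zpow_one]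
    rw [this, zpow_natCast x p, hxp1, one_zpow, mul_one, zpow_natCast]
    exact zpow_mem hm a
  -- for `l` in `L` there is an element of `C_E(x)` congruent to `l` modulo `C(L)`
  have hfix : ∀ l ∈ L, ∃ c ∈ centralizer (L : Set G),
      l * c ∈ Cfsg.layer G ∧ l * c ∈ centralizer ({x} : Set G) := by
    intro l hl
    let S : ℕ → G := fun k => (l * x) ^ k * (x ^ k)⁻¹
    have hS : ∀ k, S (k + 1) = l * (x * S k * x⁻¹) := fun k => by
      simp only [S, pow_succ', mul_inv_rev]; group
    have hmv : ∀ k i, 0 < i → i + k ≤ p →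
        x ^ i * S k * (x ^ i)⁻¹ ∈ centralizer (L : Set G) := by
      intro k
      induction k with
      | zero => intro i _ _; simp [S]
      | succ k ih =>
        intro i hi hik
        rw [hS]
        have e : x ^ i * (l * (x * S k * x⁻¹)) * (x ^ i)⁻¹ =
            (x ^ i * l * (x ^ i)⁻¹) * (x ^ (i + 1) * S k * (x ^ (i + 1))⁻¹) := by
          rw [pow_succ]; group
        rw [e]
        exact mul_mem (hdist i hi (by omega) ⟨l, hl, rfl⟩) (ih (i + 1) (by omega) (by omega))
    have hE : ∀ k, S k ∈ Cfsg.layer G := by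
      intro k
      induction k with
      | zero => simp [S]
      | succ k ih => rw [hS]; exact mul_mem (le_layer hL hl) ((layer_normal G).conj_mem _ ih x)
    have hp1 : p = p - 1 + 1 := (Nat.succ_pred_eq_of_pos hp.out.pos).symm
    set c := x * S (p - 1) * x⁻¹
    have hc : c ∈ centralizer (L : Set G) := by
      have h := hmv (p - 1) 1 one_pos (by omega)
      rwa [pow_one] at h
    have hlc : S p = l * c := by
      calc S p = S (p - 1 + 1) := by rw [← hp1]
        _ = _ := hS _
    refine ⟨c, hc, hlc ▸ hE p, mem_centralizer_singleton_iff.2 ?_⟩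
    have hlcm : l * c = c * l := mem_centralizer_iff.1 hc l hl
    have h1 : (l * x) ^ p = l * c := by
      rw [← hlc]; simp only [S, hxp1, inv_one, mul_one]
    have h2 : x * (l * x) ^ p * x⁻¹ = (x * l) ^ p := by
      rw [← conj_pow]; congr 1; group
    have h3 : (x * l) ^ p = l⁻¹ * (l * x) ^ p * l := by
      have h := conj_pow (a := l⁻¹) (b := l * x) (i := p)
      rw [inv_inv] at h
      rw [← h]; congr 1; group
    have h4 : x * (l * c) * x⁻¹ = l * c := by
      calc x * (l * c) * x⁻¹ = l⁻¹ * (l * c) * l := by rw [← h1, h2, h3]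
        _ = c * l := by group
        _ = _ := hlcm.symm
    calc l * c * x = x * (l * c) * x⁻¹ * x := by rw [h4]
      _ = x * (l * c) := by group
  -- `D ∩ E` centralizes `L`
  set N := (D ⊓ Cfsg.layer G) ⊔ (centralizer (L : Set G) ⊓ Cfsg.layer G) with hNdef
  have hLn : L ≤ normalizer ((centralizer (L : Set G) ⊓ Cfsg.layer G : Subgroup G) : Set G) :=
    le_normalizer_inf (le_normalizer_centralizer le_normalizer) (le_normalizer_of_normal' _ _)
  have hDn : D ⊓ Cfsg.layer G ≤ normalizer ((centralizer (L : Set G) ⊓ Cfsg.layer G : Subgroup G) : Set G) :=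
    le_normalizer_inf (le_normalizer_centralizer (inf_le_left.trans hDL)) (le_normalizer_of_normal' _ _)
  have hCLN : centralizer (L : Set G) ⊓ Cfsg.layer G ≤ normalizer ((N : Subgroup G) : Set G) :=
    le_sup_right.trans le_normalizer
  have hLN : L ≤ normalizer ((N : Subgroup G) : Set G) := by
    intro l hl
    obtain ⟨c, hc, hlE, hlx⟩ := hfix l hl
    have hs : l * c ∈ normalizer ((N : Subgroup G) : Set G) := by
      rw [← map_conj_eq_iff, hNdef, Subgroup.map_sup, map_conj_eq_iff.2, map_conj_eq_iff.2]
      · exact le_normalizer_inf (le_normalizer_centralizer (layer_le_normalizer_component hL))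
          (le_normalizer_of_normal' _ _) hlE
      · refine le_normalizer_inf (M := centralizer {x}) ?_ (le_normalizer_of_normal' _ _) hlx
        exact centralizer_le_normalizer_centralizerPPrimeCore x
    have hcE : c ∈ Cfsg.layer G := by
      have h := mul_mem (inv_mem (le_layer hL hl)) hlE
      rwa [inv_mul_cancel_left] at h
    have h := mul_mem hs (inv_mem (hCLN ⟨hc, hcE⟩))
    rwa [mul_inv_cancel_right] at h
  haveI : (N.subgroupOf L).Normal := normal_subgroupOf_of_le_normalizer hLN
  have hkey : D ⊓ Cfsg.layer G ≤ centralizer (L : Set G) := by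
    have hNcen : N.subgroupOf L ≤ center L := by
      refine (normal_eq_top_or_le_center hL.2 _).resolve_left fun htop => ?_
      have hLleN : L ≤ N := subgroupOf_eq_top.1 htop
      set C := centralizer (L : Set G) ⊓ Cfsg.layer G
      have hCN : ((C).subgroupOf N).Normal :=
        normal_subgroupOf_of_le_normalizer (sup_le hDn le_normalizer)
      let ψ : ↥L →* ↥N ⧸ C.subgroupOf N :=
        (QuotientGroup.mk' (C.subgroupOf N)).comp (inclusion hLleN)
      have hker : ψ.ker ≤ center L := by
        intro l hl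
        rw [MonoidHom.mem_ker, MonoidHom.comp_apply, QuotientGroup.mk'_apply,
          QuotientGroup.eq_one_iff, mem_subgroupOf] at hl
        exact mem_center_iff.2 fun y => Subtype.ext (mem_centralizer_iff.1 hl.1 y y.2)
      have hd : Nat.card (↥N ⧸ C.subgroupOf N) ∣ Nat.card D := by
        have h1 := card_sup_dvd_mul (H := C) (K := D ⊓ Cfsg.layer G) hDn
        rw [sup_comm, ← hNdef, ← card_mul_index (C.subgroupOf N),
          Nat.card_congr (subgroupOfEquivOfLe le_sup_right).toEquiv] at h1
        exact (Nat.dvd_of_mul_dvd_mul_left Nat.card_pos h1).trans (card_dvd_of_le inf_le_left)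
      have hidx : (center L).index ∣ Nat.card D := by
        refine ((index_dvd_of_le hker).trans ?_).trans hd
        rw [index_ker]
        exact card_subgroup_dvd_card _
      exact hp.out.coprime_iff_not_dvd.1 (coprime_card_centralizerPPrimeCore x).symm
        ((dvd_index_center_of_isComponent hO hL).trans hidx)
    intro d hd
    have hdE := hd.2
    obtain ⟨l, hl, c, hc, hlc⟩ : ∃ l ∈ L, ∃ c ∈ centralizer (L : Set G) ⊓ Cfsg.layer G, l * c = d := by
      have hsplit : Cfsg.layer G ≤ (centralizer (L : Set G) ⊓ Cfsg.layer G) ⊔ L := sSup_le fun K hK => by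
        rcases component_eq_or_le_centralizer hK hL with rfl | h
        · exact le_sup_right
        · exact le_sup_of_le_left (le_inf h (le_layer hK))
      obtain ⟨c, hc, l, hl, e⟩ := exists_mul_of_mem_sup hLn (hsplit hdE)
      exact ⟨l, hl, c, hc, by rw [mem_centralizer_iff.1 hc.1 l hl]; exact e⟩
    have hlN : l ∈ N := by
      have h := mul_mem (mem_sup_left (T := centralizer (L : Set G) ⊓ Cfsg.layer G) hd)
        (mem_sup_right (S := D ⊓ Cfsg.layer G) (inv_mem hc))
      rwa [← hlc, mul_inv_cancel_right] at h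
    have hlc' : l ∈ centralizer (L : Set G) := mem_centralizer_iff.2 fun y hy =>
      congrArg Subtype.val (mem_center_iff.1 (hNcen (x := ⟨l, hl⟩) hlN) ⟨y, hy⟩)
    rw [← hlc]
    exact mul_mem hlc' hc.1
  intro d hd
  refine mem_centralizer_component hL.2 (hDL hd) fun l hl => ?_
  obtain ⟨c, hc, hlE, hlx⟩ := hfix l hl
  have hdC : d ∈ normalizer ((centralizer (L : Set G) : Subgroup G) : Set G) :=
    le_normalizer_centralizer hDL hd
  have h1 : ⁅d, l * c⁆ ∈ centralizer (L : Set G) := by
    refine hkey (mem_inf.2 ⟨?_, ?_⟩)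
    · have h := (mem_normalizer_iff.1 (centralizer_le_normalizer_centralizerPPrimeCore (p := p) x hlx)
        d⁻¹).1 (inv_mem hd)
      have e : ⁅d, l * c⁆ = d * ((l * c) * d⁻¹ * (l * c)⁻¹) := by rw [commutatorElement_def]; group
      rw [e]; exact mul_mem hd h
    · rw [commutatorElement_def]
      exact mul_mem ((layer_normal G).conj_mem _ hlE d) (inv_mem hlE)
  have e : ⁅d, l⁆ = ⁅d, l * c⁆ * (l * (⁅d, c⁆)⁻¹ * l⁻¹) := by
    rw [commutatorElement_def, commutatorElement_def, commutatorElement_def]; group
  rw [e]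
  refine mul_mem h1 ((mem_normalizer_iff.1 (le_normalizer_centralizer le_normalizer hl) _).1
    (inv_mem ?_))
  rw [commutatorElement_def]
  exact mul_mem ((mem_normalizer_iff.1 hdC c).1 hc) (inv_mem hc)

omit hx hO

/-- The image of `O_{p'}(C_G(x))` in the automorphism group induced on a component lies in the
`p'`-core of the centralizer of the image of `x`. -/
theorem map_le_centralizerPPrimeCore (hxp : orderOf x = p) (hO : Cfsg.pPrimeCore p G = ⊥)
    {L H : Subgroup G} (hL : Cfsg.IsComponent L)
    (hH : H ≤ L ⊔ (normalizer (L : Set G) ⊓ centralizer ({x} : Set G)))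
    {Y : Type*} [Group Y] [Finite Y] (φ : ↥H →* Y) (hφ : Function.Surjective φ)
    (hker : φ.ker = (centralizer (L : Set G)).subgroupOf H) (hxH : x ∈ H) :
    ((Cfsg.centralizerPPrimeCore p x).subgroupOf H).map φ ≤
      Cfsg.centralizerPPrimeCore p (φ ⟨x, hxH⟩) := by
  have hx : IsPGroup p (zpowers x) := isPGroup_zpowers_of_orderOf (k := 1) (by rw [pow_one, hxp])
  have hHN : H ≤ normalizer (L : Set G) := hH.trans (sup_le le_normalizer inf_le_left)
  set Zl := L ⊓ centralizer (L : Set G)
  have hZlR : Zl ≤ Cfsg.pCore p G := by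
    rw [← fittingSubgroup_eq_pCore_of_core hO]
    exact component_inf_centralizer_le_fittingSubgroup hL
  set C1 := centralizer ({x} : Set G) ⊓ centralizer (Zl : Set G) ⊓ normalizer (L : Set G)
  set D1 := (Cfsg.pPrimeCore p ↥C1).map C1.subtype
  have hD1 : Cfsg.centralizerPPrimeCore p x ≤ D1 := by
    have hle : Cfsg.centralizerPPrimeCore p x ≤ C1 := le_inf (le_inf (centralizerPPrimeCore_le x)
      ((centralizerPPrimeCore_le_centralizer_pCore hx).trans (centralizer_le hZlR)))
      (centralizerPPrimeCore_le_normalizer_component hx hO hL)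
    rw [← map_subgroupOf_eq_of_le hle]
    refine map_mono (le_sSup ⟨normal_subgroupOf_of_le_normalizer
      ((inf_le_left.trans inf_le_left).trans (centralizer_le_normalizer_centralizerPPrimeCore x)), ?_⟩)
    rw [Nat.card_congr (subgroupOfEquivOfLe hle).toEquiv]
    exact coprime_card_centralizerPPrimeCore x
  have hchar : normalizer (C1 : Set G) ≤ normalizer (D1 : Set G) := by
    intro g hg
    have key : ∀ g ∈ normalizer (C1 : Set G), D1.map (MulAut.conj g).toMonoidHom ≤ D1 := by
      intro g hg
      have hle : D1.map (MulAut.conj g).toMonoidHom ≤ C1 :=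
        (map_mono (map_subtype_le _)).trans_eq (map_conj_eq_iff.2 hg)
      rw [← map_subgroupOf_eq_of_le hle]
      refine map_mono (le_sSup ⟨normal_subgroupOf_of_le_normalizer ?_, ?_⟩)
      · have h1 : C1 ≤ normalizer (D1 : Set G) := by
          have h := le_normalizer_map (f := C1.subtype) (H := Cfsg.pPrimeCore p ↥C1)
          haveI := Cfsg.pPrimeCore_normal p ↥C1
          rwa [normalizer_eq_top, ← MonoidHom.range_eq_map, range_subtype] at h
        exact (map_conj_eq_iff.2 hg).ge.trans ((map_mono h1).trans (le_normalizer_map _))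
      · rw [Nat.card_congr (subgroupOfEquivOfLe hle).toEquiv,
          card_map_of_injective (MulAut.conj g).injective, card_map_of_injective C1.subtype_injective]
        exact coprime_card_pPrimeCore p _
    rw [← map_conj_eq_iff]
    refine le_antisymm (key g hg) ?_
    have h := map_mono (f := (MulAut.conj g).toMonoidHom) (key g⁻¹ (inv_mem hg))
    rwa [← map_conj_mul, mul_inv_cancel, map_conj_one] at h
  refine (map_mono fun y hy => (mem_subgroupOf.2 (hD1 hy) : y ∈ D1.subgroupOf H)).trans ?_
  refine le_centralizerPPrimeCore ?_ ?_ ?_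
  · rintro _ ⟨y, hy, rfl⟩
    rw [mem_centralizer_singleton_iff, ← map_mul, ← map_mul]
    congr 1
    exact Subtype.ext (mem_centralizer_singleton_iff.1 (map_subtype_le (Cfsg.pPrimeCore p ↥C1) hy).1.1)
  · intro z hz
    obtain ⟨⟨h, hh⟩, rfl⟩ := hφ z
    have hcomm : φ (⟨h, hh⟩ * ⟨x, hxH⟩) = φ (⟨x, hxH⟩ * ⟨h, hh⟩) := by
      rw [map_mul, map_mul]; exact mem_centralizer_singleton_iff.1 hz
    have hk : (⟨x, hxH⟩ * ⟨h, hh⟩ : ↥H)⁻¹ * (⟨h, hh⟩ * ⟨x, hxH⟩) ∈ φ.ker := by
      rw [MonoidHom.mem_ker, map_mul, map_inv, hcomm, inv_mul_cancel]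
    rw [hker, mem_subgroupOf] at hk
    obtain ⟨l, hl, c, hc, hlc⟩ := exists_mul_of_mem_sup inf_le_left (hH hh)
    have hc1 : c * x = x * c := mem_centralizer_singleton_iff.1 hc.2
    have hxL : x ∈ normalizer (L : Set G) := hHN hxH
    have hcC := le_normalizer_centralizer (H := L) inf_le_left hc
    -- `l⁻¹ x⁻¹ l x` centralizes `L`
    have hz1 : l⁻¹ * x⁻¹ * l * x ∈ centralizer (L : Set G) := by
      have e : c * ((x * (l * c))⁻¹ * (l * c * x)) * c⁻¹ = l⁻¹ * x⁻¹ * l * x := by
        calc c * ((x * (l * c))⁻¹ * (l * c * x)) * c⁻¹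
            = l⁻¹ * x⁻¹ * l * (c * x) * c⁻¹ := by group
          _ = l⁻¹ * x⁻¹ * l * (x * c) * c⁻¹ := by rw [hc1]
          _ = _ := by group
      have hk2 : (x * (l * c))⁻¹ * (l * c * x) ∈ centralizer (L : Set G) := by rw [hlc]; exact hk
      rw [← e]
      exact (mem_normalizer_iff.1 hcC _).1 hk2
    have hzl : l⁻¹ * x⁻¹ * l * x ∈ L := by
      have h1 := (mem_normalizer_iff''.1 hxL l).1 hl
      have e : l⁻¹ * x⁻¹ * l * x = l⁻¹ * (x⁻¹ * l * x) := by group
      rw [e]; exact mul_mem (inv_mem hl) h1
    have hlN : l ∈ normalizer (C1 : Set G) := by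
      refine map_conj_eq_iff.1 (eq_of_le_of_card_ge ?_
        (card_map_of_injective (MulAut.conj l).injective).ge)
      rintro _ ⟨y, hy, rfl⟩
      obtain ⟨hy12, hy3⟩ := mem_inf.1 (show y ∈ C1 from hy)
      obtain ⟨hy1, hy2⟩ := mem_inf.1 hy12
      have hlZ : l ∈ centralizer (Zl : Set G) :=
        le_centralizer_iff.1 (inf_le_right : Zl ≤ centralizer (L : Set G)) hl
      have hyZ : l * y * l⁻¹ ∈ centralizer (Zl : Set G) :=
        mul_mem (mul_mem hlZ hy2) (inv_mem hlZ)
      refine mem_inf.2 ⟨mem_inf.2 ⟨mem_centralizer_singleton_iff.2 ?_, hyZ⟩,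
        mul_mem (mul_mem (le_normalizer hl) hy3) (inv_mem (le_normalizer hl))⟩
      have hy1' : y * x = x * y := mem_centralizer_singleton_iff.1 hy1
      set ζ := l⁻¹ * x⁻¹ * l * x with hζ
      have hyζ : ζ * y = y * ζ := mem_centralizer_iff.1 hy2 ζ ⟨hzl, hz1⟩
      have hxl : x * l = l * x * ζ⁻¹ := by rw [hζ]; group
      change l * y * l⁻¹ * x = x * (l * y * l⁻¹)
      calc l * y * l⁻¹ * x = l * y * (ζ * x⁻¹)⁻¹ * l⁻¹ := by rw [hζ]; group
        _ = l * (y * x) * ζ⁻¹ * l⁻¹ := by group
        _ = l * x * (y * ζ⁻¹) * l⁻¹ := by rw [hy1']; group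
        _ = l * x * (ζ⁻¹ * y) * l⁻¹ := by
            rw [(Commute.inv_left (hyζ : Commute ζ y)).eq]
        _ = l * x * ζ⁻¹ * y * l⁻¹ := by group
        _ = x * l * y * l⁻¹ := by rw [← hxl]
        _ = _ := by group
    have hcN : c ∈ normalizer (C1 : Set G) := by
      refine le_normalizer_inf (M := normalizer (L : Set G) ⊓ centralizer ({x} : Set G))
        (le_normalizer_inf ?_ ?_) ?_ hc
      · exact inf_le_right.trans le_normalizer
      · refine le_normalizer_centralizer (inf_le_left.trans ?_)
        exact le_normalizer_inf le_rfl (normalizer_le_normalizer_centralizer L)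
      · exact inf_le_left.trans le_normalizer
    have hhN : h ∈ normalizer (D1 : Set G) := hchar (hlc ▸ mul_mem hlN hcN)
    refine map_conj_eq_iff.1 ?_
    rw [← CfsgLib.Coprime.map_conj_map, map_conj_eq_iff.2]
    rw [mem_normalizer_iff]
    intro y
    simp only [mem_subgroupOf, Subgroup.coe_mul, InvMemClass.coe_inv]
    exact mem_normalizer_iff.1 hhN y
  · refine Nat.Coprime.coprime_dvd_left ((card_map_dvd _ φ).trans ?_) (coprime_card_pPrimeCore p ↥C1)
    have h := card_map_dvd (D1.subgroupOf H) H.subtype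
    rw [← card_map_of_injective H.subtype_injective, subgroupOf_map_subtype,
      ← card_map_of_injective C1.subtype_injective]
    exact card_dvd_of_le inf_le_left

end CfsgLib.Comp
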