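import Cfsg.Agent.Lib.Comp.Balance
import Cfsg.Agent.Lib.Comp.FStar

/-!
Consequences of the normalization lemmas for `O_{p'}(C_G(x))`: balance reduces to the automorphism
groups induced on components.
-/

set_option autoImplicit false
set_option linter.style.haveILetI false
set_option linter.unusedSectionVars false

namespace CfsgLib.Comp

open Subgroup
open scoped commutatorElement

variable {G : Type*} [Group G] [Finite G] {p : ℕ} [hp : Fact p.Prime]

/-- The normalizer of a subgroup normalizes its `p'`-core. -/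
theorem normalizer_le_normalizer_pPrimeCore (S : Subgroup G) :
    normalizer (S : Set G) ≤
      normalizer (((Cfsg.pPrimeCore p ↥S).map S.subtype : Subgroup G) : Set G) := by
  set D := (Cfsg.pPrimeCore p ↥S).map S.subtype
  have h1 : S ≤ normalizer (D : Set G) := by
    have h := le_normalizer_map (f := S.subtype) (H := Cfsg.pPrimeCore p ↥S)
    haveI := Cfsg.pPrimeCore_normal p ↥S
    rwa [normalizer_eq_top, ← MonoidHom.range_eq_map, range_subtype] at h
  intro g hg
  refine map_conj_eq_iff.1 (eq_of_le_of_card_ge ?_ (card_map_of_injective (MulAut.conj g).injective).ge)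
  have hle : D.map (MulAut.conj g).toMonoidHom ≤ S :=
    (map_mono (map_subtype_le _)).trans_eq (map_conj_eq_iff.2 hg)
  rw [← map_subgroupOf_eq_of_le hle]
  refine map_mono (le_sSup ⟨normal_subgroupOf_of_le_normalizer ?_, ?_⟩)
  · exact (map_conj_eq_iff.2 hg).ge.trans ((map_mono h1).trans (le_normalizer_map _))
  · rw [Nat.card_congr (subgroupOfEquivOfLe hle).toEquiv,
      card_map_of_injective (MulAut.conj g).injective, card_map_of_injective S.subtype_injective]
    exact coprime_card_pPrimeCore p _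

theorem centralizer_layer_inf_centralizer_pCore_le (hO : Cfsg.pPrimeCore p G = ⊥) :
    centralizer (Cfsg.layer G : Set G) ⊓ centralizer (Cfsg.pCore p G : Set G) ≤ Cfsg.pCore p G := by
  rw [← fittingSubgroup_eq_pCore_of_core hO]
  refine le_trans ?_ (centralizer_generalizedFitting_le_fitting G)
  rw [Cfsg.generalizedFittingSubgroup]
  exact le_centralizer_iff.1 (sup_le (le_centralizer_iff.1 inf_le_left) (le_centralizer_iff.1 inf_le_right))

/-- A nontrivial subgroup of `O_{p'}(C_G(x))` acts nontrivially on some component. -/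
theorem exists_component_not_le_centralizer {x : G} (hx : IsPGroup p (zpowers x))
    (hO : Cfsg.pPrimeCore p G = ⊥) {Y : Subgroup G} (hY : Y ≤ Cfsg.centralizerPPrimeCore p x)
    (hY1 : Y ≠ ⊥) : ∃ L : Subgroup G, Cfsg.IsComponent L ∧ ¬ Y ≤ centralizer (L : Set G) := by
  by_contra! h
  refine hY1 (eq_bot_iff.2 ?_)
  have h2 : Y ≤ Cfsg.pCore p G := by
    refine (le_inf ?_ ((hY.trans (centralizerPPrimeCore_le_centralizer_pCore hx)))).trans
      (centralizer_layer_inf_centralizer_pCore_le hO)
    exact le_centralizer_iff.1 (sSup_le fun L hL => le_centralizer_iff.1 (h L hL))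
  rw [← inf_eq_bot_of_isPGroup (isPGroup_pCore p G) (coprime_card_centralizerPPrimeCore (p := p) x)]
  exact le_inf h2 hY

/-- A subgroup of `O_{p'}(C_G(x))` which is not trivial acts faithfully on a component fixed, and not
centralized, by `x`. -/
theorem exists_component_moved_by {x : G} (hxp : orderOf x = p) (hO : Cfsg.pPrimeCore p G = ⊥)
    {Y : Subgroup G} (hY : Y ≤ Cfsg.centralizerPPrimeCore p x) (hY1 : Y ≠ ⊥) :
    ∃ L : Subgroup G, Cfsg.IsComponent L ∧ x ∈ normalizer (L : Set G) ∧
      Y ≤ normalizer (L : Set G) ∧ x ∉ centralizer (L : Set G) ∧ ¬ Y ≤ centralizer (L : Set G) := by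
  have hx : IsPGroup p (zpowers x) := isPGroup_zpowers_of_orderOf (k := 1) (by rw [pow_one, hxp])
  obtain ⟨L, hL, hYL⟩ := exists_component_not_le_centralizer hx hO hY hY1
  refine ⟨L, hL, ?_, hY.trans (centralizerPPrimeCore_le_normalizer_component hx hO hL), ?_, hYL⟩
  · by_contra h
    exact hYL (hY.trans (centralizerPPrimeCore_le_centralizer_of_moved hx hO hxp hL h))
  · intro h
    refine hYL (hY.trans (centralizerPPrimeCore_le_centralizer_of_le hO x hL fun l hl => ?_))
    exact mem_centralizer_singleton_iff.2 (mem_centralizer_iff.1 h l hl)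

/-- The group induced on a component has trivial `p'`-core. -/
theorem pPrimeCore_eq_bot_of_ker_centralizer (hO : Cfsg.pPrimeCore p G = ⊥) {L H : Subgroup G}
    (hL : Cfsg.IsComponent L) (hLH : L ≤ H) (hHN : H ≤ normalizer (L : Set G))
    {Y : Type*} [Group Y] [Finite Y] (φ : ↥H →* Y) (hφ : Function.Surjective φ)
    (hker : φ.ker = (centralizer (L : Set G)).subgroupOf H) : Cfsg.pPrimeCore p Y = ⊥ := by
  haveI := Cfsg.pPrimeCore_normal p Y
  set K := (Cfsg.pPrimeCore p Y).comap φ with hK
  haveI : K.Normal := Normal.comap ‹_› _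
  have hcomm : ∀ h ∈ K, ∀ l : ↥H, ⁅h, l⁆ ∈ K := fun h hh l => by
    rw [commutatorElement_def, mul_assoc, mul_assoc]
    exact mul_mem hh (by simpa [mul_assoc] using Subgroup.Normal.conj_mem ‹_› _ (inv_mem hh) l)
  set U := (L ⊓ K.map H.subtype).subgroupOf L with hU
  haveI : U.Normal := normal_subgroupOf_of_le_normalizer <|
    le_normalizer_inf le_normalizer (hLH.trans (by
      have h := le_normalizer_map (f := H.subtype) (H := K)
      rwa [normalizer_eq_top, ← MonoidHom.range_eq_map, range_subtype] at h))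
  rcases normal_eq_top_or_le_center hL.2 U with htop | hcen
  · exfalso
    have hLK : L ≤ K.map H.subtype := fun l hl => (subgroupOf_eq_top.1 htop hl).2
    let f : ↥L →* ↥(Cfsg.pPrimeCore p Y) :=
      (φ.comp (inclusion hLH)).codRestrict _ fun l => by
        obtain ⟨k, hk, hkl⟩ := hLK l.2
        have e : k = inclusion hLH l := Subtype.ext hkl
        rw [MonoidHom.comp_apply, ← e]
        exact hk
    have hf : f.ker ≤ center L := by
      intro l hl
      have h1 : φ (inclusion hLH l) = 1 := congrArg Subtype.val (MonoidHom.mem_ker.1 hl)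
      have h2 : inclusion hLH l ∈ φ.ker := MonoidHom.mem_ker.2 h1
      rw [hker, mem_subgroupOf] at h2
      exact mem_center_iff.2 fun y => Subtype.ext (mem_centralizer_iff.1 h2 y y.2)
    have hd : (center L).index ∣ Nat.card (Cfsg.pPrimeCore p Y) :=
      (index_dvd_of_le hf).trans (index_ker f ▸ card_subgroup_dvd_card _)
    exact hp.out.coprime_iff_not_dvd.1 (coprime_card_pPrimeCore p Y).symm
      ((dvd_index_center_of_isComponent hO hL).trans hd)
  · rw [eq_bot_iff]
    intro y hy
    obtain ⟨⟨h, hh⟩, rfl⟩ := hφ y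
    rw [mem_bot, ← MonoidHom.mem_ker, hker, mem_subgroupOf]
    refine mem_centralizer_component hL.2 (hHN hh) fun l hl => ?_
    have hL' : ⁅h, l⁆ ∈ L := by
      rw [commutatorElement_def]
      exact mul_mem ((mem_normalizer_iff.1 (hHN hh) l).1 hl) (inv_mem hl)
    have hK' : ⁅h, l⁆ ∈ K.map H.subtype :=
      ⟨⁅(⟨h, hh⟩ : ↥H), ⟨l, hLH hl⟩⁆, hcomm _ hy _, map_commutatorElement H.subtype _ _⟩
    exact mem_centralizer_iff.2 fun z hz => congrArg Subtype.val
      (mem_center_iff.1 (hcen (x := ⟨_, hL'⟩) ⟨hL', hK'⟩) ⟨z, hz⟩)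

/-- Balance reduces to the groups induced on components. -/
theorem isBalancedFor_of_components (hO : Cfsg.pPrimeCore p G = ⊥)
    (h : ∀ L : Subgroup G, Cfsg.IsComponent L → ∀ H : Subgroup G, L ≤ H → (L.subgroupOf H).Normal →
      ∀ [((centralizer (L : Set G)).subgroupOf H).Normal],
        Cfsg.IsBalancedFor p (↥H ⧸ (centralizer (L : Set G)).subgroupOf H)) :
    Cfsg.IsBalancedFor p G := by
  intro x hxp
  rw [hO, le_bot_iff]
  by_contra hne
  have hx : IsPGroup p (zpowers x) := isPGroup_zpowers_of_orderOf (k := 1) (by rw [pow_one, hxp])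
  obtain ⟨L, hL, hxL, hDL, hxC, hDC⟩ := exists_component_moved_by hxp hO le_rfl hne
  set H := L ⊔ (normalizer (L : Set G) ⊓ centralizer ({x} : Set G)) with hH
  have hLH : L ≤ H := le_sup_left
  have hHN : H ≤ normalizer (L : Set G) := sup_le le_normalizer inf_le_left
  have hxH : x ∈ H := mem_sup_right (mem_inf.2 ⟨hxL, mem_centralizer_singleton_iff.2 rfl⟩)
  haveI hn : ((centralizer (L : Set G)).subgroupOf H).Normal :=
    normal_subgroupOf_of_le_normalizer (le_normalizer_centralizer hHN)
  set φ := QuotientGroup.mk' ((centralizer (L : Set G)).subgroupOf H)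
  have hbal := h L hL H hLH (normal_subgroupOf_of_le_normalizer hHN) (φ ⟨x, hxH⟩) ?_
  · have h1 := (map_le_centralizerPPrimeCore hxp hO hL (le_refl H) φ (QuotientGroup.mk'_surjective _)
      (QuotientGroup.ker_mk' _) hxH).trans (hbal.trans_eq
        (pPrimeCore_eq_bot_of_ker_centralizer hO hL hLH hHN φ (QuotientGroup.mk'_surjective _)
          (QuotientGroup.ker_mk' _)))
    refine hDC fun d hd => ?_
    have hdH : d ∈ H := mem_sup_right (mem_inf.2 ⟨hDL hd, centralizerPPrimeCore_le x hd⟩)
    exact (QuotientGroup.eq_one_iff (⟨d, hdH⟩ : H)).1 (mem_bot.1 (h1 ⟨⟨d, hdH⟩, hd, rfl⟩))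
  · refine orderOf_eq_prime ?_ ?_
    · rw [← map_pow]
      have e : (⟨x, hxH⟩ : H) ^ p = 1 := Subtype.ext (hxp ▸ pow_orderOf_eq_one x)
      rw [e, map_one]
    · rw [QuotientGroup.mk'_apply, ne_eq, QuotientGroup.eq_one_iff, mem_subgroupOf]
      exact hxC

end CfsgLib.Comp
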