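import Cfsg.Agent.Lib.Comp.CharacterSubsystem

/-!
Maps agreeing with a map of the invariant subsystem on a centric intersection with `T` lie in the
subsystems of index prime to `p` cut out by a character of the automizer of `T`.
-/

set_option autoImplicit false
set_option linter.unusedVariables false
set_option linter.unusedSectionVars false
set_option linter.style.haveILetI false

namespace CfsgLib.Comp.Fus

open Cfsg Cfsg.FusionSystem Subgroup CfsgLib.Fusion

variable {Ω : Type*} [Group Ω] {S T : Subgroup Ω} {F : FusionSystem S} {E : FusionSystem T}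
  {p : ℕ} {Δ : Type*} [Group Δ] {χ : ↥(F.autGroup T) →* Δ} [Finite S] [Fact p.Prime]

variable (hS : IsPGroup p S) (hw : E.IsWeaklyNormalIn F p)
  (hker : (E.autGroup T).subgroupOf (F.autGroup T) ≤ χ.ker) (hΔ : (Nat.card Δ).Coprime p)

include hS hw hker hΔ

/-- The maps whose base value is trivial on every subgroup meeting `T` in a centric subgroup. -/
noncomputable def baseSys : FusionSystem S where
  Hom P := {φ | φ ∈ F.Hom P ∧ ∀ R ≤ P, E.IsCentric (R ⊓ T) → IsBase E χ R (toFun φ) 1}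
  le_of_mem h := F.le_of_mem h.1
  injective_of_mem h := F.injective_of_mem h.1
  conj_mem {P s} hP hs := ⟨F.conj_mem hP hs, fun R hR hRc => by
    obtain ⟨-, hsc, -, -⟩ := isInvariantIn_iff.1 hw.2.2
    haveI := finite_of_le hsc.1
    have hm := isMap_conj F hsc.1 hs
    have hi : img T (fun y => s * y * s⁻¹) = T := StronglyClosed.img_eq hsc hm le_rfl
    obtain ⟨k, hk⟩ := hS.exists_card_eq
    have hs1 : s ^ p ^ k = 1 := by
      rw [← hk]
      exact congrArg Subtype.val (pow_card_eq_one' (x := (⟨s, hs⟩ : S)))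
    have hpow : ∀ (n : ℕ) (x : T),
        ((((hm.toAut hi) ^ n) x : T) : Ω) = s ^ n * x * (s ^ n)⁻¹ := by
      intro n x
      induction n with
      | zero => simp
      | succ n ih =>
        rw [pow_succ', MulAut.mul_apply, IsMap.toAut_apply, ih, pow_succ', mul_inv_rev]
        group
    have h1 : χ ⟨hm.toAut hi, hm.toAut_mem hi⟩ = 1 := by
      refine chi_eq_one_of_pow hS hw hker hΔ (k := k) (Subtype.ext (MulEquiv.ext fun x =>
        Subtype.ext ?_))
      rw [Subgroup.coe_pow, hpow, hs1]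
      simp
    refine ⟨⟨hm.toAut hi, hm.toAut_mem hi⟩, id, isMap_id E inf_le_right, fun x hx => ?_, h1⟩
    rw [toFun_of_mem _ (hR hx.1), id_eq, autFun_apply _ hx.2, IsMap.toAut_apply]
    rfl⟩
  comp_mem {P P' φ ψ} hφ hψ h := ⟨F.comp_mem hφ.1 hψ.1 h, fun R hR hRc => by
    have hm : IsMap F R (toFun φ) := (isMap_of_hom hφ.1).mono hR
    have hle : img R (toFun φ) ≤ P' := fun y hy => by
      obtain ⟨x, hx, rfl⟩ := hm.mem_img.1 hy
      rw [toFun_of_mem _ (hR hx)]
      exact h ⟨x, hR hx⟩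
    have h1 := IsBase.comp hS hw hm (hφ.2 R hR hRc)
      (hψ.2 _ hle ((centric_img_inter hS hw hm).1 hRc))
    rw [one_mul] at h1
    refine IsBase.congr hS hw h1 fun x hx => ?_
    rw [toFun_of_mem (ψ.comp (φ.codRestrict P' h)) (hR hx),
      toFun_of_mem ψ (hle (hm.apply_mem_img hx))]
    exact congrArg ψ (Subtype.ext (toFun_of_mem φ (hR hx)))⟩
  inv_mem {P φ} hφ := by
    obtain ⟨ψ, hψ, hψx⟩ := F.inv_mem hφ.1
    refine ⟨ψ, ⟨hψ, fun R hR hRc => ?_⟩, hψx⟩
    have hm := (isMap_of_hom hψ).mono hR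
    have hcan : ∀ x ∈ R, toFun ψ x ∈ P ∧ toFun φ (toFun ψ x) = x := fun x hx => by
      obtain ⟨z, hz⟩ := hR hx
      have e : toFun ψ x = z := by
        rw [toFun_of_mem _ (hR hx), show (⟨x, hR hx⟩ : φ.range) = ⟨φ z, z, rfl⟩ from
          Subtype.ext hz.symm, hψx]
      refine ⟨e ▸ z.2, ?_⟩
      rw [e, toFun_apply, hz]
    have hle : img R (toFun ψ) ≤ P := fun y hy => by
      obtain ⟨x, hx, rfl⟩ := hm.mem_img.1 hy
      exact (hcan x hx).1
    have hc' : E.IsCentric (img R (toFun ψ) ⊓ T) := (centric_img_inter hS hw hm).1 hRc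
    obtain ⟨d, hd⟩ := exists_isBase hS hw (P := R) (χ := χ) hm
    have h1 := IsBase.comp hS hw hm hd (hφ.2 _ hle hc')
    rw [one_mul] at h1
    have hid : IsBase E χ R (fun x => toFun φ (toFun ψ x)) 1 :=
      ⟨1, id, isMap_id E inf_le_right, fun x hx => by
        show toFun φ (toFun ψ x) = _
        rw [(hcan x hx.1).2, Subgroup.coe_one, id_eq, autFun_one hx.2], map_one χ⟩
    rwa [IsBase.unique hS hw hker hΔ hRc h1 hid] at hd

theorem genSys_le_baseSys : genSys F p ≤ baseSys hS hw hker hΔ := by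
  refine genSys_le_of fun P hP => ?_
  have hPS := hP.1
  haveI := finite_of_le hPS
  rintro _ ⟨β, hβ, rfl⟩
  refine (autGroup_mem_iff hPS).2 ⟨(autGroup_mem_iff hPS).1 β.2, fun R hR hRc => ?_⟩
  obtain ⟨hEsat, -, hinv⟩ := id hw
  obtain ⟨-, hsc, -, -⟩ := isInvariantIn_iff.1 hinv
  haveI := finite_of_le hsc.1
  have hPT : E.IsCentric (P ⊓ T) :=
    centric_of_le hRc (inf_le_inf_right T hR) inf_le_right
  have hd : ∀ γ : ↥(F.autGroup P), ∃ d, IsBase E χ P (autFun (γ : MulAut P)) d :=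
    fun γ => exists_isBase hS hw (isMap_autFun hPS γ.2)
  choose v hv using hd
  let vh : ↥(F.autGroup P) →* Δ := MonoidHom.mk' v fun a b => by
    have hb := isMap_autFun hPS b.2
    have h1 := IsBase.comp hS hw hb (hv b) (d' := v a) (g := autFun (a : MulAut P))
      (IsBase.mono hS hw (hv a) (le_of_eq img_autFun))
    exact IsBase.unique hS hw hker hΔ hPT (hv (a * b))
      (IsBase.congr hS hw h1 fun x hx => (autFun_mul_apply _ _ hx).symm)
  have hle : pGenAut F p P ≤ vh.ker := by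
    refine (Subgroup.closure_le _).2 fun γ ⟨k, hk⟩ => ?_
    refine orderOf_eq_one_iff.1 (Nat.eq_one_of_dvd_coprimes (hΔ.pow_right k)
      (orderOf_dvd_natCard _) (orderOf_dvd_of_pow_eq_one ?_))
    rw [← map_pow, ← hk, pow_orderOf_eq_one, map_one]
  have h2 := IsBase.mono hS hw (hv β) (P := R) hR
  rw [show v β = 1 from hle hβ] at h2
  exact IsBase.congr hS hw h2 fun x hx => rfl

/-- A map with trivial base value on a subgroup meeting `T` centrically lies in the subsystem. -/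
theorem mem_indexSys_of_isBase {P : Subgroup Ω} {f : Ω → Ω} (hf : IsMap F P f)
    (hc : E.IsCentric (P ⊓ T)) (hb : IsBase E χ P f 1) :
    IsMap (indexSys hS hw.2.1 (charAut hw.2.2.2.1 χ) (charAut_le _)) P f := by
  obtain ⟨β, hβ, g, hg, hfx⟩ := exists_frattini hS hw.2.1 hf
  refine (isMap_indexSys_iff hS hw.2.1 _ _).2 ⟨hf, β, ?_, g, hg, hfx⟩
  obtain ⟨φ, hφ, hφx⟩ := le_iff_isMap.1 (genSys_le_baseSys hS hw hker hΔ) P g hg
  have hgF := le_iff_isMap.1 genSys_le P g hg
  have hg1 : IsBase E χ P g 1 := IsBase.congr hS hw (hφ.2 P le_rfl hc) fun x hx =>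
    (toFun_of_mem φ hx).trans (hφx ⟨x, hx⟩)
  have hsc : F.StronglyClosed T := hw.2.2.2.1
  have hβb : IsBase E χ (img P g) (autFun β) (χ (resT hsc ⟨β, hβ⟩)) :=
    ⟨_, id, isMap_id E inf_le_right, fun x hx => by
      rw [id_eq, autFun_apply _ hx.2, coe_resT hsc ⟨β, hβ⟩ ⟨x, hx.2⟩], rfl⟩
  have h1 := IsBase.comp hS hw hgF hg1 hβb
  rw [mul_one] at h1
  exact (mem_charAut _ hβ).2
    (IsBase.unique hS hw hker hΔ hc (IsBase.congr hS hw h1 fun x hx => (hfx x hx).symm) hb)

end CfsgLib.Comp.Fus
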