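import Cfsg.Agent.Lib.Comp.Local
import Cfsg.Agent.Lib.Solvable.Nilpotent

/-!
Bender's maximal subgroup theorem: if two different maximal subgroups of a simple group contain
each other's generalized Fitting subgroups then both of these are `p`-groups for one prime `p`.
-/

set_option autoImplicit false
set_option linter.style.haveILetI false
set_option linter.unusedSectionVars false

namespace CfsgLib.Comp

open Subgroup
open scoped commutatorElement

variable {G : Type*} [Group G] [Finite G]

theorem subgroupOf_isSubnormal_trans {A B C : Subgroup G} (hAB : A ≤ B) (hBC : B ≤ C)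
    (h : (A.subgroupOf B).IsSubnormal) (h' : (B.subgroupOf C).IsSubnormal) :
    (A.subgroupOf C).IsSubnormal :=
  Subgroup.IsSubnormal.trans (comap_mono hAB) (h.comap (subgroupOfEquivOfLe hBC).toMonoidHom) h'

/-- `O_p(H)` as a subgroup of the ambient group. -/
def radP (p : ℕ) (H : Subgroup G) : Subgroup G := (Cfsg.pCore p H).map H.subtype

theorem radP_le (p : ℕ) (H : Subgroup G) : radP p H ≤ H := map_subtype_le _

theorem le_normalizer_map_subtype {H : Subgroup G} (X : Subgroup H) [X.Normal] :
    H ≤ normalizer ((X.map H.subtype : Subgroup G) : Set G) := by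
  refine le_trans ?_ (le_normalizer_map H.subtype)
  rw [normalizer_eq_top_iff.2 inferInstance, ← MonoidHom.range_eq_map, range_subtype]

theorem le_normalizer_radP (p : ℕ) (H : Subgroup G) : H ≤ normalizer (radP p H : Set G) := by
  haveI := Cfsg.pCore_normal p H
  exact le_normalizer_map_subtype _

theorem isPGroup_radP (p : ℕ) (H : Subgroup G) : IsPGroup p (radP p H) :=
  (isPGroup_pCore p H).map _

theorem le_radP {p : ℕ} {H X : Subgroup G} (hle : X ≤ H) (hX : IsPGroup p X)
    (hsn : (X.subgroupOf H).IsSubnormal) : X ≤ radP p H := by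
  rw [← map_subgroupOf_eq_of_le hle]
  exact map_mono (le_pCore_of_isSubnormal hsn (hX.of_equiv (subgroupOfEquivOfLe hle).symm))

/-- `F(H)` is generated by the `O_q(H)`. -/
theorem fitting_map_eq (H : Subgroup G) :
    (Cfsg.fittingSubgroup H).map H.subtype = ⨆ q : Nat.Primes, radP (q : ℕ) H := by
  rw [CfsgLib.Solvable.fittingSubgroup_eq_iSup_pCore, Subgroup.map_iSup]
  rfl

/-- Without components, the centralizer in `H` of all `O_q(H)` lies in `F(H)`. -/
theorem inf_centralizer_le_fitting {H X : Subgroup G} (hE : Cfsg.layer H = ⊥) (hle : X ≤ H)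
    (h : ∀ q : Nat.Primes, X ≤ centralizer (radP (q : ℕ) H : Set G)) :
    X ≤ (Cfsg.fittingSubgroup H).map H.subtype := by
  intro x hx
  refine ⟨⟨x, hle hx⟩, (centralizer_fitting_le_iff H).2 hE ?_, rfl⟩
  rw [mem_centralizer_iff]
  intro y hy
  have h1 : X ≤ centralizer ((⨆ q : Nat.Primes, radP (q : ℕ) H : Subgroup G) : Set G) := by
    rw [le_centralizer_iff]
    exact iSup_le fun q => le_centralizer_iff.1 (h q)
  rw [← fitting_map_eq] at h1
  exact Subtype.ext (mem_centralizer_iff.1 (h1 hx) y ⟨y, hy, rfl⟩)

/-- Radicals of `M` and `N` for different primes commute when they lie in both groups. -/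
theorem radP_le_centralizer {p q : ℕ} [Fact p.Prime] [Fact q.Prime] (hpq : p ≠ q) {A B : Subgroup G}
    (hA : IsPGroup p A) (hB : IsPGroup q B) (hAB : A ≤ normalizer (B : Set G))
    (hBA : B ≤ normalizer (A : Set G)) : A ≤ centralizer (B : Set G) := by
  rw [← commutator_eq_bot_iff_le_centralizer, eq_bot_iff,
    ← (IsPGroup.disjoint_of_ne p q hpq A B hA hB).eq_bot]
  exact le_inf (commutator_le_of_le_normalizer hBA)
    (by rw [commutator_comm]; exact commutator_le_of_le_normalizer hAB)

variable {M N : Subgroup G}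

/-- The key step: `O_q(N) ≤ O_q(M)` once some other prime `p` has `C_M(O_p(N)) ≤ N`. -/
theorem radP_le_radP {p q : ℕ} [Fact p.Prime] [Fact q.Prime] (hpq : p ≠ q)
    (hEM : Cfsg.layer M = ⊥) (hM : ∀ r : Nat.Primes, radP (r : ℕ) M ≤ N)
    (hN : ∀ r : Nat.Primes, radP (r : ℕ) N ≤ M)
    (hC : M ⊓ centralizer (radP p N : Set G) ≤ N) : radP q N ≤ radP q M := by
  have hp : p.Prime := Fact.out
  have hq : q.Prime := Fact.out
  set H := M ⊓ N
  set Pn := radP p N
  set Qn := radP q N
  have hPnM : Pn ≤ M := hN ⟨p, hp⟩
  have hQnM : Qn ≤ M := hN ⟨q, hq⟩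
  set K := ⨆ r : {r : Nat.Primes // (r : ℕ) ≠ q}, radP (r : ℕ) M
  set Y := M ⊓ centralizer (K : Set G)
  have hMK : M ≤ normalizer (K : Set G) :=
    le_normalizer_iSup _ fun r => le_normalizer_radP _ M
  have hMY : M ≤ normalizer (Y : Set G) := le_normalizer_inf le_normalizer (le_normalizer_centralizer hMK)
  have hQY : Qn ≤ Y := le_inf hQnM (by
    rw [le_centralizer_iff]
    refine iSup_le fun r => ?_
    haveI : Fact (r.1 : ℕ).Prime := ⟨r.1.2⟩
    exact radP_le_centralizer r.2 (isPGroup_radP _ M) (isPGroup_radP _ N)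
      ((hM r.1).trans (le_normalizer_radP q N)) (hQnM.trans (le_normalizer_radP _ M)))
  have hPQm : Pn ≤ centralizer (radP q M : Set G) :=
    radP_le_centralizer hpq (isPGroup_radP _ N) (isPGroup_radP _ M)
      (hPnM.trans (le_normalizer_radP _ M)) ((hM ⟨q, hq⟩).trans (le_normalizer_radP _ N))
  -- `[Y, O_p(N)] ≤ F(M)`
  set FM := (Cfsg.fittingSubgroup M).map M.subtype
  have hYP : ⁅Y, Pn⁆ ≤ FM := by
    have hle : ⁅Y, Pn⁆ ≤ Y := commutator_le_of_le_normalizer (hPnM.trans hMY)
    refine inf_centralizer_le_fitting hEM (hle.trans inf_le_left) fun r => ?_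
    by_cases hr : (r : ℕ) = q
    · rw [hr, ← commutator_eq_bot_iff_le_centralizer]
      refine commutator_commutator_eq_bot_of_rotate ?_ ?_
      · rw [commutator_eq_bot_iff_le_centralizer.2 hPQm, commutator_bot_left]
      · rw [eq_bot_iff]
        refine le_trans (commutator_mono ?_ le_rfl)
          (commutator_eq_bot_iff_le_centralizer.2 (le_centralizer_iff.1 hPQm)).le
        exact commutator_le_of_le_normalizer ((inf_le_left : Y ≤ M).trans (le_normalizer_radP q M))
    · exact (hle.trans inf_le_right).trans (centralizer_le (le_iSup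
        (fun r : {r : Nat.Primes // (r : ℕ) ≠ q} => radP (r : ℕ) M) ⟨r, hr⟩))
  have hFMH : FM ≤ H := by
    refine le_inf (map_subtype_le _) ?_
    refine (fitting_map_eq M).le.trans ?_
    exact iSup_le hM
  set FH := (Cfsg.fittingSubgroup H).map H.subtype
  set R := Pn ⊔ FM
  have hPnH : Pn ≤ H := le_inf hPnM (radP_le p N)
  have hRH : R ≤ H := sup_le hPnH hFMH
  have hRF : R ≤ FH := by
    have key : ∀ X : Subgroup G, X ≤ H → H ≤ normalizer (X : Set G) → Group.IsNilpotent X → X ≤ FH := by
      intro X hX hn hnil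
      rw [← map_subgroupOf_eq_of_le hX]
      exact map_mono (le_fittingSubgroup_of_isSubnormal (subgroupOf_isSubnormal_of_le_normalizer hn)
        ((Group.isNilpotent_congr (subgroupOfEquivOfLe hX)).2 hnil))
    haveI := isNilpotent_fittingSubgroup M
    haveI := fittingSubgroup_normal M
    exact sup_le (key _ hPnH ((inf_le_right : H ≤ N).trans (le_normalizer_radP p N))
        (isPGroup_radP p N).isNilpotent)
      (key _ hFMH ((inf_le_left : H ≤ M).trans (le_normalizer_map_subtype _))
        ((Group.isNilpotent_congr ((Cfsg.fittingSubgroup M).equivMapOfInjective _ M.subtype_injective)).1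
          inferInstance))
  have hYR : Y ≤ normalizer (R : Set G) := by
    have h1 : ∀ y ∈ Y, ∀ x ∈ R, y * x * y⁻¹ ∈ R := by
      intro y hy x hx
      haveI := fittingSubgroup_normal M
      have hFn : Y ≤ normalizer (FM : Set G) :=
        (inf_le_left : Y ≤ M).trans (le_normalizer_map_subtype _)
      have hle : R ≤ R.comap (MulAut.conj y).toMonoidHom := by
        refine sup_le (fun a ha => ?_) (fun a ha => ?_)
        · show y * a * y⁻¹ ∈ R
          have hc : ⁅y, a⁆ ∈ FM := hYP (commutator_mem_commutator hy ha)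
          have e : y * a * y⁻¹ = ⁅y, a⁆ * a := by rw [commutatorElement_def]; group
          rw [e]
          exact mul_mem (mem_sup_right hc) (mem_sup_left ha)
        · exact mem_sup_right ((mem_normalizer_iff.1 (hFn hy) a).1 ha)
      exact hle hx
    intro y hy
    rw [mem_normalizer_iff]
    intro x
    refine ⟨h1 y hy x, fun h => ?_⟩
    have := h1 y⁻¹ (inv_mem hy) _ h
    simpa [mul_assoc] using this
  set T := closure {x | x ∈ R ∧ ∃ k : ℕ, x ^ p ^ k = 1}
  have hYT : Y ≤ normalizer (T : Set G) := by
    have h1 : ∀ y ∈ Y, ∀ x ∈ T, y * x * y⁻¹ ∈ T := by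
      intro y hy x hx
      have hle : T ≤ T.comap (MulAut.conj y).toMonoidHom := by
        refine (closure_le _).2 ?_
        rintro a ⟨ha, k, hk⟩
        refine subset_closure ⟨(mem_normalizer_iff.1 (hYR hy) a).1 ha, k, ?_⟩
        show (y * a * y⁻¹) ^ p ^ k = 1
        rw [conj_pow, hk, mul_one, mul_inv_cancel]
      exact hle hx
    intro y hy
    rw [mem_normalizer_iff]
    intro x
    refine ⟨h1 y hy x, fun h => ?_⟩
    have := h1 y⁻¹ (inv_mem hy) _ h
    simpa [mul_assoc] using this
  have hTP : T ≤ radP p H := by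
    refine (closure_le _).2 ?_
    rintro x ⟨hx, k, hk⟩
    have hxF : zpowers x ≤ FH := zpowers_le.2 (hRF hx)
    haveI := isNilpotent_fittingSubgroup H
    haveI := fittingSubgroup_normal H
    haveI : Group.IsNilpotent FH :=
      (Group.isNilpotent_congr ((Cfsg.fittingSubgroup H).equivMapOfInjective _ H.subtype_injective)).1
        inferInstance
    refine le_radP ((zpowers_le.2 (hRH hx))) ?_ ?_ (mem_zpowers x)
    · intro a
      obtain ⟨i, hi⟩ := a.2
      refine ⟨k, Subtype.ext ?_⟩
      rw [SubgroupClass.coe_pow, OneMemClass.coe_one, ← hi, ← zpow_natCast, ← zpow_mul, mul_comm,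
        zpow_mul, zpow_natCast, hk, one_zpow]
    · have hs1 : ((zpowers x).subgroupOf FH).IsSubnormal := CfsgLib.Solvable.isSubnormal_of_isNilpotent _
      haveI hn : (FH.subgroupOf H).Normal :=
        normal_subgroupOf_of_le_normalizer (le_normalizer_map_subtype _)
      exact subgroupOf_isSubnormal_trans hxF (map_subtype_le _) hs1 hn.isSubnormal
  have hPT : Pn ≤ T := fun x hx => subset_closure ⟨mem_sup_left hx, by
    obtain ⟨k, hk⟩ := isPGroup_radP p N ⟨x, hx⟩
    exact ⟨k, by simpa using congrArg Subtype.val hk⟩⟩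
  have hQnH : Qn ≤ H := le_inf hQnM (radP_le q N)
  have hQT : Qn ≤ centralizer (T : Set G) :=
    (radP_le_centralizer (Ne.symm hpq) (isPGroup_radP q N) (isPGroup_radP p H)
      (hQnH.trans (le_normalizer_radP p H))
      ((radP_le p H).trans ((inf_le_right : H ≤ N).trans (le_normalizer_radP q N)))).trans
      (centralizer_le hTP)
  set D := M ⊓ centralizer (T : Set G)
  have hDN : D ≤ normalizer (Qn : Set G) :=
    ((inf_le_inf_left M (centralizer_le hPT)).trans hC).trans (le_normalizer_radP q N)
  have hQS : Qn ≤ radP q D := le_radP (le_inf hQnM hQT) (isPGroup_radP q N)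
    (subgroupOf_isSubnormal_of_le_normalizer hDN)
  have hYD : Y ≤ normalizer (D : Set G) :=
    le_normalizer_inf ((inf_le_left : Y ≤ M).trans le_normalizer) (le_normalizer_centralizer hYT)
  have hYS : Y ≤ normalizer (radP q D : Set G) := by
    intro y hy
    rw [← map_conj_eq_iff]
    have hD : D.map (MulAut.conj y).toMonoidHom = D := map_conj_eq_iff.2 (hYD hy)
    refine eq_of_le_of_card_ge ?_ (by rw [card_map_of_injective (MulAut.conj y).injective])
    have hle : (radP q D).map (MulAut.conj y).toMonoidHom ≤ D := (map_mono (radP_le q D)).trans_eq hD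
    refine le_radP hle ((isPGroup_radP q D).map _) (subgroupOf_isSubnormal_of_le_normalizer ?_)
    calc D = D.map (MulAut.conj y).toMonoidHom := hD.symm
      _ ≤ (normalizer (radP q D : Set G)).map (MulAut.conj y).toMonoidHom :=
          map_mono (le_normalizer_radP q D)
      _ ≤ _ := le_normalizer_map _
  refine (le_inf hQS hQY).trans (le_radP ((inf_le_right : radP q D ⊓ Y ≤ Y).trans inf_le_left)
    ((isPGroup_radP q D).to_le inf_le_left) ?_)
  exact subgroupOf_isSubnormal_trans inf_le_right inf_le_left
    (subgroupOf_isSubnormal_of_le_normalizer (le_normalizer_inf hYS le_normalizer))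
    (subgroupOf_isSubnormal_of_le_normalizer hMY)

/-- A component of `M` inside `N` is a component of `N`, when `M ∩ N` contains both Fitting data. -/
theorem component_eq_of_le {K : Subgroup G} (hKM : K ≤ M) (hK : Cfsg.IsComponent (K.subgroupOf M))
    (hKN : K ≤ N) (hN : (Cfsg.generalizedFittingSubgroup N).map N.subtype ≤ M) :
    Cfsg.IsComponent (K.subgroupOf N) := by
  set H := M ⊓ N
  have hKH : K ≤ H := le_inf hKM hKN
  have hKq : Cfsg.IsQuasisimple K := isQuasisimple_congr (subgroupOfEquivOfLe hKM) hK.2
  have comp : ∀ {A L : Subgroup G}, L ≤ A → L ≤ H → H ≤ A → Cfsg.IsComponent (L.subgroupOf A) →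
      Cfsg.IsComponent (L.subgroupOf H) := by
    intro A L hLA hLH hHA hL
    refine ⟨?_, isQuasisimple_congr (subgroupOfEquivOfLe hLH).symm
      (isQuasisimple_congr (subgroupOfEquivOfLe hLA) hL.2)⟩
    exact hL.1.comap (inclusion hHA)
  have hKcomp := comp hKM hKH inf_le_left hK
  by_contra hnot
  -- `K` centralizes `F*(N)`
  have hFH : (Cfsg.generalizedFittingSubgroup N).map N.subtype ≤ H := le_inf hN (map_subtype_le _)
  have hcent : K ≤ centralizer (((Cfsg.generalizedFittingSubgroup N).map N.subtype : Subgroup G) : Set G) := by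
    rw [Cfsg.generalizedFittingSubgroup, Subgroup.map_sup]
    refine le_centralizer_sup ?_ ?_
    · rw [le_centralizer_iff, map_le_iff_le_comap]
      refine sSup_le fun L hL => map_le_iff_le_comap.1 ?_
      have hLH : L.map N.subtype ≤ H :=
        le_trans (map_mono ((le_layer hL).trans le_sup_left)) hFH
      have hLN : L.map N.subtype ≤ N := map_subtype_le L
      have hL' : Cfsg.IsComponent ((L.map N.subtype).subgroupOf N) := by
        rwa [subgroupOf, comap_map_eq_self_of_injective N.subtype_injective]
      rcases component_eq_or_le_centralizer hKcomp (comp hLN hLH inf_le_right hL') with h | h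
      · refine absurd ?_ hnot
        have e := congrArg (Subgroup.map H.subtype) h
        rw [map_subgroupOf_eq_of_le hKH, map_subgroupOf_eq_of_le hLH] at e
        rwa [e]
      · rw [le_centralizer_iff]
        intro x hx
        rw [mem_centralizer_iff]
        intro y hy
        exact congrArg Subtype.val (mem_centralizer_iff.1 (h (x := ⟨x, hKH hx⟩) hx)
          (⟨y, hLH hy⟩ : H) hy)
    · set F := (Cfsg.fittingSubgroup N).map N.subtype
      have hFH' : F ≤ H := le_trans (map_mono le_sup_right) hFH
      haveI := fittingSubgroup_normal N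
      haveI := isNilpotent_fittingSubgroup N
      haveI : Group.IsNilpotent F :=
        (Group.isNilpotent_congr ((Cfsg.fittingSubgroup N).equivMapOfInjective _ N.subtype_injective)).1
          inferInstance
      haveI : Group.IsNilpotent (F.subgroupOf H) :=
        (Group.isNilpotent_congr (subgroupOfEquivOfLe hFH')).2 inferInstance
      have h := component_le_centralizer_of_isSolvable hKcomp
        (subgroupOf_isSubnormal_of_le_normalizer
          ((inf_le_right : H ≤ N).trans (le_normalizer_map_subtype _)))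
        (inferInstance : Group.IsSolvable (F.subgroupOf H))
      intro x hx
      rw [mem_centralizer_iff]
      intro y hy
      exact congrArg Subtype.val (mem_centralizer_iff.1 (h (x := ⟨x, hKH hx⟩) hx)
        (⟨y, hFH' hy⟩ : H) hy)
  refine not_le_center_of_isQuasisimple hKq ?_
  have hle : K ≤ (Cfsg.generalizedFittingSubgroup N).map N.subtype := by
    intro x hx
    refine ⟨⟨x, hKN hx⟩, centralizer_generalizedFitting_le N ?_, rfl⟩
    rw [mem_centralizer_iff]
    intro y hy
    exact Subtype.ext (mem_centralizer_iff.1 (hcent hx) y ⟨y, hy, rfl⟩)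
  exact hcent.trans (centralizer_le hle)

end CfsgLib.Comp
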