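import Cfsg.Agent.Lib.Invol.BenderLemma
import Cfsg.Agent.Lib.PLocal.SubnormalJoin
import Cfsg.Prelude.Def_EvenTechniques

/-!
Bender's uniqueness theorem for a pair of maximal subgroups `M ⇝ N` of a simple group.
-/

set_option autoImplicit false
set_option linter.style.haveILetI false
set_option linter.unusedSectionVars false

namespace CfsgLib.Comp

open Subgroup CfsgLib.Invol

variable {G : Type*} [Group G] [Finite G] {M N : Subgroup G}

/-- From `M ⇝ N`: a self-centralising subnormal subgroup of `F*(M)` inside `N`. -/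
theorem exists_selfCentSub_of_leadsTo (h : Cfsg.leadsTo M N) :
    ∃ S : Subgroup G, SelfCentSub (S.subgroupOf M) ∧ S ≤ N := by
  obtain ⟨Q, -, hQF, hQN⟩ := h
  have hQM : Q ≤ M := hQF.trans (map_subtype_le _)
  set Qm := Q.subgroupOf M
  have hQm : Qm ≤ Cfsg.fittingSubgroup M := fun a ha => by
    obtain ⟨b, hb, e⟩ := hQF (mem_subgroupOf.1 ha)
    rwa [← M.subtype_injective e]
  haveI := layer_normal M
  haveI := fittingSubgroup_normal M
  haveI := isNilpotent_fittingSubgroup M
  set S' := Cfsg.generalizedFittingSubgroup M ⊓ normalizer (Qm : Set M) with hS'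
  refine ⟨S'.map M.subtype, ?_, ?_⟩
  · rw [subgroupOf, comap_map_eq_self_of_injective M.subtype_injective]
    have hE : Cfsg.layer M ≤ normalizer (Qm : Set M) :=
      ((layer_le_centralizer_fittingSubgroup M).trans (centralizer_le hQm)).trans
        (CfsgLib.Comp.centralizer_le_normalizer _)
    refine ⟨inf_le_left, ?_, fun a ha => ⟨ha.1, ?_⟩⟩
    · have e : S' = Cfsg.layer M ⊔ (Cfsg.fittingSubgroup M ⊓ normalizer (Qm : Set M)) := by
        refine le_antisymm ?_ (sup_le (le_inf (layer_le_generalizedFitting M) hE)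
          (inf_le_inf_right _ (fittingSubgroup_le_generalizedFitting M)))
        rintro x ⟨hx, hxn⟩
        obtain ⟨e, he, f, hf, rfl⟩ := exists_mul_of_mem_sup
          (le_normalizer_of_normal' (Cfsg.layer M) (Cfsg.fittingSubgroup M)) hx
        refine mul_mem (mem_sup_left he) (mem_sup_right ⟨hf, ?_⟩)
        simpa using mul_mem (inv_mem (hE he)) hxn
      rw [e]
      refine CfsgLib.PLocal.isSubnormal_sup (Subgroup.Normal.isSubnormal inferInstance) ?_
      exact Subgroup.IsSubnormal.trans inf_le_left (CfsgLib.Solvable.isSubnormal_of_isNilpotent _)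
        (Subgroup.Normal.isSubnormal inferInstance)
    · refine CfsgLib.Comp.centralizer_le_normalizer _ (centralizer_le ?_ ha.2)
      exact le_inf (hQm.trans (fittingSubgroup_le_generalizedFitting M)) le_normalizer
  · rintro _ ⟨x, hx, rfl⟩
    refine hQN ⟨⟨x, hx.1, rfl⟩, ?_⟩
    show (x : G) ∈ normalizer (Q : Set G)
    have h1 := le_normalizer_map (f := M.subtype) (mem_map_of_mem M.subtype hx.2)
    rwa [map_subgroupOf_eq_of_le hQM] at h1

theorem sylow_fitting_le_radP {q : ℕ} [Fact q.Prime] (R : Sylow q ↥(Cfsg.fittingSubgroup N)) :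
    ((R : Subgroup ↥(Cfsg.fittingSubgroup N)).map (Cfsg.fittingSubgroup N).subtype).map N.subtype ≤
      radP q N := by
  refine map_mono (le_pCore_of_isSubnormal ?_ (R.isPGroup'.map _))
  haveI := fittingSubgroup_normal N
  haveI := isNilpotent_fittingSubgroup N
  refine Subgroup.IsSubnormal.trans (map_subtype_le _) ?_ (Subgroup.Normal.isSubnormal inferInstance)
  exact CfsgLib.Solvable.isSubnormal_of_isNilpotent _

theorem radP_ne_bot_of_dvd {q : ℕ} (hq : q.Prime) (h : q ∣ Nat.card (Cfsg.fittingSubgroup M)) :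
    radP q M ≠ ⊥ := by
  haveI := Fact.mk hq
  intro e
  have e' := (map_eq_bot_iff_of_injective _ M.subtype_injective).1 e
  obtain ⟨f, hf⟩ := exists_prime_orderOf_dvd_card' q h
  haveI := isNilpotent_fittingSubgroup M
  have hsn : (zpowers (f : M)).IsSubnormal := Subgroup.IsSubnormal.trans (zpowers_le.2 f.2)
    (CfsgLib.Solvable.isSubnormal_of_isNilpotent _) (fittingSubgroup_normal M).isSubnormal
  have h1 := le_pCore_of_isSubnormal hsn
    (IsPGroup.of_card (n := 1) (by rw [Nat.card_zpowers, orderOf_coe, hf, pow_one])) (mem_zpowers (f : M))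
  rw [e', mem_bot, Subtype.ext_iff] at h1
  have h2 : orderOf f = 1 := orderOf_eq_one_iff.2 (Subtype.ext (Subtype.ext h1))
  exact hq.one_lt.ne' (hf.symm.trans h2)

/-- For primes outside `F(M)`, `O_q(N)` meets `M` trivially. -/
theorem leadsTo_radP_inf (h : Cfsg.leadsTo M N) {q : ℕ} (hq : q.Prime)
    (hd : ¬ q ∣ Nat.card (Cfsg.fittingSubgroup M)) : radP q N ⊓ M = ⊥ := by
  haveI := Fact.mk hq
  obtain ⟨S, hS, hSN⟩ := exists_selfCentSub_of_leadsTo h
  exact bender_lemma_disjoint hS (isPGroup_radP q N) (hSN.trans (le_normalizer_radP q N)) hd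

variable [IsSimpleGroup G]

/-- With two primes in `F(M)`, `O_q(N) ≤ M`. -/
theorem leadsTo_radP_le (hM : IsCoatom M) (h : Cfsg.leadsTo M N) {q r : ℕ} (hq : q.Prime) (hr : r.Prime)
    (hne : r ≠ q) (hdq : q ∣ Nat.card (Cfsg.fittingSubgroup M))
    (hdr : r ∣ Nat.card (Cfsg.fittingSubgroup M)) : radP q N ≤ M := by
  haveI := Fact.mk hq
  haveI := Fact.mk hr
  obtain ⟨S, hS, hSN⟩ := exists_selfCentSub_of_leadsTo h
  refine le_trans ?_ (normalizer_eq_of_isCoatom hM (radP_le r M) (radP_ne_bot_of_dvd hr hdr)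
    (le_normalizer_radP r M)).le
  refine le_trans ?_ (CfsgLib.Comp.centralizer_le_normalizer _)
  intro x hx
  rw [mem_centralizer_iff]
  rintro _ ⟨y, hy, rfl⟩
  obtain ⟨k, hk⟩ := isPGroup_pCore r M ⟨y, hy⟩
  refine (bender_lemma hM hS (isPGroup_radP q N) (hSN.trans (le_normalizer_radP q N)) hdq hx
    (fittingSubgroup_le_generalizedFitting M (CfsgLib.Solvable.pCore_le_fittingSubgroup r hy)) ?_).eq.symm
  exact Nat.Coprime.coprime_dvd_left (orderOf_dvd_of_pow_eq_one (congrArg Subtype.val hk))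
    (((Nat.coprime_primes hr hq).2 hne).pow_left _)

theorem dvd_of_leadsTo_symm (hMN : Cfsg.leadsTo M N) (hNM : Cfsg.leadsTo N M) {p : ℕ} (hp : p.Prime)
    (hd : p ∣ Nat.card (Cfsg.fittingSubgroup M)) : p ∣ Nat.card (Cfsg.fittingSubgroup N) := by
  haveI := Fact.mk hp
  by_contra hn
  obtain ⟨S, hS, hSN⟩ := exists_selfCentSub_of_leadsTo hMN
  have hR : Cfsg.pCore p M ≠ ⊥ := fun e => radP_ne_bot_of_dvd hp hd (by rw [radP, e, Subgroup.map_bot])
  haveI := (nontrivial_iff_ne_bot _).2 hR
  haveI := (isPGroup_pCore p M).center_nontrivial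
  obtain ⟨w, hw⟩ := exists_ne (1 : center (Cfsg.pCore p M))
  have hwS : ((w : Cfsg.pCore p M) : M) ∈ S.subgroupOf M :=
    hS.inf_centralizer_pCore w.1.2 fun d hd =>
      (congrArg Subtype.val (mem_center_iff.1 w.2 ⟨d, hd.2⟩)).symm
  have h1 : (((w : Cfsg.pCore p M) : M) : G) ∈ radP p M ⊓ N :=
    ⟨⟨_, w.1.2, rfl⟩, hSN (mem_subgroupOf.1 hwS)⟩
  rw [leadsTo_radP_inf hNM hp hn, mem_bot] at h1
  exact hw (Subtype.ext (Subtype.ext (Subtype.ext h1)))

/-- In the symmetric case the layer of `M` lies in the layer of `N`. -/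
theorem layer_le_of_leadsTo_symm (hM : IsCoatom M) (hMN : Cfsg.leadsTo M N) (hNM : Cfsg.leadsTo N M) :
    (Cfsg.layer M).map M.subtype ≤ (Cfsg.layer N).map N.subtype := by
  obtain ⟨S, hS, hSN⟩ := exists_selfCentSub_of_leadsTo hMN
  obtain ⟨T, hT, hTM⟩ := exists_selfCentSub_of_leadsTo hNM
  refine map_le_iff_le_comap.2 (sSup_le fun L hL => map_le_iff_le_comap.1 ?_)
  by_contra hnot
  set L' := L.map M.subtype with hL'
  have hLN : L' ≤ N := by
    rintro _ ⟨l, hl, rfl⟩
    exact hSN (mem_subgroupOf.1 (hS.component_le hL hl))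
  set H := M ⊓ N
  have hLH : L' ≤ H := le_inf (map_subtype_le L) hLN
  have hLM' : Cfsg.IsComponent (L'.subgroupOf M) := by
    rwa [hL', subgroupOf, comap_map_eq_self_of_injective M.subtype_injective]
  have hperf : ⁅L', L'⁆ = L' := by rw [hL', ← Subgroup.map_commutator, commutator_self_of_isComponent hL]
  have comp : ∀ {A X : Subgroup G}, X ≤ H → H ≤ A → Cfsg.IsComponent (X.subgroupOf A) →
      Cfsg.IsComponent (X.subgroupOf H) := by
    intro A X hXH hHA hX
    exact ⟨hX.1.comap (inclusion hHA), isQuasisimple_congr (subgroupOfEquivOfLe hXH).symm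
      (isQuasisimple_congr (subgroupOfEquivOfLe (hXH.trans hHA)) hX.2)⟩
  have hcE : ∀ K : Subgroup N, Cfsg.IsComponent K → K.map N.subtype ≤ centralizer (L' : Set G) := by
    intro K hK
    have hKH : K.map N.subtype ≤ H := by
      rintro _ ⟨k, hk, rfl⟩
      exact ⟨hTM (mem_subgroupOf.1 (hT.component_le hK hk)), k.2⟩
    have hK' : Cfsg.IsComponent ((K.map N.subtype).subgroupOf N) := by
      rwa [subgroupOf, comap_map_eq_self_of_injective N.subtype_injective]
    rcases component_eq_or_le_centralizer (comp hKH inf_le_right hK') (comp hLH inf_le_left hLM') with h | h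
    · refine absurd ?_ hnot
      have e := congrArg (Subgroup.map H.subtype) h
      rw [map_subgroupOf_eq_of_le hKH, map_subgroupOf_eq_of_le hLH] at e
      rw [← e]
      exact map_mono (le_layer hK)
    · intro x hx
      rw [mem_centralizer_iff]
      intro y hy
      exact congrArg Subtype.val (mem_centralizer_iff.1 (h (x := ⟨x, hKH hx⟩) hx) (⟨y, hLH hy⟩ : H) hy)
  have hcF : ∀ p : Nat.Primes, radP (p : ℕ) N ≤ centralizer (L' : Set G) := by
    intro p x hx
    haveI : Fact (p : ℕ).Prime := ⟨p.2⟩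
    by_cases hb : radP (p : ℕ) N = ⊥
    · rw [hb, mem_bot] at hx; rw [hx]; exact one_mem _
    have hd : (p : ℕ) ∣ Nat.card (Cfsg.fittingSubgroup M) := by
      refine dvd_of_leadsTo_symm hNM hMN p.2 (dvd_trans ?_
        (card_dvd_of_le (CfsgLib.Solvable.pCore_le_fittingSubgroup (p : ℕ))))
      haveI := (nontrivial_iff_ne_bot _).2 (fun e => hb (by rw [radP, e, Subgroup.map_bot]) :
        Cfsg.pCore (p : ℕ) N ≠ ⊥)
      exact (isPGroup_pCore (p : ℕ) N).card_eq_or_dvd.resolve_left Finite.one_lt_card.ne'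
    refine mem_centralizer_of_perfect (p := (p : ℕ)) hperf ?_
    rintro _ ⟨s, hs, rfl⟩ hsp
    exact bender_lemma hM hS (isPGroup_radP _ N) (hSN.trans (le_normalizer_radP _ N)) hd hx
      (layer_le_generalizedFitting M (le_layer hL hs)) (by rwa [M.coe_subtype, orderOf_coe] at hsp)
  have hcent : (Cfsg.generalizedFittingSubgroup N).map N.subtype ≤ centralizer (L' : Set G) := by
    rw [Cfsg.generalizedFittingSubgroup, Subgroup.map_sup]
    refine sup_le (map_le_iff_le_comap.2 (sSup_le fun K hK => map_le_iff_le_comap.1 (hcE K hK))) ?_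
    rw [fitting_map_eq]
    exact iSup_le hcF
  have hle : L'.subgroupOf N ≤ Cfsg.fittingSubgroup N := by
    refine le_trans ?_ (centralizer_generalizedFitting_le_fitting N)
    intro x hx
    rw [mem_centralizer_iff]
    intro y hy
    exact Subtype.ext (mem_centralizer_iff.1 (hcent ⟨y, hy, rfl⟩) _ hx).symm
  haveI := isNilpotent_fittingSubgroup N
  haveI : Group.IsSolvable ↥(L'.subgroupOf N) :=
    Group.isSolvable_of_isSolvable_injective (inclusion_injective hle)
  have hLs : Group.IsSolvable L' :=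
    Group.isSolvable_of_surjective (f := (subgroupOfEquivOfLe hLN).toMonoidHom) (subgroupOfEquivOfLe hLN).surjective
  exact not_isSolvable_of_isQuasisimple (isQuasisimple_congr (L.equivMapOfInjective _ M.subtype_injective) hL.2) hLs

theorem isPGroup_fitting_of_unique {p : ℕ} [Fact p.Prime]
    (h : ∀ r : ℕ, r.Prime → r ∣ Nat.card (Cfsg.fittingSubgroup M) → r = p) :
    IsPGroup p (Cfsg.fittingSubgroup M) :=
  IsPGroup.of_card (n := (Nat.card (Cfsg.fittingSubgroup M)).primeFactorsList.length)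
    (Nat.eq_prime_pow_of_unique_prime_dvd Nat.card_pos.ne' fun {d} hd hdd => h d hd hdd)

end CfsgLib.Comp
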