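import Cfsg.Agent.Lib.Comp.SystemTransport
import Cfsg.Agent.Lib.Fusion.StrongInvariance

/-!
A weakly normal subsystem is weakly normal in every saturated intermediate system.
-/

set_option autoImplicit false
set_option linter.unusedVariables false
set_option linter.unusedSectionVars false
set_option linter.style.haveILetI false

namespace CfsgLib.Comp.Fus

open Cfsg Cfsg.FusionSystem Subgroup CfsgLib.Fusion

variable {Ω : Type*} [Group Ω] {S S' T : Subgroup Ω} {F : FusionSystem S} {E : FusionSystem T}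
  {F' : FusionSystem S'} {p : ℕ} [Fact p.Prime] [Finite S]

/-- An invariant subsystem is strongly invariant. -/
theorem strongInv_of_invariant (h : E.IsInvariantIn F) : StrongInv E F := by
  obtain ⟨hsub, hsc, hconj, hfr⟩ := isInvariantIn_iff.1 h
  intro P Q f g hPQ hQT hf hfQ hg
  obtain ⟨a, ha, e, he, hex⟩ := hfr Q g hQT hg
  obtain ⟨j, hj, hjx, hjy, -⟩ := (he.mono hPQ).exists_inv
  have hμ := (hj.comp hf fun y hy => (hjy y hy).1).comp he fun y hy => hfQ _ (hjy y hy).1
  obtain ⟨k, hk, hkx⟩ := hconj a ha _ _ hμ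
  have hle : img P g ≤ img (img P e) a := fun y hy => by
    obtain ⟨x, hx, rfl⟩ := (hg.mono hPQ).mem_img.1 hy
    rw [hex x (hPQ hx)]
    exact (ha.mono (he.mono hPQ).img_le).apply_mem_img ((he.mono hPQ).apply_mem_img hx)
  refine ⟨k, hk.mono hle, fun x hx => ?_⟩
  rw [hex x (hPQ hx), hkx _ ((he.mono hPQ).apply_mem_img hx), hjx x hx, hex _ (hfQ x hx)]

/-- A weakly normal subsystem is weakly normal in every saturated intermediate system. -/
theorem isWeaklyNormalIn_between (hS : IsPGroup p S) (hw : E.IsWeaklyNormalIn F p)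
    (hF' : F'.IsSaturated p) (hsub : F'.IsSubsystemOf F) (hEF' : E.IsSubsystemOf F') :
    E.IsWeaklyNormalIn F' p := by
  obtain ⟨hEsat, hF, hinv⟩ := hw
  have hS'S : S' ≤ S := le_of_isSubsystemOf hsub
  haveI := finite_of_le hS'S
  have hstr := strongInv_of_invariant hinv
  have hstr' : StrongInv E F' := fun P Q f g hPQ hQT hf hfQ hg =>
    hstr P Q f g hPQ hQT hf hfQ (isSubsystemOf_iff.1 hsub _ _ hg)
  have hTS' : T ≤ S' := le_of_isSubsystemOf hEF'
  have hsc' : F'.StronglyClosed T := stronglyClosed_iff.2 ⟨hTS', fun P f hP hf x hx =>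
    StronglyClosed.apply_mem hinv.2.1 (isSubsystemOf_iff.1 hsub _ _ hf) hx (hP hx)⟩
  refine ⟨hEsat, hF', isInvariantIn_iff.2 ⟨hEF', hsc', fun a ha P f hf => ?_, fun P f hP hf => ?_⟩⟩
  · obtain ⟨g, hg, hgx⟩ := hstr' P T f a hf.le le_rfl hf (fun x hx => hf.mem hx) ha
    exact ⟨g, hg, hgx⟩
  · obtain ⟨α, hα, g, hg, hgx⟩ := decomposes_of_strongInv (hS.to_le hS'S) hF' hEF' hsc' hstr'
      (Nat.card T - Nat.card P) P f hP hf le_rfl
    exact ⟨_, isMap_autFun hTS' hα, g, hg, hgx⟩

/-- Strongly closed subgroups stay strongly closed in subsystems. -/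
theorem stronglyClosed_of_sub (hsub : F'.IsSubsystemOf F) (hT : F.StronglyClosed T) (h : T ≤ S') :
    F'.StronglyClosed T :=
  stronglyClosed_iff.2 ⟨h, fun P f hP hf x hx =>
    StronglyClosed.apply_mem hT (isSubsystemOf_iff.1 hsub _ _ hf) hx (hP hx)⟩

end CfsgLib.Comp.Fus
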