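import Cfsg.Agent.Lib.Comp.FusionFocalNormal

/-!
Canonical extensions of automorphisms of a normal subsystem to the centralizer.
-/

set_option autoImplicit false
set_option linter.unusedVariables false
set_option linter.unusedSectionVars false
set_option linter.style.haveILetI false

namespace CfsgLib.Comp.CExt

open Cfsg Cfsg.FusionSystem Subgroup CfsgLib.Fusion CfsgLib.Comp.Fus

variable {Ω : Type*} [Group Ω] {S T R : Subgroup Ω} {F : FusionSystem S} {E : FusionSystem T}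
  {p : ℕ}

theorem map_zpow_isMap {P : Subgroup Ω} {f : Ω → Ω} (hf : IsMap F P f) {x : Ω} (hx : x ∈ P) (i : ℤ) :
    f (x ^ i) = f x ^ i := by
  obtain ⟨n, rfl | rfl⟩ := Int.eq_nat_or_neg i
  · rw [zpow_natCast, zpow_natCast, hf.map_pow hx]
  · rw [zpow_neg, zpow_neg, zpow_natCast, zpow_natCast, hf.map_inv (P.pow_mem hx n), hf.map_pow hx]

/-- `G` extends `α` to `R C_S(R)` with order prime to `p`, trivially on `C_S(R)` modulo `R`, fixing
the elements `y⁻¹ k(y)` for maps `k` trivial on `R`. -/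
structure CanExt (F : FusionSystem S) (p : ℕ) (R : Subgroup Ω) (α : MulAut R) (G : Ω → Ω) :
    Prop where
  map : IsMap F (R ⊔ centralizerIn S R) G
  val : ∀ x : R, G x = ((α x : R) : Ω)
  triv : ∀ c ∈ centralizerIn S R, c⁻¹ * G c ∈ R
  per : ∃ n : ℕ, n.Coprime p ∧ ∀ x ∈ R ⊔ centralizerIn S R, G^[n] x = x
  foc : ∀ y ∈ centralizerIn S R, ∀ k, IsMap F (R ⊔ zpowers y) k → (∀ x ∈ R, k x = x) →
    y⁻¹ * k y ∈ R → G (y⁻¹ * k y) = y⁻¹ * k y

variable [Fact p.Prime] [Finite S]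

/-- Two extensions of `α` to `R ⟨y⟩` differ on `y` by a fixed point of `α`. -/
theorem CanExt.diff_fixed {α : MulAut R} {G : Ω → Ω} (hG : CanExt F p R α G) {y : Ω}
    (hy : y ∈ centralizerIn S R) {h k : Ω → Ω} (hh : IsMap F (R ⊔ zpowers y) h)
    (hk : IsMap F (R ⊔ zpowers y) k) (hhα : ∀ x : R, h x = ((α x : R) : Ω))
    (hkα : ∀ x : R, k x = ((α x : R) : Ω)) (hzh : y⁻¹ * h y ∈ R) (hzk : y⁻¹ * k y ∈ R) :
    ((α ⟨(y⁻¹ * h y)⁻¹ * (y⁻¹ * k y), R.mul_mem (R.inv_mem hzh) hzk⟩ : R) : Ω) =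
      (y⁻¹ * h y)⁻¹ * (y⁻¹ * k y) := by
  haveI := finite_of_le hh.le
  have hyU : y ∈ R ⊔ zpowers y := mem_sup_right (mem_zpowers y)
  have hmem : ∀ (f : Ω → Ω), IsMap F (R ⊔ zpowers y) f → (∀ x : R, f x = ((α x : R) : Ω)) →
      y⁻¹ * f y ∈ R → ∀ x ∈ R ⊔ zpowers y, f x ∈ R ⊔ zpowers y := by
    intro f hf hfα hfy x hx
    refine hf.img_sup_le le_sup_left le_sup_right ?_ ?_ (hf.apply_mem_img hx)
    · intro w hw
      obtain ⟨u, hu, rfl⟩ := (hf.mono le_sup_left).mem_img.1 hw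
      rw [hfα ⟨u, hu⟩]
      exact mem_sup_left (α _).2
    · intro w hw
      obtain ⟨u, hu, rfl⟩ := (hf.mono le_sup_right).mem_img.1 hw
      obtain ⟨i, rfl⟩ := mem_zpowers_iff.1 hu
      rw [map_zpow_isMap hf hyU]
      refine zpow_mem ?_ i
      rw [← mul_inv_cancel_left y (f y)]
      exact mul_mem hyU (mem_sup_left hfy)
  have hi : img (R ⊔ zpowers y) h = R ⊔ zpowers y := eq_of_le_of_card_le (fun w hw => by
    obtain ⟨u, hu, rfl⟩ := hh.mem_img.1 hw
    exact hmem h hh hhα hzh u hu) hh.card_img.ge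
  obtain ⟨j, hj, hjh, -, -⟩ := hh.exists_inv
  rw [hi] at hj
  have hm := hk.comp hj fun x hx => hmem k hk hkα hzk x hx
  set u : R := ⟨(y⁻¹ * h y)⁻¹ * (y⁻¹ * k y), R.mul_mem (R.inv_mem hzh) hzk⟩ with hu
  set w : R := α⁻¹ u with hw
  have hwv : h (y * (w : Ω)) = k y := by
    rw [hh.map_mul hyU (mem_sup_left w.2), hhα, hw, MulAut.apply_inv_self, hu]
    group
  have hmy : j (k y) = y * (w : Ω) := by
    rw [← hwv, hjh _ (mul_mem hyU (mem_sup_left w.2))]
  have hmR : ∀ x ∈ R, j (k x) = x := fun x hx => by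
    rw [hkα ⟨x, hx⟩, ← hhα ⟨x, hx⟩, hjh _ (mem_sup_left hx)]
  have e : y⁻¹ * j (k y) = (w : Ω) := by rw [hmy, inv_mul_cancel_left]
  have hfix := hG.foc y hy (fun x => j (k x)) hm hmR (by
    show y⁻¹ * j (k y) ∈ R
    rw [e]; exact w.2)
  change G (y⁻¹ * j (k y)) = y⁻¹ * j (k y) at hfix
  rw [e, hG.val w] at hfix
  have hαw : α w = w := Subtype.ext hfix
  have huw : u = w := by
    rw [← hαw, hw, MulAut.apply_inv_self]
  show ((α u : R) : Ω) = (u : Ω)
  rw [huw, hαw]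

omit [Fact p.Prime] [Finite S] in
theorem pow_fix {G : Ω → Ω} {W : Subgroup Ω} (hG : IsMap F W G) {y z : Ω} (hy : y ∈ W) (hz : z ∈ W)
    (hGy : G y = y * z) (hGz : G z = z) : ∀ j : ℕ, G^[j] y = y * z ^ j := by
  intro j
  induction j with
  | zero => simp
  | succ j ih =>
    have hzj : G (z ^ j) = z ^ j := by rw [hG.map_pow hz, hGz]
    rw [Function.iterate_succ_apply', ih, hG.map_mul hy (W.pow_mem hz j), hzj, hGy, pow_succ',
      mul_assoc]

/-- The canonical extension fixes an element fixed by some extension. -/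
theorem CanExt.fix_of_witness (hS : IsPGroup p S) {α : MulAut R} {G : Ω → Ω}
    (hG : CanExt F p R α G) {y : Ω} (hy : y ∈ centralizerIn S R) {h : Ω → Ω}
    (hh : IsMap F (R ⊔ zpowers y) h) (hhα : ∀ x : R, h x = ((α x : R) : Ω)) (hhy : h y = y) :
    G y = y := by
  obtain ⟨n, hn, hper⟩ := hG.per
  have hle : R ⊔ zpowers y ≤ R ⊔ centralizerIn S R := sup_le_sup_left (zpowers_le.2 hy) R
  have hzh : y⁻¹ * h y ∈ R := by rw [hhy, inv_mul_cancel]; exact R.one_mem
  have h1 := hG.diff_fixed hy hh (hG.map.mono hle) hhα hG.val hzh (hG.triv y hy)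
  rw [← hG.val] at h1
  set z := y⁻¹ * G y with hz
  have e : (y⁻¹ * h y)⁻¹ * (y⁻¹ * G y) = z := by rw [hhy, inv_mul_cancel, inv_one, one_mul]
  change G ((y⁻¹ * h y)⁻¹ * (y⁻¹ * G y)) = (y⁻¹ * h y)⁻¹ * (y⁻¹ * G y) at h1
  rw [e] at h1
  have hzR : z ∈ R := hG.triv y hy
  have hit := pow_fix hG.map (mem_sup_right hy) (mem_sup_left hzR)
    (by rw [hz, mul_inv_cancel_left]) h1 n
  rw [hper y (mem_sup_right hy)] at hit
  have hzn : z ^ n = 1 := mul_eq_left.1 hit.symm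
  obtain ⟨k, hk⟩ := hS ⟨z, hG.map.le (mem_sup_left hzR)⟩
  have hk' : z ^ p ^ k = 1 := congrArg Subtype.val hk
  have h3 : z = 1 := orderOf_eq_one_iff.1 (Nat.eq_one_of_dvd_coprimes (hn.pow_right k)
    (orderOf_dvd_of_pow_eq_one hzn) (orderOf_dvd_of_pow_eq_one hk'))
  rw [hz, inv_mul_eq_one] at h3
  exact h3.symm

section Main

variable (hS : IsPGroup p S) (hF : F.IsSaturated p) (hE : E.IsNormalIn F p)

include hS hF hE

/-- A map trivial on `Q` moving an element of `C_S(Q)` inside its coset of `Q` gives an element of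
the focal subgroup of `C_F(Q)`. -/
theorem mem_focal_centralizer {Q : Subgroup Ω} (hQ : Q ≤ S) {y : Ω} (hy : y ∈ centralizerIn S Q)
    {k : Ω → Ω} (hk : IsMap F (Q ⊔ zpowers y) k) (hkQ : ∀ x ∈ Q, k x = x) :
    y⁻¹ * k y ∈ (centralizerSys F Q hQ).focalSubgroup := by
  have hmem : k y ∈ centralizerIn S Q := by
    refine ⟨hk.mem (mem_sup_right (mem_zpowers y)), fun q hq => ?_⟩
    have h := hk.map_mul (mem_sup_left hq) (mem_sup_right (mem_zpowers y))
    rw [hy.2 q hq, hk.map_mul (mem_sup_right (mem_zpowers y)) (mem_sup_left hq), hkQ q hq] at h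
    exact h.symm
  have hcm : IsMap (centralizerSys F Q hQ) (zpowers y) k := by
    refine (isMap_centralizerSystem_iff (isCentralizerSystem_centralizerSys F Q hQ)).2
      ⟨zpowers_le.2 hy, fun x hx => ?_, k, hk.mono (sup_le le_sup_right le_sup_left), fun _ _ => rfl, hkQ⟩
    obtain ⟨i, rfl⟩ := mem_zpowers_iff.1 hx
    rw [map_zpow_isMap hk (mem_sup_right (mem_zpowers y))]
    exact zpow_mem hmem i
  exact Subgroup.subset_closure ⟨zpowers y, hcm.toHom, ⟨y, mem_zpowers y⟩, hcm.toHom_mem, rfl⟩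

/-- Automorphisms of coprime order of `T` have canonical extensions. -/
theorem exists_canExt_top {α : MulAut T} (hα : α ∈ E.autGroup T) (hco : (orderOf α).Coprime p) :
    ∃ G, CanExt F p T α G := by
  have hT : T ≤ S := hE.1.2.2.2.1.1
  have hsc : F.StronglyClosed T := hE.1.2.2.2.1
  haveI := finite_of_le hT
  obtain ⟨β, hβ, hβx, hβz⟩ := hE.2 α hα
  have hW : T ⊔ centralizerIn S T ≤ S := sup_le hT inf_le_left
  set g₀ := toFun ((T ⊔ centralizerIn S T).subtype.comp β.toMonoidHom) with hg₀def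
  have hg₀ : IsMap F (T ⊔ centralizerIn S T) g₀ := isMap_of_autGroup hW hβ
  have hg₀W : ∀ z ∈ T ⊔ centralizerIn S T, g₀ z ∈ T ⊔ centralizerIn S T := fun z hz => by
    rw [hg₀def, toFun_aut_apply _ hz]; exact Subtype.mem _
  have hg₀x : ∀ z : T, g₀ z = ((α z : T) : Ω) := fun z => by
    rw [hg₀def, toFun_aut_apply _ (mem_sup_left z.2)]
    exact hβx z
  have hg₀z : ∀ c ∈ centralizerIn S T, c⁻¹ * g₀ c ∈ T ⊓ centralizer (T : Set Ω) := fun c hc => by
    rw [hg₀def, toFun_aut_apply _ (mem_sup_right hc)]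
    exact hβz ⟨c, mem_sup_right hc⟩ hc
  obtain ⟨i, n, hn, hix, hper⟩ := exists_coprime_power hg₀ hg₀W le_sup_left hco hg₀x
  have hfc : F.IsFullyCentralized T := ⟨hT, fun Q hQ => by
    obtain ⟨f, hf, hi⟩ := isConj_iff.1 hQ
    rw [StronglyClosed.img_eq hsc hf le_rfl] at hi
    subst hi
    rfl⟩
  have hg := isMap_iterate hg₀ hg₀W i
  have hgz := iterate_trivial_mod hg₀ le_sup_right
    (fun z (hz : z ∈ T ⊓ centralizer (T : Set Ω)) => (⟨hT hz.1, hz.2⟩ : z ∈ centralizerIn S T))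
    hg₀z i
  have hfix := fixes_focal_centralizer hS hF hfc hg
    (fun z hz => by rw [hix ⟨z, hz⟩]; exact Subtype.mem _) hgz hn hper
  exact ⟨_, hg, hix, fun c hc => (hgz c hc).1, ⟨n, hn, hper⟩,
    fun y hy k hk hkT _ => hfix _ (mem_focal_centralizer hS hF hE hfc.1 hy hk hkT)⟩

/-- Automorphisms of coprime order generated by `p`-elements have canonical extensions. -/
theorem exists_canExt {R : Subgroup Ω} (hR : E.IsCentric R) {α : E.autGroup R}
    (hα : α ∈ pGenAut E p R) (hcop : (orderOf α).Coprime p) :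
    ∃ G, CanExt F p R (α : MulAut R) G := by
  obtain ⟨⟨hEsat, -, hinv⟩, -⟩ := id hE
  obtain ⟨hsub, hsc, -, hfrat⟩ := id hinv
  have hT : T ≤ S := hsc.1
  haveI := finite_of_le hT
  have hTp : IsPGroup p T := hS.to_le hT
  have hRT := hR.1
  have hRS : R ≤ S := hRT.trans hT
  haveI := finite_of_le hRS
  obtain ⟨Q, hconj, hQn⟩ := exists_fullyNormalized_conj F hRS
  obtain ⟨ψ, hψ, hψi, -⟩ := exists_map_normalizerIn_of_fullyNormalized hS hF hQn hconj
  set N := normalizerIn S R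
  have hRN : R ≤ N := le_normalizerIn hRS
  have hCN : centralizerIn S R ≤ N := centralizerIn_le_normalizerIn
  have hψR := hψ.mono hRN
  have hQT : Q ≤ T := hψi ▸ fun z hz => by
    obtain ⟨u, hu, rfl⟩ := hψR.mem_img.1 hz
    exact StronglyClosed.apply_mem hsc hψR hu (hRT hu)
  have hQS : Q ≤ S := hQn.1
  haveI := finite_of_le hQS
  -- `ψ` on `R` is an automorphism of `T` after a map of `E`
  obtain ⟨a, ha, φ₀, hφ₀, hax⟩ := hfrat R hRT hψR.toHom hψR.toHom_mem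
  have he : IsMap E R (toFun φ₀) := isMap_of_hom hφ₀
  have hψe : ∀ x ∈ R, ψ x = autFun a (toFun φ₀ x) := fun x hx => by
    have hm : φ₀ ⟨x, hx⟩ ∈ T := toFun_of_mem φ₀ hx ▸ he.mem hx
    rw [toFun_of_mem φ₀ hx, autFun_apply a hm]
    exact hax ⟨x, hx⟩ hm
  have ham : IsMap F T (autFun a) := isMap_autFun hT ha
  set R₁ := img R (toFun φ₀) with hR₁
  have hQimg : Q = img R₁ (autFun a) := by
    rw [← hψi]
    ext z
    rw [hψR.mem_img, mem_img_autFun ham he.img_le]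
    constructor
    · rintro ⟨x, hx, rfl⟩
      exact ⟨_, he.apply_mem_img hx, (hψe x hx).symm⟩
    · rintro ⟨w, hw, rfl⟩
      obtain ⟨x, hx, rfl⟩ := he.mem_img.1 hw
      exact ⟨x, hx, hψe x hx⟩
  have hQE : E.IsCentric Q := by
    refine centric_of_fullyCentralized hTp hEsat (fullyCentralized_of_fullyNormalized hTp hEsat
      (fullyNormalized_subsystem hS hF hsc hsub hQT hQn)) fun c hc => ?_
    set d := autFun a⁻¹ c
    have hd : d ∈ T := autFun_mem _ hc.1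
    have had : autFun a d = c := autFun_apply_inv a hc.1
    have hdR : d ∈ centralizerIn T R₁ := by
      refine ⟨hd, fun r hr => ham.inj (T.mul_mem (he.img_le hr) hd) (T.mul_mem hd (he.img_le hr)) ?_⟩
      rw [ham.map_mul (he.img_le hr) hd, ham.map_mul hd (he.img_le hr), had]
      exact hc.2 _ (hQimg ▸ (ham.mono he.img_le).apply_mem_img hr)
    rw [hQimg, ← had]
    exact (ham.mono he.img_le).apply_mem_img (hR.2 R₁ he.isConj hdR)
  -- conjugation of `Aut_E(R)` by `ψ`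
  set Θ : MulAut R ≃* MulAut Q :=
    MulAut.congr (hψR.equivImg.trans (MulEquiv.subgroupCongr hψi)) with hΘdef
  have hval : ∀ x : R, ((hψR.equivImg.trans (MulEquiv.subgroupCongr hψi)) x : Ω) = ψ x :=
    fun x => rfl
  have hΘ : ∀ (β : MulAut R) (x : R) (hx : ψ x ∈ Q),
      ((Θ β ⟨ψ x, hx⟩ : Q) : Ω) = ψ ((β x : R) : Ω) := by
    intro β x hx
    have e : (⟨ψ x, hx⟩ : Q) = (hψR.equivImg.trans (MulEquiv.subgroupCongr hψi)) x :=
      Subtype.ext (hval x).symm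
    rw [e, hΘdef]
    simp only [MulAut.congr, MulEquiv.coe_mk, Equiv.coe_fn_mk, MulEquiv.trans_apply,
      MulEquiv.symm_trans_apply, MulEquiv.symm_apply_apply]
    exact hval (β x)
  have hmem : ∀ β ∈ E.autGroup R, Θ β ∈ E.autGroup Q := by
    intro β hβ
    have hm := isMap_of_autGroup hRT hβ
    have hmR : ∀ x ∈ R, toFun (R.subtype.comp β.toMonoidHom) x ∈ R := fun x hx => by
      rw [toFun_aut_apply _ hx]; exact (β _).2
    obtain ⟨k, hk, hkx, hky, -⟩ := he.exists_inv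
    obtain ⟨g, hg, hgx⟩ := IsInvariantIn.transport hinv ha ((hk.comp hm fun w hw => (hky w hw).1).comp he
      fun w hw => hmR _ (hky w hw).1)
    rw [← hR₁, ← hQimg] at hg
    refine (autGroup_iff_isMap hQT fun z => ?_).2 hg
    obtain ⟨w, hw, hwz⟩ := hψR.mem_img.1 (hψi.symm ▸ z.2 : (z : Ω) ∈ img R ψ)
    have e : z = ⟨ψ w, hwz.symm ▸ z.2⟩ := Subtype.ext hwz.symm
    rw [e, hΘ β ⟨w, hw⟩]
    show _ = g (ψ w)
    rw [hψe w hw, hgx _ (he.apply_mem_img hw), hkx w hw, toFun_aut_apply _ hw,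
      hψe _ (β ⟨w, hw⟩).2]
  let Θ' : E.autGroup R →* E.autGroup Q :=
    (Θ.toMonoidHom.comp (E.autGroup R).subtype).codRestrict _ fun β => hmem β β.2
  have hΘ'inj : Function.Injective Θ' := fun β γ h =>
    Subtype.ext (Θ.injective (congrArg Subtype.val h))
  have hgen : pGenAut E p R ≤ (pGenAut E p Q).comap Θ' := by
    refine (Subgroup.closure_le _).2 fun β hβ => Subgroup.subset_closure ?_
    obtain ⟨i, hi⟩ := hβ
    exact ⟨i, by rw [orderOf_injective Θ' hΘ'inj, hi]⟩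
  obtain ⟨g₀, hg₀, hg₀x, hg₀z⟩ :=
    exists_ext_of_pGen hS hF hsc hsub hEsat hQn hQE (Θ' α) (hgen hα)
  set C := centralizerIn S Q
  set Z := Q ⊓ centralizer (Q : Set Ω)
  have hZC : Z ≤ C := fun z hz => ⟨hQS hz.1, hz.2⟩
  have hg₀W : ∀ x ∈ Q ⊔ C, g₀ x ∈ Q ⊔ C := fun x hx => by
    refine hg₀.img_sup_le le_sup_left le_sup_right ?_ ?_ (hg₀.apply_mem_img hx)
    · intro z hz
      obtain ⟨w, hw, rfl⟩ := (hg₀.mono le_sup_left).mem_img.1 hz
      rw [hg₀x ⟨w, hw⟩]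
      exact mem_sup_left (Subtype.mem _)
    · intro z hz
      obtain ⟨w, hw, rfl⟩ := (hg₀.mono le_sup_right).mem_img.1 hz
      exact mem_sup_right (by simpa using C.mul_mem hw (hZC (hg₀z w hw)))
  have hord : (orderOf (Θ' α : MulAut Q)).Coprime p := by
    rwa [Subgroup.orderOf_coe, orderOf_injective Θ' hΘ'inj]
  obtain ⟨i, n, hn, hix, hper⟩ := exists_coprime_power hg₀ hg₀W le_sup_left hord hg₀x
  set g := g₀^[i]
  have hg : IsMap F (Q ⊔ C) g := isMap_iterate hg₀ hg₀W i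
  have hgz := iterate_trivial_mod hg₀ le_sup_right hZC hg₀z i
  have hfix := fixes_focal_centralizer hS hF (fullyCentralized_of_fullyNormalized hS hF hQn) hg
    (fun x hx => by rw [hix ⟨x, hx⟩]; exact Subtype.mem _) hgz hn hper
  -- pull back
  set W := R ⊔ centralizerIn S R with hWdef
  have hWN : W ≤ N := sup_le hRN hCN
  have hψW := hψ.mono hWN
  have hin : ∀ x ∈ W, ψ x ∈ Q ⊔ C := fun x hx => by
    refine hψW.img_sup_le le_sup_left le_sup_right ?_ ?_ (hψW.apply_mem_img hx)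
    · rw [hψi]; exact le_sup_left
    · intro z hz
      obtain ⟨w, hw, rfl⟩ := (hψW.mono le_sup_right).mem_img.1 hz
      have := hψ.apply_mem_centralizerIn hRN (hCN hw) hw.2
      rw [hψi] at this
      exact mem_sup_right this
  have hψC : ∀ c ∈ centralizerIn S R, ψ c ∈ C := fun c hc => by
    have := hψ.apply_mem_centralizerIn hRN (hCN hc) hc.2
    rwa [hψi] at this
  have hgψR : ∀ x : R, g (ψ x) = ψ (((α : MulAut R) x : R) : Ω) := fun x => by
    have hx : ψ x ∈ Q := hψi ▸ hψR.apply_mem_img x.2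
    rw [hix ⟨ψ x, hx⟩]
    exact hΘ (α : MulAut R) x hx
  have hgψC : ∀ c ∈ centralizerIn S R, ∃ r ∈ R, g (ψ c) = ψ (c * r) := fun c hc => by
    obtain ⟨r, hr, hrz⟩ := hψR.mem_img.1 (hψi.ge (hgz _ (hψC c hc)).1)
    exact ⟨r, hr, by rw [hψ.map_mul (hCN hc) (hRN hr), hrz, mul_inv_cancel_left]⟩
  obtain ⟨k₀, hk₀, hk₀x, -, -⟩ := hψW.exists_inv
  have hcomp : IsMap F W (fun x => g (ψ x)) := hψW.comp hg hin
  have hout : ∀ x ∈ W, g (ψ x) ∈ img W ψ := fun x hx => by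
    refine hcomp.img_sup_le le_sup_left le_sup_right ?_ ?_ (hcomp.apply_mem_img hx)
    · intro z hz
      obtain ⟨w, hw, rfl⟩ := (hcomp.mono le_sup_left).mem_img.1 hz
      show g (ψ w) ∈ _
      rw [hgψR ⟨w, hw⟩]
      exact hψW.apply_mem_img (mem_sup_left (Subtype.mem _))
    · intro z hz
      obtain ⟨w, hw, rfl⟩ := (hcomp.mono le_sup_right).mem_img.1 hz
      obtain ⟨r, hr, e⟩ := hgψC w hw
      show g (ψ w) ∈ _
      rw [e]
      exact hψW.apply_mem_img (mul_mem (mem_sup_right hw) (mem_sup_left hr))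
  have hGmap : IsMap F W (fun x => k₀ (g (ψ x))) := hcomp.comp hk₀ hout
  have hψG : ∀ x ∈ W, ψ (k₀ (g (ψ x))) = g (ψ x) ∧ k₀ (g (ψ x)) ∈ W := fun x hx => by
    obtain ⟨u, hu, hux⟩ := hψW.mem_img.1 (hout x hx)
    rw [← hux, hk₀x u hu]
    exact ⟨rfl, hu⟩
  refine ⟨fun x => k₀ (g (ψ x)), hGmap, fun x => ?_, fun c hc => ?_, ⟨n, hn, fun x hx => ?_⟩,
    fun y hy k hk hkR hz => ?_⟩
  · show k₀ (g (ψ x)) = _
    rw [hgψR, hk₀x _ (mem_sup_left (Subtype.mem _))]
  · obtain ⟨r, hr, e⟩ := hgψC c hc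
    show c⁻¹ * k₀ (g (ψ c)) ∈ R
    rw [e, hk₀x _ (mul_mem (mem_sup_right hc) (mem_sup_left hr)), inv_mul_cancel_left]
    exact hr
  · have hit : ∀ m : ℕ, ψ ((fun x => k₀ (g (ψ x)))^[m] x) = g^[m] (ψ x) ∧
        (fun x => k₀ (g (ψ x)))^[m] x ∈ W := by
      intro m
      induction m with
      | zero => exact ⟨rfl, hx⟩
      | succ m ih =>
        rw [Function.iterate_succ_apply', Function.iterate_succ_apply']
        exact ⟨by rw [(hψG _ ih.2).1, ih.1], (hψG _ ih.2).2⟩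
    refine hψW.inj (hit n).2 hx ?_
    rw [(hit n).1, hper _ (hin x hx)]
  · -- the elements moved by maps trivial on `R`
    have hyW : y ∈ W := mem_sup_right hy
    have hyU : y ∈ R ⊔ zpowers y := mem_sup_right (mem_zpowers y)
    have hU : R ⊔ zpowers y ≤ W := sup_le_sup_left (zpowers_le.2 hy) R
    obtain ⟨j, hj, hjx, hjy, hji⟩ := (hψW.mono hU).exists_inv
    have hky : k y = y * (y⁻¹ * k y) := (mul_inv_cancel_left _ _).symm
    have hkU : ∀ x ∈ R ⊔ zpowers y, k x ∈ W := fun x hx => by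
      refine hk.img_sup_le le_sup_left le_sup_right ?_ ?_ (hk.apply_mem_img hx)
      · intro w hw
        obtain ⟨u, hu, rfl⟩ := (hk.mono le_sup_left).mem_img.1 hw
        rw [hkR u hu]; exact mem_sup_left hu
      · intro w hw
        obtain ⟨u, hu, rfl⟩ := (hk.mono le_sup_right).mem_img.1 hw
        obtain ⟨l, rfl⟩ := mem_zpowers_iff.1 hu
        rw [map_zpow_isMap hk hyU]
        refine zpow_mem ?_ l
        rw [hky]
        exact mul_mem hyW (mem_sup_left hz)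
    have hle : Q ⊔ zpowers (ψ y) ≤ img (R ⊔ zpowers y) ψ := sup_le
      (hψi ▸ img_mono le_sup_left) (zpowers_le.2 ((hψW.mono hU).apply_mem_img hyU))
    have hk' : IsMap F (Q ⊔ zpowers (ψ y)) (fun w => ψ (k (j w))) :=
      (((hj.mono hle).comp hk fun w hw => (hjy w (hle hw)).1).comp hψW
        fun w hw => hkU _ (hjy w (hle hw)).1)
    have hf := hfix _ (mem_focal_centralizer hS hF hE hQS (hψC y hy) hk' fun w hw => by
      obtain ⟨u, hu, rfl⟩ := hψR.mem_img.1 (hψi.ge hw)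
      show ψ (k (j (ψ u))) = ψ u
      rw [hjx u (mem_sup_left hu), hkR u hu])
    have e2 : (ψ y)⁻¹ * ψ (k (j (ψ y))) = ψ (y⁻¹ * k y) := by
      rw [hjx y hyU, hψW.map_mul (W.inv_mem hyW) (hkU y hyU), hψW.map_inv hyW]
    change g ((ψ y)⁻¹ * ψ (k (j (ψ y)))) = (ψ y)⁻¹ * ψ (k (j (ψ y))) at hf
    rw [e2] at hf
    show k₀ (g (ψ (y⁻¹ * k y))) = y⁻¹ * k y
    rw [hf, hk₀x _ (mem_sup_left hz)]

end Main

end CfsgLib.Comp.CExt
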