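import Cfsg.Agent.Lib.Comp.SystemTransport
import Cfsg.Agent.Lib.Fusion.NormalizerSaturated
import Cfsg.Agent.Lib.Fusion.NormalCriteria
import Cfsg.Agent.Lib.Fusion.SubsystemCentric

/-!
The part of a normal subsystem centralizing a strongly closed central subgroup is normal.
-/

set_option autoImplicit false
set_option linter.unusedVariables false
set_option linter.unusedSectionVars false
set_option linter.style.haveILetI false

namespace CfsgLib.Comp.Fus

open Cfsg Cfsg.FusionSystem Subgroup CfsgLib.Fusion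
open scoped commutatorElement

variable {Ω : Type*} [Group Ω] {S T Z : Subgroup Ω} {F : FusionSystem S} {E : FusionSystem T}
  {p : ℕ} [Fact p.Prime] [Finite S]

/-- An abelian strongly closed subgroup is normal. -/
theorem isNormal_of_abelian_closed (hS : IsPGroup p S) (hF : F.IsSaturated p)
    (hZ : F.StronglyClosed Z) (hab : ∀ a ∈ Z, ∀ b ∈ Z, a * b = b * a) : F.IsNormal Z := by
  refine isNormal_of_le_centricRadical hS hF hZ fun P hPc hPr => ?_
  refine le_centricRadical_of_series hS hZ 1 (fun i => if i = 0 then ⊥ else Z) rfl rfl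
    (fun i hi => ?_) (fun i hi => ?_) (fun i hi => ?_) hPc hPr
  · obtain rfl : i = 0 := by omega
    exact bot_le
  · obtain rfl : i = 0 := by omega
    refine Subgroup.commutator_le.2 fun a ha b hb => ?_
    show ⁅a, b⁆ ∈ (⊥ : Subgroup Ω)
    rw [Subgroup.mem_bot, commutatorElement_def, hab a ha b hb]
    group
  · obtain rfl : i = 0 := by omega
    show F.WeaklyClosed ⊥
    exact StronglyClosed.weaklyClosed (stronglyClosed_iff.2 ⟨bot_le, fun X f hX hf x hx => by
      rw [Subgroup.mem_bot.1 (hX hx), hf.map_one]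
      exact one_mem _⟩)

variable (E) in
/-- The maps of `E` that extend to maps fixing `Z`. -/
noncomputable def fixPart (hZT : Z ≤ T) (hZc : centralizerIn T Z = T) : FusionSystem T :=
  castSys hZc (centralizerSys E Z hZT)

theorem isMap_fixPart_iff {hZT : Z ≤ T} {hZc : centralizerIn T Z = T} {P : Subgroup Ω}
    {f : Ω → Ω} : IsMap (fixPart E hZT hZc) P f ↔
      P ≤ T ∧ ∃ g, IsMap E (P ⊔ Z) g ∧ (∀ x ∈ P, g x = f x) ∧ ∀ x ∈ Z, g x = x := by
  rw [fixPart, isMap_castSys,
    isMap_centralizerSystem_iff (isCentralizerSystem_centralizerSys E Z hZT), hZc]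
  exact ⟨fun ⟨h1, _, h3⟩ => ⟨h1, h3⟩, fun ⟨h1, g, hg, hgx, hgz⟩ =>
    ⟨h1, fun x hx => hgx x hx ▸ hg.mem (mem_sup_left hx), g, hg, hgx, hgz⟩⟩

variable (hS : IsPGroup p S) (hF : F.IsSaturated p) (hE : E.IsNormalIn F p) (hZT : Z ≤ T)
  (hZ : F.StronglyClosed Z) (hcen : ∀ t ∈ T, ∀ z ∈ Z, t * z = z * t)
  (hZc : centralizerIn T Z = T)

include hS hF hE hZT hZ hcen hZc

theorem isNormalIn_fixPart : (fixPart E hZT hZc).IsNormalIn F p := by
  obtain ⟨hw, hext⟩ := isNormalIn_iff.1 hE
  obtain ⟨hEsat, -, hinv0⟩ := id hw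
  obtain ⟨hsub0, hsc, hinv, hfrat⟩ := isInvariantIn_iff.1 hinv0
  have hsub := isSubsystemOf_iff.1 hsub0
  have hT : T ≤ S := hsc.1
  haveI := finite_of_le hT
  haveI := finite_of_le hZ.1
  have hTp : IsPGroup p T := isPGroup_of_le hS hT
  have hZE : E.StronglyClosed Z := stronglyClosed_iff.2 ⟨hZT, fun X f hX hf x hx =>
    StronglyClosed.apply_mem hZ (hsub _ _ hf) hx (hX hx)⟩
  have hZn : E.IsNormal Z := isNormal_of_abelian_closed hTp hEsat hZE
    fun a ha b hb => hcen a (hZT ha) b hb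
  have hfc : E.IsFullyCentralized Z := ⟨hZT, fun Q hQ => by
    obtain ⟨f, hf, rfl⟩ := CfsgLib.Fusion.isConj_iff.1 hQ
    rw [StronglyClosed.img_eq hZE hf le_rfl]⟩
  have hsat : (fixPart E hZT hZc).IsSaturated p := by
    rw [fixPart]
    have key : ∀ (T' : Subgroup Ω) (e : centralizerIn T Z = T') (D : FusionSystem (centralizerIn T Z)),
        D.IsSaturated p → (castSys e D).IsSaturated p := by
      intro T' e D hD
      subst e
      exact hD
    exact key T hZc _ (isSaturated_centralizerSystem hTp hEsat hfc (isCentralizerSystem_centralizerSys E Z hZT))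
  have hsub' : (fixPart E hZT hZc).IsSubsystemOf F := isSubsystemOf_iff.2 fun P f hf => by
    obtain ⟨-, g, hg, hgx, -⟩ := isMap_fixPart_iff.1 hf
    exact ((hsub _ _ hg).mono le_sup_left).congr hgx
  refine isNormalIn_iff.2 ⟨⟨hsat, hF, isInvariantIn_iff.2 ⟨hsub', hsc, fun a ha P f hf => ?_,
    fun P f hP hf => ?_⟩⟩, fun a ha => ?_⟩
  · obtain ⟨hP, g, hg, hgx, hgz⟩ := isMap_fixPart_iff.1 hf
    obtain ⟨g', hg', hg'x⟩ := hinv a ha _ _ hg
    have hPZ : P ⊔ Z ≤ T := sup_le hP hZT
    have haZ : img Z a = Z := StronglyClosed.img_eq hZ ha hZT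
    refine ⟨g', isMap_fixPart_iff.2 ⟨?_, g', hg'.mono ?_, fun _ _ => rfl, fun y hy => ?_⟩,
      fun x hx => ?_⟩
    · intro y hy
      obtain ⟨x, hx, rfl⟩ := (ha.mono hP).mem_img.1 hy
      exact StronglyClosed.apply_mem hsc ha (hP hx) (hP hx)
    · exact sup_le (img_mono le_sup_left) (haZ.ge.trans (img_mono le_sup_right))
    · obtain ⟨z, hz, rfl⟩ := (ha.mono hZT).mem_img.1 (haZ.ge hy)
      rw [hg'x z (mem_sup_right hz), hgz z hz]
    · rw [hg'x x (mem_sup_left hx), hgx x hx]
  · obtain ⟨a, ha, e, he, hfe⟩ := hfrat P f hP hf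
    obtain ⟨g, hg, hge, hgZ⟩ := (isNormal_iff.1 hZn).2 P e he
    -- the automorphism of `Z` extends to `T`
    have hgZm : IsMap E Z g := hg.mono le_sup_right
    obtain ⟨b, hb, hbz⟩ := receptive_extend (R := T)
      (receptive_of_fullyCentralized hTp hEsat hfc) hgZm hgZ hZT fun t ht => by
        refine ⟨ht, fun z => ?_, 1, one_mem _, fun z hz => ?_⟩
        · constructor
          · intro hz
            rwa [hcen t ht z hz, mul_inv_cancel_right]
          · intro hz
            have h1 := hcen t⁻¹ (T.inv_mem ht) _ hz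
            have h2 : z = t * z * t⁻¹ := by
              have h3 : t⁻¹ * (t * z * t⁻¹) * t = t * z * t⁻¹ := by
                rw [h1, mul_assoc (t * z * t⁻¹), inv_mul_cancel, mul_one]
              conv_lhs => rw [show z = t⁻¹ * (t * z * t⁻¹) * t by group]
              exact h3
            rwa [h2]
        · rw [hcen t ht z hz, mul_inv_cancel_right]
          simp
    have hbT : img T b = T := eq_of_le_of_card_le hb.img_le hb.card_img.ge
    obtain ⟨k, hk, hkb, -, -⟩ := hb.exists_inv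
    rw [hbT] at hk
    have hbk : ∀ y ∈ T, b (k y) = y := fun y hy => by
      obtain ⟨x, hx, rfl⟩ := hb.mem_img.1 (hbT.ge hy)
      rw [hkb x hx]
    have hbF : IsMap F T b := hsub _ _ hb
    refine ⟨fun x => a (b x), hbF.comp ha fun x hx => hb.mem hx, fun x => k (g x),
      isMap_fixPart_iff.2 ⟨hP, _, hg.comp hk fun x hx => hg.mem hx, fun _ _ => rfl, fun z hz => ?_⟩,
      fun x hx => ?_⟩
    · show k (g z) = z
      rw [← hbz z hz, hkb z (hZT hz)]
    · show f x = a (b (k (g x)))
      rw [hbk _ (hg.mem (mem_sup_left hx)), hge x hx, hfe x hx]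
  · obtain ⟨-, g, hg, hgx, -⟩ := isMap_fixPart_iff.1 ha
    exact hext a ((hg.mono le_sup_left).congr hgx)

omit hS hF hE hZT hZ hcen hZc in
/-- The part fixing a central subgroup is everything. -/
theorem isMap_fixPart_iff_of_center {hZT : Z ≤ T} {hZc : centralizerIn T Z = T}
    (hZE : E.IsCentral Z) {P : Subgroup Ω} {f : Ω → Ω} :
    IsMap (fixPart E hZT hZc) P f ↔ IsMap E P f := by
  rw [isMap_fixPart_iff]
  constructor
  · rintro ⟨-, g, hg, hgx, -⟩
    exact (hg.mono le_sup_left).congr hgx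
  · intro hf
    exact ⟨hf.le, (isCentral_iff.1 hZE).2 P f hf⟩

end CfsgLib.Comp.Fus
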