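import Cfsg.Agent.Lib.Comp.LayerMain

/-!
The factors of a central product are normal, and a component lies in one of them.
-/

set_option autoImplicit false
set_option linter.unusedVariables false
set_option linter.unusedSectionVars false
set_option linter.style.haveILetI false

universe u

namespace CfsgLib.Comp.CProd

open Cfsg Cfsg.FusionSystem Subgroup CfsgLib.Fusion CfsgLib.Comp.Fus

variable {Ω : Type u} [Group Ω] {S T₁ T₂ : Subgroup Ω} {F : FusionSystem S}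
  {E₁ : FusionSystem T₁} {E₂ : FusionSystem T₂} {p : ℕ}

/-- The description of a central product by pairs of maps. -/
structure Pairs (F : FusionSystem S) (E₁ : FusionSystem T₁) (E₂ : FusionSystem T₂) : Prop where
  comm : ∀ a ∈ T₁, ∀ b ∈ T₂, a * b = b * a
  sup_eq : S = T₁ ⊔ T₂
  fix : ∀ (P : Subgroup Ω) (f : Ω → Ω), IsMap E₁ P f →
    ∃ g, IsMap E₁ (P ⊔ (T₁ ⊓ T₂)) g ∧ (∀ x ∈ P, g x = f x) ∧ ∀ z ∈ T₁ ⊓ T₂, g z = z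
  map_iff : ∀ (P : Subgroup Ω) (f : Ω → Ω), IsMap F P f ↔ P ≤ S ∧ ∃ f₁ f₂,
    IsMap E₁ (part T₁ T₂ P) f₁ ∧ IsMap E₂ (part T₂ T₁ P) f₂ ∧
      ∀ a ∈ T₁, ∀ b ∈ T₂, a * b ∈ P → f (a * b) = f₁ a * f₂ b

theorem pairs_swap_iff (hc : ∀ a ∈ T₁, ∀ b ∈ T₂, a * b = b * a)
    (h : ∀ (P : Subgroup Ω) (f : Ω → Ω), IsMap F P f ↔ P ≤ S ∧ ∃ f₁ f₂,
      IsMap E₁ (part T₁ T₂ P) f₁ ∧ IsMap E₂ (part T₂ T₁ P) f₂ ∧
        ∀ a ∈ T₁, ∀ b ∈ T₂, a * b ∈ P → f (a * b) = f₁ a * f₂ b)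
    (hsup : S = T₁ ⊔ T₂) :
    ∀ (P : Subgroup Ω) (f : Ω → Ω), IsMap F P f ↔ P ≤ S ∧ ∃ f₁ f₂,
      IsMap E₂ (part T₂ T₁ P) f₁ ∧ IsMap E₁ (part T₁ T₂ P) f₂ ∧
        ∀ a ∈ T₂, ∀ b ∈ T₁, a * b ∈ P → f (a * b) = f₁ a * f₂ b := by
  intro P f
  rw [h]
  constructor
  · rintro ⟨hP, f₁, f₂, h₁, h₂, hfx⟩
    refine ⟨hP, f₂, f₁, h₂, h₁, fun a ha b hb hab => ?_⟩
    have hP' : P ≤ T₁ ⊔ T₂ := hsup ▸ hP
    have hba : b * a ∈ P := by rwa [hc b hb a ha]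
    have hb' : b ∈ part T₁ T₂ P := part_mem_left hc hP' hb ha hba
    have ha' : a ∈ part T₂ T₁ P :=
      part_mem_left (fun x hx y hy => (hc y hy x hx).symm) (sup_comm T₁ T₂ ▸ hP') ha hb hab
    rw [← hc b hb a ha, hfx b hb a ha hba, hc _ (h₁.mem hb') _ (h₂.mem ha')]
  · rintro ⟨hP, f₁, f₂, h₁, h₂, hfx⟩
    refine ⟨hP, f₂, f₁, h₂, h₁, fun a ha b hb hab => ?_⟩
    have hP' : P ≤ T₁ ⊔ T₂ := hsup ▸ hP
    have ha' : a ∈ part T₁ T₂ P := part_mem_left hc hP' ha hb hab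
    have hb' : b ∈ part T₂ T₁ P :=
      part_mem_left (fun x hx y hy => (hc y hy x hx).symm) (sup_comm T₁ T₂ ▸ hP') hb ha
        (hc a ha b hb ▸ hab)
    rw [hc a ha b hb, hfx b hb a ha (hc a ha b hb ▸ hab), ← hc _ (h₂.mem ha') _ (h₁.mem hb')]

/-- Reading the definition of a central product. -/
theorem pairs_of_centralProduct [Finite S] (h₁S : T₁ ≤ S) (h₂S : T₂ ≤ S)
    (h : IsCentralProductOf E₁ E₂ F) : Pairs F E₁ E₂ ∧ Pairs F E₂ E₁ := by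
  obtain ⟨D₀, hD₀, Z, θ, hZc, -, -, hθ₁, hθ₂, hZle, hker, hran, hhom⟩ := h
  have e₁ : ∀ x ∈ T₁, ((x, 1) : Ω × Ω) ∈ T₁.prod T₂ := fun x hx => ⟨hx, T₂.one_mem⟩
  have e₂ : ∀ y ∈ T₂, ((1, y) : Ω × Ω) ∈ T₁.prod T₂ := fun y hy => ⟨T₁.one_mem, hy⟩
  have hval : ∀ (a b : Ω) (ha : a ∈ T₁) (hb : b ∈ T₂), θ ⟨(a, b), ⟨ha, hb⟩⟩ = a * b := by
    intro a b ha hb
    have e : (⟨(a, b), ⟨ha, hb⟩⟩ : ↥(T₁.prod T₂)) = ⟨(a, 1), e₁ a ha⟩ * ⟨(1, b), e₂ b hb⟩ :=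
      Subtype.ext (by simp)
    rw [e, map_mul, hθ₁, hθ₂]
  have hc : ∀ a ∈ T₁, ∀ b ∈ T₂, a * b = b * a := by
    intro a ha b hb
    have e : (⟨(a, 1), e₁ a ha⟩ : ↥(T₁.prod T₂)) * ⟨(1, b), e₂ b hb⟩ =
        ⟨(1, b), e₂ b hb⟩ * ⟨(a, 1), e₁ a ha⟩ := Subtype.ext (by simp)
    have e' := congrArg θ e
    rwa [map_mul, map_mul, hθ₁, hθ₂] at e'
  have hθeq : θ = mulHom hc := MonoidHom.ext fun x => hval _ _ x.2.1 x.2.2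
  have hsup : S = T₁ ⊔ T₂ := by rw [← hran, hθeq, range_mulHom]
  haveI := finite_prod h₁S h₂S
  have hmem : ∀ {P : Subgroup Ω} {a b : Ω},
      (a, b) ∈ preimageAlong θ P ↔ a ∈ T₁ ∧ b ∈ T₂ ∧ a * b ∈ P := by
    intro P a b
    rw [mem_preimageAlong]
    exact ⟨fun ⟨⟨ha, hb⟩, hx⟩ => ⟨ha, hb, hval a b ha hb ▸ hx⟩,
      fun ⟨ha, hb, hx⟩ => ⟨⟨ha, hb⟩, by rw [hval a b ha hb]; exact hx⟩⟩
  have hc' : ∀ a ∈ T₂, ∀ b ∈ T₁, a * b = b * a := fun a ha b hb => (hc b hb a ha).symm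
  have hpr₁ : ∀ {P : Subgroup Ω}, P ≤ T₁ ⊔ T₂ → prOne (preimageAlong θ P) = part T₁ T₂ P := by
    intro P hP
    ext a
    rw [mem_part_iff hc hP]
    constructor
    · rintro ⟨⟨a', b⟩, h, rfl⟩
      obtain ⟨h₁, h₂, h₃⟩ := hmem.1 h
      exact ⟨h₁, b, h₂, h₃⟩
    · rintro ⟨ha, b, hb, hab⟩
      exact ⟨(a, b), hmem.2 ⟨ha, hb, hab⟩, rfl⟩
  have hpr₂ : ∀ {P : Subgroup Ω}, P ≤ T₁ ⊔ T₂ → prTwo (preimageAlong θ P) = part T₂ T₁ P := by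
    intro P hP
    ext b
    rw [mem_part_iff hc' (sup_comm T₁ T₂ ▸ hP)]
    constructor
    · rintro ⟨⟨a, b'⟩, h, rfl⟩
      obtain ⟨h₁, h₂, h₃⟩ := hmem.1 h
      exact ⟨h₂, a, h₁, (hc a h₁ b' h₂) ▸ h₃⟩
    · rintro ⟨hb, a, ha, hba⟩
      exact ⟨(a, b), hmem.2 ⟨ha, hb, (hc a ha b hb).symm ▸ hba⟩, rfl⟩
  have hiff : ∀ (P : Subgroup Ω) (f : Ω → Ω), IsMap F P f ↔ P ≤ S ∧ ∃ f₁ f₂,
      IsMap E₁ (part T₁ T₂ P) f₁ ∧ IsMap E₂ (part T₂ T₁ P) f₂ ∧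
        ∀ a ∈ T₁, ∀ b ∈ T₂, a * b ∈ P → f (a * b) = f₁ a * f₂ b := by
    intro P f
    rw [isMap_induced_iff hhom hran]
    constructor
    · rintro ⟨hP, g, hg, hgx⟩
      obtain ⟨-, f₁, f₂, h₁, h₂, hfx⟩ := (isMap_product_iff hD₀).1 hg
      rw [hpr₁ (hsup ▸ hP)] at h₁
      rw [hpr₂ (hsup ▸ hP)] at h₂
      refine ⟨hP, f₁, f₂, h₁, h₂, fun a ha b hb hab => ?_⟩
      have hm : (a, b) ∈ preimageAlong θ P := hmem.2 ⟨ha, hb, hab⟩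
      have h1 := hgx (a, b) hm
      rw [hval a b ha hb] at h1
      rw [h1]
      refine (hval _ _ (hg.mem hm).1 (hg.mem hm).2).trans ?_
      rw [hfx (a, b) hm]
    · rintro ⟨hP, f₁, f₂, h₁, h₂, hfx⟩
      rw [← hpr₁ (hsup ▸ hP)] at h₁
      rw [← hpr₂ (hsup ▸ hP)] at h₂
      refine ⟨hP, fun x => (f₁ x.1, f₂ x.2), (isMap_product_iff hD₀).2
        ⟨preimageAlong_le, f₁, f₂, h₁, h₂, fun _ _ => rfl⟩, fun x hx => ?_⟩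
      obtain ⟨ha, hb, hab⟩ := hmem.1 (show (x.1, x.2) ∈ _ from hx)
      have e : θ ⟨x, preimageAlong_le hx⟩ = x.1 * x.2 := hval x.1 x.2 ha hb
      rw [e]
      exact (hfx x.1 ha x.2 hb hab).trans
        (hval _ _ (h₁.mem (mem_prOne hx)) (h₂.mem (mem_prTwo hx))).symm
  obtain ⟨-, hext⟩ := isCentral_iff.1 (center_isCentral (F := D₀))
  have hK : ∀ z ∈ T₁ ⊓ T₂, ((z, z⁻¹) : Ω × Ω) ∈ Z := fun z hz => by
    have hz' : ((z, z⁻¹) : Ω × Ω) ∈ T₁.prod T₂ := ⟨hz.1, T₂.inv_mem hz.2⟩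
    refine (hker ⟨_, hz'⟩).1 ?_
    rw [hval z z⁻¹ hz.1 (T₂.inv_mem hz.2), mul_inv_cancel]
  have hfix₁ : ∀ (P : Subgroup Ω) (f : Ω → Ω), IsMap E₁ P f →
      ∃ g, IsMap E₁ (P ⊔ (T₁ ⊓ T₂)) g ∧ (∀ x ∈ P, g x = f x) ∧ ∀ z ∈ T₁ ⊓ T₂, g z = z := by
    intro P f hf
    have hle : P.prod (⊥ : Subgroup Ω) ≤ T₁.prod T₂ := Subgroup.prod_mono hf.le bot_le
    have hg : IsMap D₀ (P.prod (⊥ : Subgroup Ω)) fun x => (f x.1, x.2) := by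
      refine (isMap_product_iff hD₀).2 ⟨hle, f, id, hf.mono ?_, isMap_id E₂ ?_, fun _ _ => rfl⟩
      · rintro _ ⟨x, hx, rfl⟩
        exact hx.1
      · rintro _ ⟨x, hx, rfl⟩
        show x.2 ∈ T₂
        rw [Subgroup.mem_bot.1 hx.2]
        exact one_mem _
    obtain ⟨G, hG, hGx, hGz⟩ := hext _ _ hg
    obtain ⟨-, g₁, g₂, hg₁, -, hgx⟩ := (isMap_product_iff hD₀).1 hG
    have hl : P ⊔ (T₁ ⊓ T₂) ≤ prOne (P.prod (⊥ : Subgroup Ω) ⊔ D₀.center) :=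
      sup_le (fun x hx => ⟨(x, 1), mem_sup_left ⟨hx, one_mem _⟩, rfl⟩)
        fun z hz => ⟨(z, z⁻¹), mem_sup_right (hZc (hK z hz)), rfl⟩
    refine ⟨g₁, hg₁.mono hl, fun x hx => ?_, fun z hz => ?_⟩
    · have hm : ((x, 1) : Ω × Ω) ∈ P.prod (⊥ : Subgroup Ω) := ⟨hx, one_mem _⟩
      have h1 := hgx _ (mem_sup_left hm)
      rw [hGx _ hm] at h1
      exact (congrArg Prod.fst h1).symm
    · have h1 := hgx _ (mem_sup_right (hZc (hK z hz)))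
      rw [hGz _ (hZc (hK z hz))] at h1
      exact (congrArg Prod.fst h1).symm
  have hfix₂ : ∀ (P : Subgroup Ω) (f : Ω → Ω), IsMap E₂ P f →
      ∃ g, IsMap E₂ (P ⊔ (T₂ ⊓ T₁)) g ∧ (∀ x ∈ P, g x = f x) ∧ ∀ z ∈ T₂ ⊓ T₁, g z = z := by
    intro P f hf
    have hle : (⊥ : Subgroup Ω).prod P ≤ T₁.prod T₂ := Subgroup.prod_mono bot_le hf.le
    have hg : IsMap D₀ ((⊥ : Subgroup Ω).prod P) fun x => (x.1, f x.2) := by
      refine (isMap_product_iff hD₀).2 ⟨hle, id, f, isMap_id E₁ ?_, hf.mono ?_, fun _ _ => rfl⟩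
      · rintro _ ⟨x, hx, rfl⟩
        show x.1 ∈ T₁
        rw [Subgroup.mem_bot.1 hx.1]
        exact one_mem _
      · rintro _ ⟨x, hx, rfl⟩
        exact hx.2
    obtain ⟨G, hG, hGx, hGz⟩ := hext _ _ hg
    obtain ⟨-, g₁, g₂, -, hg₂, hgx⟩ := (isMap_product_iff hD₀).1 hG
    have hK' : ∀ z ∈ T₂ ⊓ T₁, ((z⁻¹, z) : Ω × Ω) ∈ Z := fun z hz => by
      simpa using hK z⁻¹ ⟨T₁.inv_mem hz.2, T₂.inv_mem hz.1⟩
    have hl : P ⊔ (T₂ ⊓ T₁) ≤ prTwo ((⊥ : Subgroup Ω).prod P ⊔ D₀.center) :=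
      sup_le (fun x hx => ⟨(1, x), mem_sup_left ⟨one_mem _, hx⟩, rfl⟩)
        fun z hz => ⟨(z⁻¹, z), mem_sup_right (hZc (hK' z hz)), rfl⟩
    refine ⟨g₂, hg₂.mono hl, fun x hx => ?_, fun z hz => ?_⟩
    · have hm : ((1, x) : Ω × Ω) ∈ (⊥ : Subgroup Ω).prod P := ⟨one_mem _, hx⟩
      have h1 := hgx _ (mem_sup_left hm)
      rw [hGx _ hm] at h1
      exact (congrArg Prod.snd h1).symm
    · have h1 := hgx _ (mem_sup_right (hZc (hK' z hz)))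
      rw [hGz _ (hZc (hK' z hz))] at h1
      exact (congrArg Prod.snd h1).symm
  exact ⟨⟨hc, hsup, hfix₁, hiff⟩,
    ⟨hc', hsup.trans (sup_comm T₁ T₂), hfix₂, pairs_swap_iff hc hiff hsup⟩⟩

namespace Pairs

variable (hP : Pairs F E₁ E₂)

include hP

theorem res {P : Subgroup Ω} {f : Ω → Ω} (hle : P ≤ T₁) (hf : IsMap F P f) : IsMap E₁ P f := by
  obtain ⟨hPS, f₁, f₂, h₁, h₂, hfx⟩ := (hP.map_iff P f).1 hf
  refine (h₁.mono (le_inf le_sup_left hle)).congr fun x hx => ?_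
  have h := hfx x (hle hx) 1 T₂.one_mem (by rwa [mul_one])
  rw [mul_one, h₂.map_one, mul_one] at h
  exact h.symm

theorem ext {P : Subgroup Ω} {f : Ω → Ω} (hf : IsMap E₁ P f) :
    ∃ g, IsMap F (P ⊔ T₂) g ∧ (∀ x ∈ P, g x = f x) ∧ ∀ z ∈ T₂, g z = z := by
  classical
  obtain ⟨h, hh, hhx, hhz⟩ := hP.fix P f hf
  have hR : P ⊔ T₂ ≤ T₁ ⊔ T₂ := sup_le (hf.le.trans le_sup_left) le_sup_right
  have hle : part T₁ T₂ (P ⊔ T₂) ≤ P ⊔ (T₁ ⊓ T₂) := by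
    intro a ha
    obtain ⟨haT, b, hb, hab⟩ := (mem_part_iff hP.comm hR).1 ha
    have ha' : a ∈ P ⊔ T₂ := by
      have := mul_mem hab (Subgroup.inv_mem _ (mem_sup_right hb))
      rwa [mul_inv_cancel_right] at this
    obtain ⟨x, hx, y, hy, rfl⟩ := exists_split (A := P) (B := T₂)
      (fun u hu v hv => hP.comm u (hf.le hu) v hv) ha'
    refine mul_mem (mem_sup_left hx) (mem_sup_right ⟨?_, hy⟩)
    have h1 := T₁.mul_mem (T₁.inv_mem (hf.le hx)) haT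
    rwa [inv_mul_cancel_left] at h1
  choose u hu v hv huv using fun x : ↥(P ⊔ T₂) => exists_split hP.comm (hR x.2)
  let g : Ω → Ω := fun x => if hx : x ∈ P ⊔ T₂ then h (u ⟨x, hx⟩) * v ⟨x, hx⟩ else 1
  have hg : ∀ a ∈ T₁, ∀ b ∈ T₂, a * b ∈ P ⊔ T₂ → g (a * b) = h a * b := by
    intro a ha b hb hab
    simp only [g, dif_pos hab]
    set a' := u ⟨a * b, hab⟩
    set b' := v ⟨a * b, hab⟩
    have e : a' * b' = a * b := huv _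
    have ha' : a' ∈ P ⊔ (T₁ ⊓ T₂) :=
      hle (part_mem_left hP.comm hR (hu _) (hv _) (e.symm ▸ hab))
    have ha₀ : a ∈ P ⊔ (T₁ ⊓ T₂) := hle (part_mem_left hP.comm hR ha hb hab)
    have e2 : a⁻¹ * a' = b * b'⁻¹ := by
      rw [eq_mul_inv_iff_mul_eq, mul_assoc, e, inv_mul_cancel_left]
    have hz : a⁻¹ * a' ∈ T₁ ⊓ T₂ :=
      ⟨T₁.mul_mem (T₁.inv_mem ha) (hu _), e2 ▸ T₂.mul_mem hb (T₂.inv_mem (hv _))⟩
    have h1 : h a' = h a * (a⁻¹ * a') := by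
      rw [← hhz _ hz, ← hh.map_mul ha₀ (mem_sup_right hz), mul_inv_cancel_left]
    rw [h1, e2, mul_assoc, inv_mul_cancel_right]
  refine ⟨g, (hP.map_iff _ g).2 ⟨hR.trans hP.sup_eq.ge, h, id, hh.mono hle,
    isMap_id E₂ inf_le_right, hg⟩, fun x hx => ?_, fun z hz => ?_⟩
  · have h1 := hg x (hf.le hx) 1 T₂.one_mem (by rw [mul_one]; exact mem_sup_left hx)
    simpa [hhx x hx] using h1
  · have h1 := hg 1 T₁.one_mem z hz (by rw [one_mul]; exact mem_sup_right hz)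
    simpa [hh.map_one] using h1

variable [Fact p.Prime] [Finite S]

theorem isNormalIn (hS : IsPGroup p S) (hF : F.IsSaturated p) (hE : E₁.IsSaturated p) :
    E₁.IsNormalIn F p := by
  have hle : T₁ ≤ S := hP.sup_eq ▸ le_sup_left
  haveI := finite_of_le hle
  exact Lay.isNormalIn_of_factor hF hP.sup_eq hP.comm (fun P f h => hP.res h)
    (fun P f => hP.ext) (Lay.isNormalIn_self (hS.to_le hle) hE)

end Pairs

end CfsgLib.Comp.CProd
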