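import Cfsg.Agent.Lib.Comp.PrimeResidualNormal
import Cfsg.Agent.Lib.Comp.Normalize

/-!
Centric subgroups meeting a normal subsystem in a non-centric subgroup are not radical.
-/

set_option autoImplicit false
set_option linter.unusedVariables false
set_option linter.unusedSectionVars false
set_option linter.style.haveILetI false

namespace CfsgLib.Comp.Fus

open Cfsg Cfsg.FusionSystem Subgroup CfsgLib.Fusion

variable {Ω : Type*} [Group Ω] {S T : Subgroup Ω} {F : FusionSystem S} {E : FusionSystem T}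
  {P : Subgroup Ω} {p : ℕ}

/-- The automorphisms of `P` in `F` centralizing `P ∩ T` and `P / (P ∩ T)`. -/
def chainAut (F : FusionSystem S) (T P : Subgroup Ω) : Subgroup (MulAut P) :=
  F.autGroup P ⊓
  { carrier := {β | (∀ x : P, (x : Ω) ∈ T → β x = x) ∧ ∀ x : P, ((x : Ω))⁻¹ * β x ∈ T}
    one_mem' := ⟨fun _ _ => rfl, fun x => by simp⟩
    mul_mem' := by
      rintro a b ⟨ha, ha'⟩ ⟨hb, hb'⟩
      refine ⟨fun x hx => by rw [MulAut.mul_apply, hb x hx, ha x hx], fun x => ?_⟩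
      have := T.mul_mem (hb' x) (ha' (b x))
      rwa [mul_assoc, mul_inv_cancel_left] at this
    inv_mem' := by
      rintro a ⟨ha, ha'⟩
      refine ⟨fun x hx => ?_, fun x => ?_⟩
      · conv_lhs => rw [← ha x hx]
        exact MulAut.inv_apply_self _ a x
      · have := T.inv_mem (ha' (a⁻¹ x))
        rwa [MulAut.apply_inv_self, mul_inv_rev, inv_inv] at this }

theorem mem_chainAut {β : MulAut P} : β ∈ chainAut F T P ↔ β ∈ F.autGroup P ∧
    (∀ x : P, (x : Ω) ∈ T → β x = x) ∧ ∀ x : P, ((x : Ω))⁻¹ * β x ∈ T := Iff.rfl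

theorem chainAut_normal (hT : F.StronglyClosed T) (hP : P ≤ S) {a b : MulAut P}
    (ha : a ∈ F.autGroup P) (hb : b ∈ chainAut F T P) : a * b * a⁻¹ ∈ chainAut F T P := by
  obtain ⟨hbF, hb1, hb2⟩ := mem_chainAut.1 hb
  have hcl : ∀ c ∈ F.autGroup P, ∀ y : P, (y : Ω) ∈ T → ((c y : P) : Ω) ∈ T := fun c hc y hy => by
    have h := StronglyClosed.apply_mem hT (isMap_of_autGroup hP hc) y.2 hy
    rwa [toFun_aut_apply _ y.2] at h
  refine mem_chainAut.2 ⟨mul_mem (mul_mem ha hbF) (inv_mem ha), fun x hx => ?_, fun x => ?_⟩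
  · rw [MulAut.mul_apply, MulAut.mul_apply, hb1 _ (hcl _ (inv_mem ha) x hx),
      MulAut.apply_inv_self]
  · set y := a⁻¹ x with hy
    have e : x = a y := (MulAut.apply_inv_self _ a x).symm
    have h := hcl a ha (y⁻¹ * b y) (by rw [Subgroup.coe_mul, Subgroup.coe_inv]; exact hb2 y)
    rw [map_mul, map_inv, Subgroup.coe_mul, Subgroup.coe_inv] at h
    rw [MulAut.mul_apply, MulAut.mul_apply, ← hy, e]
    exact h

theorem isPGroup_chainAut [Finite S] (hS : IsPGroup p S) [Fact p.Prime] (hT : T ≤ S) :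
    IsPGroup p (chainAut F T P) := by
  intro β
  obtain ⟨-, h1, h2⟩ := mem_chainAut.1 β.2
  obtain ⟨m, hm⟩ := IsPGroup.iff_card.1 hS
  refine ⟨m, Subtype.ext (MulEquiv.ext fun x => ?_)⟩
  set z : P := x⁻¹ * (β : MulAut P) x with hz
  have hzT : (z : Ω) ∈ T := by rw [hz, Subgroup.coe_mul, Subgroup.coe_inv]; exact h2 x
  have hstep : ∀ i : ℕ, ((β : MulAut P) ^ i) x = x * z ^ i := fun i => by
    induction i with
    | zero => simp
    | succ i ih =>
      rw [pow_succ', MulAut.mul_apply, ih, map_mul, map_pow, h1 z hzT, pow_succ', ← mul_assoc]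
      congr 1
      rw [hz, mul_inv_cancel_left]
  have hz1 : z ^ p ^ m = 1 := by
    have h := pow_card_eq_one' (x := (⟨_, hT hzT⟩ : S))
    rw [hm] at h
    have h' : (z : Ω) ^ p ^ m = 1 := congrArg Subtype.val h
    exact Subtype.ext h'
  rw [Subgroup.coe_pow, hstep, hz1, mul_one]
  rfl

theorem chainAut_le_pCore [Finite S] (hS : IsPGroup p S) [Fact p.Prime] (hT : F.StronglyClosed T)
    (hP : P ≤ S) :
    chainAut F T P ≤ (pCore p (F.autGroup P)).map (F.autGroup P).subtype := by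
  intro β hβ
  have hle : chainAut F T P ≤ F.autGroup P := fun _ h => (mem_chainAut.1 h).1
  refine ⟨⟨β, hle hβ⟩, ?_, rfl⟩
  have hmem : (chainAut F T P).subgroupOf (F.autGroup P) ∈
      {N : Subgroup (F.autGroup P) | N.Normal ∧ IsPGroup p N} :=
    ⟨⟨fun b hb a => chainAut_normal hT hP a.2 hb⟩,
      (isPGroup_chainAut hS hT.1).of_equiv (Subgroup.subgroupOfEquivOfLe hle).symm⟩
  exact le_sSup hmem hβ

section Main

variable [Fact p.Prime] [Finite S] (hS : IsPGroup p S) (hw : E.IsWeaklyNormalIn F p)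

include hS hw

/-- An element outside a conjugate of `P` inducing on it an element of its chain stabilizer. -/
theorem exists_chain_element (hP : F.IsCentric P) (hPT : ¬ E.IsCentric (P ⊓ T)) :
    ∃ φ, IsMap F P φ ∧ ∃ x ∈ normalizerIn S (img P φ), x ∉ img P φ ∧
      ∃ α ∈ chainAut F T (img P φ), ∀ y : (img P φ : Subgroup Ω),
        ((α y : (img P φ : Subgroup Ω)) : Ω) = x * (y : Ω) * x⁻¹ := by
  obtain ⟨hEsat, hF, hinv⟩ := id hw
  have hsc := hinv.2.1
  have hTS := hsc.1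
  haveI := finite_of_le hTS
  have hTp := hS.to_le hTS
  have hPS := hP.1
  set U := P ⊓ T
  have hUP : U ≤ P := inf_le_left
  obtain ⟨U₁, hU₁, hU₁n⟩ := exists_fullyNormalized_conj F (hUP.trans hPS)
  obtain ⟨f, hf, hfi, hfN⟩ := exists_map_normalizerIn_of_fullyNormalized hS hF hU₁n hU₁
  have hPN : P ≤ normalizerIn S U := le_inf hPS (CfsgLib.Comp.le_normalizer_inf P.le_normalizer
    (hPS.trans (StronglyClosed.le_normalizer hsc)))
  set P₁ := img P f with hP₁
  have hfP : IsMap F P f := hf.mono hPN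
  obtain ⟨k, hk, hkx, hky, hki⟩ := hfP.exists_inv
  have hinter : ∀ y ∈ P₁, y ∈ T → y ∈ U₁ := fun y hy hyT => by
    obtain ⟨x, hx, rfl⟩ := hfP.mem_img.1 hy
    have hxT : x ∈ T := by
      have h := StronglyClosed.apply_mem hsc hk hy hyT
      rwa [hkx x hx] at h
    exact hfi ▸ (hfP.mono hUP).apply_mem_img ⟨hx, hxT⟩
  have hU₁P : U₁ ≤ P₁ := hfi ▸ img_mono hUP
  have hU₁T : U₁ ≤ T := fun y hy => by
    obtain ⟨x, hx, rfl⟩ := (hfP.mono hUP).mem_img.1 (hfi.symm ▸ hy)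
    exact StronglyClosed.apply_mem hsc hfP hx.1 hx.2
  set C := centralizerIn T U₁
  have hCU : ¬ C ≤ U₁ := fun h => hPT (by
    have hEn := fullyNormalized_subsystem hS hF hsc hinv.1 hU₁T hU₁n
    have hc : E.IsCentric U₁ :=
      centric_of_fullyCentralized hTp hEsat (fullyCentralized_of_fullyNormalized hTp hEsat hEn) h
    have e : img U₁ k = U := by
      rw [← hfi]
      ext y
      rw [(hk.mono (img_mono hUP)).mem_img]
      constructor
      · rintro ⟨z, hz, rfl⟩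
        obtain ⟨x, hx, rfl⟩ := (hfP.mono hUP).mem_img.1 hz
        rwa [hkx x (hUP hx)]
      · exact fun hy => ⟨f y, (hfP.mono hUP).apply_mem_img hy, hkx y (hUP hy)⟩
    exact e ▸ centric_img_of_map hS hw (hk.mono hU₁P) hc)
  have hCS : C ≤ S := (inf_le_left : C ≤ T).trans hTS
  have hPC : P₁ ≤ normalizer (C : Set Ω) := by
    refine CfsgLib.Comp.le_normalizer_inf
      (hfP.img_le.trans (StronglyClosed.le_normalizer hsc)) ?_
    refine le_trans (fun y hy => ?_) (CfsgLib.Comp.normalizer_le_normalizer_centralizer U₁)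
    obtain ⟨x, hx, rfl⟩ := hfP.mem_img.1 hy
    exact (hfN x (hPN hx)).2
  have hlt : P₁ < P₁ ⊔ C := lt_of_le_of_ne le_sup_left fun h =>
    hCU fun c hc => hinter c (h ▸ mem_sup_right hc) hc.1
  have hHS : P₁ ⊔ C ≤ S := sup_le hfP.img_le hCS
  haveI := finite_of_le hHS
  obtain ⟨y, hy, hyP⟩ := SetLike.exists_of_lt (lt_normalizerIn (hS.to_le hHS) hlt)
  obtain ⟨a, ha, c, hc, rfl⟩ : ∃ a ∈ P₁, ∃ c ∈ C, a * c = y := by
    have h : y ∈ ((P₁ ⊔ C : Subgroup Ω) : Set Ω) := hy.1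
    rwa [Subgroup.coe_mul_of_left_le_normalizer_right P₁ C hPC, Set.mem_mul] at h
  have hcP : c ∉ P₁ := fun h => hyP (P₁.mul_mem ha h)
  have hcN : c ∈ normalizer (P₁ : Set Ω) := by
    have h := (normalizer (P₁ : Set Ω)).mul_mem ((normalizer (P₁ : Set Ω)).inv_mem
      (P₁.le_normalizer ha)) hy.2
    rwa [inv_mul_cancel_left] at h
  refine ⟨f, hfP, c, ⟨hCS hc, hcN⟩, hcP, P₁.normalizerMonoidHom ⟨c, hcN⟩,
    mem_chainAut.2 ⟨autInducedBy_le_autGroup hfP.img_le
      (mem_autInducedBy_iff.2 ⟨c, hCS hc, fun y => rfl⟩), fun y hy => Subtype.ext ?_, fun y => ?_⟩,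
    fun y => rfl⟩
  · show c * (y : Ω) * c⁻¹ = y
    rw [← hc.2 _ (hinter y y.2 hy), mul_inv_cancel_right]
  · show (y : Ω)⁻¹ * (c * (y : Ω) * c⁻¹) ∈ T
    have h := StronglyClosed.conj_mem hsc (S.inv_mem (hfP.img_le y.2)) hc.1
    simpa [mul_assoc] using T.mul_mem h (T.inv_mem hc.1)

/-- `P` has a chain stabilizing automorphism that is not inner. -/
theorem exists_chain_not_inner (hP : F.IsCentric P) (hPT : ¬ E.IsCentric (P ⊓ T)) :
    ∃ β ∈ chainAut F T P, β ∉ Inn P := by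
  obtain ⟨φ, hφ, x, hx, hxP, α, hα, hαx⟩ := exists_chain_element hS hw hP hPT
  obtain ⟨hαF, hα1, hα2⟩ := mem_chainAut.1 hα
  have hsc := hw.2.2.2.1
  haveI := finite_of_le hP.1
  set β : MulAut P := (MulAut.congr hφ.equivImg).symm α
  have hβφ : ∀ z : P, φ (β z : P) = α (hφ.equivImg z) := fun z => by
    rw [← IsMap.coe_equivImg hφ]
    show ((hφ.equivImg (hφ.equivImg.symm (α (hφ.equivImg z))) : img P φ) : Ω) = _
    rw [MulEquiv.apply_symm_apply]
  obtain ⟨k, hk, hkx, hky, -⟩ := hφ.exists_inv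
  refine ⟨β, mem_chainAut.2 ⟨hφ.congr_symm_mem_autGroup hαF, fun z hz => ?_, fun z => ?_⟩, ?_⟩
  · refine Subtype.ext (hφ.inj (β z).2 z.2 ?_)
    rw [hβφ, hα1 _ (StronglyClosed.apply_mem hsc hφ z.2 hz), IsMap.coe_equivImg]
  · have h := hα2 (hφ.equivImg z)
    rw [IsMap.coe_equivImg, ← hβφ, ← hφ.map_inv z.2, ← hφ.map_mul (P.inv_mem z.2) (β z).2] at h
    have h' := StronglyClosed.apply_mem hsc hk (hφ.apply_mem_img (P.mul_mem (P.inv_mem z.2)
      (β z).2)) h
    rwa [hkx _ (P.mul_mem (P.inv_mem z.2) (β z).2)] at h'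
  · rintro ⟨q, hq⟩
    have hφq := hφ.apply_mem_img q.2
    have hcen : (φ q)⁻¹ * x ∈ centralizerIn S (img P φ) := by
      refine ⟨S.mul_mem (S.inv_mem (hφ.mem q.2)) hx.1, fun w hw => ?_⟩
      obtain ⟨z, hz, rfl⟩ := hφ.mem_img.1 hw
      have h1 := hαx ⟨φ z, hw⟩
      have h2 : ((α ⟨φ z, hw⟩ : img P φ) : Ω) = φ q * φ z * (φ q)⁻¹ := by
        rw [← hφ.map_conj q.2 hz, show (⟨φ z, hw⟩ : img P φ) = hφ.equivImg ⟨z, hz⟩ from rfl,
          ← hβφ, ← hq]
        rfl
      have e : x * φ z * x⁻¹ = φ q * φ z * (φ q)⁻¹ := h1.symm.trans h2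
      calc φ z * ((φ q)⁻¹ * x) = (φ q)⁻¹ * (φ q * φ z * (φ q)⁻¹) * x := by group
        _ = (φ q)⁻¹ * (x * φ z * x⁻¹) * x := by rw [e]
        _ = (φ q)⁻¹ * x * φ z := by group
    refine hxP ?_
    have := (img P φ).mul_mem hφq (hP.2 _ hφ.isConj hcen)
    rwa [mul_inv_cancel_left] at this

/-- A centric subgroup meeting `T` in a non-centric subgroup is not radical. -/
theorem not_radical (hP : F.IsCentric P) (hPT : ¬ E.IsCentric (P ⊓ T)) : ¬ F.IsRadical p P := by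
  intro hr
  obtain ⟨β, hβ, hβi⟩ := exists_chain_not_inner hS hw hP hPT
  exact hβi (hr.2 ▸ chainAut_le_pCore hS hw.2.2.2.1 hP.1 hβ)

end Main

end CfsgLib.Comp.Fus
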