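import Cfsg.Agent.Lib.Fusion.ResidualSystem
import Mathlib.GroupTheory.Nilpotent
import Mathlib.Data.Set.Finite.Lattice

/-!
Generation of the fusion in a Sylow subgroup by normalizers, as an induction principle.
-/

set_option autoImplicit false
set_option linter.unusedSectionVars false
set_option linter.style.haveILetI false

namespace CfsgLib.Comp.GroupAlperin

open Subgroup

variable {G : Type*} [Group G]

theorem map_conj_mul (u v : G) (X : Subgroup G) :
    (X.map (MulAut.conj v).toMonoidHom).map (MulAut.conj u).toMonoidHom =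
      X.map (MulAut.conj (u * v)).toMonoidHom := by
  rw [Subgroup.map_map, map_mul]
  rfl

theorem map_conj_inv (v : G) (X : Subgroup G) :
    (X.map (MulAut.conj v).toMonoidHom).map (MulAut.conj v⁻¹).toMonoidHom = X := by
  rw [map_conj_mul, inv_mul_cancel, map_one]
  exact Subgroup.map_id X

theorem map_conj_eq_of_mem_normalizer {X : Subgroup G} {v : G} (h : v ∈ normalizer (X : Set G)) :
    X.map (MulAut.conj v).toMonoidHom = X := by
  ext x
  constructor
  · rintro ⟨y, hy, rfl⟩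
    exact (h y).1 hy
  · intro hx
    refine ⟨v⁻¹ * x * v, (Subgroup.mem_normalizer_iff''.1 h x).1 hx, ?_⟩
    show v * (v⁻¹ * x * v) * v⁻¹ = x
    group

theorem mem_normalizer_of_map_conj_eq {X : Subgroup G} {v : G}
    (h : X.map (MulAut.conj v).toMonoidHom = X) : v ∈ normalizer (X : Set G) := by
  intro x
  constructor
  · intro hx
    exact h.le ⟨x, hx, rfl⟩
  · intro hx
    obtain ⟨y, hy, hyx⟩ := h.ge hx
    have : y = x := mul_left_cancel (mul_right_cancel (show v * y * v⁻¹ = v * x * v⁻¹ from hyx))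
    exact this ▸ hy

/-- A property of pairs `(v, X)` with `v X v⁻¹ ≤ W` that is closed under restriction, composition
and inverses holds for all such pairs once it holds for normalizing elements. -/
theorem induction_fusion [Finite G] {p : ℕ} [Fact p.Prime] (W : Sylow p G) (Q₀ : Subgroup G)
    (P : G → Subgroup G → Prop)
    (hmono : ∀ v X Y, Q₀ ≤ X → X ≤ Y → Y ≤ (W : Subgroup G) →
      Y.map (MulAut.conj v).toMonoidHom ≤ W → P v Y → P v X)
    (hcomp : ∀ u v X, Q₀ ≤ X → X ≤ (W : Subgroup G) →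
      X.map (MulAut.conj v).toMonoidHom ≤ W → P v X →
      P u (X.map (MulAut.conj v).toMonoidHom) → P (u * v) X)
    (hinv : ∀ v X, Q₀ ≤ X → X ≤ (W : Subgroup G) → X.map (MulAut.conj v).toMonoidHom ≤ W →
      P v X → P v⁻¹ (X.map (MulAut.conj v).toMonoidHom))
    (hW : ∀ v X, Q₀ ≤ X → X ≤ (W : Subgroup G) → v ∈ (W : Subgroup G) →
      v ∈ normalizer (X : Set G) → P v X)
    (hcop : ∀ v X, Q₀ ≤ X → X ≤ (W : Subgroup G) → (orderOf v).Coprime p →
      v ∈ normalizer (X : Set G) → P v X)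
    (hQ₀ : Q₀.Normal) :
    ∀ v X, Q₀ ≤ X → X ≤ (W : Subgroup G) → X.map (MulAut.conj v).toMonoidHom ≤ W → P v X := by
  suffices key : ∀ n, ∀ X, Q₀ ≤ X → X ≤ (W : Subgroup G) → Nat.card (W : Subgroup G) - Nat.card X = n →
      ∀ v, X.map (MulAut.conj v).toMonoidHom ≤ W → P v X from
    fun v X h1 h2 h3 => key _ X h1 h2 rfl v h3
  have hnorm : ∀ Z, Q₀ ≤ Z → Z ≤ (W : Subgroup G) →
      (∃ R : Sylow p (normalizer (Z : Set G) : Subgroup G),
        ∀ r ∈ (R : Subgroup (normalizer (Z : Set G) : Subgroup G)), (r : G) ∈ (W : Subgroup G)) →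
      ∀ v ∈ normalizer (Z : Set G), P v Z := by
    intro Z hQZ hZW hR v hv
    obtain ⟨R, hR⟩ := hR
    let L : Subgroup (normalizer (Z : Set G) : Subgroup G) :=
      { carrier := {u | P (u : G) Z}
        one_mem' := hW 1 Z hQZ hZW (one_mem _) (one_mem _)
        mul_mem' := fun {a b} ha hb => by
          have hb' : Z.map (MulAut.conj (b : G)).toMonoidHom = Z :=
            map_conj_eq_of_mem_normalizer b.2
          exact hcomp (a : G) (b : G) Z hQZ hZW (hb'.le.trans hZW) hb (hb'.symm ▸ ha)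
        inv_mem' := fun {a} ha => by
          have ha' : Z.map (MulAut.conj (a : G)).toMonoidHom = Z :=
            map_conj_eq_of_mem_normalizer a.2
          have := hinv (a : G) Z hQZ hZW (ha'.le.trans hZW) ha
          rw [ha'] at this
          exact this }
    have hL : L = ⊤ := CfsgLib.Fusion.eq_top_of_sylow_le R
      (fun r hr => hW (r : G) Z hQZ hZW (hR r hr) r.2)
      (fun x hx => hcop (x : G) Z hQZ hZW (by rwa [Subgroup.orderOf_coe]) x.2)
    exact (hL ▸ Subgroup.mem_top (⟨v, hv⟩ : (normalizer (Z : Set G) : Subgroup G)) : _ ∈ L)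
  intro n
  induction n using Nat.strong_induction_on with
  | _ n ih =>
  intro X hQX hXW hn v hv
  have hcard : ∀ (u : G) (Y : Subgroup G), Nat.card (Y.map (MulAut.conj u).toMonoidHom) = Nat.card Y :=
    fun u Y => Subgroup.card_map_of_injective (MulAut.conj u).injective
  by_cases hXeq : X = W
  · subst hXeq
    refine hnorm _ hQX le_rfl ⟨W.subtype Subgroup.le_normalizer, fun r hr => hr⟩ v
      (mem_normalizer_of_map_conj_eq ?_)
    exact Subgroup.eq_of_le_of_card_ge hv (hcard v _).ge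
  have hlt : Nat.card X < Nat.card (W : Subgroup G) := lt_of_not_ge fun h =>
    hXeq (Subgroup.eq_of_le_of_card_ge hXW h)
  -- a conjugate with a large normalizer in `W`
  let NW : Subgroup G → ℕ := fun Y =>
    Nat.card ((W : Subgroup G) ⊓ normalizer (Y : Set G) : Subgroup G)
  obtain ⟨t, ht, hmax⟩ := Set.exists_max_image {u : G | X.map (MulAut.conj u).toMonoidHom ≤ W}
    (fun u => NW (X.map (MulAut.conj u).toMonoidHom)) (Set.toFinite _)
    ⟨1, show X.map (MulAut.conj (1 : G)).toMonoidHom ≤ W by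
      rw [map_one]; exact (Subgroup.map_id X).le.trans hXW⟩
  set Z := X.map (MulAut.conj t).toMonoidHom with hZ
  have hQ : ∀ u : G, Q₀ ≤ X.map (MulAut.conj u).toMonoidHom := fun u q hq =>
    ⟨u⁻¹ * q * u, hQX (by simpa using hQ₀.conj_mem q hq u⁻¹), by
      show u * (u⁻¹ * q * u) * u⁻¹ = q; group⟩
  -- every conjugate in `W` moves onto `Z` with the stated property
  have hmove : ∀ u : G, X.map (MulAut.conj u).toMonoidHom ≤ W →
      (∃ w, w * u ∈ {g : G | X.map (MulAut.conj g).toMonoidHom = Z} ∧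
        P w (X.map (MulAut.conj u).toMonoidHom)) ∧
      ∃ R : Sylow p (normalizer (Z : Set G) : Subgroup G),
        ∀ r ∈ (R : Subgroup (normalizer (Z : Set G) : Subgroup G)), (r : G) ∈ (W : Subgroup G) := by
    intro u hu
    set Y := X.map (MulAut.conj u).toMonoidHom with hY
    set NY := (W : Subgroup G) ⊓ normalizer (Y : Set G) with hNY
    set NZ : Subgroup G := normalizer (Z : Set G) with hNZ
    have hc0 : Y.map (MulAut.conj (t * u⁻¹)).toMonoidHom = Z := by
      rw [hY, map_conj_mul, mul_assoc, inv_mul_cancel, mul_one]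
    have hle : NY.map (MulAut.conj (t * u⁻¹)).toMonoidHom ≤ NZ := by
      rintro _ ⟨a, ha, rfl⟩
      refine mem_normalizer_of_map_conj_eq ?_
      show Z.map (MulAut.conj ((t * u⁻¹) * a * (t * u⁻¹)⁻¹)).toMonoidHom = Z
      conv_lhs => rw [← hc0]
      rw [map_conj_mul, show t * u⁻¹ * a * (t * u⁻¹)⁻¹ * (t * u⁻¹) = (t * u⁻¹) * a by group,
        ← map_conj_mul, map_conj_eq_of_mem_normalizer ha.2, hc0]
    have hZle : ((W : Subgroup G) ⊓ NZ) ≤ NZ := inf_le_right
    -- `W ∩ N(Z)` is Sylow in `N(Z)`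
    have hp1 : IsPGroup p (NY.map (MulAut.conj (t * u⁻¹)).toMonoidHom) :=
      (W.isPGroup'.to_le inf_le_left).map _
    have hp2 : IsPGroup p (((W : Subgroup G) ⊓ NZ).subgroupOf NZ) :=
      (W.isPGroup'.to_le inf_le_left).of_equiv (Subgroup.subgroupOfEquivOfLe hZle).symm
    obtain ⟨R, hR⟩ := hp2.exists_le_sylow
    have hRp : IsPGroup p ((R : Subgroup NZ).map NZ.subtype) := R.isPGroup'.map _
    obtain ⟨R', hR'⟩ := hRp.exists_le_sylow
    obtain ⟨g, hg⟩ := MulAction.exists_smul_eq G R' W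
    have hgR : ((R : Subgroup NZ).map NZ.subtype).map (MulAut.conj g).toMonoidHom ≤ W := by
      rw [← hg]
      exact Subgroup.map_mono hR'
    have hRZ : ∀ z ∈ Z, z ∈ (R : Subgroup NZ).map NZ.subtype := fun z hz => by
      have h1 : (⟨z, Subgroup.le_normalizer hz⟩ : NZ) ∈ ((W : Subgroup G) ⊓ NZ).subgroupOf NZ :=
        ⟨ht hz, Subgroup.le_normalizer hz⟩
      exact ⟨_, hR h1, rfl⟩
    have hgZ : X.map (MulAut.conj (g * t)).toMonoidHom ≤ W := by
      rw [← map_conj_mul]
      exact (Subgroup.map_mono fun z hz => hRZ z hz).trans hgR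
    have hReq : (R : Subgroup NZ) = ((W : Subgroup G) ⊓ NZ).subgroupOf NZ := by
      refine (Subgroup.eq_of_le_of_card_ge hR ?_).symm
      rw [Nat.card_congr (Subgroup.subgroupOfEquivOfLe hZle).toEquiv]
      refine le_trans ?_ (hmax (g * t) hgZ)
      refine le_of_eq_of_le (Subgroup.card_map_of_injective
        (f := (MulAut.conj g).toMonoidHom.comp NZ.subtype)
        ((MulAut.conj g).injective.comp Subtype.val_injective)).symm ?_
      refine Subgroup.card_le_of_le fun y hy => ?_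
      obtain ⟨r, hr, rfl⟩ := hy
      refine ⟨hgR ⟨_, ⟨r, hr, rfl⟩, rfl⟩, mem_normalizer_of_map_conj_eq ?_⟩
      show (X.map (MulAut.conj (g * t)).toMonoidHom).map
        (MulAut.conj (g * (r : G) * g⁻¹)).toMonoidHom = _
      rw [map_conj_mul, show g * (r : G) * g⁻¹ * (g * t) = g * ((r : G) * t) by group,
        ← map_conj_mul g, ← map_conj_mul (r : G), map_conj_eq_of_mem_normalizer r.2,
        map_conj_mul]
    obtain ⟨R₁, hR₁⟩ := (hp1.of_equiv (Subgroup.subgroupOfEquivOfLe hle).symm).exists_le_sylow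
    obtain ⟨a, ha⟩ := MulAction.exists_smul_eq NZ R₁ R
    set w := (a : G) * (t * u⁻¹) with hw
    have hwY : Y.map (MulAut.conj w).toMonoidHom = Z := by
      rw [hw, ← map_conj_mul, hc0, map_conj_eq_of_mem_normalizer a.2]
    refine ⟨⟨w, ?_, ?_⟩, ⟨R, fun r hr => by rw [hReq] at hr; exact (Subgroup.mem_subgroupOf.1 hr).1⟩⟩
    · show X.map (MulAut.conj (w * u)).toMonoidHom = Z
      rw [← map_conj_mul]
      exact hwY
    have hNYW : NY.map (MulAut.conj w).toMonoidHom ≤ W := by
      rintro _ ⟨y, hy, rfl⟩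
      have h1 : (⟨_, hle ⟨y, hy, rfl⟩⟩ : NZ) ∈ (R₁ : Subgroup NZ) := hR₁ ⟨y, hy, rfl⟩
      have h2 : a * ⟨_, hle ⟨y, hy, rfl⟩⟩ * a⁻¹ ∈ (R : Subgroup NZ) := by
        rw [← ha]
        exact ⟨_, h1, rfl⟩
      rw [hReq] at h2
      have h3 := (Subgroup.mem_subgroupOf.1 h2).1
      show w * y * w⁻¹ ∈ (W : Subgroup G)
      rw [hw, show (a : G) * (t * u⁻¹) * y * ((a : G) * (t * u⁻¹))⁻¹ =
        (a : G) * ((t * u⁻¹) * y * (t * u⁻¹)⁻¹) * (a : G)⁻¹ by group]
      exact h3
    have hYN : Y ≤ NY := le_inf hu Subgroup.le_normalizer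
    have hYlt : Nat.card X < Nat.card NY := by
      rw [← hcard u X]
      refine lt_of_not_ge fun h => ?_
      have he : Y = NY := Subgroup.eq_of_le_of_card_ge hYN h
      have hnil : Group.IsNilpotent (W : Subgroup G) := W.isPGroup'.isNilpotent
      have hlt' : Y.subgroupOf (W : Subgroup G) < ⊤ := lt_top_iff_ne_top.2 fun htop => by
        have h4 := Subgroup.card_le_of_le (Subgroup.subgroupOf_eq_top.1 htop)
        rw [hcard] at h4
        omega
      have hnc := normalizerCondition_of_isNilpotent (Y.subgroupOf (W : Subgroup G)) hlt'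
      obtain ⟨y, hy, hyn⟩ := SetLike.exists_of_lt hnc
      refine hyn ?_
      show (y : G) ∈ Y
      rw [he]
      refine ⟨y.2, fun x => ⟨fun hx => ?_, fun hx => ?_⟩⟩
      · exact (hy ⟨x, hu hx⟩).1 hx
      · have hxW : x ∈ (W : Subgroup G) := by
          have h5 := (W : Subgroup G).mul_mem ((W : Subgroup G).mul_mem
            ((W : Subgroup G).inv_mem y.2) (hu hx)) y.2
          simpa [mul_assoc] using h5
        exact (hy ⟨x, hxW⟩).2 hx
    exact hmono w Y NY (hQ u) hYN inf_le_left hNYW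
      (ih _ (by have := Subgroup.card_le_of_le (inf_le_left : NY ≤ (W : Subgroup G)); omega)
        NY ((hQ u).trans hYN) inf_le_left rfl w hNYW)
  have h1id : X.map (MulAut.conj (1 : G)).toMonoidHom = X := by
    rw [map_one]; exact Subgroup.map_id X
  obtain ⟨⟨w₁, hw₁, hP₁⟩, hRZ⟩ := hmove 1 (h1id.le.trans hXW)
  obtain ⟨⟨w₂, hw₂, hP₂⟩, -⟩ := hmove v hv
  rw [Set.mem_setOf_eq, mul_one] at hw₁
  rw [h1id] at hP₁
  rw [Set.mem_setOf_eq] at hw₂
  have hZW : Z ≤ W := ht
  have hkn : Z.map (MulAut.conj (w₂ * v * w₁⁻¹)).toMonoidHom = Z := by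
    conv_lhs => rw [← hw₁]
    rw [map_conj_mul, mul_assoc, inv_mul_cancel, mul_one, hw₂]
  have hn' : P (w₂ * v * w₁⁻¹) Z :=
    hnorm Z (hQ t) hZW hRZ _ (mem_normalizer_of_map_conj_eq hkn)
  have h3 : P (w₂ * v * w₁⁻¹ * w₁) X :=
    hcomp _ _ X hQX hXW (hw₁.le.trans hZW) hP₁ (hw₁.symm ▸ hn')
  rw [inv_mul_cancel_right] at h3
  have hw₂' : (X.map (MulAut.conj v).toMonoidHom).map (MulAut.conj w₂).toMonoidHom = Z := by
    rw [map_conj_mul, hw₂]
  have h4 := hinv w₂ _ (hQ v) hv (hw₂'.le.trans hZW) hP₂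
  rw [hw₂', ← hw₂] at h4
  have h5 := hcomp w₂⁻¹ (w₂ * v) X hQX hXW (hw₂.le.trans hZW) h3 h4
  rwa [inv_mul_cancel_left] at h5

end CfsgLib.Comp.GroupAlperin
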