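import Cfsg.Agent.Lib.Comp.PrimeResidualNormal
import Cfsg.Agent.Lib.Comp.GroupFusionAlperin

/-!
Two weakly normal subsystems over the same subgroup share their `p'`-residual.
-/

set_option autoImplicit false
set_option linter.unusedVariables false
set_option linter.unusedSectionVars false
set_option linter.style.haveILetI false

namespace CfsgLib.Comp.Fus

open Cfsg Cfsg.FusionSystem Subgroup CfsgLib.Fusion

variable {Ω : Type*} [Group Ω] {S T : Subgroup Ω} {F : FusionSystem S} {E E' X : FusionSystem T}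
  {p : ℕ}

section Single

variable [Fact p.Prime] [Finite S]

/-- Maps of an invariant subsystem transported by any map of the system. -/
theorem conj_map_of_map (hinv : X.IsInvariantIn F) {P : Subgroup Ω} {f k φ : Ω → Ω}
    (hf : IsMap F P f) (hPT : P ≤ T) (hkx : ∀ x ∈ P, k (f x) = x)
    (hφ : IsMap X P φ) (hφP : ∀ x ∈ P, φ x ∈ P) :
    IsMap X (img P f) fun y => f (φ (k y)) := by
  obtain ⟨-, hsc, hconj, hfrat⟩ := isInvariantIn_iff.1 hinv
  obtain ⟨a, ha, e, he, hfx⟩ := hfrat P f hPT hf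
  obtain ⟨j, hj, hjx, hjy, -⟩ := he.exists_inv
  obtain ⟨g, hg, hgx⟩ := hconj a ha _ _
    ((hj.comp hφ fun w hw => (hjy w hw).1).comp he fun w hw => hφP _ (hjy w hw).1)
  have hle : img P f ≤ img (img P e) a := fun y hy => by
    obtain ⟨x, hx, rfl⟩ := hf.mem_img.1 hy
    rw [hfx x hx]
    exact (ha.mono he.img_le).apply_mem_img (he.apply_mem_img hx)
  refine (hg.mono hle).congr fun y hy => ?_
  obtain ⟨x, hx, rfl⟩ := hf.mem_img.1 hy
  show g (f x) = f (φ (k (f x)))
  rw [hkx x hx, hfx x hx, hgx _ (he.apply_mem_img hx), hjx x hx, hfx _ (hφP x hx)]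

/-- Conjugation of automorphisms by a map of the system preserves an invariant subsystem. -/
theorem congr_mem_of_invariant (hinv : X.IsInvariantIn F) {P : Subgroup Ω} {f : Ω → Ω}
    (hf : IsMap F P f) (hPT : P ≤ T) {α : MulAut P} (hα : α ∈ X.autGroup P) :
    MulAut.congr hf.equivImg α ∈ X.autGroup (img P f) := by
  obtain ⟨k, hk, hkx, -, -⟩ := hf.exists_inv
  have h := conj_map_of_map hinv hf hPT hkx (isMap_of_autGroup hPT hα) fun x hx => by
    rw [toFun_aut_apply _ hx]; exact Subtype.mem _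
  refine (autGroup_iff_isMap h.le fun y => ?_).2 h
  obtain ⟨x, rfl⟩ := hf.equivImg.surjective y
  show ((MulAut.congr hf.equivImg α) (hf.equivImg x) : Ω) =
    f (toFun _ (k (hf.equivImg x : Ω)))
  rw [IsMap.coe_equivImg, hkx x x.2, toFun_aut_apply _ x.2]
  show ((hf.equivImg (α (hf.equivImg.symm (hf.equivImg x))) : img P f) : Ω) = _
  rw [MulEquiv.symm_apply_apply, IsMap.coe_equivImg]

/-- A map fixing a centric subgroup pointwise lies in the subsystem once a power prime to `p`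
does. -/
theorem mem_of_pow_mem (hsc : F.StronglyClosed T) (hT : IsPGroup p T) {Q M : Subgroup Ω}
    (hQc : centralizerIn T Q ≤ Q) (hQM : Q ≤ M) (hMT : M ≤ T)
    (hMn : M ≤ normalizer (Q : Set Ω)) {g : Ω → Ω} (hg : IsMap F M g)
    (hgQ : ∀ q ∈ Q, g q = q) {n : ℕ} (hn : n.Coprime p) (hX : IsMap X M (g^[n])) :
    IsMap X M g := by
  haveI := finite_of_le hsc.1
  have hz : ∀ u ∈ M, u⁻¹ * g u ∈ Q := fun u hu => by
    refine hQc ⟨T.mul_mem (T.inv_mem (hMT hu)) (StronglyClosed.apply_mem hsc hg hu (hMT hu)),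
      fun q hq => ?_⟩
    have hq' : u * q * u⁻¹ ∈ Q := (hMn hu q).1 hq
    have e := hg.map_conj hu (hQM hq)
    rw [hgQ _ hq', hgQ q hq] at e
    calc q * (u⁻¹ * g u) = u⁻¹ * (u * q * u⁻¹) * g u := by group
      _ = u⁻¹ * (g u * q * (g u)⁻¹) * g u := by rw [← e]
      _ = u⁻¹ * g u * q := by group
  have hgM : ∀ u ∈ M, g u ∈ M := fun u hu => by simpa using M.mul_mem hu (hQM (hz u hu))
  have hstep : ∀ (i : ℕ), ∀ u ∈ M, g^[i] u = u * (u⁻¹ * g u) ^ i := by
    intro i u hu
    induction i with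
    | zero => simp
    | succ i ih =>
      have hp := Q.pow_mem (hz u hu) i
      rw [Function.iterate_succ_apply', ih, hg.map_mul hu (hQM hp), hgQ _ hp, pow_succ',
        ← mul_assoc]
      congr 1
      group
  obtain ⟨m, hm⟩ := IsPGroup.iff_card.1 hT
  have hper : ∀ u ∈ M, g^[p ^ m] u = u := fun u hu => by
    have h1 := pow_card_eq_one' (x := (⟨_, hMT (hQM (hz u hu))⟩ : T))
    rw [hm] at h1
    rw [hstep _ u hu, show (u⁻¹ * g u) ^ p ^ m = 1 from congrArg Subtype.val h1, mul_one]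
  obtain ⟨c, hc0, hc1⟩ := Nat.chineseRemainder (hn.pow_right m) 0 1
  obtain ⟨q, rfl⟩ := Nat.modEq_zero_iff_dvd.1 hc0
  have hM' : ∀ u ∈ M, g^[n] u ∈ M := fun u hu => iterate_mem hgM n hu
  refine (isMap_iterate hX hM' q).congr fun u hu => ?_
  rw [← Function.iterate_mul]
  rcases Nat.lt_or_ge (p ^ m) 2 with h2 | h2
  · have h1 : p ^ m = 1 := by
      have := pow_pos (Fact.out : p.Prime).pos m
      omega
    have hgu : g u = u := by simpa [h1] using hper u hu
    rw [Function.iterate_fixed hgu, hgu]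
  · have hper' : ∀ r : ℕ, g^[p ^ m * r] (g u) = g u := by
      intro r
      induction r with
      | zero => simp
      | succ r ih => rw [Nat.mul_succ, Function.iterate_add_apply, hper _ (hgM u hu), ih]
    have hmod : (n * q) % p ^ m = 1 := by rw [hc1, Nat.mod_eq_of_lt h2]
    have e : n * q = p ^ m * (n * q / p ^ m) + 1 := by rw [← hmod, Nat.div_add_mod]
    rw [e, Function.iterate_succ_apply, hper']

/-- The automorphisms in an invariant subsystem are normalized by those of the system. -/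
theorem autGroup_conj_mem (hinv : X.IsInvariantIn F) {P : Subgroup Ω} (hP : P ≤ T)
    {a b : MulAut P} (ha : a ∈ F.autGroup P) (hb : b ∈ X.autGroup P) :
    a * b * a⁻¹ ∈ X.autGroup P := by
  have hm := isMap_autFun (hP.trans hinv.2.1.1) ha
  have h := conj_map_of_map hinv hm hP (k := autFun a⁻¹)
    (fun x hx => autFun_inv_apply a hx) (isMap_autFun hP hb) fun x hx => autFun_mem b hx
  rw [img_autFun] at h
  refine (autGroup_iff_isMap hP fun x => ?_).2 h
  rw [← autFun_mul_apply _ _ (autFun_mem _ x.2), ← autFun_mul_apply _ _ x.2, autFun_apply _ x.2]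

end Single

/-- The automorphisms shared by two systems. -/
def bothAut (E E' : FusionSystem T) (Q : Subgroup Ω) : Subgroup (MulAut Q) :=
  E.autGroup Q ⊓ E'.autGroup Q

/-- `R` can be moved onto `Q` together with its normalizer by a map of both systems. -/
def Movable (E E' : FusionSystem T) (Q R : Subgroup Ω) : Prop :=
  ∃ ψ, IsMap E (normalizerIn T R) ψ ∧ IsMap E' (normalizerIn T R) ψ ∧ img R ψ = Q

section Pair

variable [Fact p.Prime] [Finite S] (hS : IsPGroup p S) (hw : E.IsWeaklyNormalIn F p)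
  (hw' : E'.IsWeaklyNormalIn F p)

include hS hw hw'

theorem centric_transfer {P : Subgroup Ω} (hP : E.IsCentric P) : E'.IsCentric P := by
  refine ⟨hP.1, fun R hR => ?_⟩
  obtain ⟨g, hg, rfl⟩ := isConj_iff.1 hR
  exact (centric_img_of_map hS hw (isSubsystemOf_iff.1 hw'.2.2.1 _ _ hg) hP).2 _
    (isConj_refl (centric_img_of_map hS hw (isSubsystemOf_iff.1 hw'.2.2.1 _ _ hg) hP).1)

theorem pElement_mem {P : Subgroup Ω} (hP : P ≤ T) {β : MulAut P} (hβ : β ∈ E'.autGroup P) {i : ℕ}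
    (hi : orderOf β = p ^ i) : β ∈ E.autGroup P := by
  obtain ⟨hEsat, hF, hinv⟩ := id hw
  obtain ⟨hE'sat, -, hinv'⟩ := id hw'
  have hsc := hinv.2.1
  have hT := hsc.1
  haveI := finite_of_le hT
  have hTp := hS.to_le hT
  have hPS := hP.trans hT
  obtain ⟨Q, hconj, hQn⟩ := exists_fullyNormalized_conj F hPS
  obtain ⟨ψ, hψ, hψi⟩ := isConj_iff.1 hconj
  subst hψi
  have hQT : img P ψ ≤ T := fun y hy => by
    obtain ⟨x, hx, rfl⟩ := hψ.mem_img.1 hy
    exact StronglyClosed.apply_mem hsc hψ hx (hP hx)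
  haveI := finite_of_le (hQT.trans hT)
  set β' := MulAut.congr hψ.equivImg β with hβ'
  have hβ'E' : β' ∈ E'.autGroup (img P ψ) := congr_mem_of_invariant hinv' hψ hP hβ
  have hK : IsPGroup p (Subgroup.zpowers β') := IsPGroup.of_card (n := i)
    (by rw [Nat.card_zpowers, hβ', MulEquiv.orderOf_eq, hi])
  obtain ⟨γ, hγ, hγ'⟩ := exists_conj_le_autInducedBy
    (fullyAutomized_of_fullyNormalized hTp hE'sat
      (fullyNormalized_subsystem hS hF hsc hinv'.1 hQT hQn)) _ hK (Subgroup.zpowers_le.2 hβ'E')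
  have h1 : γ * β' * γ⁻¹ ∈ E.autGroup (img P ψ) :=
    autInducedBy_le_autGroup hQT (hγ' _ (Subgroup.mem_zpowers _))
  have hγF : γ⁻¹ ∈ F.autGroup (img P ψ) := inv_mem ((autGroup_mem_iff (hQT.trans hT)).2
    (hinv'.1 _ ((autGroup_mem_iff hQT).1 hγ)))
  have hβ'E : β' ∈ E.autGroup (img P ψ) := by
    have hm := isMap_of_autGroup (hQT.trans hT) hγF
    have hh := conj_map_of_map (X := E) hinv hm hQT
      (k := toFun ((img P ψ).subtype.comp γ.toMonoidHom)) (fun x hx => by
        rw [toFun_aut_apply _ hx, toFun_aut_apply _ (Subtype.mem _)]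
        simp)
      (isMap_of_autGroup hQT h1) fun x hx => by rw [toFun_aut_apply _ hx]; exact Subtype.mem _
    rw [img_toFun_aut] at hh
    refine (autGroup_iff_isMap hQT fun y => ?_).2 hh
    rw [toFun_aut_apply _ y.2, toFun_aut_apply _ (Subtype.mem _), toFun_aut_apply _ (Subtype.mem _)]
    simp [MulAut.mul_apply]
  obtain ⟨k, hk, hkx, hky, hki⟩ := hψ.exists_inv
  have hh := conj_map_of_map (X := E) hinv hk hQT (fun y hy => (hky y hy).2)
    (isMap_of_autGroup hQT hβ'E) fun y hy => by rw [toFun_aut_apply _ hy]; exact Subtype.mem _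
  rw [hki] at hh
  refine (autGroup_iff_isMap hP fun x => ?_).2 hh
  rw [toFun_aut_apply _ (hψ.apply_mem_img x.2)]
  have e : (⟨ψ x, hψ.apply_mem_img x.2⟩ : img P ψ) = hψ.equivImg x := Subtype.ext rfl
  rw [e, hβ']
  show _ = k ((hψ.equivImg (β (hψ.equivImg.symm (hψ.equivImg x))) : img P ψ) : Ω)
  rw [MulEquiv.symm_apply_apply, IsMap.coe_equivImg, hkx _ (Subtype.mem _)]

theorem genSys_le_other : genSys E p ≤ genSys E' p := by
  refine genSys_le_of fun P hP => ?_
  refine Subgroup.map_le_iff_le_comap.2 ((Subgroup.closure_le _).2 ?_)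
  rintro β ⟨i, hi⟩
  have hβ' : (β : MulAut P) ∈ E'.autGroup P :=
    pElement_mem hS hw' hw hP.1 β.2 (by rw [Subgroup.orderOf_coe, hi])
  exact containsPAut_genSys (F := E') (p := p) P (centric_transfer hS hw hw' hP)
    ⟨⟨β, hβ'⟩, Subgroup.subset_closure ⟨i, by rw [Subgroup.orderOf_mk, Subgroup.orderOf_coe, hi]⟩,
      rfl⟩

theorem genSys_le_both {P : Subgroup Ω} {f : Ω → Ω} (hf : IsMap (genSys E p) P f) :
    IsMap E P f ∧ IsMap E' P f :=
  ⟨le_iff_isMap.1 genSys_le P f hf,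
    le_iff_isMap.1 genSys_le P f (le_iff_isMap.1 (genSys_le_other hS hw hw') P f hf)⟩

/-- In `Aut_E(T) Aut_{E'}(T)` a power prime to `p` lies in `Aut_E(T)`. -/
theorem exists_pow_mem {y : MulAut T} (hy : y ∈ E.autGroup T ⊔ E'.autGroup T) :
    ∃ n : ℕ, n.Coprime p ∧ y ^ n ∈ E.autGroup T := by
  obtain ⟨hEsat, hF, hinv⟩ := id hw
  obtain ⟨hE'sat, -, hinv'⟩ := id hw'
  have hsc := hinv.2.1
  have hT := hsc.1
  haveI := finite_of_le hT
  have hTp := hS.to_le hT
  have hleF : ∀ {D : FusionSystem T}, D.IsSubsystemOf F → D.autGroup T ≤ F.autGroup T :=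
    fun hD α hα => (autGroup_mem_iff hT).2 (hD T ((autGroup_mem_iff le_rfl).1 hα))
  set N := (E.autGroup T).subgroupOf (F.autGroup T) with hN
  haveI : N.Normal := ⟨fun b hb a => autGroup_conj_mem hinv le_rfl a.2 hb⟩
  have hyF : y ∈ F.autGroup T := sup_le (hleF hinv.1) (hleF hinv'.1) hy
  have hys : (⟨y, hyF⟩ : F.autGroup T) ∈ N ⊔ (E'.autGroup T).subgroupOf (F.autGroup T) := by
    rw [hN, ← Subgroup.subgroupOf_sup (hleF hinv.1) (hleF hinv'.1)]
    exact hy
  obtain ⟨e, he, d, hd, hed⟩ := Subgroup.mem_sup_of_normal_left.1 hys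
  set m := orderOf (d : MulAut T) with hm
  have hm0 : m ≠ 0 := (orderOf_pos _).ne'
  refine ⟨m / p ^ m.factorization p, (Nat.coprime_ordCompl Fact.out hm0).symm, ?_⟩
  set n := m / p ^ m.factorization p
  have hdn : d ^ n ∈ N := by
    show ((d : MulAut T)) ^ n ∈ E.autGroup T
    have hdvd : orderOf ((d : MulAut T) ^ n) ∣ p ^ m.factorization p := orderOf_dvd_of_pow_eq_one (by
      rw [← pow_mul, mul_comm, Nat.ordProj_mul_ordCompl_eq_self, pow_orderOf_eq_one])
    obtain ⟨i, -, hi⟩ := (Nat.dvd_prime_pow Fact.out).1 hdvd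
    exact autInducedBy_le_autGroup le_rfl (mem_autInducedBy_of_pow hTp hE'sat (pow_mem hd n) hi)
  have he1 : QuotientGroup.mk' N e = 1 := (QuotientGroup.eq_one_iff e).2 he
  have hd1 : QuotientGroup.mk' N (d ^ n) = 1 := (QuotientGroup.eq_one_iff _).2 hdn
  have key : QuotientGroup.mk' N ((⟨y, hyF⟩ : F.autGroup T) ^ n) = 1 := by
    rw [map_pow, ← hed, map_mul, he1, one_mul, ← map_pow, hd1]
  exact (QuotientGroup.eq_one_iff (N := N) _).1 key

end Pair

end CfsgLib.Comp.Fus
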