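import Cfsg.Agent.Lib.Comp.CanonicalExt
import Cfsg.Agent.Lib.Comp.FusionStabilizer
import Cfsg.Agent.Lib.Comp.PrimeResidualLeast

/-!
The largest subgroup of `C_S(T)` centralized by a normal subsystem over `T`, and its closure.
-/

set_option autoImplicit false
set_option linter.unusedVariables false
set_option linter.unusedSectionVars false
set_option linter.style.haveILetI false

namespace CfsgLib.Comp.CExt

open Cfsg Cfsg.FusionSystem Subgroup CfsgLib.Fusion CfsgLib.Comp.Fus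

variable {Ω : Type*} [Group Ω] {S T : Subgroup Ω} {F : FusionSystem S} {E : FusionSystem T}

/-- `y` is centralized by `E`. -/
def Cent (F : FusionSystem S) (E : FusionSystem T) (y : Ω) : Prop :=
  y ∈ centralizerIn S T ∧ ∀ P : Subgroup Ω, E.Hom P ⊆ F.centralizerHom (zpowers y) P

/-- The subgroup generated by the elements centralized by `E`. -/
def centGen (F : FusionSystem S) (E : FusionSystem T) : Subgroup Ω :=
  Subgroup.closure {y | Cent F E y}

theorem centGen_le : centGen F E ≤ centralizerIn S T := (Subgroup.closure_le _).2 fun _ h => h.1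

theorem cent_of_le {Y : Subgroup Ω} (hY : Y ≤ centralizerIn S T)
    (h : ∀ P : Subgroup Ω, E.Hom P ⊆ F.centralizerHom Y P) {y : Ω} (hy : y ∈ Y) : Cent F E y := by
  refine ⟨hY hy, fun P φ hφ => ?_⟩
  obtain ⟨hP, hv, g, hg, hgx, hgY⟩ :=
    (mem_centralizerHom_iff (f := toFun φ) fun x => (toFun_apply φ x).symm).1 (h P hφ)
  have hle : centralizerIn S Y ≤ centralizerIn S (zpowers y) :=
    inf_le_inf_left S (Subgroup.centralizer_le (zpowers_le.2 hy))
  exact (mem_centralizerHom_iff (f := toFun φ) fun x => (toFun_apply φ x).symm).2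
    ⟨hP.trans hle, fun x hx => hle (hv x hx), g, hg.mono (sup_le_sup_left (zpowers_le.2 hy) P),
      hgx, fun x hx => hgY x (zpowers_le.2 hy hx)⟩

theorem exists_witness {y : Ω} (hy : Cent F E y) {P : Subgroup Ω} {f : Ω → Ω} (hf : IsMap E P f) :
    ∃ h, IsMap F (P ⊔ zpowers y) h ∧ (∀ x ∈ P, h x = f x) ∧ h y = y := by
  obtain ⟨-, -, h, hh, hhx, hhy⟩ :=
    (mem_centralizerHom_iff (f := f) hf.toHom_apply).1 (hy.2 P hf.toHom_mem)
  exact ⟨h, hh, hhx, hhy y (mem_zpowers y)⟩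

variable {p : ℕ} [Fact p.Prime] [Finite S]

/-- The canonical extension fixes what `E` centralizes. -/
theorem CanExt.fix_centGen (hS : IsPGroup p S) {R : Subgroup Ω} (hR : R ≤ T) {α : MulAut R}
    (hα : α ∈ E.autGroup R) {G : Ω → Ω} (hG : CanExt F p R α G) {y : Ω} (hy : y ∈ centGen F E) :
    G y = y := by
  have hW : centralizerIn S T ≤ R ⊔ centralizerIn S R :=
    le_sup_of_le_right (inf_le_inf_left S (Subgroup.centralizer_le hR))
  suffices y ∈ R ⊔ centralizerIn S R ∧ G y = y from this.2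
  induction hy using Subgroup.closure_induction with
  | mem z hz =>
    obtain ⟨h, hh, hhx, hhz⟩ := exists_witness hz (isMap_of_autGroup hR hα)
    refine ⟨hW hz.1, hG.fix_of_witness hS
      ((inf_le_inf_left S (Subgroup.centralizer_le hR) : centralizerIn S T ≤ centralizerIn S R) hz.1)
      hh (fun x => ?_) hhz⟩
    rw [hhx x x.2, toFun_aut_apply _ x.2]
  | one => exact ⟨one_mem _, hG.map.map_one⟩
  | mul a b _ _ ha hb => exact ⟨mul_mem ha.1 hb.1, by rw [hG.map.map_mul ha.1 hb.1, ha.2, hb.2]⟩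
  | inv a _ ha => exact ⟨inv_mem ha.1, by rw [hG.map.map_inv ha.1, ha.2]⟩

section Main

variable (hS : IsPGroup p S) (hF : F.IsSaturated p) (hE : E.IsNormalIn F p)

include hS hF hE

theorem le_fixSys_centGen (hT : T ≤ S) (hY : centGen F E ≤ S)
    (hTY : T ≤ centralizerIn S (centGen F E)) :
    E ≤ fixSys E F (centGen F E) hY hTY := by
  obtain ⟨⟨hEsat, -, hinv⟩, hext⟩ := id hE
  obtain ⟨hsub, hsc, -, -⟩ := id hinv
  haveI := finite_of_le hT
  have hTp : IsPGroup p T := hS.to_le hT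
  set Y := centGen F E with hYdef
  have hle : ∀ {R : Subgroup Ω}, R ≤ T → R ⊔ Y ≤ R ⊔ centralizerIn S R := fun hR =>
    sup_le_sup_left (centGen_le.trans (inf_le_inf_left S (Subgroup.centralizer_le hR))) _
  set D₀ := fixSys E F Y hY hTY
  suffices key : ∀ m, ∀ R, E.IsFullyNormalized R → Nat.card T - Nat.card R = m →
      E.autGroup R ≤ D₀.autGroup R from
    alperin hTp hEsat fun R hR => by
      rcases hR with rfl | hR
      · exact key _ _ (fullyNormalized_top E) rfl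
      · exact key _ R hR.2.1 rfl
  intro m
  induction m using Nat.strong_induction_on with
  | _ m ih =>
  intro R hR hm
  have hRT := hR.1
  haveI := finite_of_le hRT
  obtain ⟨W, hW⟩ := (fullyAutomized_of_fullyNormalized hTp hEsat hR).2
  rcases eq_or_lt_of_le hRT with rfl | hlt
  · -- the top
    refine Subgroup.subgroupOf_eq_top.1 (eq_top_of_sylow_le W ?_ fun x hx => ?_)
    · rw [hW]
      exact Subgroup.comap_mono (autInducedBy_le_autGroup le_rfl)
    obtain ⟨G, hG⟩ := exists_canExt_top hS hF hE x.2 (by rwa [Subgroup.orderOf_coe])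
    exact mem_fixSys_autGroup le_rfl x.2 (hG.map.mono (hle le_rfl)) hG.val
      fun y hy => hG.fix_centGen hS le_rfl x.2 hy
  have hlarge : ∀ {M : Subgroup Ω} {f : Ω → Ω}, IsMap E M f → Nat.card R < Nat.card M →
      IsMap D₀ M f := fun {M f} hf hc =>
    isMap_of_large_automizers hTp hEsat (fun U hU hRU => ih _ (by
      have := Subgroup.card_le_of_le hU.1
      omega) U hU rfl) hf hc
  have hextD : ∀ α : MulAut R, IsExtendable E R α → α ∈ D₀.autGroup R := by
    rintro α ⟨R', hR', g, hg, hgx⟩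
    haveI := finite_of_le hg.le
    exact (autGroup_iff_isMap hRT fun x => (hgx x).symm).2 ((hlarge hg
      (lt_of_not_ge fun h => hR'.ne (eq_of_le_of_card_le hR'.le h))).mono hR'.le)
  by_cases hc : E.IsCentric R
  swap
  · rw [← extAut_eq_of_not_centric hTp hEsat hR hc]
    exact (Subgroup.closure_le _).2 hextD
  set A := pGenAut E p R with hA
  set L := (D₀.autGroup R).subgroupOf (E.autGroup R) with hL
  have hWA : (W : Subgroup (E.autGroup R)) ≤ A := fun w hw => by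
    obtain ⟨i, hi⟩ := IsPGroup.iff_orderOf.1 W.isPGroup' ⟨w, hw⟩
    exact Subgroup.subset_closure ⟨i, by rwa [← Subgroup.orderOf_coe] at hi⟩
  have hWL : (W : Subgroup (E.autGroup R)) ≤ L := by
    rw [hW]
    exact Subgroup.comap_mono (autInducedBy_le_autGroup hRT)
  obtain ⟨V, hV⟩ := CfsgLib.Transfer.exists_sylow_eq_subgroupOf W A
  have hAL : A ≤ L := by
    refine Subgroup.subgroupOf_eq_top.1 (eq_top_of_sylow_le V ?_ fun a ha => ?_)
    · rw [hV]
      exact Subgroup.comap_mono hWL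
    · obtain ⟨G, hG⟩ := exists_canExt hS hF hE hc (α := (a : E.autGroup R)) a.2
        (by rwa [Subgroup.orderOf_coe])
      exact mem_fixSys_autGroup hRT a.1.2 (hG.map.mono (hle hRT)) hG.val
        fun y hy => hG.fix_centGen hS hRT a.1.2 hy
  have hsup := V.normalizer_sup_eq_top
  rw [hV, Subgroup.subgroupOf_map_subtype, inf_eq_left.2 hWA] at hsup
  refine Subgroup.subgroupOf_eq_top.1 (top_le_iff.1 (hsup.ge.trans (sup_le (fun ν hν => ?_) hAL)))
  obtain ⟨u, hu, huR⟩ := SetLike.exists_of_lt (lt_normalizerIn hTp hlt)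
  set c : E.autGroup R := ⟨R.normalizerMonoidHom ⟨u, hu.2⟩, autInducedBy_le_autGroup hRT
    (mem_autInducedBy_iff.2 ⟨u, hu.1, fun x => rfl⟩)⟩ with hcdef
  have hcW : c ∈ (W : Subgroup (E.autGroup R)) := by
    rw [hW]
    exact mem_autInducedBy_iff.2 ⟨u, hu.1, fun x => rfl⟩
  have h1 := (Subgroup.mem_normalizer_iff.1 hν c).1 hcW
  rw [hW] at h1
  obtain ⟨b, hb, hbx⟩ := mem_autInducedBy_iff.1 h1
  refine hextD _ (isExtendable_of_meet hTp hEsat (fullyCentralized_of_fullyNormalized hTp hEsat hR)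
    ν.2 hu huR hb fun x => ?_)
  simp only [Subgroup.coe_subtype]
  rw [← hbx ((ν : MulAut R) x)]
  simp [hcdef]

theorem hom_subset_centGen (P : Subgroup Ω) : E.Hom P ⊆ F.centralizerHom (centGen F E) P := by
  have hT : T ≤ S := hE.1.2.2.2.1.1
  have hY : centGen F E ≤ S := centGen_le.trans inf_le_left
  have hTY : T ≤ centralizerIn S (centGen F E) :=
    le_inf hT fun t ht y hy => ((centGen_le hy).2 t ht).symm
  exact fun φ hφ => (le_fixSys_centGen hS hF hE hT hY hTY P hφ).2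

theorem cent_of_mem_centGen {y : Ω} (hy : y ∈ centGen F E) : Cent F E y :=
  cent_of_le centGen_le (hom_subset_centGen hS hF hE) hy

/-- Maps defined on `T` preserve the elements centralized by `E`. -/
theorem cent_apply {U : Subgroup Ω} {g : Ω → Ω} (hg : IsMap F U g) (hTU : T ≤ U) {y : Ω}
    (hyU : y ∈ U) (hy : Cent F E y) : Cent F E (g y) := by
  obtain ⟨⟨-, -, hinv⟩, -⟩ := id hE
  obtain ⟨hsub, hsc, -, -⟩ := id hinv
  have hT : T ≤ S := hsc.1
  haveI := finite_of_le hT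
  have hTi : img T g = T := StronglyClosed.img_eq hsc hg hTU
  have hgy : g y ∈ centralizerIn S T := by
    have h := hg.apply_mem_centralizerIn hTU hyU hy.1.2
    rwa [hTi] at h
  refine ⟨hgy, fun P φ hφ => ?_⟩
  have hf := isMap_of_hom hφ
  set α : MulAut T := (hg.mono hTU).toAut hTi
  have hαg : ∀ x ∈ T, autFun α x = g x := fun x hx => by
    rw [autFun_apply α hx]
    exact (hg.mono hTU).toAut_apply hTi _
  obtain ⟨f₁, hf₁, hf₁x⟩ :=
    IsInvariantIn.transport hinv (inv_mem ((hg.mono hTU).toAut_mem hTi) : α⁻¹ ∈ F.autGroup T) hf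
  obtain ⟨h₁, hh₁, hh₁x, hh₁y⟩ := exists_witness hy hf₁
  obtain ⟨k, hk, hkx, -, -⟩ := hg.exists_inv
  have hback : ∀ x ∈ T, k x = autFun α⁻¹ x := fun x hx => by
    conv_lhs => rw [← autFun_apply_inv α hx, hαg _ (autFun_mem _ hx)]
    rw [hkx _ (hTU (autFun_mem _ hx))]
  have hm : IsMap F T (autFun α⁻¹) := isMap_autFun hT (inv_mem ((hg.mono hTU).toAut_mem hTi))
  set P₁ := img P (autFun α⁻¹)
  have hP₁ : P₁ ≤ T := fun w hw => by
    obtain ⟨x, hx, rfl⟩ := (mem_img_autFun hm hf.le).1 hw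
    exact autFun_mem _ (hf.le hx)
  have hle : P ⊔ zpowers (g y) ≤ img U g := sup_le
    ((hf.le.trans hTi.ge).trans (img_mono hTU)) (zpowers_le.2 (hg.apply_mem_img hyU))
  have hk' := hk.mono hle
  have hkmem : ∀ x ∈ P ⊔ zpowers (g y), k x ∈ P₁ ⊔ zpowers y := fun x hx => by
    refine hk'.img_sup_le le_sup_left le_sup_right ?_ ?_ (hk'.apply_mem_img hx)
    · intro w hw
      obtain ⟨u, hu, rfl⟩ := (hk'.mono le_sup_left).mem_img.1 hw
      rw [hback u (hf.le hu)]
      exact mem_sup_left ((hm.mono hf.le).apply_mem_img hu)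
    · intro w hw
      obtain ⟨u, hu, rfl⟩ := (hk'.mono le_sup_right).mem_img.1 hw
      obtain ⟨i, rfl⟩ := mem_zpowers_iff.1 hu
      rw [map_zpow_isMap hk (hg.apply_mem_img hyU), hkx y hyU]
      exact mem_sup_right (zpow_mem (mem_zpowers y) i)
  have hh₁mem : ∀ x ∈ P₁ ⊔ zpowers y, h₁ x ∈ U := fun x hx => by
    refine hh₁.img_sup_le le_sup_left le_sup_right ?_ ?_ (hh₁.apply_mem_img hx)
    · intro w hw
      obtain ⟨u, hu, rfl⟩ := (hh₁.mono le_sup_left).mem_img.1 hw
      rw [hh₁x u hu]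
      exact hTU (hf₁.mem hu)
    · intro w hw
      obtain ⟨u, hu, rfl⟩ := (hh₁.mono le_sup_right).mem_img.1 hw
      obtain ⟨i, rfl⟩ := mem_zpowers_iff.1 hu
      rw [map_zpow_isMap hh₁ (mem_sup_right (mem_zpowers y)), hh₁y]
      exact zpow_mem hyU i
  have hcomp : IsMap F (P ⊔ zpowers (g y)) (fun x => g (h₁ (k x))) :=
    (hk'.comp hh₁ hkmem).comp hg fun x hx => hh₁mem _ (hkmem x hx)
  have hTg : T ≤ centralizerIn S (zpowers (g y)) := le_inf hT fun t ht z hz => by
    obtain ⟨i, rfl⟩ := mem_zpowers_iff.1 hz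
    exact ((Commute.zpow_right (hgy.2 t ht : Commute t (g y)) i).eq).symm
  refine (mem_centralizerHom_iff (f := toFun φ) fun x => (toFun_apply φ x).symm).2
    ⟨hf.le.trans hTg, fun x hx => hTg (hf.mem hx), _, hcomp, fun x hx => ?_, fun x hx => ?_⟩
  · show g (h₁ (k x)) = toFun φ x
    rw [hback x (hf.le hx), hh₁x _ ((hm.mono hf.le).apply_mem_img hx), hf₁x x hx,
      ← hαg _ (autFun_mem _ (hf.mem hx)), autFun_apply_inv α (hf.mem hx)]
  · obtain ⟨i, rfl⟩ := mem_zpowers_iff.1 hx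
    show g (h₁ (k (g y ^ i))) = g y ^ i
    rw [map_zpow_isMap hk (hg.apply_mem_img hyU), hkx y hyU,
      map_zpow_isMap hh₁ (mem_sup_right (mem_zpowers y)), hh₁y, map_zpow_isMap hg hyU]

theorem apply_mem_centGen {U : Subgroup Ω} {g : Ω → Ω} (hg : IsMap F U g) (hTU : T ≤ U) {y : Ω}
    (hyU : y ∈ U) (hy : y ∈ centGen F E) : g y ∈ centGen F E :=
  Subgroup.subset_closure (cent_apply hS hF hE hg hTU hyU (cent_of_mem_centGen hS hF hE hy))

theorem mem_centGen_iff_of_top {U : Subgroup Ω} {g : Ω → Ω} (hg : IsMap F U g) (hTU : T ≤ U)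
    {y : Ω} (hyU : y ∈ U) : y ∈ centGen F E ↔ g y ∈ centGen F E := by
  refine ⟨apply_mem_centGen hS hF hE hg hTU hyU, fun h => ?_⟩
  obtain ⟨k, hk, hkx, -, -⟩ := hg.exists_inv
  have hsc : F.StronglyClosed T := hE.1.2.2.2.1
  have h1 := apply_mem_centGen hS hF hE hk
    ((StronglyClosed.img_eq hsc hg hTU).ge.trans (img_mono hTU)) (hg.apply_mem_img hyU) h
  rwa [hkx y hyU] at h1

/-- The maps preserving the elements centralized by `E`. -/
noncomputable def keepSys : FusionSystem S where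
  Hom P := {φ | φ ∈ F.Hom P ∧ ∀ x : P, (x : Ω) ∈ centGen F E ↔ φ x ∈ centGen F E}
  le_of_mem h := F.le_of_mem h.1
  injective_of_mem h := F.injective_of_mem h.1
  conj_mem := by
    intro P a hP ha
    refine ⟨F.conj_mem hP ha, fun x => ?_⟩
    exact mem_centGen_iff_of_top hS hF hE (isMap_conj F le_rfl ha) hE.1.2.2.2.1.1 (hP x.2)
  comp_mem := by
    intro P Q φ ψ hφ hψ h
    refine ⟨F.comp_mem hφ.1 hψ.1 h, fun x => ?_⟩
    exact (hφ.2 x).trans (hψ.2 ⟨φ x, h x⟩)
  inv_mem := by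
    intro P φ hφ
    obtain ⟨ψ, hψ, hψx⟩ := F.inv_mem hφ.1
    refine ⟨ψ, ⟨hψ, fun y => ?_⟩, hψx⟩
    obtain ⟨_, x, rfl⟩ := y
    rw [hψx x]
    exact (hφ.2 x).symm

theorem isMap_keepSys_iff {P : Subgroup Ω} {f : Ω → Ω} : IsMap (keepSys hS hF hE) P f ↔
    IsMap F P f ∧ ∀ x ∈ P, x ∈ centGen F E ↔ f x ∈ centGen F E := by
  constructor
  · rintro ⟨φ, ⟨hφ, hx⟩, hf⟩
    exact ⟨⟨φ, hφ, hf⟩, fun x h => hf ⟨x, h⟩ ▸ hx ⟨x, h⟩⟩
  · rintro ⟨⟨φ, hφ, hf⟩, h⟩
    exact ⟨φ, ⟨hφ, fun x => (hf x).symm ▸ h x x.2⟩, hf⟩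

theorem mem_keepSys_autGroup {R : Subgroup Ω} (hR : R ≤ S) {α : MulAut R} (hα : α ∈ F.autGroup R)
    (h : ∀ x : R, (x : Ω) ∈ centGen F E ↔ ((α x : R) : Ω) ∈ centGen F E) :
    α ∈ (keepSys hS hF hE).autGroup R :=
  (autGroup_iff_isMap hR fun x => (toFun_aut_apply α x.2).symm).2 ((isMap_keepSys_iff hS hF hE).2
    ⟨isMap_of_autGroup hR hα, fun x hx => by rw [toFun_aut_apply α hx]; exact h ⟨x, hx⟩⟩)

end Main

theorem resAut_aux (hsc : F.StronglyClosed T) {R : Subgroup Ω} (hR : R ≤ S) (γ : F.autGroup R)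
    (x : ↥(R ⊓ T)) :
    (((γ : MulAut R) ⟨x, (Subgroup.mem_inf.1 x.2).1⟩ : R) : Ω) ∈ R ⊓ T := by
  refine Subgroup.mem_inf.2 ⟨((γ : MulAut R) _).2, ?_⟩
  have h := StronglyClosed.apply_mem hsc (isMap_of_autGroup hR γ.2) (Subgroup.mem_inf.1 x.2).1
    (Subgroup.mem_inf.1 x.2).2
  rwa [toFun_aut_apply _ (Subgroup.mem_inf.1 x.2).1] at h

/-- Restriction of automorphisms of `R` to `R ∩ T`. -/
def resAut (hsc : F.StronglyClosed T) {R : Subgroup Ω} (hR : R ≤ S) :
    F.autGroup R →* MulAut ↥(R ⊓ T) where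
  toFun γ :=
    { toFun := fun x => ⟨_, resAut_aux hsc hR γ x⟩
      invFun := fun x => ⟨_, resAut_aux hsc hR γ⁻¹ x⟩
      left_inv := fun x => Subtype.ext (congrArg Subtype.val
        (MulAut.inv_apply_self _ (γ : MulAut R) ⟨x, (Subgroup.mem_inf.1 x.2).1⟩) :)
      right_inv := fun x => Subtype.ext (congrArg Subtype.val
        (MulAut.apply_inv_self _ (γ : MulAut R) ⟨x, (Subgroup.mem_inf.1 x.2).1⟩) :)
      map_mul' := fun x y => Subtype.ext (congrArg Subtype.val
        (map_mul (γ : MulAut R) ⟨x, (Subgroup.mem_inf.1 x.2).1⟩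
          ⟨y, (Subgroup.mem_inf.1 y.2).1⟩) :) }
  map_one' := MulEquiv.ext fun x => rfl
  map_mul' γ δ := MulEquiv.ext fun x => rfl

theorem resAut_apply (hsc : F.StronglyClosed T) {R : Subgroup Ω} (hR : R ≤ S)
    (γ : F.autGroup R) (x : ↥(R ⊓ T)) :
    ((resAut hsc hR γ x : ↥(R ⊓ T)) : Ω) =
      (((γ : MulAut R) ⟨x, (Subgroup.mem_inf.1 x.2).1⟩ : R) : Ω) := rfl

theorem resAut_mem (hsc : F.StronglyClosed T) {R : Subgroup Ω} (hR : R ≤ S)
    (γ : F.autGroup R) : resAut hsc hR γ ∈ F.autGroup (R ⊓ T) :=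
  (autGroup_iff_isMap (inf_le_left.trans hR) fun x => by
    rw [resAut_apply, toFun_aut_apply _ (Subgroup.mem_inf.1 x.2).1]).2
      ((isMap_of_autGroup hR γ.2).mono inf_le_left)

section Main

variable (hS : IsPGroup p S) (hF : F.IsSaturated p) (hE : E.IsNormalIn F p)

include hS hF hE

/-- An automorphism of order prime to `p` trivial modulo `T` and inducing an element of `O^{p'}` of
the automizer in `E` fixes the elements centralized by `E`. -/
theorem fix_of_trivial_mod {R : Subgroup Ω} (hR : R ≤ S) (hc : E.IsCentric (R ⊓ T))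
    (γ : F.autGroup R) (hγ : ∀ x : R, (x : Ω)⁻¹ * (((γ : MulAut R) x : R) : Ω) ∈ T)
    {b : E.autGroup (R ⊓ T)} (hb : b ∈ pGenAut E p (R ⊓ T))
    (hbγ : (b : MulAut ↥(R ⊓ T)) = resAut hE.1.2.2.2.1 hR γ)
    (hcop : (orderOf γ).Coprime p) {x : R} (hx : (x : Ω) ∈ centGen F E) :
    (γ : MulAut R) x = x := by
  have hsc : F.StronglyClosed T := hE.1.2.2.2.1
  set g := toFun (R.subtype.comp (γ : MulAut R).toMonoidHom)
  have hg : IsMap F R g := isMap_of_autGroup hR γ.2
  have hgv : ∀ u : R, g u = (((γ : MulAut R) u : R) : Ω) := fun u => toFun_aut_apply _ u.2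
  have hbcop : (orderOf b).Coprime p := by
    refine hcop.coprime_dvd_left ?_
    rw [← Subgroup.orderOf_coe, hbγ]
    exact orderOf_map_dvd _ γ
  obtain ⟨G, hG⟩ := exists_canExt hS hF hE hc hb hbcop
  have hy : (x : Ω) ∈ centralizerIn S (R ⊓ T) :=
    (inf_le_inf_left S (Subgroup.centralizer_le (inf_le_right : (R ⊓ T) ≤ T)) :
      centralizerIn S T ≤ centralizerIn S (R ⊓ T)) (centGen_le hx)
  obtain ⟨h, hh, hhb, hhy⟩ :=
    exists_witness (cent_of_mem_centGen hS hF hE hx) (isMap_of_autGroup inf_le_right b.2)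
  have hzh : (x : Ω)⁻¹ * h x ∈ (R ⊓ T) := by rw [hhy, inv_mul_cancel]; exact (R ⊓ T).one_mem
  have hzk : (x : Ω)⁻¹ * g x ∈ (R ⊓ T) := by
    rw [hgv]
    exact Subgroup.mem_inf.2 ⟨R.mul_mem (R.inv_mem x.2) ((γ : MulAut R) x).2, hγ x⟩
  have hd := hG.diff_fixed hy hh (hg.mono (sup_le inf_le_left (zpowers_le.2 x.2)))
    (fun u => by rw [hhb u u.2, toFun_aut_apply _ u.2])
    (fun u => by
      rw [hbγ, resAut_apply]
      exact hgv ⟨u, (Subgroup.mem_inf.1 u.2).1⟩) hzh hzk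
  have e : ((x : Ω)⁻¹ * h x)⁻¹ * ((x : Ω)⁻¹ * g x) = (x : Ω)⁻¹ * g x := by
    rw [hhy, inv_mul_cancel, inv_one, one_mul]
  rw [hbγ, resAut_apply] at hd
  set z : R := x⁻¹ * (γ : MulAut R) x with hz
  have hzv : (z : Ω) = (x : Ω)⁻¹ * g x := by rw [hgv]; rfl
  have hzfix : (γ : MulAut R) z = z := Subtype.ext (by
    have e' : (⟨((x : Ω)⁻¹ * h x)⁻¹ * ((x : Ω)⁻¹ * g x),
        (Subgroup.mem_inf.1 ((R ⊓ T).mul_mem ((R ⊓ T).inv_mem hzh) hzk)).1⟩ : R) = z :=
      Subtype.ext (e.trans hzv.symm)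
    rw [← e']
    exact hd)
  have hit : ∀ j : ℕ, ((γ : MulAut R) ^ j) x = x * z ^ j := fun j => by
    induction j with
    | zero => simp
    | succ j ih =>
      rw [pow_succ', MulAut.mul_apply, ih, map_mul, map_pow, hzfix, pow_succ' z, ← mul_assoc,
        hz, mul_inv_cancel_left]
  have hzn : z ^ orderOf γ = 1 := by
    have h1 := hit (orderOf γ)
    rw [← Subgroup.coe_pow, pow_orderOf_eq_one] at h1
    exact mul_eq_left.1 h1.symm
  obtain ⟨k, hk⟩ := hS ⟨(z : Ω), hR z.2⟩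
  have hk' : z ^ p ^ k = 1 := Subtype.ext (by simpa using congrArg Subtype.val hk)
  have hz1 : z = 1 := orderOf_eq_one_iff.1 (Nat.eq_one_of_dvd_coprimes (hcop.pow_right k)
    (orderOf_dvd_of_pow_eq_one hzn) (orderOf_dvd_of_pow_eq_one hk'))
  rw [hz, inv_mul_eq_one] at hz1
  exact hz1.symm

/-- Every automizer preserves the elements centralized by `E`. -/
theorem autGroup_le_keepSys : ∀ R, F.IsFullyNormalized R →
    (∀ (Q : Subgroup Ω) (g : Ω → Ω), IsMap F Q g → Nat.card R < Nat.card Q →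
      IsMap (keepSys hS hF hE) Q g) →
    F.autGroup R ≤ (keepSys hS hF hE).autGroup R := by
  intro R hR hlarge α hα
  have hRS := hR.1
  obtain ⟨hEsat, -, hinv⟩ := id hE.1
  have hsc : F.StronglyClosed T := hinv.2.1
  have hT : T ≤ S := hsc.1
  haveI := finite_of_le hT
  haveI := finite_of_le hRS
  have hTp : IsPGroup p T := hS.to_le hT
  by_cases hTR : T ≤ R
  · refine mem_keepSys_autGroup hS hF hE hRS hα fun x => ?_
    have h := mem_centGen_iff_of_top hS hF hE (isMap_of_autGroup hRS hα) hTR x.2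
    rwa [toFun_aut_apply _ x.2] at h
  have hlt : R < S := lt_of_le_of_ne hRS fun h => hTR (h ▸ hT)
  set D := keepSys hS hF hE
  have hextD : ∀ β : MulAut R, IsExtendable F R β → β ∈ D.autGroup R := by
    rintro β ⟨R', hR', g, hg, hgx⟩
    haveI := finite_of_le hg.le
    exact (autGroup_iff_isMap hRS fun x => (hgx x).symm).2 ((hlarge R' g hg
      (lt_of_not_ge fun h => hR'.ne (eq_of_le_of_card_le hR'.le h))).mono hR'.le)
  by_cases hess : F.IsEssential p R
  swap
  · rw [← extAut_eq_of_not_essential hS hF hlt hR hess] at hα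
    exact (Subgroup.closure_le _).2 hextD hα
  have hP : E.IsCentric (R ⊓ T) := by
    by_contra h
    exact not_radical hS hE.1 hess.1 h (essential_isRadical hS hF hess)
  -- an element of `T` normalizing `R` outside it
  have hTn : R ≤ normalizer (T : Set Ω) := hRS.trans (StronglyClosed.le_normalizer hsc)
  have hRTS : R ⊔ T ≤ S := sup_le hRS hT
  haveI := finite_of_le hRTS
  obtain ⟨a, haT, haN, haR⟩ : ∃ a ∈ T, a ∈ normalizer (R : Set Ω) ∧ a ∉ R := by
    have hlt' : R < R ⊔ T := lt_of_le_of_ne le_sup_left fun h => hTR (le_sup_right.trans h.ge)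
    obtain ⟨w, hw, hwR⟩ := SetLike.exists_of_lt (lt_normalizerIn (hS.to_le hRTS) hlt')
    obtain ⟨r, hr, t, ht, rfl⟩ : ∃ r ∈ R, ∃ t ∈ T, r * t = w := by
      have h : w ∈ ((R ⊔ T : Subgroup Ω) : Set Ω) := hw.1
      rwa [Subgroup.coe_mul_of_left_le_normalizer_right R T hTn, Set.mem_mul] at h
    refine ⟨t, ht, ?_, fun h => hwR (R.mul_mem hr h)⟩
    have h := (normalizer (R : Set Ω)).mul_mem
      ((normalizer (R : Set Ω)).inv_mem (R.le_normalizer hr)) hw.2
    rwa [inv_mul_cancel_left] at h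
  -- the automorphisms trivial modulo `T` inducing elements of `O^{p'}(Aut_E(R ∩ T))`
  set ρ := resAut hsc hRS with hρ
  let M₀ : Subgroup (F.autGroup R) :=
    { carrier := {γ | ∀ x : R, (x : Ω)⁻¹ * (((γ : MulAut R) x : R) : Ω) ∈ T}
      one_mem' := fun x => by simp
      mul_mem' := fun {γ δ} hb hc x => by
        have h1 := T.mul_mem (hc x) (hb ((δ : MulAut R) x))
        simpa [MulAut.mul_apply, mul_assoc] using h1
      inv_mem' := fun {γ} hb x => by
        have h1 := T.inv_mem (hb ((γ : MulAut R)⁻¹ x))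
        rw [MulAut.apply_inv_self] at h1
        simpa using h1 }
  set K : Subgroup (F.autGroup R) :=
    M₀ ⊓ ((pGenAut E p (R ⊓ T)).map (E.autGroup (R ⊓ T)).subtype).comap ρ with hK
  haveI hKn : K.Normal := by
    refine ⟨fun γ hγ δ => ?_⟩
    obtain ⟨h1, b, hb, hbγ⟩ := Subgroup.mem_inf.1 hγ
    refine Subgroup.mem_inf.2 ⟨fun x => ?_, ?_⟩
    · set y := (δ : MulAut R)⁻¹ x with hy
      have h2 := h1 y
      have h3 := StronglyClosed.apply_mem hsc (isMap_of_autGroup hRS δ.2)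
        (R.mul_mem (R.inv_mem y.2) ((γ : MulAut R) y).2) h2
      rw [toFun_aut_apply _ (R.mul_mem (R.inv_mem y.2) ((γ : MulAut R) y).2)] at h3
      have e : (δ : MulAut R) (y⁻¹ * (γ : MulAut R) y) =
          x⁻¹ * ((δ * γ * δ⁻¹ : F.autGroup R) : MulAut R) x := by
        rw [map_mul, map_inv, hy, MulAut.apply_inv_self]
        rfl
      have h4 : (((δ : MulAut R) (y⁻¹ * (γ : MulAut R) y) : R) : Ω) ∈ T := h3
      rw [e] at h4
      exact h4
    · have hd : ρ δ ∈ F.autGroup (R ⊓ T) := resAut_mem hsc hRS δ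
      let c : E.autGroup (R ⊓ T) →* E.autGroup (R ⊓ T) :=
        ((MulAut.conj (ρ δ)).toMonoidHom.comp (E.autGroup (R ⊓ T)).subtype).codRestrict _
          fun u => autGroup_conj_mem hinv inf_le_right hd u.2
      have hcinj : Function.Injective c := fun u v h =>
        Subtype.ext ((MulAut.conj (ρ δ)).injective (congrArg Subtype.val h))
      refine ⟨c b, ?_, ?_⟩
      · refine (Subgroup.closure_le ((pGenAut E p (R ⊓ T)).comap c)).2 (fun u hu => ?_) hb
        obtain ⟨i, hi⟩ := hu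
        exact Subgroup.subset_closure ⟨i, by rw [orderOf_injective c hcinj, hi]⟩
      · show ρ δ * (b : MulAut ↥(R ⊓ T)) * (ρ δ)⁻¹ = ρ (δ * γ * δ⁻¹)
        rw [map_mul, map_mul, map_inv]
        exact congrArg (fun u => ρ δ * u * (ρ δ)⁻¹) hbγ
  -- the inner automorphism by `a`
  set cR : F.autGroup R := ⟨R.normalizerMonoidHom ⟨a, haN⟩, autInducedBy_le_autGroup hRS
    (mem_autInducedBy_iff.2 ⟨a, hT haT, fun x => rfl⟩)⟩ with hcR
  have hcK : cR ∈ K := by
    refine Subgroup.mem_inf.2 ⟨fun x => ?_, ?_⟩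
    · show (x : Ω)⁻¹ * (a * (x : Ω) * a⁻¹) ∈ T
      have h := StronglyClosed.conj_mem hsc (S.inv_mem (hRS x.2)) haT
      simpa [mul_assoc] using T.mul_mem h (T.inv_mem haT)
    · obtain ⟨j, hj⟩ := hTp ⟨a, haT⟩
      have hn : a ∈ normalizer ((R ⊓ T : Subgroup Ω) : Set Ω) :=
        CfsgLib.Comp.le_normalizer_inf (zpowers_le.2 haN)
          (zpowers_le.2 (T.le_normalizer haT)) (mem_zpowers a)
      have hmem : (R ⊓ T).normalizerMonoidHom ⟨a, hn⟩ ∈ E.autGroup (R ⊓ T) :=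
        autInducedBy_le_autGroup inf_le_right (mem_autInducedBy_iff.2 ⟨a, haT, fun x => rfl⟩)
      refine ⟨⟨_, hmem⟩, Subgroup.subset_closure ?_, MulEquiv.ext fun x => Subtype.ext rfl⟩
      have h1 : ((⟨_, hmem⟩ : E.autGroup (R ⊓ T))) ^ p ^ j = 1 := Subtype.ext (by
        show (R ⊓ T).normalizerMonoidHom ⟨a, hn⟩ ^ p ^ j = 1
        rw [← map_pow, ← map_one (R ⊓ T).normalizerMonoidHom]
        congr 1
        exact Subtype.ext (by simpa using congrArg Subtype.val hj))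
      obtain ⟨i, -, hi⟩ := (Nat.dvd_prime_pow (Fact.out : p.Prime)).1 (orderOf_dvd_of_pow_eq_one h1)
      exact ⟨i, hi⟩
  -- the Frattini argument
  obtain ⟨W, hW⟩ := (fullyAutomized_of_fullyNormalized hS hF hR).2
  set L := (D.autGroup R).subgroupOf (F.autGroup R) with hL
  have hWL : (W : Subgroup (F.autGroup R)) ≤ L := by
    rw [hW]
    exact Subgroup.comap_mono (autInducedBy_le_autGroup hRS)
  obtain ⟨V, hV⟩ := CfsgLib.Transfer.exists_sylow_eq_subgroupOf W K
  have hKL : K ≤ L := by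
    refine Subgroup.subgroupOf_eq_top.1 (eq_top_of_sylow_le V ?_ fun k hk => ?_)
    · rw [hV]
      exact Subgroup.comap_mono hWL
    obtain ⟨h1, b, hb, hbk⟩ := Subgroup.mem_inf.1 k.2
    have hcop : (orderOf (k : F.autGroup R)).Coprime p := by rwa [Subgroup.orderOf_coe]
    have hfix : ∀ x : R, (x : Ω) ∈ centGen F E → ((k : F.autGroup R) : MulAut R) x = x :=
      fun x hx => fix_of_trivial_mod hS hF hE hRS hP (k : F.autGroup R) h1 hb hbk hcop hx
    refine mem_keepSys_autGroup hS hF hE hRS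
      (α := ((k : F.autGroup R) : MulAut R)) (k : F.autGroup R).2 fun x =>
      ⟨fun hx => by
        show (((k : F.autGroup R) : MulAut R) x : Ω) ∈ _
        rwa [hfix x hx], fun hx => ?_⟩
    change (((k : F.autGroup R) : MulAut R) x : Ω) ∈ _ at hx
    have h2 := hfix _ hx
    rwa [((k : F.autGroup R) : MulAut R).injective h2] at hx
  have hsup := V.normalizer_sup_eq_top
  rw [hV, Subgroup.subgroupOf_map_subtype] at hsup
  have htop : L = ⊤ := by
    refine top_le_iff.1 (hsup.ge.trans (sup_le (fun ν hν => ?_) hKL))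
    have hcW : cR ∈ (W : Subgroup (F.autGroup R)) := by
      rw [hW]
      exact mem_autInducedBy_iff.2 ⟨a, hT haT, fun x => rfl⟩
    have h1 := ((Subgroup.mem_normalizer_iff.1 hν cR).1 ⟨hcW, hcK⟩).1
    rw [SetLike.mem_coe, hW] at h1
    obtain ⟨b, hb, hbx⟩ := mem_autInducedBy_iff.1 h1
    refine hextD _ (isExtendable_of_meet hS hF (fullyCentralized_of_fullyNormalized hS hF hR)
      ν.2 ⟨hT haT, haN⟩ haR hb fun x => ?_)
    simp only [Subgroup.coe_subtype]
    rw [← hbx ((ν : MulAut R) x)]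
    simp [hcR]
  exact Subgroup.subgroupOf_eq_top.1 htop hα

theorem stronglyClosed_centGen : F.StronglyClosed (centGen F E) := by
  refine ⟨centGen_le.trans inf_le_left, fun R hR φ hφ x => ?_⟩
  have h := alperin_inductive hS hF (autGroup_le_keepSys hS hF hE) R hφ
  exact (h.2 x).1 (hR x.2)

/-- The centralizer of a normal subsystem. -/
theorem exists_centralizer : ∃ C : Subgroup Ω, C ≤ centralizerIn S T ∧
    (∀ P : Subgroup Ω, E.Hom P ⊆ F.centralizerHom C P) ∧
    (∀ Y : Subgroup Ω, Y ≤ centralizerIn S T →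
      (∀ P : Subgroup Ω, E.Hom P ⊆ F.centralizerHom Y P) → Y ≤ C) ∧ F.StronglyClosed C :=
  ⟨centGen F E, centGen_le, hom_subset_centGen hS hF hE,
    fun Y hY h y hy => Subgroup.subset_closure (cent_of_le hY h hy), stronglyClosed_centGen hS hF hE⟩

end Main

end CfsgLib.Comp.CExt
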