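import Cfsg.Agent.Lib.Comp.FusionThetaStep
import Cfsg.Agent.Lib.Fusion.PPrimeResidual

/-!
The subsystem of index prime to `p` cut out by a character of the automizer of a strongly closed
subgroup carrying a weakly normal subsystem.
-/

set_option autoImplicit false
set_option linter.unusedVariables false
set_option linter.unusedSectionVars false
set_option linter.style.haveILetI false

namespace CfsgLib.Comp.Fus

open Cfsg Cfsg.FusionSystem Subgroup CfsgLib.Fusion

variable {Ω : Type*} [Group Ω] {S T : Subgroup Ω} {F : FusionSystem S} {E : FusionSystem T}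
  {P : Subgroup Ω} {p : ℕ} {Δ : Type*} [Group Δ] {χ : ↥(F.autGroup T) →* Δ}

/-- The meet of two systems over nested subgroups. -/
def meetSys (E : FusionSystem T) (G : FusionSystem S) (hT : T ≤ S) : FusionSystem T where
  Hom P := {φ | φ ∈ E.Hom P ∧ φ ∈ G.Hom P}
  le_of_mem h := E.le_of_mem h.1
  injective_of_mem h := E.injective_of_mem h.1
  conj_mem hP hg := ⟨E.conj_mem hP hg, G.conj_mem (hP.trans hT) (hT hg)⟩
  comp_mem hφ hψ h := ⟨E.comp_mem hφ.1 hψ.1 h, G.comp_mem hφ.2 hψ.2 h⟩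
  inv_mem {P φ} hφ := by
    obtain ⟨ψ, hψ, hψx⟩ := E.inv_mem hφ.1
    obtain ⟨ψ', hψ', hψ'x⟩ := G.inv_mem hφ.2
    refine ⟨ψ, ⟨hψ, ?_⟩, hψx⟩
    have : ψ = ψ' := MonoidHom.ext fun y => by
      obtain ⟨x, hx⟩ := y.2
      have : y = ⟨φ x, x, rfl⟩ := Subtype.ext hx.symm
      rw [this, hψx, hψ'x]
    exact this ▸ hψ'

/-- Restriction of automorphisms to a strongly closed subgroup. -/
noncomputable def resT [Finite S] (hsc : F.StronglyClosed T) :
    ↥(F.autGroup S) →* ↥(F.autGroup T) where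
  toFun α := ⟨(((isMap_autFun le_rfl α.2).mono hsc.1)).toAut
    (StronglyClosed.img_eq hsc (isMap_autFun le_rfl α.2) hsc.1), IsMap.toAut_mem _ _⟩
  map_one' := Subtype.ext (MulEquiv.ext fun x => Subtype.ext (by
    rw [IsMap.toAut_apply]; exact autFun_one (hsc.1 x.2)))
  map_mul' a b := Subtype.ext (MulEquiv.ext fun x => Subtype.ext (by
    rw [IsMap.toAut_apply, Subgroup.coe_mul, autFun_mul_apply _ _ (hsc.1 x.2), Subgroup.coe_mul,
      MulAut.mul_apply, IsMap.toAut_apply, IsMap.toAut_apply]))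

theorem coe_resT [Finite S] (hsc : F.StronglyClosed T) (α : ↥(F.autGroup S)) (x : T) :
    ((((resT hsc α : ↥(F.autGroup T)) : MulAut T) x : T) : Ω) =
      autFun (α : MulAut S) x :=
  IsMap.toAut_apply _ _ x

/-- The automorphisms of `S` in the kernel of `χ` on `T`. -/
noncomputable def charAut [Finite S] (hsc : F.StronglyClosed T) (χ : ↥(F.autGroup T) →* Δ) :
    Subgroup (MulAut S) :=
  (χ.comp (resT hsc)).ker.map (F.autGroup S).subtype

theorem charAut_le [Finite S] (hsc : F.StronglyClosed T) : charAut hsc χ ≤ F.autGroup S := by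
  rintro _ ⟨a, -, rfl⟩
  exact a.2

theorem mem_charAut [Finite S] (hsc : F.StronglyClosed T) {α : MulAut S}
    (hα : α ∈ F.autGroup S) : α ∈ charAut hsc χ ↔ χ (resT hsc ⟨α, hα⟩) = 1 := by
  refine ⟨fun ⟨a, ha, e⟩ => ?_, fun h => ⟨⟨α, hα⟩, h, rfl⟩⟩
  rw [show (⟨α, hα⟩ : ↥(F.autGroup S)) = a from Subtype.ext e.symm]
  exact ha

section Theta

variable [Fact p.Prime] [Finite S] (hS : IsPGroup p S) (hw : E.IsWeaklyNormalIn F p)
  (hΔ : (Nat.card Δ).Coprime p) {θ : Subgroup Ω → (Ω → Ω) → Δ}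
  (hθ : IsTheta E χ 0 θ)

include hS hw hΔ hθ

theorem theta_autFun (α : ↥(F.autGroup S)) :
    θ S (autFun (α : MulAut S)) = χ (resT hw.2.2.2.1 α) := by
  have hsc := hw.2.2.2.1
  haveI := finite_of_le hsc.1
  have hSc : F.IsCentric S := centric_top hS hw.2.1
  refine hθ.base S _ _ hSc (Nat.zero_le _) (isMap_autFun le_rfl α.2) ?_
    ⟨resT hsc α, id, isMap_id E inf_le_right, fun x hx => ?_, rfl⟩
  · rw [inf_eq_right.2 hsc.1]
    exact centric_top (hS.to_le hsc.1) hw.1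
  · rw [id_eq, autFun_apply _ hx.2]
    exact (coe_resT hsc α ⟨x, hx.2⟩).symm

/-- The maps with trivial value on all centric subgroups. -/
noncomputable def valSys : FusionSystem S where
  Hom P := {φ | φ ∈ F.Hom P ∧ ∀ R ≤ P, F.IsCentric R → θ R (toFun φ) = 1}
  le_of_mem h := F.le_of_mem h.1
  injective_of_mem h := F.injective_of_mem h.1
  conj_mem {P s} hP hs := ⟨F.conj_mem hP hs, fun R hR hRc => by
    have hm := isMap_conj F (le_refl S) hs
    have hSc : F.IsCentric S := centric_top hS hw.2.1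
    rw [hθ.congr R _ (fun y => s * y * s⁻¹) hRc (Nat.zero_le _)
      ((isMap_of_hom (F.conj_mem hP hs)).mono hR) fun x hx => toFun_of_mem _ (hR hx),
      hθ.mono R S _ hRc (Nat.zero_le _) (hR.trans hP) hm]
    have hsS : ∀ x ∈ S, s * x * s⁻¹ ∈ S := fun x hx => S.mul_mem (S.mul_mem hs hx) (S.inv_mem hs)
    obtain ⟨m, hm'⟩ := IsPGroup.iff_card.1 hS
    have hs1 : s ^ p ^ m = 1 := by
      have h := pow_card_eq_one' (x := (⟨s, hs⟩ : S))
      rw [hm'] at h
      exact congrArg Subtype.val h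
    refine orderOf_eq_one_iff.1 (Nat.eq_one_of_dvd_coprimes (hΔ.pow_right m)
      (orderOf_dvd_natCard _) (orderOf_dvd_of_pow_eq_one ?_))
    rw [← theta_iterate hS hθ hΔ hSc (Nat.zero_le _) hm hsS,
      hθ.congr S _ id hSc (Nat.zero_le _) (isMap_iterate hm hsS _) fun x hx => ?_]
    · exact theta_id hS hθ hΔ hSc (Nat.zero_le _)
    · have hstep : ∀ i : ℕ, (fun y => s * y * s⁻¹)^[i] x = s ^ i * x * (s ^ i)⁻¹ := fun i => by
        induction i with
        | zero => simp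
        | succ i ih =>
          rw [Function.iterate_succ_apply', ih, pow_succ', mul_inv_rev]
          group
      rw [hstep, hs1, one_mul, inv_one, mul_one]
      rfl⟩
  comp_mem {P P' φ ψ} hφ hψ h := ⟨F.comp_mem hφ.1 hψ.1 h, fun R hR hRc => by
    have hm : IsMap F R (toFun φ) := (isMap_of_hom hφ.1).mono hR
    have hle : img R (toFun φ) ≤ P' := fun y hy => by
      obtain ⟨x, hx, rfl⟩ := hm.mem_img.1 hy
      rw [toFun_of_mem _ (hR hx)]
      exact h ⟨x, hR hx⟩
    have hm' := (isMap_of_hom hψ.1).mono hle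
    rw [hθ.congr R _ (fun x => toFun ψ (toFun φ x)) hRc (Nat.zero_le _)
      ((isMap_of_hom (F.comp_mem hφ.1 hψ.1 h)).mono hR) fun x hx => ?_,
      hθ.comp R _ _ hRc (Nat.zero_le _) hm hm', hφ.2 R hR hRc,
      hψ.2 _ hle (centric_of_isConj hRc hm.isConj), one_mul]
    rw [toFun_of_mem (ψ.comp (φ.codRestrict P' h)) (hR hx),
      toFun_of_mem ψ (hle (hm.apply_mem_img hx))]
    exact congrArg ψ (Subtype.ext (toFun_of_mem φ (hR hx)).symm)⟩
  inv_mem {P φ} hφ := by
    obtain ⟨ψ, hψ, hψx⟩ := F.inv_mem hφ.1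
    refine ⟨ψ, ⟨hψ, fun R hR hRc => ?_⟩, hψx⟩
    have hm := (isMap_of_hom hψ).mono hR
    have hcan : ∀ x ∈ R, toFun ψ x ∈ P ∧ toFun φ (toFun ψ x) = x := fun x hx => by
      obtain ⟨z, hz⟩ := hR hx
      have e : toFun ψ x = z := by
        rw [toFun_of_mem _ (hR hx), show (⟨x, hR hx⟩ : φ.range) = ⟨φ z, z, rfl⟩ from
          Subtype.ext hz.symm, hψx]
      refine ⟨e ▸ z.2, ?_⟩
      rw [e, toFun_apply, hz]
    have hle : img R (toFun ψ) ≤ P := fun y hy => by
      obtain ⟨x, hx, rfl⟩ := hm.mem_img.1 hy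
      exact (hcan x hx).1
    have hmφ := (isMap_of_hom hφ.1).mono hle
    have h := hθ.comp R _ _ hRc (Nat.zero_le _) hm hmφ
    rw [hφ.2 _ hle (centric_of_isConj hRc hm.isConj), one_mul,
      hθ.congr R _ id hRc (Nat.zero_le _) (hm.comp hmφ fun x hx => hm.apply_mem_img hx)
        fun x hx => (hcan x hx).2, theta_id hS hθ hΔ hRc (Nat.zero_le _)] at h
    exact h.symm

theorem genSys_le_valSys : genSys F p ≤ valSys hS hw hΔ hθ := by
  refine genSys_le_of fun P hP => ?_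
  have hPS := hP.1
  haveI := finite_of_le hPS
  let v : ↥(F.autGroup P) →* Δ :=
    { toFun := fun β => θ P (autFun (β : MulAut P))
      map_one' := (hθ.congr P _ id hP (Nat.zero_le _) (isMap_autFun hPS (one_mem _))
        fun x hx => autFun_one hx).trans (theta_id hS hθ hΔ hP (Nat.zero_le _))
      map_mul' := fun a b => by
        rw [Subgroup.coe_mul, hθ.congr P _ (fun x => autFun (a : MulAut P) (autFun (b : MulAut P) x)) hP
          (Nat.zero_le _) (isMap_autFun hPS (mul_mem a.2 b.2)) fun x hx => autFun_mul_apply _ _ hx,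
          hθ.comp P _ _ hP (Nat.zero_le _) (isMap_autFun hPS b.2)
            ((isMap_autFun hPS a.2).mono (le_of_eq img_autFun)), img_autFun] }
  have hle : pGenAut F p P ≤ v.ker := by
    refine (Subgroup.closure_le _).2 fun β ⟨k, hk⟩ => ?_
    refine orderOf_eq_one_iff.1 (Nat.eq_one_of_dvd_coprimes (hΔ.pow_right k)
      (orderOf_dvd_natCard _) (orderOf_dvd_of_pow_eq_one ?_))
    rw [← map_pow, ← hk, pow_orderOf_eq_one, map_one]
  rintro _ ⟨β, hβ, rfl⟩
  refine (autGroup_mem_iff hPS).2 ⟨(autGroup_mem_iff hPS).1 β.2, fun R hR hRc => ?_⟩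
  show θ R (autFun (β : MulAut P)) = 1
  rw [hθ.mono R P _ hRc (Nat.zero_le _) hR (isMap_autFun hPS β.2)]
  exact hle hβ

theorem theta_genSys {R : Subgroup Ω} {g : Ω → Ω} (hg : IsMap (genSys F p) P g) (hR : R ≤ P)
    (hRc : F.IsCentric R) : θ R g = 1 := by
  obtain ⟨φ, hφ, hφx⟩ := le_iff_isMap.1 (genSys_le_valSys hS hw hΔ hθ) P g hg
  rw [← hφ.2 R hR hRc]
  exact (hθ.congr R _ _ hRc (Nat.zero_le _) ((isMap_of_hom hφ.1).mono hR) fun x hx =>
    (toFun_of_mem φ (hR hx)).trans (hφx ⟨x, hR hx⟩)).symm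

theorem linkAut_le_charAut : linkAut F p ≤ charAut hw.2.2.2.1 χ := by
  refine (Subgroup.closure_le _).2 fun α ⟨hα, U, hU, hαU⟩ => ?_
  refine (mem_charAut _ hα).2 ?_
  rw [← theta_autFun hS hw hΔ hθ ⟨α, hα⟩,
    ← hθ.mono U S _ hU (Nat.zero_le _) hU.1 (isMap_autFun le_rfl hα)]
  exact theta_genSys hS hw hΔ hθ hαU le_rfl hU

/-- Every element of `Aut_F(T)` has the value of an automorphism of `S` followed by a map of the
generated system extending it. -/
theorem exists_lift_value (a : ↥(F.autGroup T)) :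
    ∃ α : ↥(F.autGroup S), ∃ g, IsMap (genSys F p) (T ⊔ centralizerIn S T) g ∧
      (∀ x ∈ T, autFun (a : MulAut T) x = autFun (α : MulAut S) (g x)) ∧
      χ (resT hw.2.2.2.1 α) = χ a := by
  obtain ⟨hEsat, hF, hinv⟩ := id hw
  have hsc := hinv.2.1
  have hTS := hsc.1
  haveI := finite_of_le hTS
  set C := centralizerIn S T
  have hfn : F.IsFullyNormalized T := ⟨hTS, fun Q hQ => by
    obtain ⟨f, hf, hi⟩ := isConj_iff.1 hQ
    rw [StronglyClosed.img_eq hsc hf le_rfl] at hi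
    subst hi
    rfl⟩
  obtain ⟨b, hb, hbx⟩ := receptive_extend_centralizer (receptive_of_fullyNormalized hS hF hfn)
    (isMap_autFun hTS a.2) img_autFun
  have hTC : T ⊔ C ≤ S := sup_le hTS inf_le_left
  have hsc' := stronglyClosed_sup_centralizerIn hS hF hsc
  have hc : F.IsCentric (T ⊔ C) := ⟨hTC, fun R hR => by
    obtain ⟨f, hf, rfl⟩ := isConj_iff.1 hR
    rw [StronglyClosed.img_eq hsc' hf le_rfl]
    exact fun z hz => mem_sup_right ⟨hz.1, fun t ht => hz.2 t (mem_sup_left ht)⟩⟩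
  have hint : (T ⊔ C) ⊓ T = T := inf_eq_right.2 le_sup_left
  have hval : θ (T ⊔ C) b = χ a := by
    refine hθ.base _ b _ hc (Nat.zero_le _) hb (hint.symm ▸ centric_top (hS.to_le hTS) hEsat)
      ⟨a, id, isMap_id E inf_le_right, fun x hx => ?_, rfl⟩
    rw [hbx x hx.2, id_eq]
  obtain ⟨α, hα, g, hg, hbg⟩ := exists_frattini hS hF hb
  refine ⟨⟨α, hα⟩, g, hg, fun x hx => by rw [← hbx x hx]; exact hbg x (mem_sup_left hx), ?_⟩
  have hgF := le_iff_isMap.1 genSys_le _ g hg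
  rw [← theta_autFun hS hw hΔ hθ ⟨α, hα⟩, ← hval,
    hθ.congr _ b (fun x => autFun α (g x)) hc (Nat.zero_le _) hb hbg,
    hθ.comp _ g _ hc (Nat.zero_le _) hgF ((isMap_autFun le_rfl hα).mono hgF.img_le),
    theta_genSys hS hw hΔ hθ hg le_rfl hc, mul_one]
  exact (hθ.mono _ _ _ (centric_of_isConj hc hgF.isConj) (Nat.zero_le _) hgF.img_le
    (isMap_autFun le_rfl hα)).symm

theorem autGroup_indexSys_top {α : MulAut S}
    (h : α ∈ (indexSys hS hw.2.1 (charAut hw.2.2.2.1 χ) (charAut_le _)).autGroup S) :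
    α ∈ charAut hw.2.2.2.1 χ := by
  have hSc : F.IsCentric S := centric_top hS hw.2.1
  have h0 : IsMap (indexSys hS hw.2.1 (charAut hw.2.2.2.1 χ) (charAut_le _)) S (autFun α) :=
    isMap_autFun le_rfl h
  obtain ⟨hαm, β, hβ, g, hg, hgx⟩ := (isMap_indexSys_iff hS hw.2.1 _ _).1 h0
  have hα : α ∈ F.autGroup S := (autGroup_iff_isMap le_rfl fun x => (autFun_apply α x.2).symm).2 hαm
  have hβF := charAut_le _ hβ
  refine (mem_charAut _ hα).2 ?_
  rw [← theta_autFun hS hw hΔ hθ ⟨α, hα⟩,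
    hθ.congr S _ (fun x => autFun β (g x)) hSc (Nat.zero_le _) hαm hgx,
    hθ.comp S g _ hSc (Nat.zero_le _) (le_iff_isMap.1 genSys_le S g hg)
      ((isMap_autFun le_rfl hβF).mono hg.img_le), theta_genSys hS hw hΔ hθ hg le_rfl hSc, mul_one]
  haveI := finite_of_le hSc.1
  rw [show img S g = S from eq_of_le_of_card_le hg.img_le hg.card_img.ge,
    theta_autFun hS hw hΔ hθ ⟨β, hβF⟩]
  exact (mem_charAut _ hβF).1 hβ

omit hΔ hθ

theorem isNormalIn_indexSys (hL : linkAut F p ≤ charAut hw.2.2.2.1 χ) :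
    (indexSys hS hw.2.1 (charAut hw.2.2.2.1 χ) (charAut_le _)).IsNormalIn F p := by
  have hF := hw.2.1
  set K := charAut hw.2.2.2.1 χ
  set F₀ := indexSys hS hF K (charAut_le _)
  have hsub : F₀.IsSubsystemOf F := indexSys_le hS hF K _
  have hscS : F.StronglyClosed S := ⟨le_rfl, fun R _ φ hφ x => (F.le_of_mem hφ).2 x⟩
  have hC : S ⊔ centralizerIn S S = S := sup_eq_left.2 inf_le_left
  refine isNormalIn_iff.2 ⟨⟨isSaturated_indexSys hS hF K _ hL, hF,
    isInvariantIn_iff.2 ⟨hsub, hscS, fun a ha P f hf => ?_, fun P f hP hf => ?_⟩⟩,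
    fun a ha => ?_⟩
  · haveI := finite_of_le (le_refl S)
    set γ := ha.toAut (StronglyClosed.img_eq hscS ha le_rfl)
    have hγ : γ ∈ F.autGroup S := ha.toAut_mem _
    have hγx : ∀ x ∈ S, autFun γ x = a x := fun x hx => by
      rw [autFun_apply γ hx]; exact ha.toAut_apply _ ⟨x, hx⟩
    obtain ⟨hfF, β, hβ, g, hg, hfx⟩ := (isMap_indexSys_iff hS hF K _).1 hf
    obtain ⟨g', hg', hg'x⟩ := genSys_transport hS hF hγ hg
    have hi : img P (autFun γ) = img P a := img_congr fun x hx => hγx x (hf.le hx)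
    rw [hi] at hg'
    have hK : γ * β * γ⁻¹ ∈ K := by
      have hβF := charAut_le _ hβ
      refine (mem_charAut _ (mul_mem (mul_mem hγ hβF) (inv_mem hγ))).2 ?_
      rw [show (⟨γ * β * γ⁻¹, _⟩ : ↥(F.autGroup S)) = ⟨γ, hγ⟩ * ⟨β, hβF⟩ * ⟨γ, hγ⟩⁻¹ from rfl,
        map_mul, map_mul, map_inv, map_mul, map_mul, map_inv, (mem_charAut _ hβF).1 hβ, mul_one,
        mul_inv_cancel]
    refine ⟨fun x => autFun (γ * β * γ⁻¹) (g' x), (isMap_indexSys_iff hS hF K _).2
      ⟨(le_iff_isMap.1 genSys_le _ _ hg').comp (isMap_autFun le_rfl (charAut_le _ hK))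
        fun x hx => hg'.mem hx, _, hK, g', hg', fun x hx => rfl⟩, fun x hx => ?_⟩
    show autFun (γ * β * γ⁻¹) (g' (a x)) = a (f x)
    rw [← hγx x (hf.le hx), hg'x x hx, autFun_mul_apply _ _ (autFun_mem _ (hg.mem hx)),
      autFun_inv_apply γ (hg.mem hx), autFun_mul_apply _ _ (hg.mem hx), ← hfx x hx,
      hγx _ (hf.mem hx)]
  · obtain ⟨α, hα, g, hg, hfx⟩ := exists_frattini hS hF hf
    exact ⟨autFun α, isMap_autFun le_rfl hα, g,
      le_iff_isMap.1 (genSys_le_indexSys hS hF K _) P g hg, hfx⟩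
  · rw [hC]
    refine ⟨a, isSubsystemOf_iff.1 hsub S a ha, fun x hx => rfl, fun c hc => ?_⟩
    have haF := isSubsystemOf_iff.1 hsub S a ha
    refine ⟨S.mul_mem (S.inv_mem hc.1) (ha.mem hc.1), fun y hy => ?_⟩
    have hi : img S a = S := StronglyClosed.img_eq hscS haF le_rfl
    have h1 := haF.apply_mem_centralizerIn le_rfl hc.1 hc.2
    rw [hi] at h1
    exact (mul_mem (inv_mem hc) h1).2 y hy

end Theta

end CfsgLib.Comp.Fus
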