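import Cfsg.Agent.Lib.Comp.CommutingProduct
import Cfsg.Agent.Lib.Fusion.StrongInvariance
import Cfsg.Agent.Lib.Fusion.ResidualSystem

/-!
The Frattini condition for the product of two commuting normal subsystems.
-/

set_option autoImplicit false
set_option linter.unusedVariables false
set_option linter.unusedSectionVars false
set_option linter.style.haveILetI false

namespace CfsgLib.Comp.CProd

open Cfsg Cfsg.FusionSystem Subgroup CfsgLib.Fusion CfsgLib.Comp.Fus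

variable {Ω : Type*} [Group Ω] {S T₁ T₂ : Subgroup Ω} {F : FusionSystem S}
  {E₁ : FusionSystem T₁} {E₂ : FusionSystem T₂} {p : ℕ} [Fact p.Prime] [Finite S]

/-- An automorphism of `T₁ T₂` after a map of the product system. -/
def Dec (hD : Setup F E₁ E₂ p) (P : Subgroup Ω) (f : Ω → Ω) : Prop :=
  ∃ al, IsMap F (T₁ ⊔ T₂) al ∧ ∃ g, IsMap (prodSys hD) P g ∧ ∀ x ∈ P, f x = al (g x)

namespace Setup

variable (hD : Setup F E₁ E₂ p) {P Q R : Subgroup Ω} {f f' : Ω → Ω}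

theorem dec_mono (h : Dec hD P f) (hQ : Q ≤ P) : Dec hD Q f := by
  obtain ⟨al, hal, g, hg, hx⟩ := h
  exact ⟨al, hal, g, hg.mono hQ, fun x h => hx x (hQ h)⟩

theorem dec_congr (h : Dec hD P f) (he : ∀ x ∈ P, f x = f' x) : Dec hD P f' := by
  obtain ⟨al, hal, g, hg, hx⟩ := h
  exact ⟨al, hal, g, hg, fun x h => (he x h).symm.trans (hx x h)⟩

include hD

theorem exists_top_inv {al : Ω → Ω} (hal : IsMap F (T₁ ⊔ T₂) al) :
    ∃ be, IsMap F (T₁ ⊔ T₂) be ∧ (∀ x ∈ T₁ ⊔ T₂, be (al x) = x) ∧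
      ∀ y ∈ T₁ ⊔ T₂, al (be y) = y := by
  have hi : img (T₁ ⊔ T₂) al = T₁ ⊔ T₂ :=
    StronglyClosed.img_eq hD.stronglyClosed_sup hal le_rfl
  obtain ⟨be, hbe, hbx, -, -⟩ := hal.exists_inv
  rw [hi] at hbe
  refine ⟨be, hbe, hbx, fun y hy => ?_⟩
  obtain ⟨x, hx, rfl⟩ := hal.mem_img.1 (hi.ge hy)
  rw [hbx x hx]

theorem dec_id {P : Subgroup Ω} {g : Ω → Ω} (hg : IsMap (prodSys hD) P g) : Dec hD P g :=
  ⟨id, isMap_id F hD.le_sup, g, hg, fun _ _ => rfl⟩

theorem dec_top {f : Ω → Ω} (hf : IsMap F (T₁ ⊔ T₂) f) (hP : P ≤ T₁ ⊔ T₂) : Dec hD P f :=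
  ⟨f, hf, id, isMap_id _ hP, fun _ _ => rfl⟩

theorem dec_comp (h : Dec hD P f) (h' : Dec hD Q f') (hmem : ∀ x ∈ P, f x ∈ Q) :
    Dec hD P (fun x => f' (f x)) := by
  obtain ⟨al, hal, g, hg, hgx⟩ := h
  obtain ⟨be, hbe, k, hk, hkx⟩ := h'
  obtain ⟨ai, hai, hai₁, hai₂⟩ := hD.exists_top_inv hal
  obtain ⟨k', hk', hk'x⟩ := hD.transport hai hk
  have hback : ∀ x ∈ P, ai (f x) = g x := fun x hx => by rw [hgx x hx, hai₁ _ (hg.mem hx)]
  have hQT : ∀ x ∈ P, f x ∈ T₁ ⊔ T₂ := fun x hx => hk.le (hmem x hx)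
  refine ⟨fun x => be (al x), hal.comp hbe fun x hx =>
    StronglyClosed.apply_mem hD.stronglyClosed_sup hal hx hx, fun x => k' (g x),
    hg.comp hk' fun x hx => ?_, fun x hx => ?_⟩
  · rw [← hback x hx]
    exact (hai.mono hk.le).apply_mem_img (hmem x hx)
  · show f' (f x) = be (al (k' (g x)))
    rw [← hback x hx, hk'x _ (hmem x hx), hai₂ _ (hk.mem (hmem x hx))]
    exact hkx _ (hmem x hx)

theorem dec_inv (h : Dec hD P f) (hf : IsMap F P f) :
    ∃ g, Dec hD (img P f) g ∧ ∀ x ∈ P, g (f x) = x := by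
  obtain ⟨al, hal, g, hg, hgx⟩ := h
  obtain ⟨k, hk, hkx, hky, -⟩ := hg.exists_inv
  obtain ⟨k', hk', hk'x⟩ := hD.transport hal hk
  obtain ⟨ai, hai, hai₁, hai₂⟩ := hD.exists_top_inv hal
  have hle : img P f ≤ img (img P g) al := fun y hy => by
    obtain ⟨x, hx, rfl⟩ := hf.mem_img.1 hy
    rw [hgx x hx]
    exact (hal.mono hg.img_le).apply_mem_img (hg.apply_mem_img hx)
  refine ⟨fun y => ai (k' y), ⟨ai, hai, k', hk'.mono hle, fun _ _ => rfl⟩, fun x hx => ?_⟩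
  show ai (k' (f x)) = x
  rw [hgx x hx, hk'x _ (hg.apply_mem_img hx), hkx x hx, hai₁ _ (hg.le hx)]

theorem isNormal_inf : F.IsNormal (T₁ ⊓ T₂) :=
  isNormal_of_abelian_closed hD.pS hD.sat
    ⟨inf_le_left.trans hD.le₁, fun X hX φ hφ x => Subgroup.mem_inf.2
      ⟨hD.sc₁.2 X (hX.trans inf_le_left) φ hφ x,
        hD.swap.sc₁.2 X (hX.trans inf_le_right) φ hφ x⟩⟩
    fun a ha b hb => hD.comm a (Subgroup.mem_inf.1 ha).1 b (Subgroup.mem_inf.1 hb).2

/-- An automorphism of `R` read on the first part, modulo the second factor. -/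
theorem exists_part_aut {R : Subgroup Ω} (hR : R ≤ T₁ ⊔ T₂) {δ : MulAut R}
    (hδ : δ ∈ F.autGroup R) :
    ∃ δ₁ : MulAut (part T₁ T₂ R), δ₁ ∈ F.autGroup (part T₁ T₂ R) ∧
      ∀ a (ha : a ∈ part T₁ T₂ R) b (hb : b ∈ T₂) (hab : a * b ∈ R),
        ((δ₁ ⟨a, ha⟩ : part T₁ T₂ R) : Ω)⁻¹ * ((δ ⟨a * b, hab⟩ : R) : Ω) ∈ T₂ := by
  have hRS : R ≤ S := hR.trans hD.le_sup
  have hR₁S : part T₁ T₂ R ≤ S := inf_le_right.trans hD.le₁
  haveI := finite_of_le hR₁S
  obtain ⟨g, hg, hgx⟩ :=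
    exists_map_mod hD.pS hD.sat hD.swap.sc₁ (isMap_of_autGroup hRS hδ)
  have hle : part T₁ T₂ R ≤ R ⊔ T₂ := inf_le_left
  have hval : ∀ a ∈ part T₁ T₂ R, ∀ b ∈ T₂, ∀ hab : a * b ∈ R,
      (g a)⁻¹ * ((δ ⟨a * b, hab⟩ : R) : Ω) ∈ T₂ := by
    intro a ha b hb hab
    have h := hgx _ hab
    rw [toFun_aut_apply δ hab, hg.map_mul (hle ha) (mem_sup_right hb), mul_inv_rev, mul_assoc] at h
    have h2 := T₂.mul_mem (StronglyClosed.apply_mem hD.swap.sc₁ hg (mem_sup_right hb) hb) h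
    rwa [← mul_assoc, mul_inv_cancel, one_mul] at h2
  have hm := hg.mono hle
  have hi : img (part T₁ T₂ R) g = part T₁ T₂ R := eq_of_le_of_card_le (fun y hy => by
    obtain ⟨a, ha, rfl⟩ := hm.mem_img.1 hy
    obtain ⟨haT, b, hb, hab⟩ := (mem_part_iff hD.comm hR).1 ha
    exact part_mem_left hD.comm hR (StronglyClosed.apply_mem hD.sc₁ hm ha haT)
      (hval a ha b hb hab) (by rw [mul_inv_cancel_left]; exact (δ _).2)) hm.card_img.ge
  refine ⟨hm.toAut hi, hm.toAut_mem hi, fun a ha b hb hab => ?_⟩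
  rw [IsMap.toAut_apply]
  exact hval a ha b hb hab

theorem exists_part_conj {R : Subgroup Ω} (hR : R ≤ T₁ ⊔ T₂) {d₁ : Ω → Ω}
    (hd₁ : IsMap E₁ (part T₁ T₂ R) d₁) (hmem : ∀ a ∈ part T₁ T₂ R, d₁ a ∈ part T₁ T₂ R)
    {δ₁ : MulAut (part T₁ T₂ R)} (hδ₁ : δ₁ ∈ F.autGroup (part T₁ T₂ R)) :
    ∃ e₁, IsMap E₁ (part T₁ T₂ R) e₁ ∧ ∀ (u : part T₁ T₂ R),
      e₁ ((δ₁ u : part T₁ T₂ R) : Ω) = ((δ₁ ⟨d₁ u, hmem u u.2⟩ : part T₁ T₂ R) : Ω) := by
  have hle : part T₁ T₂ R ≤ T₁ := inf_le_right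
  haveI := finite_of_le (hle.trans hD.le₁)
  have hi : img (part T₁ T₂ R) d₁ = part T₁ T₂ R := eq_of_le_of_card_le (fun y hy => by
    obtain ⟨a, ha, rfl⟩ := hd₁.mem_img.1 hy
    exact hmem a ha) hd₁.card_img.ge
  have h := autGroup_conj_mem hD.n₁.1.2.2 hle hδ₁ (hd₁.toAut_mem hi)
  refine ⟨_, isMap_of_autGroup hle h, fun u => ?_⟩
  rw [toFun_aut_apply _ (δ₁ u).2, MulAut.mul_apply, MulAut.mul_apply]
  simp only [Subtype.coe_eta, MulAut.inv_apply_self]
  exact congrArg (fun z => ((δ₁ z : part T₁ T₂ R) : Ω)) (Subtype.ext (IsMap.toAut_apply _ _ _))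

/-- Modulo `T₁ ∩ T₂` the automorphisms of the product system are normalized. -/
theorem conj_mod {R : Subgroup Ω} (hR : R ≤ T₁ ⊔ T₂) (hZR : T₁ ⊓ T₂ ≤ R) {δ d : MulAut R}
    (hδ : δ ∈ F.autGroup R) (hd : d ∈ (prodSys hD).autGroup R) :
    ∃ d' ∈ (prodSys hD).autGroup R, ∀ x : R,
      ((d' x : R) : Ω)⁻¹ * (((δ * d * δ⁻¹) x : R) : Ω) ∈ T₁ ⊓ T₂ := by
  have hR' : R ≤ T₂ ⊔ T₁ := by rwa [sup_comm]
  haveI := finite_of_le (hR.trans hD.le_sup)
  obtain ⟨-, d₁, d₂, hd₁, hd₂, hdx⟩ := hD.isMap_iff.1 (isMap_of_autGroup hR hd)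
  obtain ⟨δ₁, hδ₁, hδ₁x⟩ := hD.exists_part_aut hR hδ
  obtain ⟨δ₂, hδ₂, hδ₂x⟩ := hD.swap.exists_part_aut hR' hδ
  have hm₁ : ∀ a ∈ part T₁ T₂ R, d₁ a ∈ part T₁ T₂ R := fun a ha => by
    obtain ⟨haT, b, hb, hab⟩ := (mem_part_iff hD.comm hR).1 ha
    refine part_mem_left hD.comm hR (hd₁.mem ha)
      (hd₂.mem (part_mem_left hD.swap.comm hR' hb haT (hD.comm a haT b hb ▸ hab))) ?_
    rw [← hdx a haT b hb hab, toFun_aut_apply d hab]
    exact (d _).2
  have hm₂ : ∀ b ∈ part T₂ T₁ R, d₂ b ∈ part T₂ T₁ R := fun b hb => by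
    obtain ⟨hbT, a, ha, hba⟩ := (mem_part_iff hD.swap.comm hR').1 hb
    have hab : a * b ∈ R := (hD.comm a ha b hbT).symm ▸ hba
    refine part_mem_left hD.swap.comm hR' (hd₂.mem hb)
      (hd₁.mem (part_mem_left hD.comm hR ha hbT hab)) ?_
    rw [← hD.comm _ (hd₁.mem (part_mem_left hD.comm hR ha hbT hab)) _ (hd₂.mem hb),
      ← hdx a ha b hbT hab, toFun_aut_apply d hab]
    exact (d _).2
  obtain ⟨e₁, he₁, he₁x⟩ := hD.exists_part_conj hR hd₁ hm₁ hδ₁
  obtain ⟨e₂, he₂, he₂x⟩ := hD.swap.exists_part_conj hR' hd₂ hm₂ hδ₂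
  obtain ⟨f, hf, hfx⟩ := hD.exists_map_of_pair hR he₁ he₂
  -- the value of `δ` modulo the intersection
  have split : ∀ u (hu : u ∈ part T₁ T₂ R) v (hv : v ∈ part T₂ T₁ R) (huv : u * v ∈ R),
      ∃ z ∈ T₁ ⊓ T₂, ((δ ⟨u * v, huv⟩ : R) : Ω) =
        ((δ₁ ⟨u, hu⟩ : part T₁ T₂ R) : Ω) * ((δ₂ ⟨v, hv⟩ : part T₂ T₁ R) : Ω) * z := by
    intro u hu v hv huv
    set A : Ω := ((δ₁ ⟨u, hu⟩ : part T₁ T₂ R) : Ω)
    set B : Ω := ((δ₂ ⟨v, hv⟩ : part T₂ T₁ R) : Ω)
    set X : Ω := ((δ ⟨u * v, huv⟩ : R) : Ω)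
    have hA : A ∈ T₁ := (δ₁ _).2.2
    have hB : B ∈ T₂ := (δ₂ _).2.2
    have h1 : A⁻¹ * X ∈ T₂ := hδ₁x u hu v hv.2 huv
    have hvu : v * u ∈ R := hD.comm u hu.2 v hv.2 ▸ huv
    have h2 : B⁻¹ * X ∈ T₁ := by
      have h := hδ₂x v hv u hu.2 hvu
      rwa [show (⟨v * u, hvu⟩ : R) = ⟨u * v, huv⟩ from
        Subtype.ext (hD.comm u hu.2 v hv.2).symm] at h
    refine ⟨(A * B)⁻¹ * X, Subgroup.mem_inf.2 ⟨?_, ?_⟩, (mul_inv_cancel_left _ _).symm⟩
    · rw [hD.comm A hA B hB, mul_inv_rev, mul_assoc]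
      exact T₁.mul_mem (T₁.inv_mem hA) h2
    · rw [mul_inv_rev, mul_assoc]
      exact T₂.mul_mem (T₂.inv_mem hB) h1
  have main : ∀ x : R, (f x)⁻¹ * (((δ * d * δ⁻¹) x : R) : Ω) ∈ T₁ ⊓ T₂ := by
    intro x
    obtain ⟨y, rfl⟩ := δ.surjective x
    rw [MulAut.mul_apply, MulAut.mul_apply, MulAut.inv_apply_self]
    obtain ⟨u, hu, v, hv, huv⟩ := exists_split hD.comm (hR y.2)
    have huR : u * v ∈ R := huv.symm ▸ y.2
    obtain rfl : y = ⟨u * v, huR⟩ := Subtype.ext huv.symm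
    have hu' : u ∈ part T₁ T₂ R := part_mem_left hD.comm hR hu hv huR
    have hv' : v ∈ part T₂ T₁ R :=
      part_mem_left hD.swap.comm hR' hv hu (hD.comm u hu v hv ▸ huR)
    obtain ⟨z, hz, hzx⟩ := split u hu' v hv' huR
    have hdy : d₁ u * d₂ v ∈ R := by
      rw [← hdx u hu v hv huR, toFun_aut_apply d huR]; exact (d _).2
    obtain ⟨z', hz', hz'x⟩ := split _ (hm₁ u hu') _ (hm₂ v hv') hdy
    have he : d ⟨u * v, huR⟩ = ⟨d₁ u * d₂ v, hdy⟩ := Subtype.ext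
      ((toFun_aut_apply d huR).symm.trans (hdx u hu v hv huR))
    set A : Ω := ((δ₁ ⟨u, hu'⟩ : part T₁ T₂ R) : Ω)
    set B : Ω := ((δ₂ ⟨v, hv'⟩ : part T₂ T₁ R) : Ω)
    have hzR : z ∈ R := hZR hz
    have hAB : A * B ∈ R := by
      have h := R.mul_mem (δ ⟨u * v, huR⟩).2 (R.inv_mem hzR)
      rwa [hzx, mul_inv_cancel_right] at h
    have hfz : f z = z := by
      obtain ⟨hz₁, hz₂⟩ := Subgroup.mem_inf.1 hz
      have h := hfx z hz₁ 1 T₂.one_mem (by rw [mul_one]; exact hzR)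
      rw [mul_one] at h
      rw [h, he₂.map_one, mul_one, hD.fixes₁ he₁
        (part_mem_left hD.comm hR hz₁ T₂.one_mem (by rw [mul_one]; exact hzR)) hz₂]
    rw [he, hz'x, hzx, hf.map_mul hAB hzR, hfz,
      hfx A (δ₁ _).2.2 B (δ₂ _).2.2 hAB, he₁x ⟨u, hu'⟩, he₂x ⟨v, hv'⟩, mul_inv_rev, mul_assoc,
      inv_mul_cancel_left]
    exact (T₁ ⊓ T₂).mul_mem ((T₁ ⊓ T₂).inv_mem hz) hz'
  have hfi : img R f = R := eq_of_le_of_card_le (fun y hy => by
    obtain ⟨x, hx, rfl⟩ := hf.mem_img.1 hy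
    have h := R.mul_mem ((δ * d * δ⁻¹) ⟨x, hx⟩).2 (R.inv_mem (hZR (main ⟨x, hx⟩)))
    rwa [mul_inv_rev, inv_inv, mul_inv_cancel_left] at h) hf.card_img.ge
  refine ⟨hf.toAut hfi, hf.toAut_mem hfi, fun x => ?_⟩
  rw [IsMap.toAut_apply]
  exact main x

/-- The Frattini condition. -/
theorem dec_all : ∀ (n : ℕ) (P : Subgroup Ω) (f : Ω → Ω), P ≤ T₁ ⊔ T₂ → IsMap F P f →
    Nat.card ↥(T₁ ⊔ T₂) - Nat.card P ≤ n → Dec hD P f := by
  set T := T₁ ⊔ T₂ with hTdef
  have hTS : T ≤ S := hD.le_sup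
  have hsc : F.StronglyClosed T := hD.stronglyClosed_sup
  have hS := hD.pS
  have hF := hD.sat
  have hsub := isSubsystemOf_iff.1 hD.isSubsystemOf
  haveI := finite_of_le hTS
  intro n
  induction n with
  | zero =>
    intro P f hP hf hn
    obtain rfl : P = T := eq_of_le_of_card_le hP (by omega)
    exact hD.dec_top hf le_rfl
  | succ n ih =>
    intro P f hP hf hn
    rcases eq_or_ne P T with rfl | hPT
    · exact hD.dec_top hf le_rfl
    haveI := finite_of_le (hP.trans hTS)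
    have grow : ∀ U, U ≤ T → U ≠ T → Nat.card U = Nat.card P →
        U < normalizerIn T U ∧ ∀ g, IsMap F (normalizerIn T U) g →
          Dec hD (normalizerIn T U) g := by
      intro U hU hne hc
      have hlt := lt_normalizerIn (hS.to_le hTS) (lt_of_le_of_ne hU hne)
      refine ⟨hlt, fun g hg => ih _ g inf_le_left hg ?_⟩
      haveI := finite_normalizerIn (S := T) (P := U)
      have h1 : Nat.card U < Nat.card (normalizerIn T U) := lt_of_not_ge fun h =>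
        hlt.ne (eq_of_le_of_card_le hlt.le h)
      omega
    obtain ⟨R, hconj, hR⟩ := exists_fullyNormalized_conj F (hP.trans hTS)
    have hPf : img P f ≤ T := fun y hy => by
      obtain ⟨x, hx, rfl⟩ := hf.mem_img.1 hy
      exact StronglyClosed.apply_mem hsc hf hx (hP hx)
    obtain ⟨f₀, hf₀, hi₀⟩ := isConj_iff.1 hconj
    have hRT : R ≤ T := hi₀ ▸ fun y hy => by
      obtain ⟨x, hx, rfl⟩ := hf₀.mem_img.1 hy
      exact StronglyClosed.apply_mem hsc hf₀ hx (hP hx)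
    obtain ⟨g₁, hg₁, hg₁i, -⟩ := exists_map_normalizerIn_of_fullyNormalized hS hF hR hconj
    obtain ⟨g₂, hg₂, hg₂i, -⟩ := exists_map_normalizerIn_of_fullyNormalized hS hF hR
      (isConj_trans (isConj_symm hf.isConj) hconj)
    have hNN : ∀ U, normalizerIn T U ≤ normalizerIn S U := fun U => inf_le_inf_right _ hTS
    have hne' : img P f ≠ T := fun h => hPT (eq_of_le_of_card_le hP (by
      rw [← hf.card_img, h]))
    obtain ⟨hlt₁, hdec₁⟩ := grow P hP hPT rfl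
    obtain ⟨hlt₂, hdec₂⟩ := grow (img P f) hPf hne' hf.card_img
    have hd₁ : Dec hD P g₁ := hD.dec_mono (hdec₁ g₁ (hg₁.mono (hNN P))) hlt₁.le
    have hd₂ : Dec hD (img P f) g₂ := hD.dec_mono (hdec₂ g₂ (hg₂.mono (hNN _))) hlt₂.le
    have hm₁ : IsMap F P g₁ := hg₁.mono (hlt₁.le.trans (hNN P))
    have hm₂ : IsMap F (img P f) g₂ := hg₂.mono (hlt₂.le.trans (hNN _))
    obtain ⟨k₁, hk₁, hk₁x, hk₁y, -⟩ := hm₁.exists_inv
    rw [hg₁i] at hk₁ hk₁y
    have hbm := (hk₁.comp hf fun y hy => (hk₁y y hy).1).comp hm₂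
      fun y hy => hf.apply_mem_img (hk₁y y hy).1
    have hbi : img R (fun y => g₂ (f (k₁ y))) = R := by
      haveI := finite_of_le hR.1
      refine eq_of_le_of_card_le (fun y hy => ?_) hbm.card_img.ge
      obtain ⟨x, hx, rfl⟩ := hbm.mem_img.1 hy
      exact hg₂i.le (hm₂.apply_mem_img (hf.apply_mem_img (hk₁y x hx).1))
    suffices hmid : Dec hD R (fun y => g₂ (f (k₁ y))) by
      obtain ⟨k₂, hk₂, hk₂x⟩ := hD.dec_inv hd₂ hm₂
      rw [hg₂i] at hk₂
      have h1 := hD.dec_comp hd₁ hmid fun x hx => hg₁i.le (hm₁.apply_mem_img hx)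
      have h2 := hD.dec_comp h1 hk₂ fun x hx => by
        show g₂ (f (k₁ (g₁ x))) ∈ R
        rw [hk₁x x hx]
        exact hg₂i.le (hm₂.apply_mem_img (hf.apply_mem_img hx))
      refine hD.dec_congr h2 fun x hx => ?_
      show k₂ (g₂ (f (k₁ (g₁ x)))) = f x
      rw [hk₁x x hx, hk₂x _ (hf.apply_mem_img hx)]
    set b := fun y => g₂ (f (k₁ y)) with hbdef
    haveI := finite_of_le hR.1
    have hRne : R ≠ T := fun h => hPT (eq_of_le_of_card_le hP (by rw [← h, isConj_card hconj]))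
    obtain ⟨hltR, hdecR⟩ := grow R hRT hRne (isConj_card hconj)
    by_cases hZR : T₁ ⊓ T₂ ≤ R
    swap
    · -- a larger source
      have hZn := hD.isNormal_inf
      obtain ⟨g, hg, hgx, -⟩ := (isNormal_iff.1 hZn).2 R b hbm
      have hle : R ⊔ (T₁ ⊓ T₂) ≤ T := sup_le hRT (inf_le_left.trans le_sup_left)
      haveI := finite_of_le (hle.trans hTS)
      have hlt : Nat.card R < Nat.card ↥(R ⊔ (T₁ ⊓ T₂)) := lt_of_not_ge fun h =>
        hZR (le_sup_right.trans (eq_of_le_of_card_le le_sup_left h).ge)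
      have := isConj_card hconj
      exact hD.dec_congr (hD.dec_mono (ih _ g hle hg (by omega)) le_sup_left) hgx
    -- the decomposable automorphisms
    set Z := T₁ ⊓ T₂ with hZdef
    have hmap : ∀ γ : F.autGroup R, IsMap F R (autFun (γ : MulAut R)) :=
      fun γ => isMap_autFun hR.1 γ.2
    have dmul : ∀ γ δ : F.autGroup R, Dec hD R (autFun (γ : MulAut R)) →
        Dec hD R (autFun (δ : MulAut R)) → Dec hD R (autFun ((γ * δ : F.autGroup R) : MulAut R)) :=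
      fun γ δ hγ hδ => hD.dec_congr (hD.dec_comp hδ hγ fun x hx => autFun_mem _ hx)
        fun x hx => (autFun_mul_apply _ _ hx).symm
    have done' : Dec hD R (autFun ((1 : F.autGroup R) : MulAut R)) :=
      hD.dec_congr (hD.dec_id (isMap_id (prodSys hD) hRT)) fun x hx => (autFun_one hx).symm
    let L : Subgroup (F.autGroup R) :=
      { carrier := {γ | Dec hD R (autFun (γ : MulAut R))}
        one_mem' := done'
        mul_mem' := fun {γ δ} => dmul γ δ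
        inv_mem' := fun {γ} hγ => by
          have hpow : ∀ i : ℕ, Dec hD R (autFun ((γ ^ i : F.autGroup R) : MulAut R)) := fun i => by
            induction i with
            | zero => rw [pow_zero]; exact done'
            | succ i hi => rw [pow_succ]; exact dmul _ _ hi hγ
          haveI : Finite (MulAut R) := Finite.of_injective _ MulEquiv.toEquiv_injective
          have h := hpow (orderOf γ - 1)
          rwa [pow_sub _ (Nat.one_le_iff_ne_zero.2 (orderOf_pos γ).ne'), pow_orderOf_eq_one,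
            pow_one, one_mul] at h }
    haveI : Finite (MulAut R) := Finite.of_injective _ MulEquiv.toEquiv_injective
    have hext : ∀ (γ : F.autGroup R), (∀ a (ha : a ∈ normalizerIn T R), ∃ c ∈ S, ∀ x : R,
        (((γ : MulAut R) ⟨a * (x : Ω) * a⁻¹, (ha.2 x).1 x.2⟩ : R) : Ω) =
          c * (((γ : MulAut R) x : R) : Ω) * c⁻¹) → γ ∈ L := by
      intro γ h
      obtain ⟨g, hg, hgx⟩ := receptive_extend (receptive_of_fullyNormalized hS hF hR) (hmap γ)
        img_autFun (R := normalizerIn T R) hltR.le fun a ha => by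
          obtain ⟨c, hc, hcx⟩ := h a ha
          refine ⟨hTS ha.1, ha.2, c, hc, fun x hx => ?_⟩
          rw [autFun_apply _ hx, autFun_apply _ ((ha.2 x).1 hx)]
          exact hcx ⟨x, hx⟩
      exact hD.dec_congr (hD.dec_mono (hdecR g hg) hltR.le) hgx
    obtain ⟨W, hW⟩ := (fullyAutomized_of_fullyNormalized hS hF hR).2
    have hWL : (W : Subgroup (F.autGroup R)) ≤ L := by
      intro γ hγ
      rw [hW, Subgroup.mem_subgroupOf, mem_autInducedBy_iff] at hγ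
      obtain ⟨s, hs, hsx⟩ := hγ
      refine hD.dec_congr (hD.dec_top (isMap_conj F hTS hs) hRT) fun x hx => ?_
      rw [autFun_apply _ hx]
      exact (hsx ⟨x, hx⟩).symm
    have hzc : ∀ z ∈ Z, ∀ t ∈ T, t * z = z * t := fun z hz t ht => hD.zcen hz ht
    have hZinv : ∀ (γ : F.autGroup R) (y : R), (y : Ω) ∈ Z →
        (((γ : MulAut R) y : R) : Ω) ∈ Z := fun γ y hy => by
      rw [← autFun_apply (γ : MulAut R) y.2]
      exact Subgroup.mem_inf.2 ⟨StronglyClosed.apply_mem hD.sc₁ (hmap γ) y.2 (Subgroup.mem_inf.1 hy).1,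
        StronglyClosed.apply_mem hD.swap.sc₁ (hmap γ) y.2 (Subgroup.mem_inf.1 hy).2⟩
    -- the automorphisms trivial modulo `Z`
    let K₀ : Subgroup (F.autGroup R) :=
      { carrier := {γ | ∀ y : R, (y : Ω)⁻¹ * (((γ : MulAut R) y : R) : Ω) ∈ Z}
        one_mem' := fun y => by simp
        mul_mem' := fun {γ δ} hb hc y => by
          have h1 := Z.mul_mem (hc y) (hb ((δ : MulAut R) y))
          simpa [MulAut.mul_apply, mul_assoc] using h1
        inv_mem' := fun {γ} hb y => by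
          have h1 := Z.inv_mem (hb ((γ : MulAut R)⁻¹ y))
          rw [MulAut.apply_inv_self] at h1
          simpa using h1 }
    haveI hK₀n : K₀.Normal := ⟨fun β hβ γ y => by
      have h1 := hZinv γ (((γ : MulAut R)⁻¹ y)⁻¹ * (β : MulAut R) ((γ : MulAut R)⁻¹ y))
        (hβ ((γ : MulAut R)⁻¹ y))
      rw [map_mul, map_inv, MulAut.apply_inv_self] at h1
      exact h1⟩
    -- those that moreover fix `Z`
    let K₁ : Subgroup (F.autGroup R) :=
      { carrier := {γ | γ ∈ K₀ ∧ ∀ y : R, (y : Ω) ∈ Z → (γ : MulAut R) y = y}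
        one_mem' := ⟨K₀.one_mem, fun y _ => rfl⟩
        mul_mem' := fun {γ δ} hb hc => ⟨K₀.mul_mem hb.1 hc.1, fun y hy => by
          rw [Subgroup.coe_mul, MulAut.mul_apply, hc.2 y hy, hb.2 y hy]⟩
        inv_mem' := fun {γ} hb => ⟨K₀.inv_mem hb.1, fun y hy => by
          conv_lhs => rw [← hb.2 y hy]
          rw [Subgroup.coe_inv, MulAut.inv_apply_self]⟩ }
    haveI hK₁n : K₁.Normal := ⟨fun β hβ γ => ⟨hK₀n.conj_mem β hβ.1 γ, fun y hy => by
      have hy' : (((γ : MulAut R)⁻¹ y : R) : Ω) ∈ Z := hZinv γ⁻¹ y hy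
      rw [Subgroup.coe_mul, Subgroup.coe_mul, Subgroup.coe_inv, MulAut.mul_apply, MulAut.mul_apply,
        hβ.2 _ hy', MulAut.apply_inv_self]⟩⟩
    have hK₁p : IsPGroup p K₁ := fun γ => by
      obtain ⟨e, he⟩ := hS.exists_card_eq
      refine ⟨e, Subtype.ext (Subtype.ext (MulEquiv.ext fun y => ?_))⟩
      set g : MulAut R := ((γ : F.autGroup R) : MulAut R)
      set z : R := y⁻¹ * g y with hz
      have hzZ : (z : Ω) ∈ Z := γ.2.1 y
      have hit : ∀ i : ℕ, (g ^ i) y = y * z ^ i := by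
        intro i
        induction i with
        | zero => simp
        | succ i hi =>
          rw [pow_succ', MulAut.mul_apply, hi, map_mul, map_pow, γ.2.2 z hzZ, pow_succ' z,
            ← mul_assoc, hz, mul_inv_cancel_left]
      have hzp : z ^ p ^ e = 1 := by
        refine Subtype.ext ?_
        have h := congrArg Subtype.val (pow_card_eq_one' (G := S) (x := ⟨(z : Ω), hR.1 z.2⟩))
        rw [he] at h
        exact h
      show (g ^ p ^ e) y = y
      rw [hit, hzp, mul_one]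
    have hK₁W : K₁ ≤ (W : Subgroup (F.autGroup R)) := by
      obtain ⟨W', hW'⟩ := hK₁p.exists_le_sylow
      obtain ⟨γ, hγ⟩ := MulAction.exists_smul_eq (F.autGroup R) W' W
      intro k hk
      rw [← hγ]
      refine Subgroup.mem_pointwise_smul_iff_inv_smul_mem.2 (hW' ?_)
      simpa [MulAut.smul_def] using hK₁n.conj_mem k hk γ⁻¹
    have hK₀L : K₀ ≤ L := by
      obtain ⟨V₀, hV₀⟩ := CfsgLib.Transfer.exists_sylow_eq_subgroupOf W K₀
      refine Subgroup.subgroupOf_eq_top.1 (eq_top_of_sylow_le V₀ ?_ fun k _ => ?_)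
      · rw [hV₀]
        exact Subgroup.comap_mono hWL
      refine hext (k : F.autGroup R) fun a ha => ?_
      set c : F.autGroup R := ⟨_, autInducedBy_le_autGroup hR.1
        (mem_autInducedBy_iff.2 ⟨a, hTS ha.1, fun x => rfl⟩ :
          R.normalizerMonoidHom ⟨a, ha.2⟩ ∈ autInducedBy S R)⟩ with hcdef
      have hcW : c ∈ (W : Subgroup (F.autGroup R)) := hW ▸ mem_autInducedBy_iff.2
        ⟨a, hTS ha.1, fun x => rfl⟩
      have hcv : ∀ y : R, (((c : MulAut R) y : R) : Ω) = a * (y : Ω) * a⁻¹ := fun y => rfl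
      have hcfix : ∀ (y : R), (y : Ω) ∈ Z → (c : MulAut R) y = y := fun y hy => Subtype.ext (by
        rw [hcv, hzc _ hy a ha.1, mul_inv_cancel_right])
      set μ : F.autGroup R := (k : F.autGroup R) * c * (k : F.autGroup R)⁻¹ * c⁻¹ with hμdef
      have hμ : μ ∈ K₁ := by
        refine ⟨?_, fun y hy => ?_⟩
        · have h1 : c * (k : F.autGroup R)⁻¹ * c⁻¹ ∈ K₀ := hK₀n.conj_mem _ (K₀.inv_mem k.2) c
          have h2 := K₀.mul_mem k.2 h1
          rwa [← mul_assoc, ← mul_assoc] at h2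
        · have hci : ∀ y : R, (y : Ω) ∈ Z → (c : MulAut R)⁻¹ y = y := fun y hy => by
            conv_lhs => rw [← hcfix y hy]
            rw [MulAut.inv_apply_self]
          simp only [hμdef, Subgroup.coe_mul, Subgroup.coe_inv, MulAut.mul_apply]
          rw [hci y hy, hcfix (((k : F.autGroup R) : MulAut R)⁻¹ y) (hZinv (k : F.autGroup R)⁻¹ y hy),
            MulAut.apply_inv_self]
      have h3 : (k : F.autGroup R) * c * (k : F.autGroup R)⁻¹ ∈ (W : Subgroup (F.autGroup R)) := by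
        have h4 := mul_mem (hK₁W hμ) hcW
        rwa [hμdef, inv_mul_cancel_right] at h4
      rw [hW, Subgroup.mem_subgroupOf, mem_autInducedBy_iff] at h3
      obtain ⟨s, hs, hsx⟩ := h3
      refine ⟨s, hs, fun x => ?_⟩
      have h5 := hsx (((k : F.autGroup R) : MulAut R) x)
      simp only [Subgroup.coe_mul, Subgroup.coe_inv, MulAut.mul_apply, MulAut.inv_apply_self] at h5
      exact h5
    -- automorphisms congruent to those of the product
    let M : Subgroup (F.autGroup R) := ((prodSys hD).autGroup R).subgroupOf (F.autGroup R) ⊔ K₀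
    have hML : M ≤ L := by
      refine sup_le (fun γ hγ => ?_) hK₀L
      exact hD.dec_id (isMap_autFun hRT hγ)
    haveI hMn : M.Normal := by
      refine ⟨fun m hm δ => ?_⟩
      obtain ⟨d, hd, k, hk, rfl⟩ := (Subgroup.mem_sup_of_normal_right (t := K₀)).1 hm
      have e : δ * (d * k) * δ⁻¹ = (δ * d * δ⁻¹) * (δ * k * δ⁻¹) := by group
      rw [e]
      refine M.mul_mem ?_ (mem_sup_right (hK₀n.conj_mem k hk δ))
      obtain ⟨d', hd', hx⟩ := hD.conj_mod hRT hZR δ.2 (Subgroup.mem_subgroupOf.1 hd)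
      have hd'F : d' ∈ F.autGroup R :=
        (autGroup_mem_iff hR.1).2 (hD.isSubsystemOf R ((autGroup_mem_iff hRT).1 hd'))
      set D' : F.autGroup R := ⟨d', hd'F⟩
      have hk' : δ * d * δ⁻¹ * D'⁻¹ ∈ K₀ := fun y => by
        have h := hx (d'⁻¹ y)
        rw [MulAut.apply_inv_self] at h
        exact h
      have := M.mul_mem (mem_sup_right hk') (mem_sup_left (show D' ∈ _ from hd'))
      rwa [inv_mul_cancel_right] at this
    -- the Frattini argument
    obtain ⟨W', hW'⟩ := CfsgLib.Transfer.exists_sylow_eq_subgroupOf W M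
    have hsup := W'.normalizer_sup_eq_top
    rw [hW', Subgroup.subgroupOf_map_subtype] at hsup
    obtain ⟨ν, hν, k, hk, hνk⟩ := (Subgroup.mem_sup_of_normal_right (t := M)).1
      (hsup ▸ Subgroup.mem_top (⟨_, hbm.toAut_mem hbi⟩ : F.autGroup R))
    have hνL : ν ∈ L := hext ν fun a ha => by
      set c : F.autGroup R := ⟨_, autInducedBy_le_autGroup hR.1
        (mem_autInducedBy_iff.2 ⟨a, hTS ha.1, fun x => rfl⟩ :
          R.normalizerMonoidHom ⟨a, ha.2⟩ ∈ autInducedBy S R)⟩ with hcdef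
      have hcW : c ∈ (W : Subgroup (F.autGroup R)) := hW ▸ mem_autInducedBy_iff.2
        ⟨a, hTS ha.1, fun x => rfl⟩
      have hcM : c ∈ M := mem_sup_left
        (show (c : MulAut R) ∈ (prodSys hD).autGroup R from autInducedBy_le_autGroup hRT
          (mem_autInducedBy_iff.2 ⟨a, ha.1, fun x => rfl⟩))
      have h1 := ((Subgroup.mem_normalizer_iff.1 hν c).1 ⟨hcW, hcM⟩).1
      rw [SetLike.mem_coe, hW] at h1
      obtain ⟨s, hs, hsx⟩ := mem_autInducedBy_iff.1 h1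
      refine ⟨s, hs, fun x => ?_⟩
      have h2 := hsx ((ν : MulAut R) x)
      simp only [Subgroup.coe_mul, Subgroup.coe_inv, MulAut.mul_apply, MulAut.inv_apply_self,
        Subgroup.coe_subtype] at h2
      exact h2
    refine hD.dec_congr (dmul _ _ hνL (hML hk)) fun x hx => ?_
    rw [hνk, autFun_apply _ hx]
    exact IsMap.toAut_apply _ _ _

end Setup

end CfsgLib.Comp.CProd
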