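import Cfsg.Agent.Lib.Comp.CommutingFrattini

/-!
The product of two commuting normal subsystems is normal and is their central product.
-/

set_option autoImplicit false
set_option linter.unusedVariables false
set_option linter.unusedSectionVars false
set_option linter.style.haveILetI false

namespace CfsgLib.Comp.CProd

open Cfsg Cfsg.FusionSystem Subgroup CfsgLib.Fusion CfsgLib.Comp.Fus

variable {Ω : Type*} [Group Ω] {S T₁ T₂ : Subgroup Ω} {F : FusionSystem S}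
  {E₁ : FusionSystem T₁} {E₂ : FusionSystem T₂} {p : ℕ} [Fact p.Prime] [Finite S]

namespace Setup

variable (hD : Setup F E₁ E₂ p)

include hD

theorem exists_fix_top {k₁ : MulAut T₁} (hk₁ : k₁ ∈ E₁.autGroup T₁)
    (hco : (orderOf k₁).Coprime p) :
    ∃ g, IsMap F (T₁ ⊔ centralizerIn S T₁) g ∧ (∀ x : T₁, g x = ((k₁ x : T₁) : Ω)) ∧
      (∀ t ∈ T₂, g t = t) ∧
      ∀ c ∈ centralizerIn S T₁, c⁻¹ * g c ∈ T₁ ⊓ centralizer (T₁ : Set Ω) := by
  have hT := hD.le₁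
  haveI := finite_of_le hT
  obtain ⟨β, hβ, hβx, hβz⟩ := hD.n₁.2 k₁ hk₁
  have hW : T₁ ⊔ centralizerIn S T₁ ≤ S := sup_le hT inf_le_left
  set g₀ := toFun ((T₁ ⊔ centralizerIn S T₁).subtype.comp β.toMonoidHom) with hg₀def
  have hg₀ : IsMap F (T₁ ⊔ centralizerIn S T₁) g₀ := isMap_of_autGroup hW hβ
  have hg₀W : ∀ z ∈ T₁ ⊔ centralizerIn S T₁, g₀ z ∈ T₁ ⊔ centralizerIn S T₁ := fun z hz => by
    rw [hg₀def, toFun_aut_apply _ hz]; exact Subtype.mem _
  have hg₀x : ∀ z : T₁, g₀ z = ((k₁ z : T₁) : Ω) := fun z => by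
    rw [hg₀def, toFun_aut_apply _ (mem_sup_left z.2)]
    exact hβx z
  have hg₀z : ∀ c ∈ centralizerIn S T₁, c⁻¹ * g₀ c ∈ T₁ ⊓ centralizer (T₁ : Set Ω) := fun c hc => by
    rw [hg₀def, toFun_aut_apply _ (mem_sup_right hc)]
    exact hβz ⟨c, mem_sup_right hc⟩ hc
  obtain ⟨i, n, hn, hix, hper⟩ := exists_coprime_power hg₀ hg₀W le_sup_left hco hg₀x
  have hZC : T₁ ⊓ centralizer (T₁ : Set Ω) ≤ centralizerIn S T₁ := fun z hz => ⟨hT hz.1, hz.2⟩
  have hgz := iterate_trivial_mod hg₀ le_sup_right hZC hg₀z i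
  have hgm := isMap_iterate hg₀ hg₀W i
  refine ⟨_, hgm, hix, fun t ht => ?_, hgz⟩
  refine fix_of_coprime hD.pS hD.swap.sc₁ hgm hD.le_centralizerIn (fun c hc => (hgz c hc).1)
    (fun z hz₁ hz₂ => ?_) hn hper ht
  rw [hix ⟨z, hz₁⟩, ← toFun_aut_apply k₁ hz₁]
  exact hD.fixes₁ (isMap_of_autGroup le_rfl hk₁) hz₁ hz₂

theorem part_top : part T₁ T₂ (T₁ ⊔ T₂) = T₁ :=
  inf_eq_right.2 (le_sup_left.trans le_sup_left)

theorem isNormalIn : (prodSys hD).IsNormalIn F p := by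
  have hS := hD.pS
  set T := T₁ ⊔ T₂ with hTdef
  have hTS : T ≤ S := hD.le_sup
  haveI := finite_of_le hTS
  haveI := finite_of_le hD.le₁
  haveI := finite_of_le hD.swap.le₁
  refine isNormalIn_iff.2 ⟨⟨hD.isSaturated_prodSys, hD.sat, isInvariantIn_iff.2
    ⟨hD.isSubsystemOf, hD.stronglyClosed_sup, fun a ha P f hf => hD.transport ha hf,
      fun P f hP hf => hD.dec_all _ P f hP hf le_rfl⟩⟩, fun a ha => ?_⟩
  set C := centralizerIn S T with hC
  set ZT := T ⊓ centralizer (T : Set Ω) with hZT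
  have hW : T ⊔ C ≤ S := sup_le hTS inf_le_left
  have hZC : ZT ≤ C := fun z hz => ⟨hTS hz.1, hz.2⟩
  let good : MulAut T → Prop := fun α => ∃ g, IsMap F (T ⊔ C) g ∧
    (∀ x : T, g x = ((α x : T) : Ω)) ∧ ∀ c ∈ C, c⁻¹ * g c ∈ ZT
  have hgC : ∀ {g : Ω → Ω}, (∀ c ∈ C, c⁻¹ * g c ∈ ZT) → ∀ c ∈ C, g c ∈ C := fun h c hc => by
    simpa using C.mul_mem hc (hZC (h c hc))
  have hstab : ∀ {α : MulAut T} {g : Ω → Ω}, IsMap F (T ⊔ C) g →
      (∀ x : T, g x = ((α x : T) : Ω)) → (∀ c ∈ C, g c ∈ C) → ∀ x ∈ T ⊔ C, g x ∈ T ⊔ C := by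
    intro α g hg hgx hgC x hx
    refine hg.img_sup_le le_sup_left le_sup_right ?_ ?_ (hg.apply_mem_img hx)
    · intro y hy
      obtain ⟨z, hz, rfl⟩ := (hg.mono le_sup_left).mem_img.1 hy
      exact mem_sup_left (hgx ⟨z, hz⟩ ▸ (α _).2)
    · intro y hy
      obtain ⟨z, hz, rfl⟩ := (hg.mono le_sup_right).mem_img.1 hy
      exact mem_sup_right (hgC z hz)
  have hone : good 1 := ⟨id, isMap_id F hW, fun x => rfl, fun c _ => by simp⟩
  have hmul : ∀ α β, good α → good β → good (α * β) := by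
    rintro α β ⟨g, hg, hgx, hgz⟩ ⟨h, hh, hhx, hhz⟩
    refine ⟨fun x => g (h x), hh.comp hg (hstab hh hhx (hgC hhz)), fun x => ?_, fun c hc => ?_⟩
    · show g (h x) = _
      rw [hhx, hgx, MulAut.mul_apply]
    · show c⁻¹ * g (h c) ∈ ZT
      rw [show c⁻¹ * g (h c) = (c⁻¹ * h c) * ((h c)⁻¹ * g (h c)) by group]
      exact ZT.mul_mem (hhz c hc) (hgz _ (hgC hhz c hc))
  haveI : Finite (MulAut T) := Finite.of_injective _ MulEquiv.toEquiv_injective
  set D := prodSys hD with hDdef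
  let L : Subgroup (D.autGroup T) :=
    { carrier := {α | good α}
      one_mem' := hone
      mul_mem' := fun {α β} => hmul α β
      inv_mem' := fun {α} hα => by
        have hpow : ∀ i : ℕ, good ((α : MulAut T) ^ i) := fun i => by
          induction i with
          | zero => exact hone
          | succ i ih => rw [pow_succ]; exact hmul _ _ ih hα
        have h := hpow (orderOf (α : MulAut T) - 1)
        rwa [pow_sub _ (Nat.one_le_iff_ne_zero.2 (orderOf_pos _).ne'), pow_orderOf_eq_one,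
          pow_one, one_mul] at h }
  obtain ⟨W, hWeq⟩ := (fullyAutomized_of_fullyNormalized (hS.to_le hTS) hD.isSaturated_prodSys
    (fullyNormalized_top D)).2
  have hL : L = ⊤ := by
    refine eq_top_of_sylow_le W (fun γ hγ => ?_) fun γ hγ => ?_
    · rw [hWeq, Subgroup.mem_subgroupOf, mem_autInducedBy_iff] at hγ
      obtain ⟨t, ht, htx⟩ := hγ
      refine ⟨_, isMap_conj F hW (hTS ht), fun x => (htx x).symm, fun c hc => ?_⟩
      have h1 : t * c = c * t := hc.2 t ht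
      rw [h1, mul_inv_cancel_right, inv_mul_cancel]
      exact ZT.one_mem
    · obtain ⟨-, f₁, f₂, h₁, h₂, hfx⟩ := hD.isMap_iff.1 (isMap_of_autGroup le_rfl γ.2)
      rw [← hTdef, hD.part_top] at h₁
      have hp₂ : part T₂ T₁ T = T₂ := by
        rw [hTdef, sup_comm]; exact hD.swap.part_top
      rw [hp₂] at h₂
      set al := toFun (T.subtype.comp (γ : MulAut T).toMonoidHom) with hal
      have hal' : IsMap F T al := isSubsystemOf_iff.1 hD.isSubsystemOf _ _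
        (isMap_of_autGroup le_rfl γ.2)
      have hi₁ : img T₁ f₁ = T₁ := eq_of_le_of_card_le h₁.img_le h₁.card_img.ge
      have hi₂ : img T₂ f₂ = T₂ := eq_of_le_of_card_le h₂.img_le h₂.card_img.ge
      set k₁ := h₁.toAut hi₁ with hk₁
      set k₂ := h₂.toAut hi₂ with hk₂
      have hv₁ : ∀ x : T₁, al x = ((k₁ x : T₁) : Ω) := fun x => by
        have h := hfx x x.2 1 T₂.one_mem (by rw [mul_one]; exact mem_sup_left x.2)
        rw [mul_one, h₂.map_one, mul_one] at h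
        rw [h, IsMap.toAut_apply]
      have hv₂ : ∀ x : T₂, al x = ((k₂ x : T₂) : Ω) := fun x => by
        have h := hfx 1 T₁.one_mem x x.2 (by rw [one_mul]; exact mem_sup_right x.2)
        rw [one_mul, h₁.map_one, one_mul] at h
        rw [h, IsMap.toAut_apply]
      have hpow : ∀ n : ℕ, ∀ x (hx : x ∈ T), al^[n] x = ((((γ : MulAut T) ^ n) ⟨x, hx⟩ : T) : Ω) := by
        intro n
        induction n with
        | zero => intro x hx; rfl
        | succ n ih =>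
          intro x hx
          rw [Function.iterate_succ_apply', ih x hx, hal, toFun_aut_apply _ (_ : T).2,
            pow_succ', MulAut.mul_apply]
      have hdiv : ∀ (U : Subgroup Ω) (hU : U ≤ T) (k : MulAut U),
          (∀ x : U, al x = ((k x : U) : Ω)) → orderOf k ∣ orderOf (γ : MulAut T) := by
        intro U hU k hk
        refine orderOf_dvd_of_pow_eq_one (MulEquiv.ext fun x => Subtype.ext ?_)
        have h : ∀ n : ℕ, al^[n] (x : Ω) = (((k ^ n) x : U) : Ω) := by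
          intro n
          induction n with
          | zero => rfl
          | succ n ih => rw [Function.iterate_succ_apply', ih, hk, pow_succ', MulAut.mul_apply]
        rw [← h, hpow _ _ (hU x.2), pow_orderOf_eq_one]
        rfl
      rw [← Subgroup.orderOf_coe] at hγ
      obtain ⟨g₁, hg₁, hg₁x, hg₁t, hg₁z⟩ := hD.exists_fix_top (h₁.toAut_mem hi₁)
        (Nat.Coprime.coprime_dvd_left (hdiv T₁ le_sup_left k₁ hv₁) hγ)
      obtain ⟨g₂, hg₂, hg₂x, hg₂t, hg₂z⟩ := hD.swap.exists_fix_top (h₂.toAut_mem hi₂)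
        (Nat.Coprime.coprime_dvd_left (hdiv T₂ le_sup_right k₂ hv₂) hγ)
      have hCT₁ : C ≤ centralizerIn S T₁ := inf_le_inf_left S (Subgroup.centralizer_le (show (T₁ : Set Ω) ⊆ T from fun x hx => mem_sup_left hx))
      have hCT₂ : C ≤ centralizerIn S T₂ := inf_le_inf_left S (Subgroup.centralizer_le (show (T₂ : Set Ω) ⊆ T from fun x hx => mem_sup_right hx))
      have hle₁ : T ⊔ C ≤ T₁ ⊔ centralizerIn S T₁ := sup_le
        (sup_le le_sup_left (hD.le_centralizerIn.trans le_sup_right)) (hCT₁.trans le_sup_right)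
      have hle₂ : T ⊔ C ≤ T₂ ⊔ centralizerIn S T₂ := sup_le
        (sup_le (hD.swap.le_centralizerIn.trans le_sup_right) le_sup_left)
        (hCT₂.trans le_sup_right)
      have hzt₁ : ∀ c ∈ C, c⁻¹ * g₁ c ∈ ZT := fun c hc => by
        obtain ⟨ha, hb⟩ := Subgroup.mem_inf.1 (hg₁z c (hCT₁ hc))
        refine Subgroup.mem_inf.2 ⟨mem_sup_left ha, fun t ht => ?_⟩
        obtain ⟨u, hu, v, hv, rfl⟩ := exists_split hD.comm ht
        rw [mul_assoc, ← hD.comm _ ha v hv, ← mul_assoc, hb u hu, mul_assoc]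
      have hzt₂ : ∀ c ∈ C, c⁻¹ * g₂ c ∈ ZT := fun c hc => by
        obtain ⟨ha, hb⟩ := Subgroup.mem_inf.1 (hg₂z c (hCT₂ hc))
        refine Subgroup.mem_inf.2 ⟨mem_sup_right ha, fun t ht => ?_⟩
        obtain ⟨u, hu, v, hv, rfl⟩ := exists_split hD.comm ht
        rw [mul_assoc, hb v hv, ← mul_assoc, hD.comm u hu _ ha, mul_assoc]
      have hG₁ := hg₁.mono hle₁
      have hG₂ := hg₂.mono hle₂
      have hmem : ∀ x ∈ T ⊔ C, g₂ x ∈ T ⊔ C := fun x hx => by
        refine hG₂.img_sup_le le_sup_left le_sup_right ?_ ?_ (hG₂.apply_mem_img hx)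
        · intro y hy
          obtain ⟨z, hz, rfl⟩ := (hG₂.mono le_sup_left).mem_img.1 hy
          exact mem_sup_left (StronglyClosed.apply_mem hD.stronglyClosed_sup hG₂ (mem_sup_left hz) hz)
        · intro y hy
          obtain ⟨z, hz, rfl⟩ := (hG₂.mono le_sup_right).mem_img.1 hy
          exact mem_sup_right (hgC hzt₂ z hz)
      refine ⟨fun x => g₁ (g₂ x), hG₂.comp hG₁ hmem, fun x => ?_, fun c hc => ?_⟩
      · show g₁ (g₂ x) = _
        obtain ⟨u, hu, v, hv, huv⟩ := exists_split hD.comm x.2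
        rw [← toFun_aut_apply (γ : MulAut T) x.2, ← hal, ← huv,
          hG₂.map_mul (mem_sup_left (mem_sup_left hu)) (mem_sup_left (mem_sup_right hv)),
          hg₂t u hu, hg₂x ⟨v, hv⟩, hG₁.map_mul (mem_sup_left (mem_sup_left hu))
            (mem_sup_left (mem_sup_right (Subtype.mem _))), hg₁x ⟨u, hu⟩, hg₁t _ (Subtype.mem _),
          hal'.map_mul (mem_sup_left hu) (mem_sup_right hv), hv₁ ⟨u, hu⟩, hv₂ ⟨v, hv⟩]
      · show c⁻¹ * g₁ (g₂ c) ∈ ZT
        rw [show c⁻¹ * g₁ (g₂ c) = (c⁻¹ * g₂ c) * ((g₂ c)⁻¹ * g₁ (g₂ c)) by group]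
        exact ZT.mul_mem (hzt₂ c hc) (hzt₁ _ (hgC hzt₂ c hc))
  have hi : img T a = T := eq_of_le_of_card_le ha.img_le ha.card_img.ge
  obtain ⟨g, hg, hgx, hgz⟩ := (hL.symm ▸ Subgroup.mem_top _ :
    (⟨_, ha.toAut_mem hi⟩ : D.autGroup T) ∈ L)
  exact ⟨g, hg, fun x hx => (hgx ⟨x, hx⟩).trans (IsMap.toAut_apply _ _ _), hgz⟩

/-- The kernel of multiplication is central in the direct product. -/
theorem kerSub_le_center : kerSub hD.comm ≤ (productSys E₁ E₂).center := by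
  refine IsCentral.le_center (isCentral_iff.2 ⟨Subgroup.map_subtype_le _, fun P f hf => ?_⟩)
  obtain ⟨hP, f₁, f₂, h₁, h₂, hfx⟩ := (isMap_product_iff isProductSystem_productSys).1 hf
  obtain ⟨g₁, hg₁, hg₁x, hg₁z⟩ := hD.fix₁ _ _ h₁
  obtain ⟨g₂, hg₂, hg₂x, hg₂z⟩ := hD.fix₂ _ _ h₂
  have hK : ∀ x ∈ kerSub hD.comm, x.1 ∈ T₁ ⊓ T₂ ∧ x.2 ∈ T₁ ⊓ T₂ := fun x hx => by
    obtain ⟨hx₁, hx₂, hx₃⟩ := mem_kerSub.1 hx
    have e : x.1 = x.2⁻¹ := eq_inv_of_mul_eq_one_left hx₃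
    exact ⟨Subgroup.mem_inf.2 ⟨hx₁, e ▸ T₂.inv_mem hx₂⟩,
      Subgroup.mem_inf.2 ⟨by rw [← inv_inv x.2, ← e]; exact T₁.inv_mem hx₁, hx₂⟩⟩
  have hl₁ : prOne (P ⊔ kerSub hD.comm) ≤ prOne P ⊔ (T₁ ⊓ T₂) := by
    rw [prOne, Subgroup.map_sup]
    refine sup_le_sup_left ?_ _
    rintro _ ⟨x, hx, rfl⟩
    exact (hK x hx).1
  have hl₂ : prTwo (P ⊔ kerSub hD.comm) ≤ prTwo P ⊔ (T₁ ⊓ T₂) := by
    rw [prTwo, Subgroup.map_sup]
    refine sup_le_sup_left ?_ _
    rintro _ ⟨x, hx, rfl⟩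
    exact (hK x hx).2
  refine ⟨fun x => (g₁ x.1, g₂ x.2), (isMap_product_iff isProductSystem_productSys).2
    ⟨sup_le hP (Subgroup.map_subtype_le _), g₁, g₂, hg₁.mono hl₁, hg₂.mono hl₂, fun _ _ => rfl⟩,
    fun x hx => ?_, fun x hx => ?_⟩
  · show (g₁ x.1, g₂ x.2) = _
    rw [hfx x hx, hg₁x _ (mem_prOne hx), hg₂x _ (mem_prTwo hx)]
  · show (g₁ x.1, g₂ x.2) = _
    rw [hg₁z _ (hK x hx).1, hg₂z _ (hK x hx).2]

theorem isCentralProductOf : IsCentralProductOf E₁ E₂ (prodSys hD) := by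
  refine ⟨productSys E₁ E₂, isProductSystem_productSys, kerSub hD.comm, mulHom hD.comm,
    hD.kerSub_le_center, ?_, ?_, fun x hx => ?_, fun y hy => ?_, hD.isFactorSystem⟩
  · refine (Subgroup.eq_bot_iff_forall _).2 fun x hx => ?_
    obtain ⟨hk, -, h2⟩ := hx
    obtain ⟨-, -, h3⟩ := mem_kerSub.1 hk
    have e : x.2 = 1 := h2
    rw [e, mul_one] at h3
    exact Prod.ext h3 e
  · refine (Subgroup.eq_bot_iff_forall _).2 fun x hx => ?_
    obtain ⟨hk, h1, -⟩ := hx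
    obtain ⟨-, -, h3⟩ := mem_kerSub.1 hk
    have e : x.1 = 1 := h1
    rw [e, one_mul] at h3
    exact Prod.ext e h3
  · exact mul_one x
  · exact one_mul y

end Setup

end CfsgLib.Comp.CProd
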