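import Cfsg.Agent.Lib.Comp.FixClosed
import Cfsg.Agent.Lib.Comp.CentralPart
import Cfsg.Agent.Lib.Comp.PrimeResidualLeast
import Cfsg.Agent.Lib.Fusion.ProductSystem
import Cfsg.Agent.Lib.Fusion.SolvableSystem
import Cfsg.Agent.Lib.Fusion.StronglyClosedMod

/-!
The central product of two commuting normal subsystems as a fusion system.
-/

set_option autoImplicit false
set_option linter.unusedVariables false
set_option linter.unusedSectionVars false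
set_option linter.style.haveILetI false

namespace CfsgLib.Comp.CProd

open Cfsg Cfsg.FusionSystem Subgroup CfsgLib.Fusion CfsgLib.Comp.Fus

variable {Ω : Type*} [Group Ω] {S T₁ T₂ : Subgroup Ω} {F : FusionSystem S}
  {E₁ : FusionSystem T₁} {E₂ : FusionSystem T₂} {p : ℕ}

/-- The elements of `A` appearing in `P` modulo `B`. -/
def part (A B P : Subgroup Ω) : Subgroup Ω := (P ⊔ B) ⊓ A

theorem le_normalizer_of_comm {A B : Subgroup Ω} (h : ∀ a ∈ A, ∀ b ∈ B, a * b = b * a) :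
    A ≤ Subgroup.normalizer (B : Set Ω) := fun a ha b => by
  constructor
  · intro hb
    rwa [h a ha b hb, mul_inv_cancel_right]
  · intro hb
    have h1 := h a ha _ hb
    have h2 : b = a * b * a⁻¹ := mul_left_cancel (a := a) (by rw [h1, inv_mul_cancel_right])
    rwa [h2]

theorem exists_split {A B : Subgroup Ω} (h : ∀ a ∈ A, ∀ b ∈ B, a * b = b * a) {x : Ω}
    (hx : x ∈ A ⊔ B) : ∃ a ∈ A, ∃ b ∈ B, a * b = x := by
  have h2 : x ∈ ((A ⊔ B : Subgroup Ω) : Set Ω) := hx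
  rw [Subgroup.coe_mul_of_left_le_normalizer_right A B (le_normalizer_of_comm h)] at h2
  exact h2

theorem mem_part_iff {A B P : Subgroup Ω} (h : ∀ a ∈ A, ∀ b ∈ B, a * b = b * a)
    (hP : P ≤ A ⊔ B) {a : Ω} : a ∈ part A B P ↔ a ∈ A ∧ ∃ b ∈ B, a * b ∈ P := by
  have hn : P ≤ Subgroup.normalizer (B : Set Ω) :=
    hP.trans (sup_le (le_normalizer_of_comm h) le_normalizer)
  constructor
  · intro ha
    obtain ⟨hs, haA⟩ := Subgroup.mem_inf.1 ha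
    have h2 : a ∈ ((P ⊔ B : Subgroup Ω) : Set Ω) := hs
    rw [Subgroup.coe_mul_of_left_le_normalizer_right P B hn] at h2
    obtain ⟨x, hx, b, hb, rfl⟩ := h2
    exact ⟨haA, b⁻¹, B.inv_mem hb, by rw [mul_inv_cancel_right]; exact hx⟩
  · rintro ⟨haA, b, hb, hab⟩
    refine Subgroup.mem_inf.2 ⟨?_, haA⟩
    have h3 := Subgroup.mul_mem_sup (T := B) hab (B.inv_mem hb)
    rwa [mul_inv_cancel_right] at h3

theorem part_mem_left {A B P : Subgroup Ω} (h : ∀ a ∈ A, ∀ b ∈ B, a * b = b * a)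
    (hP : P ≤ A ⊔ B) {a b : Ω} (ha : a ∈ A) (hb : b ∈ B) (hx : a * b ∈ P) : a ∈ part A B P :=
  (mem_part_iff h hP).2 ⟨ha, b, hb, hx⟩

/-- The standing assumptions. -/
structure Setup (F : FusionSystem S) (E₁ : FusionSystem T₁) (E₂ : FusionSystem T₂) (p : ℕ) :
    Prop where
  pS : IsPGroup p S
  sat : F.IsSaturated p
  n₁ : E₁.IsNormalIn F p
  n₂ : E₂.IsNormalIn F p
  comm : ∀ a ∈ T₁, ∀ b ∈ T₂, a * b = b * a
  fix₁ : ∀ (P : Subgroup Ω) (f : Ω → Ω), IsMap E₁ P f →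
    ∃ g, IsMap E₁ (P ⊔ (T₁ ⊓ T₂)) g ∧ (∀ x ∈ P, g x = f x) ∧ ∀ z ∈ T₁ ⊓ T₂, g z = z
  fix₂ : ∀ (P : Subgroup Ω) (f : Ω → Ω), IsMap E₂ P f →
    ∃ g, IsMap E₂ (P ⊔ (T₁ ⊓ T₂)) g ∧ (∀ x ∈ P, g x = f x) ∧ ∀ z ∈ T₁ ⊓ T₂, g z = z

namespace Setup

variable (hD : Setup F E₁ E₂ p) {P Q : Subgroup Ω} {f : Ω → Ω}

include hD

theorem swap : Setup F E₂ E₁ p :=
  ⟨hD.pS, hD.sat, hD.n₂, hD.n₁, fun a ha b hb => (hD.comm b hb a ha).symm,
    by rw [inf_comm]; exact hD.fix₂, by rw [inf_comm]; exact hD.fix₁⟩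

theorem sc₁ : F.StronglyClosed T₁ := hD.n₁.1.2.2.2.1

theorem le₁ : T₁ ≤ S := hD.sc₁.1

theorem le_sup : T₁ ⊔ T₂ ≤ S := sup_le hD.le₁ hD.swap.le₁

theorem sub₁ (hf : IsMap E₁ P f) : IsMap F P f :=
  isSubsystemOf_iff.1 hD.n₁.1.2.2.1 P f hf

theorem fixes₁ (hf : IsMap E₁ P f) {z : Ω} (hz : z ∈ P) (hz₂ : z ∈ T₂) : f z = z := by
  obtain ⟨g, hg, hgx, hgz⟩ := hD.fix₁ P f hf
  rw [← hgx z hz]
  exact hgz z (Subgroup.mem_inf.2 ⟨hf.le hz, hz₂⟩)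

theorem fixes₂ (hf : IsMap E₂ P f) {z : Ω} (hz : z ∈ P) (hz₁ : z ∈ T₁) : f z = z :=
  hD.swap.fixes₁ hf hz hz₁

theorem zcen {z t : Ω} (hz : z ∈ T₁ ⊓ T₂) (ht : t ∈ T₁ ⊔ T₂) : t * z = z * t := by
  obtain ⟨hz₁, hz₂⟩ := Subgroup.mem_inf.1 hz
  obtain ⟨a, ha, b, hb, rfl⟩ := exists_split hD.comm ht
  calc a * b * z = a * (b * z) := mul_assoc _ _ _
    _ = a * (z * b) := by rw [hD.comm z hz₁ b hb]
    _ = a * z * b := (mul_assoc _ _ _).symm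
    _ = z * a * b := by rw [hD.comm a ha z hz₂]
    _ = z * (a * b) := mul_assoc _ _ _

theorem le_centralizerIn : T₂ ≤ centralizerIn S T₁ := fun b hb =>
  ⟨hD.swap.le₁ hb, fun a ha => hD.comm a ha b hb⟩

variable [Fact p.Prime] [Finite S]

/-- Maps of `E₁` extend to maps fixing `T₂`. -/
theorem ext₁ (hf : IsMap E₁ P f) :
    ∃ g, IsMap F (P ⊔ T₂) g ∧ (∀ x ∈ P, g x = f x) ∧ ∀ z ∈ T₂, g z = z := by
  have hTY : T₁ ≤ centralizerIn S T₂ := fun a ha =>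
    ⟨hD.le₁ ha, fun b hb => (hD.comm a ha b hb).symm⟩
  have h := le_fixSys_of_closed hD.pS hD.sat hD.n₁ hD.swap.sc₁ hD.le_centralizerIn
    (fun P f hf z hz hz₂ => hD.fixes₁ hf hz hz₂) hD.le₁ hTY
  obtain ⟨φ, hφ, hφx⟩ := hf
  obtain ⟨-, -, g, hg, hgx, hgz⟩ :=
    (mem_centralizerHom_iff (f := f) hφx).1 (h P hφ).2
  exact ⟨g, hg, hgx, hgz⟩

/-- A map of `T₁ T₂` built from a pair of maps. -/
theorem pair_congr {f₁ f₂ : Ω → Ω} {A₁ A₂ : Subgroup Ω} (h₁ : IsMap E₁ A₁ f₁)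
    (h₂ : IsMap E₂ A₂ f₂) {a a' b b' : Ω} (ha : a ∈ A₁) (ha' : a' ∈ A₁) (hb : b ∈ A₂)
    (hb' : b' ∈ A₂) (h : a * b = a' * b') : f₁ a * f₂ b = f₁ a' * f₂ b' := by
  have e : a'⁻¹ * a = b' * b⁻¹ := by
    rw [eq_mul_inv_iff_mul_eq, mul_assoc, h, inv_mul_cancel_left]
  have hz₁ : a'⁻¹ * a ∈ A₁ := A₁.mul_mem (A₁.inv_mem ha') ha
  have hz₂ : b' * b⁻¹ ∈ A₂ := A₂.mul_mem hb' (A₂.inv_mem hb)
  have hf₁ := hD.fixes₁ h₁ hz₁ (e ▸ h₂.le hz₂)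
  have hf₂ := hD.fixes₂ h₂ hz₂ (e ▸ h₁.le hz₁)
  have e1 : f₁ a = f₁ a' * (a'⁻¹ * a) := by
    rw [← hf₁, ← h₁.map_mul ha' hz₁, mul_inv_cancel_left]
  have e2 : f₂ b' = b' * b⁻¹ * f₂ b := by
    rw [← hf₂, ← h₂.map_mul hz₂ hb, inv_mul_cancel_right]
  rw [e1, e2, e, mul_assoc]

end Setup

/-! ### The system -/

/-- Multiplication on `T₁ × T₂`. -/
def mulHom (h : ∀ a ∈ T₁, ∀ b ∈ T₂, a * b = b * a) : ↥(T₁.prod T₂) →* Ω where
  toFun x := (x : Ω × Ω).1 * (x : Ω × Ω).2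
  map_one' := by simp
  map_mul' x y := by
    show (x : Ω × Ω).1 * (y : Ω × Ω).1 * ((x : Ω × Ω).2 * (y : Ω × Ω).2) =
      (x : Ω × Ω).1 * (x : Ω × Ω).2 * ((y : Ω × Ω).1 * (y : Ω × Ω).2)
    rw [mul_assoc, mul_assoc, ← mul_assoc (y : Ω × Ω).1, h _ y.2.1 _ x.2.2]
    simp only [mul_assoc]

theorem range_mulHom (h : ∀ a ∈ T₁, ∀ b ∈ T₂, a * b = b * a) :
    (mulHom h).range = T₁ ⊔ T₂ := by
  ext x
  constructor
  · rintro ⟨y, rfl⟩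
    exact Subgroup.mul_mem_sup y.2.1 y.2.2
  · intro hx
    obtain ⟨a, ha, b, hb, rfl⟩ := exists_split h hx
    exact ⟨⟨(a, b), ha, hb⟩, rfl⟩

/-- The kernel of multiplication. -/
def kerSub (h : ∀ a ∈ T₁, ∀ b ∈ T₂, a * b = b * a) : Subgroup (Ω × Ω) :=
  (mulHom h).ker.map (T₁.prod T₂).subtype

theorem mem_kerSub {h : ∀ a ∈ T₁, ∀ b ∈ T₂, a * b = b * a} {x : Ω × Ω} :
    x ∈ kerSub h ↔ x.1 ∈ T₁ ∧ x.2 ∈ T₂ ∧ x.1 * x.2 = 1 := by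
  constructor
  · rintro ⟨y, hy, rfl⟩
    exact ⟨y.2.1, y.2.2, hy⟩
  · rintro ⟨h₁, h₂, h₃⟩
    exact ⟨⟨x, h₁, h₂⟩, h₃, rfl⟩

theorem mulHom_eq_one {h : ∀ a ∈ T₁, ∀ b ∈ T₂, a * b = b * a} (s : ↥(T₁.prod T₂)) :
    mulHom h s = 1 ↔ (s : Ω × Ω) ∈ kerSub h :=
  ⟨fun hs => ⟨s, hs, rfl⟩, fun ⟨t, ht, hts⟩ => Subtype.ext hts ▸ ht⟩

theorem finite_prod [Finite S] (h₁ : T₁ ≤ S) (h₂ : T₂ ≤ S) : Finite ↥(T₁.prod T₂) := by
  haveI := finite_of_le h₁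
  haveI := finite_of_le h₂
  exact Finite.of_equiv _ (Subgroup.prodEquiv T₁ T₂).symm.toEquiv

namespace Setup

variable (hD : Setup F E₁ E₂ p) [Fact p.Prime] [Finite S]

include hD

theorem isPGroup_prod : IsPGroup p ↥(T₁.prod T₂) := by
  haveI := finite_of_le hD.le₁
  haveI := finite_of_le hD.swap.le₁
  obtain ⟨a, ha⟩ := (isPGroup_of_le hD.pS hD.le₁).exists_card_eq
  obtain ⟨b, hb⟩ := (isPGroup_of_le hD.pS hD.swap.le₁).exists_card_eq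
  exact IsPGroup.of_card (n := a + b) (by
    rw [Nat.card_congr (Subgroup.prodEquiv T₁ T₂).toEquiv, Nat.card_prod, ha, hb, pow_add])

theorem kerSub_stronglyClosed : (productSys E₁ E₂).StronglyClosed (kerSub hD.comm) := by
  refine stronglyClosed_iff.2 ⟨Subgroup.map_subtype_le _, fun X f hX hf x hx => ?_⟩
  obtain ⟨hXle, f₁, f₂, h₁, h₂, hfx⟩ := (isMap_product_iff isProductSystem_productSys).1 hf
  obtain ⟨hx₁, hx₂, hx₃⟩ := mem_kerSub.1 (hX hx)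
  have e : x.1 = x.2⁻¹ := eq_inv_of_mul_eq_one_left hx₃
  have hz₂ : x.1 ∈ T₂ := e ▸ T₂.inv_mem hx₂
  have hz₁ : x.2 ∈ T₁ := by rw [← inv_inv x.2, ← e]; exact T₁.inv_mem hx₁
  rw [hfx x hx, hD.fixes₁ h₁ (mem_prOne hx) hz₂, hD.fixes₂ h₂ (mem_prTwo hx) hz₁]
  exact hX hx

end Setup

/-- The system of pairs of maps on `T₁ T₂`. -/
noncomputable def prodSys (hD : Setup F E₁ E₂ p) [Fact p.Prime] [Finite S] :
    FusionSystem (T₁ ⊔ T₂) :=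
  haveI := finite_prod hD.le₁ hD.swap.le₁
  castSys (range_mulHom hD.comm) (factorSys (productSys E₁ E₂) hD.kerSub_stronglyClosed
    (mulHom hD.comm) mulHom_eq_one)

namespace Setup

variable (hD : Setup F E₁ E₂ p) [Fact p.Prime] [Finite S]

include hD

theorem isFactorSystem :
    (productSys E₁ E₂).IsFactorSystem (kerSub hD.comm) (mulHom hD.comm) (prodSys hD) := by
  haveI := finite_prod hD.le₁ hD.swap.le₁
  refine ⟨Subgroup.map_subtype_le _, mulHom_eq_one, range_mulHom hD.comm, fun P' φ' => ?_⟩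
  rw [prodSys, castSys_hom, ← range_mulHom hD.comm]
  exact Iff.rfl

theorem isSaturated_prodSys : (prodSys hD).IsSaturated p := by
  haveI := finite_prod hD.le₁ hD.swap.le₁
  haveI := finite_of_le hD.le₁
  haveI := finite_of_le hD.swap.le₁
  exact isSaturated_factor hD.isPGroup_prod (isSaturated_product (isPGroup_of_le hD.pS hD.le₁)
    (isPGroup_of_le hD.pS hD.swap.le₁) hD.n₁.1.1 hD.n₂.1.1 isProductSystem_productSys)
    hD.kerSub_stronglyClosed hD.isFactorSystem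

theorem part₁_le (P : Subgroup Ω) : part T₁ T₂ P ≤ T₁ := inf_le_right

theorem mem_preimage_iff {P : Subgroup Ω} {a b : Ω} :
    (a, b) ∈ preimageAlong (mulHom hD.comm) P ↔ a ∈ T₁ ∧ b ∈ T₂ ∧ a * b ∈ P := by
  rw [mem_preimageAlong]
  exact ⟨fun ⟨⟨h₁, h₂⟩, h⟩ => ⟨h₁, h₂, h⟩, fun ⟨h₁, h₂, h⟩ => ⟨⟨h₁, h₂⟩, h⟩⟩

theorem prOne_preimage {P : Subgroup Ω} (hP : P ≤ T₁ ⊔ T₂) :
    prOne (preimageAlong (mulHom hD.comm) P) = part T₁ T₂ P := by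
  ext a
  rw [mem_part_iff hD.comm hP]
  constructor
  · rintro ⟨⟨a', b⟩, h, rfl⟩
    obtain ⟨h₁, h₂, h₃⟩ := hD.mem_preimage_iff.1 h
    exact ⟨h₁, b, h₂, h₃⟩
  · rintro ⟨ha, b, hb, hab⟩
    exact ⟨(a, b), hD.mem_preimage_iff.2 ⟨ha, hb, hab⟩, rfl⟩

theorem prTwo_preimage {P : Subgroup Ω} (hP : P ≤ T₁ ⊔ T₂) :
    prTwo (preimageAlong (mulHom hD.comm) P) = part T₂ T₁ P := by
  ext b
  rw [mem_part_iff hD.swap.comm (by rwa [sup_comm])]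
  constructor
  · rintro ⟨⟨a, b'⟩, h, rfl⟩
    obtain ⟨h₁, h₂, h₃⟩ := hD.mem_preimage_iff.1 h
    exact ⟨h₂, a, h₁, (hD.comm a h₁ b' h₂) ▸ h₃⟩
  · rintro ⟨hb, a, ha, hba⟩
    exact ⟨(a, b), hD.mem_preimage_iff.2 ⟨ha, hb, (hD.comm a ha b hb).symm ▸ hba⟩, rfl⟩

/-- The maps of the system. -/
theorem isMap_iff {P : Subgroup Ω} {f : Ω → Ω} :
    IsMap (prodSys hD) P f ↔ P ≤ T₁ ⊔ T₂ ∧ ∃ f₁ f₂, IsMap E₁ (part T₁ T₂ P) f₁ ∧
      IsMap E₂ (part T₂ T₁ P) f₂ ∧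
        ∀ a ∈ T₁, ∀ b ∈ T₂, a * b ∈ P → f (a * b) = f₁ a * f₂ b := by
  obtain ⟨-, -, hθ, hE⟩ := hD.isFactorSystem
  rw [isMap_induced_iff hE hθ]
  constructor
  · rintro ⟨hP, g, hg, hgx⟩
    obtain ⟨-, f₁, f₂, h₁, h₂, hfx⟩ := (isMap_product_iff isProductSystem_productSys).1 hg
    rw [hD.prOne_preimage hP] at h₁
    rw [hD.prTwo_preimage hP] at h₂
    refine ⟨hP, f₁, f₂, h₁, h₂, fun a ha b hb hab => ?_⟩
    have hm : (a, b) ∈ preimageAlong (mulHom hD.comm) P := hD.mem_preimage_iff.2 ⟨ha, hb, hab⟩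
    have h1 := hgx (a, b) hm
    change f (a * b) = (g (a, b)).1 * (g (a, b)).2 at h1
    rw [h1, hfx (a, b) hm]
  · rintro ⟨hP, f₁, f₂, h₁, h₂, hfx⟩
    rw [← hD.prOne_preimage hP] at h₁
    rw [← hD.prTwo_preimage hP] at h₂
    refine ⟨hP, fun x => (f₁ x.1, f₂ x.2), (isMap_product_iff isProductSystem_productSys).2
      ⟨preimageAlong_le, f₁, f₂, h₁, h₂, fun _ _ => rfl⟩, fun x hx => ?_⟩
    obtain ⟨ha, hb, hab⟩ := hD.mem_preimage_iff.1 (show (x.1, x.2) ∈ _ from hx)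
    exact hfx x.1 ha x.2 hb hab

/-- A pair of maps gives a map of the system. -/
theorem exists_map_of_pair {P : Subgroup Ω} (hP : P ≤ T₁ ⊔ T₂) {f₁ f₂ : Ω → Ω}
    (h₁ : IsMap E₁ (part T₁ T₂ P) f₁) (h₂ : IsMap E₂ (part T₂ T₁ P) f₂) :
    ∃ f, IsMap (prodSys hD) P f ∧ ∀ a ∈ T₁, ∀ b ∈ T₂, a * b ∈ P → f (a * b) = f₁ a * f₂ b := by
  classical
  choose u hu v hv huv using fun x : P => exists_split hD.comm (hP x.2)
  let f : Ω → Ω := fun x => if hx : x ∈ P then f₁ (u ⟨x, hx⟩) * f₂ (v ⟨x, hx⟩) else 1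
  have hf : ∀ a ∈ T₁, ∀ b ∈ T₂, a * b ∈ P → f (a * b) = f₁ a * f₂ b := by
    intro a ha b hb hab
    simp only [f, dif_pos hab]
    have e : u ⟨a * b, hab⟩ * v ⟨a * b, hab⟩ = a * b := huv _
    exact hD.pair_congr h₁ h₂ (part_mem_left hD.comm hP (hu _) (hv _) (e.symm ▸ hab))
      (part_mem_left hD.comm hP ha hb hab)
      (part_mem_left hD.swap.comm (sup_comm T₁ T₂ ▸ hP) (hv _) (hu _)
        ((hD.comm _ (hu _) _ (hv _)) ▸ (e.symm ▸ hab)))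
      (part_mem_left hD.swap.comm (sup_comm T₁ T₂ ▸ hP) hb ha ((hD.comm a ha b hb) ▸ hab)) e
  exact ⟨f, hD.isMap_iff.2 ⟨hP, f₁, f₂, h₁, h₂, hf⟩, hf⟩

theorem isSubsystemOf : (prodSys hD).IsSubsystemOf F := by
  refine isSubsystemOf_iff.2 fun P f hf => ?_
  obtain ⟨hP, f₁, f₂, h₁, h₂, hfx⟩ := hD.isMap_iff.1 hf
  obtain ⟨g₁, hg₁, hg₁x, hg₁z⟩ := hD.ext₁ h₁
  obtain ⟨g₂, hg₂, hg₂x, hg₂z⟩ := hD.swap.ext₁ h₂
  have hP' : P ≤ T₂ ⊔ T₁ := by rwa [sup_comm]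
  have hdec : ∀ x ∈ P, ∃ a ∈ T₁, ∃ b ∈ T₂, a * b = x ∧ a ∈ part T₁ T₂ P ∧ b ∈ part T₂ T₁ P ∧
      g₂ x = a * f₂ b := fun x hx => by
    obtain ⟨a, ha, b, hb, rfl⟩ := exists_split hD.comm (hP hx)
    have hb' : b ∈ part T₂ T₁ P := part_mem_left hD.swap.comm hP' hb ha (hD.comm a ha b hb ▸ hx)
    refine ⟨a, ha, b, hb, rfl, part_mem_left hD.comm hP ha hb hx, hb', ?_⟩
    rw [hg₂.map_mul (mem_sup_right ha) (mem_sup_left hb'), hg₂x b hb', hg₂z a ha]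
  have hle : P ≤ part T₂ T₁ P ⊔ T₁ := fun x hx => by
    obtain ⟨a, ha, b, hb, rfl, -, hb', -⟩ := hdec x hx
    exact mul_mem (mem_sup_right ha) (mem_sup_left hb')
  refine ((hg₂.mono hle).comp hg₁ fun x hx => ?_).congr fun x hx => ?_
  · obtain ⟨a, ha, b, hb, -, ha', hb', e⟩ := hdec x hx
    rw [e]
    exact mul_mem (mem_sup_left ha') (mem_sup_right (h₂.mem hb'))
  · obtain ⟨a, ha, b, hb, rfl, ha', hb', e⟩ := hdec x hx
    show g₁ (g₂ (a * b)) = f (a * b)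
    rw [e, hg₁.map_mul (mem_sup_left ha') (mem_sup_right (h₂.mem hb')), hg₁x a ha',
      hg₁z _ (h₂.mem hb'), hfx a ha b hb hx]

theorem stronglyClosed_sup : F.StronglyClosed (T₁ ⊔ T₂) := by
  refine stronglyClosed_iff.2 ⟨hD.le_sup, fun X f hX hf x hx => ?_⟩
  obtain ⟨g, hg, hgx⟩ := exists_map_mod hD.pS hD.sat hD.swap.sc₁ hf
  obtain ⟨a, ha, b, hb, rfl⟩ := exists_split hD.comm (hX hx)
  have hb' : b ∈ X ⊔ T₂ := mem_sup_right hb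
  have ha' : a ∈ X ⊔ T₂ := by
    have h := mul_mem (mem_sup_left (T := T₂) hx) ((X ⊔ T₂).inv_mem hb')
    rwa [mul_inv_cancel_right] at h
  have h1 : g (a * b) * ((g (a * b))⁻¹ * f (a * b)) ∈ T₁ ⊔ T₂ := by
    refine mul_mem ?_ (mem_sup_right (hgx _ hx))
    rw [hg.map_mul ha' hb']
    exact Subgroup.mul_mem_sup (StronglyClosed.apply_mem hD.sc₁ hg ha' ha)
      (StronglyClosed.apply_mem hD.swap.sc₁ hg hb' hb)
  rwa [mul_inv_cancel_left] at h1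

/-- The system is invariant under the automorphisms of `T₁ T₂`. -/
theorem transport {al : Ω → Ω} (hal : IsMap F (T₁ ⊔ T₂) al) {P : Subgroup Ω} {f : Ω → Ω}
    (hf : IsMap (prodSys hD) P f) :
    ∃ k, IsMap (prodSys hD) (img P al) k ∧ ∀ x ∈ P, k (al x) = al (f x) := by
  obtain ⟨hP, f₁, f₂, h₁, h₂, hfx⟩ := hD.isMap_iff.1 hf
  obtain ⟨-, -, hinv₁, -⟩ := isInvariantIn_iff.1 hD.n₁.1.2.2
  obtain ⟨-, -, hinv₂, -⟩ := isInvariantIn_iff.1 hD.n₂.1.2.2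
  obtain ⟨k₁, hk₁, hk₁x⟩ := hinv₁ al (hal.mono le_sup_left) _ _ h₁
  obtain ⟨k₂, hk₂, hk₂x⟩ := hinv₂ al (hal.mono le_sup_right) _ _ h₂
  have hP' : P ≤ T₂ ⊔ T₁ := by rwa [sup_comm]
  have hal₁ : img T₁ al = T₁ := StronglyClosed.img_eq hD.sc₁ hal le_sup_left
  have hal₂ : img T₂ al = T₂ := StronglyClosed.img_eq hD.swap.sc₁ hal le_sup_right
  have hsc := hD.stronglyClosed_sup
  have hQ : img P al ≤ T₁ ⊔ T₂ := fun y hy => by
    obtain ⟨x, hx, rfl⟩ := (hal.mono hP).mem_img.1 hy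
    exact StronglyClosed.apply_mem hsc hal (hP hx) (hP hx)
  -- decompositions in the image
  have hdec : ∀ a' ∈ T₁, ∀ b' ∈ T₂, a' * b' ∈ img P al →
      ∃ a ∈ T₁, ∃ b ∈ T₂, a * b ∈ P ∧ al a = a' ∧ al b = b' := by
    intro a' ha' b' hb' hab
    obtain ⟨a, ha, rfl⟩ := (hal.mono le_sup_left).mem_img.1 (hal₁.ge ha')
    obtain ⟨b, hb, rfl⟩ := (hal.mono le_sup_right).mem_img.1 (hal₂.ge hb')
    refine ⟨a, ha, b, hb, ?_, rfl, rfl⟩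
    obtain ⟨x, hx, hxe⟩ := (hal.mono hP).mem_img.1 hab
    rw [← hal.map_mul (mem_sup_left ha) (mem_sup_right hb)] at hxe
    exact (hal.inj (hP hx) (Subgroup.mul_mem_sup ha hb) hxe) ▸ hx
  have hl₁ : part T₁ T₂ (img P al) ≤ img (part T₁ T₂ P) al := fun a' ha' => by
    obtain ⟨ha'₁, b', hb', hab⟩ := (mem_part_iff hD.comm hQ).1 ha'
    obtain ⟨a, ha, b, hb, habP, rfl, -⟩ := hdec a' ha'₁ b' hb' hab
    exact (hal.mono ((inf_le_right).trans le_sup_left)).apply_mem_img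
      (part_mem_left hD.comm hP ha hb habP)
  have hl₂ : part T₂ T₁ (img P al) ≤ img (part T₂ T₁ P) al := fun b' hb' => by
    obtain ⟨hb'₁, a', ha', hba⟩ := (mem_part_iff hD.swap.comm (hQ.trans (sup_comm T₁ T₂).le)).1 hb'
    obtain ⟨a, ha, b, hb, habP, -, rfl⟩ :=
      hdec a' ha' b' hb'₁ ((hD.comm a' ha' b' hb'₁).symm ▸ hba)
    exact (hal.mono ((inf_le_right).trans le_sup_right)).apply_mem_img
      (part_mem_left hD.swap.comm hP' hb ha (hD.comm a ha b hb ▸ habP))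
  obtain ⟨k, hk, hkx⟩ := hD.exists_map_of_pair hQ (hk₁.mono hl₁) (hk₂.mono hl₂)
  refine ⟨k, hk, fun x hx => ?_⟩
  obtain ⟨a, ha, b, hb, rfl⟩ := exists_split hD.comm (hP hx)
  have ha' : a ∈ part T₁ T₂ P := part_mem_left hD.comm hP ha hb hx
  have hb' : b ∈ part T₂ T₁ P := part_mem_left hD.swap.comm hP' hb ha (hD.comm a ha b hb ▸ hx)
  have hab := (hal.mono hP).apply_mem_img hx
  rw [hal.map_mul (mem_sup_left ha) (mem_sup_right hb)] at hab ⊢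
  rw [hkx (al a) (StronglyClosed.apply_mem hD.sc₁ hal (mem_sup_left ha) ha) (al b)
      (StronglyClosed.apply_mem hD.swap.sc₁ hal (mem_sup_right hb) hb) hab,
    hk₁x a ha', hk₂x b hb', hfx a ha b hb hx,
    hal.map_mul (mem_sup_left (h₁.mem ha')) (mem_sup_right (h₂.mem hb'))]

end Setup

end CfsgLib.Comp.CProd
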