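import Cfsg.Agent.Lib.Fusion.ModelBasic
import Cfsg.Agent.Lib.Fusion.InvariantTransport
import Cfsg.Agent.Lib.Fusion.NormalizerSaturated

/-!
The centralizer system of a normal subgroup is a normal subsystem.
-/

set_option autoImplicit false
set_option linter.unusedVariables false
set_option linter.unusedSectionVars false
set_option linter.style.haveILetI false

namespace CfsgLib.Comp.CoreCent

open Cfsg Cfsg.FusionSystem Subgroup CfsgLib.Fusion

variable {Ω : Type*} [Group Ω] {S Q : Subgroup Ω} {F : FusionSystem S} {p : ℕ} [Fact p.Prime]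
  [Finite S] (hS : IsPGroup p S) (hF : F.IsSaturated p) (hQ : F.IsNormal Q)

include hS hF hQ

theorem stronglyClosed_centralizerIn : F.StronglyClosed (centralizerIn S Q) := by
  refine stronglyClosed_iff.2 ⟨inf_le_left, fun X f hX hf x hx => ?_⟩
  obtain ⟨g, hg, hgx, hgQ⟩ := (isNormal_iff.1 hQ).2 X f hf
  have h := hg.apply_mem_centralizerIn le_sup_right (mem_sup_left hx) (hX hx).2
  rwa [hgQ, hgx x hx] at h

/-- The centralizer system of a normal subgroup is normal. -/
theorem isNormalIn_centralizerSys : (centralizerSys F Q hQ.1).IsNormalIn F p := by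
  have hQS := hQ.1
  set C := centralizerIn S Q with hC
  have hCS : C ≤ S := inf_le_left
  have hsc : F.StronglyClosed C := stronglyClosed_centralizerIn hS hF hQ
  have hQsc : F.StronglyClosed Q := IsNormal.stronglyClosed hQ
  haveI := finite_of_le hCS
  haveI := finite_of_le hQS
  have hfc := fullyCentralized_of_fullyNormalized hS hF (IsNormal.fullyNormalized hQ)
  have hsys := isCentralizerSystem_centralizerSys F Q hQS
  have hCn : S ≤ normalizer (C : Set Ω) := StronglyClosed.le_normalizer hsc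
  have hQn : S ≤ normalizer (Q : Set Ω) := StronglyClosed.le_normalizer hQsc
  have hCQ : C ⊔ Q ≤ S := sup_le hCS hQS
  haveI := finite_of_le hCQ
  refine ⟨⟨isSaturated_centralizerSystem hS hF hfc hsys, hF, fun P φ hφ => hφ.1, hsc, ?_, ?_⟩, ?_⟩
  · -- invariance
    intro P hP φ hφ α hα
    have hm : IsMap F C (autFun α) := isMap_autFun hCS hα
    obtain ⟨a, ha, hax, haQ⟩ := (isNormal_iff.1 hQ).2 C _ hm
    obtain ⟨-, hv, g, hg, hgx, hgQ⟩ :=
      (mem_centralizerHom_iff (f := toFun φ) fun x => (toFun_apply φ x).symm).1 hφ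
    obtain ⟨k, hk, hkx, hky, -⟩ := (ha.mono (sup_le_sup_right hP Q)).exists_inv
    set P₁ := (P.subgroupOf C).map (C.subtype.comp α.toMonoidHom) with hP₁
    have hmem₁ : ∀ y ∈ P₁, ∃ x, x ∈ P ∧ a x = y := by
      rintro _ ⟨x, hx, rfl⟩
      exact ⟨x, hx, (hax x x.2).trans (autFun_apply α x.2)⟩
    have hle : P₁ ⊔ Q ≤ img (P ⊔ Q) a := by
      refine sup_le (fun y hy => ?_) ?_
      · obtain ⟨x, hx, rfl⟩ := hmem₁ y hy
        exact (ha.mono (sup_le_sup_right hP Q)).apply_mem_img (mem_sup_left hx)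
      · exact haQ.ge.trans (img_mono le_sup_right)
    have hgin : ∀ x ∈ P ⊔ Q, g x ∈ C ⊔ Q := fun x hx => by
      refine hg.img_sup_le le_sup_left le_sup_right ?_ ?_ (hg.apply_mem_img hx)
      · intro z hz
        obtain ⟨u, hu, rfl⟩ := (hg.mono le_sup_left).mem_img.1 hz
        rw [hgx u hu]
        exact mem_sup_left (hv u hu)
      · intro z hz
        obtain ⟨u, hu, rfl⟩ := (hg.mono le_sup_right).mem_img.1 hz
        rw [hgQ u hu]
        exact mem_sup_right hu
    have hm₁ := ((hk.mono hle).comp hg fun x hx => (hky x (hle hx)).1).comp ha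
      fun x hx => hgin _ (hky x (hle hx)).1
    have hin : ∀ y ∈ P₁, a (g (k y)) ∈ C := fun y hy => by
      obtain ⟨x, hx, rfl⟩ := hmem₁ y hy
      rw [hkx x (mem_sup_left hx), hgx x hx, hax _ (hv x hx)]
      exact autFun_mem α (hv x hx)
    have hP₁C : P₁ ≤ C := by rintro _ ⟨x, -, rfl⟩; exact Subtype.mem _
    refine ⟨(hm₁.mono le_sup_left).toHom, (mem_centralizerHom_iff (f := fun y => a (g (k y)))
      fun _ => rfl).2 ⟨hP₁C, hin, _, hm₁, fun _ _ => rfl, fun q hq => ?_⟩, fun x hφx hαx => ?_⟩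
    · obtain ⟨u, hu, rfl⟩ := (ha.mono le_sup_right).mem_img.1 (haQ.ge hq)
      show a (g (k (a u))) = a u
      rw [hkx u (mem_sup_right hu), hgQ u hu]
    · show a (g (k ((α ⟨x, hP x.2⟩ : C) : Ω))) = _
      rw [← autFun_apply α (hP x.2), ← hax x (hP x.2), hkx x (mem_sup_left x.2), hgx x x.2,
        hax _ (hv x x.2), autFun_apply α (hv x x.2)]
      exact congrArg (fun z => ((α z : C) : Ω)) (Subtype.ext (toFun_apply φ x))
  · -- the Frattini condition
    intro P hP φ hφ
    obtain ⟨g, hg, hgx, hgQ⟩ := (isNormal_iff.1 hQ).2 P _ (isMap_of_hom hφ)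
    obtain ⟨a, ha, hax⟩ := receptive_extend (receptive_of_fullyCentralized hS hF hfc)
      (hg.mono le_sup_right) hgQ (R := C ⊔ Q) le_sup_right fun b hb => by
        have hb' : b ∈ extender S Q (hg.mono le_sup_right).toHom :=
          sup_centralizerIn_le_extender (hg.mono le_sup_right) (IsMap.toHom_apply _)
            ((sup_comm C Q).le hb)
        exact (mem_extender_iff (hg.mono le_sup_right) (IsMap.toHom_apply _)).1 hb'
    have haC : img C a = C := StronglyClosed.img_eq hsc ha le_sup_left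
    obtain ⟨k, hk, hkx, hky, -⟩ := ha.exists_inv
    have haQ : img Q a = Q := (img_congr hax).trans hgQ
    have hgin : ∀ x ∈ P ⊔ Q, g x ∈ img (C ⊔ Q) a := fun x hx => by
      refine hg.img_sup_le le_sup_left le_sup_right ?_ ?_ (hg.apply_mem_img hx)
      · intro z hz
        obtain ⟨u, hu, rfl⟩ := (hg.mono le_sup_left).mem_img.1 hz
        exact img_mono le_sup_left (haC.ge (StronglyClosed.apply_mem hsc hg (mem_sup_left hu) (hP hu)))
      · exact hgQ.le.trans (haQ.ge.trans (img_mono le_sup_right))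
    have hm₁ := hg.comp hk hgin
    have hkC : ∀ x ∈ P, k (g x) ∈ C := fun x hx => by
      obtain ⟨u, hu, e⟩ := (ha.mono le_sup_left).mem_img.1
        (haC.ge (StronglyClosed.apply_mem hsc hg (mem_sup_left hx) (hP hx)))
      rw [← e, hkx u (mem_sup_left hu)]
      exact hu
    have haCm := ha.mono (le_sup_left : C ≤ C ⊔ Q)
    refine ⟨haCm.toAut haC, haCm.toAut_mem haC, (hm₁.mono le_sup_left).toHom,
      (mem_centralizerHom_iff (f := fun x => k (g x)) fun _ => rfl).2
        ⟨hP, hkC, _, hm₁, fun _ _ => rfl, fun q hq => ?_⟩, fun x hx => ?_⟩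
    · show k (g q) = q
      rw [← hax q hq, hkx q (mem_sup_right hq)]
    · rw [IsMap.toAut_apply]
      show φ x = a (k (g x))
      rw [(hky _ (hgin _ (mem_sup_left x.2))).2, hgx x x.2, toFun_apply φ x]
  · -- the extension condition
    intro α hα
    obtain ⟨g, hg, hgx, hgQ⟩ : ∃ g, IsMap F (C ⊔ Q) g ∧ (∀ x : C, g x = ((α x : C) : Ω)) ∧
        ∀ q ∈ Q, g q = q := by
      obtain ⟨-, -, g, hg, hgx, hgQ⟩ :=
        (isMap_centralizerSystem_iff hsys).1 (isMap_of_autGroup (le_rfl : C ≤ C) hα)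
      exact ⟨g, hg, fun x => by rw [hgx x x.2, toFun_aut_apply α x.2], hgQ⟩
    have hgi : img (C ⊔ Q) g = C ⊔ Q := by
      refine eq_of_le_of_card_le (hg.img_sup_le le_sup_left le_sup_right ?_ ?_) hg.card_img.ge
      · exact (StronglyClosed.img_eq hsc hg le_sup_left).le.trans le_sup_left
      · exact (StronglyClosed.img_eq hQsc hg le_sup_right).le.trans le_sup_right
    have hVn : F.IsFullyNormalized (C ⊔ Q) := ⟨hCQ, fun R hR => by
      refine (Subgroup.card_le_of_le (inf_le_left : normalizerIn S R ≤ S)).trans ?_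
      haveI : Finite (normalizerIn S (C ⊔ Q)) := finite_normalizerIn
      exact Subgroup.card_le_of_le (le_inf le_rfl fun a ha => Subgroup.mem_normalizer_iff_map_conj_eq.2 (by
        rw [Subgroup.map_sup, Subgroup.mem_normalizer_iff_map_conj_eq.1 (hCn ha),
          Subgroup.mem_normalizer_iff_map_conj_eq.1 (hQn ha)]))⟩
    set X := centralizerIn S C with hX
    set U := C ⊔ X with hU
    obtain ⟨b, hb, hbx⟩ := receptive_extend (receptive_of_fullyNormalized hS hF hVn) hg hgi
      (R := (C ⊔ Q) ⊔ X) le_sup_left fun a ha => by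
      refine (mem_extender_iff hg hg.toHom_apply).1
        ((sup_le (fun z hz => sup_centralizerIn_le_extender hg hg.toHom_apply (mem_sup_left hz))
          (fun z hz => ?_) : (C ⊔ Q) ⊔ X ≤ extender S (C ⊔ Q) hg.toHom) ha)
      have hzn : z ∈ normalizer ((C ⊔ Q : Subgroup Ω) : Set Ω) :=
        Subgroup.mem_normalizer_iff_map_conj_eq.2 (by
          rw [Subgroup.map_sup, Subgroup.mem_normalizer_iff_map_conj_eq.1 (hCn hz.1),
            Subgroup.mem_normalizer_iff_map_conj_eq.1 (hQn hz.1)])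
      refine (mem_extender_iff hg hg.toHom_apply).2 ⟨hz.1, hzn, z, hz.1, fun v hv => ?_⟩
      have h : v ∈ ((C ⊔ Q : Subgroup Ω) : Set Ω) := hv
      rw [Subgroup.coe_mul_of_left_le_normalizer_right C Q (hCS.trans hQn), Set.mem_mul] at h
      obtain ⟨c, hc, q, hq, rfl⟩ := h
      have hgc : g c ∈ C := by rw [hgx ⟨c, hc⟩]; exact Subtype.mem _
      have h1 : z * c * z⁻¹ = c := by rw [← hz.2 c hc, mul_inv_cancel_right]
      have h2 : z * g c * z⁻¹ = g c := by rw [← hz.2 _ hgc, mul_inv_cancel_right]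
      have hq' : z * q * z⁻¹ ∈ Q := (hQn hz.1 q).1 hq
      rw [show z * (c * q) * z⁻¹ = z * c * z⁻¹ * (z * q * z⁻¹) by group, h1,
        hg.map_mul (mem_sup_left hc) (mem_sup_right hq'),
        hg.map_mul (mem_sup_left hc) (mem_sup_right hq), hgQ q hq, hgQ _ hq',
        show z * (g c * q) * z⁻¹ = z * g c * z⁻¹ * (z * q * z⁻¹) by group, h2]
    have hXS : X ≤ S := inf_le_left
    have hUle : U ≤ (C ⊔ Q) ⊔ X := sup_le (le_sup_of_le_left le_sup_left) le_sup_right
    have hbU := hb.mono hUle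
    have hbC : img C b = C := StronglyClosed.img_eq hsc hb (le_sup_of_le_left le_sup_left)
    have hmove : ∀ x ∈ X, x⁻¹ * b x ∈ C ⊓ centralizer (C : Set Ω) := fun x hx => by
      have hxR : x ∈ (C ⊔ Q) ⊔ X := mem_sup_right hx
      have hbX : b x ∈ X := by
        have h := hb.apply_mem_centralizerIn (le_sup_of_le_left le_sup_left) hxR hx.2
        rwa [hbC] at h
      have hm : x⁻¹ * b x ∈ X := X.mul_mem (X.inv_mem hx) hbX
      refine ⟨⟨hm.1, fun q hq => ?_⟩, hm.2⟩
      have hq' : x * q * x⁻¹ ∈ Q := (hQn hx.1 q).1 hq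
      have h1 := hb.map_conj hxR (mem_sup_left (mem_sup_right hq))
      rw [hbx q (mem_sup_right hq), hgQ q hq, hbx _ (mem_sup_right hq'), hgQ _ hq'] at h1
      calc q * (x⁻¹ * b x) = x⁻¹ * (x * q * x⁻¹) * b x := by group
        _ = x⁻¹ * (b x * q * (b x)⁻¹) * b x := by rw [h1]
        _ = x⁻¹ * b x * q := by group
    haveI := finite_of_le hbU.le
    have hbi : img U b = U := by
      refine eq_of_le_of_card_le (hbU.img_sup_le le_sup_left le_sup_right ?_ ?_) hbU.card_img.ge
      · exact hbC.le.trans le_sup_left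
      · intro z hz
        obtain ⟨x, hx, rfl⟩ := (hbU.mono le_sup_right).mem_img.1 hz
        rw [← mul_inv_cancel_left x (b x)]
        exact mul_mem (mem_sup_right hx) (mem_sup_left (hmove x hx).1)
    refine ⟨hbU.toAut hbi, hbU.toAut_mem hbi, fun x => ?_, fun c hc => ?_⟩
    · rw [IsMap.toAut_apply]
      show b x = _
      rw [hbx x (mem_sup_left x.2), hgx x]
    · rw [IsMap.toAut_apply]
      exact hmove c hc

end CfsgLib.Comp.CoreCent
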