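import Cfsg.Agent.Lib.Comp.CoreAction
import Cfsg.Agent.Lib.Comp.CoreCentralizer
import Cfsg.Agent.Lib.Fusion.FactorHyperfocal
import Cfsg.Agent.Lib.Fusion.GroupSystem
import Cfsg.Agent.Lib.Fusion.Center
import Cfsg.Agent.S5290

/-!
Components of a saturated fusion system centralize its largest normal subgroup.
-/

set_option autoImplicit false
set_option linter.unusedVariables false
set_option linter.unusedSectionVars false
set_option linter.style.haveILetI false

namespace CfsgLib.Comp.CoreCent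

open Cfsg Cfsg.FusionSystem Subgroup CfsgLib.Fusion CfsgLib.Comp.Fus

variable {Ω : Type*} [Group Ω] {S Q : Subgroup Ω} {F : FusionSystem S} {p : ℕ} [Fact p.Prime]
  [Finite S]

section Inner

variable (hS : IsPGroup p S) (hF : F.IsSaturated p) (hQ : F.IsNormal Q)

include hS hF hQ

/-- The inner system of a normal subgroup is a normal subsystem. -/
theorem isNormalIn_innerFusionSystem : (innerFusionSystem Q).IsNormalIn F p := by
  refine ⟨(Cfsg.Agent.S5290.result p hS F hF Q hQ.1).1 hQ, fun α hα => ?_⟩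
  obtain ⟨-, q, hq, hqx⟩ := (autGroup_mem_iff le_rfl).1 hα
  have hW : Q ⊔ centralizerIn S Q ≤ S := sup_le hQ.1 inf_le_left
  haveI := finite_of_le hW
  have hm := isMap_conj F hW (hQ.1 hq)
  have hi : img (Q ⊔ centralizerIn S Q) (fun x => q * x * q⁻¹) = Q ⊔ centralizerIn S Q := by
    refine eq_of_le_of_card_le ?_ hm.card_img.ge
    intro z hz
    obtain ⟨u, hu, rfl⟩ := hm.mem_img.1 hz
    exact mul_mem (mul_mem (mem_sup_left hq) hu) (inv_mem (mem_sup_left hq))
  refine ⟨hm.toAut hi, hm.toAut_mem hi, fun x => ?_, fun c hc => ?_⟩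
  · rw [IsMap.toAut_apply]
    exact (hqx x).symm
  · rw [IsMap.toAut_apply]
    show (c : Ω)⁻¹ * (q * c * q⁻¹) ∈ _
    rw [hc.2 q hq, mul_inv_cancel_right, inv_mul_cancel]
    exact one_mem _

end Inner

/-- The largest normal subgroup of a quasisimple system is central. -/
theorem core_le_center_of_quasisimple (hS : IsPGroup p S) (hq : F.Quasisimple p) :
    F.core ≤ F.center := by
  obtain ⟨hF, hperf, hsimple⟩ := hq
  have hZsc : F.StronglyClosed F.center :=
    IsNormal.stronglyClosed (IsCentral.isNormal center_isCentral)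
  set θ := QuotientGroup.mk' ((F.center).subgroupOf S) with hθ
  have hker : ∀ s : S, θ s = 1 ↔ (s : Ω) ∈ F.center := fun s => QuotientGroup.eq_one_iff s
  have hrange : θ.range = ⊤ := MonoidHom.range_eq_top.2 (QuotientGroup.mk'_surjective _)
  set E := castSys hrange (factorSys F hZsc θ hker) with hEdef
  have hE : F.IsFactorSystem F.center θ E := by
    refine ⟨center_le F, hker, hrange, fun P' φ' => ?_⟩
    rw [hEdef, castSys_hom]
    exact ⟨fun h => ⟨le_top, h.2⟩, fun h => ⟨hrange.ge.trans' le_top, h.2⟩⟩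
  obtain ⟨hEsat, hEne, hEsimple⟩ := hsimple E hE
  have hQp : IsPGroup p (⊤ : Subgroup (S ⧸ (F.center).subgroupOf S)) :=
    (hS.to_quotient _).to_subgroup ⊤
  set Q' := imageAlong θ F.core with hQ'
  have hN : E.IsNormal Q' := by
    refine isNormal_iff.2 ⟨le_top, fun P' f hf => ?_⟩
    obtain ⟨-, g, hg, hgx⟩ := (isMap_induced_iff hE.2.2.2 hrange).1 hf
    obtain ⟨-, hext⟩ := isNormal_iff.1 (core_isNormal (F := F))
    obtain ⟨g₁, hg₁, hg₁x, hg₁Q⟩ := hext _ g hg
    have hZN : F.center ≤ preimageAlong θ P' := le_preimageAlong_of_ker hker (center_le F)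
    have hpre : preimageAlong θ (P' ⊔ Q') ≤ preimageAlong θ P' ⊔ F.core := by
      intro t ht
      obtain ⟨htS, ht⟩ := mem_preimageAlong.1 ht
      have hle : P' ⊔ Q' ≤ imageAlong θ (preimageAlong θ P' ⊔ F.core) := by
        refine sup_le ?_ (Subgroup.map_mono (Subgroup.comap_mono le_sup_right))
        calc P' = imageAlong θ (preimageAlong θ P') :=
              (imageAlong_preimageAlong (hrange.ge.trans' le_top)).symm
          _ ≤ _ := Subgroup.map_mono (Subgroup.comap_mono le_sup_left)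
      obtain ⟨x, hx, hxM, hxt⟩ := mem_imageAlong.1 (hle ht)
      have h1 : x⁻¹ * t ∈ F.center := by
        refine (hker ((⟨x, hx⟩ : S)⁻¹ * ⟨t, htS⟩)).1 ?_
        rw [map_mul, map_inv, hxt, inv_mul_cancel]
      have := mul_mem hxM (mem_sup_left (hZN h1) : x⁻¹ * t ∈ preimageAlong θ P' ⊔ F.core)
      rwa [mul_inv_cancel_left] at this
    have hm := hg₁.mono hpre
    obtain ⟨χ, hχ⟩ := exists_inducedAlong (θ := θ) preimageAlong_le hm fun x hx hx1 =>
      (hker _).2 (StronglyClosed.apply_mem hZsc hm hx ((hker _).1 hx1))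
    have hi : imageAlong θ (preimageAlong θ (P' ⊔ Q')) = P' ⊔ Q' :=
      imageAlong_preimageAlong (hrange.ge.trans' le_top)
    set f₁ := toFun χ with hf₁
    have hval : ∀ (x : Ω) (hx : x ∈ preimageAlong θ (P' ⊔ Q')),
        f₁ (θ ⟨x, preimageAlong_le hx⟩) = θ ⟨g₁ x, hm.mem hx⟩ := fun x hx => by
      rw [hf₁, toFun_of_mem χ (mem_imageAlong.2 ⟨x, preimageAlong_le hx, hx, rfl⟩)]
      exact hχ x hx
    have hf₁m : IsMap E (P' ⊔ Q') f₁ :=
      (isMap_induced_iff hE.2.2.2 hrange).2 ⟨le_top, g₁, hm, hval⟩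
    refine ⟨f₁, hf₁m, fun y hy => ?_, ?_⟩
    · obtain ⟨x, hx, hxy⟩ : ∃ x, ∃ hx : x ∈ S, θ ⟨x, hx⟩ = y := by
        obtain ⟨s, hs⟩ := QuotientGroup.mk'_surjective _ y
        exact ⟨s, s.2, hs⟩
      subst hxy
      have hxP : x ∈ preimageAlong θ P' := mem_preimageAlong.2 ⟨hx, hy⟩
      have hxPQ : x ∈ preimageAlong θ (P' ⊔ Q') := mem_preimageAlong.2 ⟨hx, mem_sup_left hy⟩
      rw [hval x hxPQ, hgx x hxP]
      exact congrArg θ (Subtype.ext (hg₁x x hxP))
    · haveI := finite_of_le (hf₁m.mono (le_sup_right : Q' ≤ P' ⊔ Q')).le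
      refine eq_of_le_of_card_le ?_ (hf₁m.mono le_sup_right).card_img.ge
      intro y hy
      obtain ⟨u, hu, rfl⟩ := (hf₁m.mono le_sup_right).mem_img.1 hy
      obtain ⟨x, hx, hxQ, rfl⟩ := mem_imageAlong.1 hu
      have hxPQ : x ∈ preimageAlong θ (P' ⊔ Q') := mem_preimageAlong.2 ⟨hx, mem_sup_right hu⟩
      rw [hval x hxPQ]
      refine mem_imageAlong.2 ⟨g₁ x, hm.mem hxPQ, ?_, rfl⟩
      have := (hg₁.mono le_sup_right).apply_mem_img hxQ
      rwa [hg₁Q] at this
  rcases hEsimple Q' (innerFusionSystem Q')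
    (isNormalIn_innerFusionSystem hQp hEsat hN) with h | ⟨-, hhom⟩
  · intro x hx
    have h1 : θ ⟨x, core_le F hx⟩ ∈ Q' := mem_imageAlong.2 ⟨x, core_le F hx, hx, rfl⟩
    rw [h, Subgroup.mem_bot] at h1
    exact (hker _).1 h1
  · refine absurd (eq_bot_iff.2 (fun y _ => ?_)) hEne
    have h1 : E.hyperfocalSubgroup p ≤ ⊥ := hyperfocal_le_of ⊥ fun P hP α hα hco x => by
      have h2 := (autGroup_mem_iff hP).1 hα
      rw [← hhom P] at h2
      obtain ⟨-, a, ha, hax⟩ := h2
      have hpP : IsPGroup p P := hQp.to_le hP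
      haveI := finite_of_le hP
      have h3 : α ∈ autInducedBy (⊤ : Subgroup (S ⧸ (F.center).subgroupOf S)) P :=
        mem_autInducedBy_iff.2 ⟨a, Subgroup.mem_top a, fun z => hax z⟩
      obtain ⟨k, hk⟩ := isPGroup_autInducedBy hQp P ⟨α, h3⟩
      have h4 : α = 1 := orderOf_eq_one_iff.1 (Nat.eq_one_of_dvd_coprimes (hco.pow_right k)
        dvd_rfl (orderOf_dvd_of_pow_eq_one (congrArg Subtype.val hk)))
      rw [h4]
      simp
    obtain ⟨s, rfl⟩ := QuotientGroup.mk'_surjective _ y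
    exact h1 (map_hyperfocal_le hS hF hZsc hE ⟨s, hperf.ge s.2, rfl⟩)

/-- A quotient of coprime order moving `Q` modulo a fixed subgroup extends to a map fixing `Q`. -/
theorem exists_fix_of_mod (hS : IsPGroup p S) (hQ : Q ≤ S) {P A : Subgroup Ω} (hA : A ≤ Q)
    {α : MulAut P} (hco : (orderOf α).Coprime p) {g : Ω → Ω} (hg : IsMap F (P ⊔ Q) g)
    (hgx : ∀ x : P, g x = ((α x : P) : Ω)) (hgq : ∀ q ∈ Q, q⁻¹ * g q ∈ A)
    (hfix : ∀ a ∈ A, g a = a) :
    ∃ g', IsMap F (P ⊔ Q) g' ∧ (∀ x : P, g' x = ((α x : P) : Ω)) ∧ ∀ q ∈ Q, g' q = q := by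
  have hgm : ∀ x ∈ P ⊔ Q, g x ∈ P ⊔ Q := fun x hx => by
    refine hg.img_sup_le le_sup_left le_sup_right ?_ ?_ (hg.apply_mem_img hx)
    · intro z hz
      obtain ⟨u, hu, rfl⟩ := (hg.mono le_sup_left).mem_img.1 hz
      rw [hgx ⟨u, hu⟩]
      exact mem_sup_left (α _).2
    · intro z hz
      obtain ⟨u, hu, rfl⟩ := (hg.mono le_sup_right).mem_img.1 hz
      rw [← mul_inv_cancel_left u (g u)]
      exact mem_sup_right (Q.mul_mem hu (hA (hgq u hu)))
  obtain ⟨k, hk⟩ := hS.exists_card_eq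
  obtain ⟨m, hm⟩ : ∃ m : ℕ, (α ^ p ^ k) ^ m = α :=
    exists_pow_eq_self_of_coprime (Nat.Coprime.pow_left k hco.symm)
  refine ⟨g^[p ^ k * m], isMap_iterate hg hgm _, fun x => ?_, fun q hq => ?_⟩
  · have hit : ∀ j : ℕ, g^[j] (x : Ω) = (((α ^ j) x : P) : Ω) := by
      intro j
      induction j with
      | zero => simp
      | succ j ih => rw [Function.iterate_succ_apply', ih, hgx, pow_succ', MulAut.mul_apply]
    rw [hit, pow_mul, hm]
  · set t := q⁻¹ * g q with ht
    have htA : t ∈ A := hgq q hq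
    have hone : t ^ (p ^ k) = 1 := by
      rw [← hk]
      exact congrArg Subtype.val (pow_card_eq_one' (x := (⟨t, hQ (hA htA)⟩ : S)))
    rw [CExt.pow_fix hg (mem_sup_right hq) (mem_sup_right (hA htA))
      (by rw [ht, mul_inv_cancel_left]) (hfix t htA), pow_mul, hone, one_pow, mul_one]

/-- A perfect subnormal subsystem with central core centralizes the largest normal subgroup. -/
theorem subnormal_centralizes {U : Subgroup Ω} {C : FusionSystem U}
    (h : C.IsSubnormalIn F p) (hS : IsPGroup p S) (hF : F.IsSaturated p) (hC : C.IsSaturated p)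
    (hperf : C.hyperfocalSubgroup p = U) (hcore : C.core ≤ C.center) :
    U ≤ centralizerIn S F.core ∧
      C.IsSubsystemOf (centralizerSys F F.core (core_le F)) := by
  suffices H : ∀ {U : Subgroup Ω} (C : FusionSystem U) {S : Subgroup Ω} (F : FusionSystem S)
      (p : ℕ), C.IsSubnormalIn F p → U ≤ S ∧ ∀ (_ : Fact p.Prime) (_ : Finite S), IsPGroup p S →
      F.IsSaturated p → C.IsSaturated p → C.hyperfocalSubgroup p = U → C.core ≤ C.center →
      U ≤ centralizerIn S F.core ∧ ∀ (P : Subgroup Ω) (f : Ω → Ω), IsMap C P f →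
        ∃ g, IsMap F (P ⊔ F.core) g ∧ (∀ x ∈ P, g x = f x) ∧ ∀ q ∈ F.core, g q = q by
    obtain ⟨hle, hext⟩ := (H C F p h).2 inferInstance inferInstance hS hF hC hperf hcore
    refine ⟨hle, fun P φ hφ => ?_⟩
    have hm := isMap_of_hom hφ
    obtain ⟨g, hg, hgx, hgQ⟩ := hext P _ hm
    exact (mem_centralizerHom_iff (f := toFun φ) fun x => (toFun_apply φ x).symm).2
      ⟨hm.le.trans hle, fun x hx => hle (hm.mem hx), g, hg, hgx, hgQ⟩
  intro U C S F p h
  induction h with
  | @refl F p =>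
    refine ⟨le_rfl, fun _ _ hS hF hC hperf hcore => ⟨fun u hu => ⟨hu, fun q hq => ?_⟩,
      fun P f hf => ?_⟩⟩
    · exact (F.center_le_centralizer (hcore hq) u hu).symm
    · obtain ⟨-, hext⟩ := isCentral_iff.1 (center_isCentral (F := F))
      obtain ⟨g, hg, hgx, hgZ⟩ := hext P f hf
      exact ⟨g, hg.mono (sup_le_sup_left hcore P), hgx, fun q hq => hgZ q (hcore hq)⟩
  | @step W S C D F p h₁ h₂ ih =>
    have hsub := h₂.1.2.2.1
    have hsc : F.StronglyClosed W := h₂.1.2.2.2.1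
    refine ⟨ih.1.trans hsc.1, fun _ _ hS hF hC hperf hcore => ?_⟩
    haveI := finite_of_le hsc.1
    have hUW := ih.1
    haveI := finite_of_le hUW
    obtain ⟨hUC, hIH⟩ :=
      ih.2 inferInstance inferInstance (hS.to_le hsc.1) h₂.1.1 hC hperf hcore
    have hQ : F.IsNormal F.core := core_isNormal
    set Q := F.core
    have hA : D.IsNormal (Q ⊓ W) := CoreAct.isNormal_inf hS hF h₂ hQ
    have hAD : Q ⊓ W ≤ D.core := IsNormal.le_core hA
    -- automorphisms of coprime order
    have key : ∀ (P : Subgroup Ω), P ≤ U → ∀ α ∈ C.autGroup P, (orderOf α).Coprime p →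
        ∃ g, IsMap F (P ⊔ Q) g ∧ (∀ x : P, g x = ((α x : P) : Ω)) ∧ ∀ q ∈ Q, g q = q := by
      intro P hP α hα hco
      obtain ⟨f, hf, hfx, hfD⟩ := hIH P _ (isMap_of_autGroup hP hα)
      have hfA := hf.mono (sup_le_sup_left hAD P)
      obtain ⟨g, hg, hgx, hgq⟩ := CoreAct.exists_mod hS hF h₂ hQ hfA
      refine exists_fix_of_mod hS hQ.1 inf_le_left hco
        (hg.mono (sup_le_sup_right le_sup_left Q)) (fun x => ?_) hgq fun a ha => ?_
      · rw [hgx x (mem_sup_left x.2), hfx x x.2, toFun_aut_apply α x.2]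
      · rw [hgx a (mem_sup_right ha), hfD a (hAD ha)]
    have hUS : U ≤ S := hUW.trans hsc.1
    have hQn : S ≤ normalizer (Q : Set Ω) :=
      StronglyClosed.le_normalizer (IsNormal.stronglyClosed hQ)
    have hUQ : U ≤ centralizer (Q : Set Ω) := by
      rw [← hperf]
      refine hyperfocal_le_of _ fun P hP α hα hco x => ?_
      obtain ⟨g, hg, hgx, hgQ⟩ := key P hP α hα hco
      intro q hq
      set a := ((α x : P) : Ω)
      have hq' : (x : Ω) * q * (x : Ω)⁻¹ ∈ Q := (hQn (hUS (hP x.2)) q).1 hq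
      have h1 := hg.map_conj (mem_sup_left x.2) (mem_sup_right hq)
      rw [hgQ q hq, hgQ _ hq', hgx x] at h1
      calc q * ((x : Ω)⁻¹ * a) = (x : Ω)⁻¹ * ((x : Ω) * q * (x : Ω)⁻¹) * a := by group
        _ = (x : Ω)⁻¹ * (a * q * a⁻¹) * a := by rw [h1]
        _ = (x : Ω)⁻¹ * a * q := by group
    have hUCQ : U ≤ centralizerIn S Q := fun u hu => ⟨hUS hu, hUQ hu⟩
    refine ⟨hUCQ, fun P f hf => ?_⟩
    have hUp : IsPGroup p U := hS.to_le hUS
    have hle : C ≤ fixSys C F Q hQ.1 hUCQ := by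
      refine alperin hUp hC fun R hR => ?_
      have hRn : C.IsFullyNormalized R := by
        rcases hR with rfl | hR
        · exact fullyNormalized_top C
        · exact hR.2.1
      haveI := finite_of_le hRn.1
      obtain ⟨V, hV⟩ := (fullyAutomized_of_fullyNormalized hUp hC hRn).2
      refine Subgroup.subgroupOf_eq_top.1 (eq_top_of_sylow_le V ?_ fun x hx => ?_)
      · rw [hV]
        exact Subgroup.comap_mono (autInducedBy_le_autGroup hRn.1)
      · obtain ⟨g, hg, hgx, hgQ⟩ := key R hRn.1 x x.2 (by rwa [Subgroup.orderOf_coe])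
        exact mem_fixSys_autGroup hRn.1 x.2 hg hgx hgQ
    obtain ⟨φ, ⟨-, hφ⟩, hφx⟩ := le_iff_isMap.1 hle P f hf
    obtain ⟨-, -, g, hg, hgx, hgQ⟩ := (mem_centralizerHom_iff hφx).1 hφ
    exact ⟨g, hg, hgx, hgQ⟩

/-- The layer of a saturated fusion system lies in the centralizer system of the core. -/
theorem layer_le_centralizerSys {T : Subgroup Ω} {E : FusionSystem T} (hS : IsPGroup p S)
    (hF : F.IsSaturated p) (hE : E.IsLayerOf F p) :
    E.IsSubsystemOf (centralizerSys F F.core (core_le F)) := by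
  refine hE.2.2 _ _ (isNormalIn_centralizerSys hS hF core_isNormal) fun U C hC => ?_
  have hUS : U ≤ S := by
    suffices H : ∀ {U : Subgroup Ω} (C : FusionSystem U) {S : Subgroup Ω} (F : FusionSystem S)
        (p : ℕ), C.IsSubnormalIn F p → U ≤ S from H C F p hC.1
    intro U C S F p h
    induction h with
    | refl => exact le_rfl
    | step _ h₂ ih => exact ih.trans h₂.1.2.2.2.1.1
  haveI := finite_of_le hUS
  exact (subnormal_centralizes hC.1 hS hF hC.2.1 hC.2.2.1
    (core_le_center_of_quasisimple (hS.to_le hUS) hC.2)).2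

end CfsgLib.Comp.CoreCent
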