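import Cfsg.Agent.Lib.Comp.KBalance
import Cfsg.Agent.Lib.Solvable.HallHigman

/-!
Balance from `p`-constrained centralizers.
-/

set_option autoImplicit false
set_option linter.style.haveILetI false
set_option linter.unusedSectionVars false

namespace CfsgLib.Comp

open Subgroup

variable {G : Type*} [Group G] [Finite G] {p : ℕ} [hp : Fact p.Prime]

theorem centralizerPPrimeCore_eq_bot_of_centralizer_le
    (h : centralizer (Cfsg.pCore p G : Set G) ≤ Cfsg.pCore p G) {x : G}
    (hx : IsPGroup p (zpowers x)) : Cfsg.centralizerPPrimeCore p x = ⊥ := by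
  rw [eq_bot_iff, ← inf_eq_bot_of_isPGroup (isPGroup_pCore p G)
    (coprime_card_centralizerPPrimeCore (p := p) x)]
  exact le_inf ((centralizerPPrimeCore_le_centralizer_pCore hx).trans h) le_rfl

/-- If `C_G(b) / O_{p'}(C_G(b))` is constrained then `O_{p'}(C_G(a)) ∩ C_G(b) ≤ O_{p'}(C_G(b))`. -/
theorem centralizerPPrimeCore_inf_centralizer_le {a b : G}
    (h : centralizer (Cfsg.pCore p (↥(centralizer ({b} : Set G)) ⧸
        Cfsg.pPrimeCore p ↥(centralizer ({b} : Set G))) : Set _) ≤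
      Cfsg.pCore p (↥(centralizer ({b} : Set G)) ⧸ Cfsg.pPrimeCore p ↥(centralizer ({b} : Set G))))
    (hab : a ∈ centralizer ({b} : Set G)) (ha : IsPGroup p (zpowers a)) :
    Cfsg.centralizerPPrimeCore p a ⊓ centralizer ({b} : Set G) ≤ Cfsg.centralizerPPrimeCore p b := by
  set C := centralizer ({b} : Set G)
  haveI := Cfsg.pPrimeCore_normal p ↥C
  set q := QuotientGroup.mk' (Cfsg.pPrimeCore p ↥C)
  have ha' : IsPGroup p (zpowers (⟨a, hab⟩ : ↥C)) := by
    obtain ⟨n, hn⟩ := IsPGroup.iff_card.1 ha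
    refine IsPGroup.of_card (n := n) ?_
    rw [Nat.card_zpowers, ← Subgroup.orderOf_coe, ← Nat.card_zpowers]
    exact hn
  have hqa : IsPGroup p (zpowers (q ⟨a, hab⟩)) := by
    rw [← MonoidHom.map_zpowers]; exact ha'.map _
  have h1 := (map_centralizerPPrimeCore_le (p := p) (a := (⟨a, hab⟩ : ↥C))
    (coprime_card_pPrimeCore p ↥C) ha').trans_eq (centralizerPPrimeCore_eq_bot_of_centralizer_le h hqa)
  rw [le_bot_iff, Subgroup.map_eq_bot_iff, QuotientGroup.ker_mk'] at h1
  rintro x ⟨hx1, hx2⟩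
  exact ⟨⟨x, hx2⟩, h1 hx1, rfl⟩

/-- The same for a solvable centralizer. -/
theorem centralizerPPrimeCore_inf_centralizer_le_of_isSolvable {a b : G}
    (hs : Group.IsSolvable ↥(centralizer ({b} : Set G)))
    (hab : a ∈ centralizer ({b} : Set G)) (ha : IsPGroup p (zpowers a)) :
    Cfsg.centralizerPPrimeCore p a ⊓ centralizer ({b} : Set G) ≤ Cfsg.centralizerPPrimeCore p b := by
  haveI := hs
  haveI := Cfsg.pPrimeCore_normal p ↥(centralizer ({b} : Set G))
  haveI : Group.IsSolvable (↥(centralizer ({b} : Set G)) ⧸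
      Cfsg.pPrimeCore p ↥(centralizer ({b} : Set G))) := inferInstance
  exact centralizerPPrimeCore_inf_centralizer_le
    (CfsgLib.Solvable.centralizer_pCore_le p (pPrimeCore_quotient_eq_bot p _)) hab ha

end CfsgLib.Comp
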