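import Cfsg.Agent.Lib.Comp.PreimageSat
import Cfsg.Agent.Lib.Comp.ComponentCore
import Cfsg.Agent.Lib.Fusion.PPowerNormal
import Cfsg.Agent.Lib.Fusion.PPowerIndex
import Cfsg.Agent.Lib.Fusion.ResidualSystem
import Cfsg.Agent.S5124
import Cfsg.Agent.S5142
import Cfsg.Agent.S5148

/-!
A saturated fusion system is constrained exactly when it has no component.
-/

set_option autoImplicit false
set_option linter.unusedVariables false
set_option linter.unusedSectionVars false
set_option linter.style.haveILetI false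

namespace CfsgLib.Comp.CC

open Cfsg Cfsg.FusionSystem Subgroup CfsgLib.Fusion CfsgLib.Comp.Fus

variable {Ω : Type*} [Group Ω] {S T U Q : Subgroup Ω} {F : FusionSystem S} {p : ℕ}

/-- A subsystem normal in a subnormal one is subnormal. -/
theorem isSubnormalIn_of_normal {D : FusionSystem U} {E : FusionSystem T}
    (hD : D.IsNormalIn E p) (hE : E.IsSubnormalIn F p) : D.IsSubnormalIn F p := by
  induction hE with
  | refl F p => exact .step (.refl D p) hD
  | step _ h₂ ih => exact .step (ih hD) h₂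

variable [Fact p.Prime] [Finite S]

theorem isWeaklyNormalIn_self (hF : F.IsSaturated p) : F.IsWeaklyNormalIn F p := by
  refine ⟨hF, hF, isInvariantIn_iff.2 ⟨fun P φ h => h,
    stronglyClosed_iff.2 ⟨le_rfl, fun P f _ hf x hx => hf.mem hx⟩, fun a ha P f hf => ?_,
    fun P f hP hf => ⟨id, isMap_id F le_rfl, f, hf, fun x _ => rfl⟩⟩⟩
  obtain ⟨c, hiso⟩ := exists_iso_self ha
  exact ⟨_, hiso.map P f hf, fun x hx => by rw [hiso.left x (hf.le hx)]⟩

/-- The largest normal subgroup of an invariant subsystem is normal in the system. -/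
theorem isNormal_core_of_invariant (hS : IsPGroup p S) (hF : F.IsSaturated p) {D : FusionSystem U}
    (hD : D.IsInvariantIn F) : F.IsNormal D.core := by
  have hUS : U ≤ S := hD.2.1.1
  haveI := finite_of_le hUS
  set R := D.core with hR
  have hRn : D.IsNormal R := core_isNormal
  have hRU := hRn.1
  haveI := finite_of_le hRU
  refine isNormal_of_maps_extend hS hF (hRU.trans hUS) fun P f hf hPR => ?_
  obtain ⟨α, hα, φ, hφ, hfx⟩ := hD.2.2.2 P (hPR.trans hRU) hf.toHom hf.toHom_mem
  obtain ⟨g, hg, hgx, hgR⟩ := (isNormal_iff.1 hRn).2 P _ (isMap_of_hom hφ)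
  have hgR' := hg.mono le_sup_right
  have hm : IsMap F U (autFun α) := isMap_autFun hUS hα
  have hαR : img R (autFun α) = R := by
    refine eq_of_le_of_card_le ?_ (hm.mono hRU).card_img.ge
    exact IsNormal.le_core (IsInvariantIn.isNormal_img hD hα hRn)
  have hcomp : IsMap F R (fun x => autFun α (g x)) :=
    (Pre.isMap_of_sub' hD.1 hgR').comp hm fun x hx => hgR'.mem hx
  have hci : img R (fun x => autFun α (g x)) = R := by
    rw [img_comp_eq (Pre.isMap_of_sub' hD.1 hgR') hm fun x hx => hgR'.mem hx, hgR, hαR]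
  refine ⟨hcomp.toAut hci, hcomp.toAut_mem hci, fun x hx hxR => ?_⟩
  rw [IsMap.toAut_apply]
  show autFun α (g x) = f x
  have hmem : φ ⟨x, hx⟩ ∈ U := (D.le_of_mem hφ).2 _
  rw [hgx x hx, toFun_of_mem φ hx, autFun_apply α hmem]
  exact (hfx ⟨x, hx⟩ hmem).symm

theorem centric_of_isNormal (hQ : F.IsNormal Q) (hC : centralizerIn S Q ≤ Q) : F.IsCentric Q := by
  refine ⟨hQ.1, fun R hR => ?_⟩
  obtain ⟨f, hf, rfl⟩ := isConj_iff.1 hR
  rw [StronglyClosed.img_eq (IsNormal.stronglyClosed hQ) hf le_rfl]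
  exact hC

theorem constrained_of_centralizer_core (hF : F.IsSaturated p)
    (hC : centralizerIn S F.core ≤ F.core) : F.IsConstrained p :=
  ⟨hF, F.core, core_isNormal, centric_of_isNormal core_isNormal hC⟩

/-- The core of a constrained normal subsystem contains its centralizer in the subsystem. -/
theorem exists_normal_of_constrained (hS : IsPGroup p S) (hF : F.IsSaturated p)
    {D : FusionSystem U} (hD : D.IsNormalIn F p) (hc : D.IsConstrained p) :
    ∃ R, F.IsNormal R ∧ R ≤ U ∧ centralizerIn U R ≤ R := by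
  haveI := finite_of_le hD.1.2.2.2.1.1
  obtain ⟨-, Q, hQ, hQc⟩ := hc
  refine ⟨D.core, isNormal_core_of_invariant hS hF hD.1.2.2, core_isNormal.1, fun x hx => ?_⟩
  have hQR : Q ≤ D.core := IsNormal.le_core hQ
  exact hQR (hQc.2 Q (isConj_refl hQ.1) ⟨hx.1, fun y hy => hx.2 y (hQR hy)⟩)

theorem constrained_of_normal_over_top (hS : IsPGroup p S) (hF : F.IsSaturated p)
    {D : FusionSystem S} (hD : D.IsNormalIn F p) (hc : D.IsConstrained p) :
    F.IsConstrained p := by
  obtain ⟨R, hR, -, hRc⟩ := exists_normal_of_constrained hS hF hD hc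
  exact ⟨hF, R, hR, centric_of_isNormal hR hRc⟩

/-- A system all of whose proper normal subsystems are constrained and that is not constrained is
quasisimple. -/
theorem quasisimple_of_minimal (hS : IsPGroup p S) (hF : F.IsSaturated p)
    (hn : ¬ F.IsConstrained p)
    (hlow : ∀ (U : Subgroup Ω) (D : FusionSystem U), D.IsNormalIn F p → U ≠ S →
      D.IsConstrained p)
    (htop : ∀ (U : Subgroup Ω) (D : FusionSystem U), D.IsNormalIn F p → U = S →
      ∀ P f, IsMap F P f → IsMap D P f) :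
    F.Quasisimple p := by
  have hQn : F.IsNormal F.core := core_isNormal
  set Q := F.core with hQdef
  -- the centralizer system of the core is everything
  have hC := CoreCent.isNormalIn_centralizerSys hS hF hQn
  have hCS : centralizerIn S Q = S := by
    by_contra hne
    obtain ⟨R, hR, hRU, hRc⟩ := exists_normal_of_constrained hS hF hC (hlow _ _ hC hne)
    have hRQ : R ≤ Q := IsNormal.le_core hR
    refine hn (constrained_of_centralizer_core hF fun x hx => hRQ ?_)
    exact hRc ⟨hx, fun y hy => hx.2 y (hRQ hy)⟩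
  have hQcent : F.IsCentral Q := by
    refine isCentral_iff.2 ⟨hQn.1, fun P f hf => ?_⟩
    obtain ⟨φ, hφ, hφx⟩ := htop _ _ hC hCS P f hf
    obtain ⟨-, -, g, hg, hgx, hgQ⟩ := (mem_centralizerHom_iff hφx).1 hφ
    exact ⟨g, hg, hgx, hgQ⟩
  have hQZ : Q = F.center := le_antisymm (IsCentral.le_center hQcent)
    (IsNormal.le_core (IsCentral.isNormal center_isCentral))
  have hQS : ∀ x ∈ S, ∀ z ∈ Q, x * z = z * x := fun x hx z hz =>
    F.center_le_centralizer (hQZ ▸ hz) x hx
  have hsmall : ∀ (U : Subgroup Ω) (D : FusionSystem U), D.IsNormalIn F p → U ≠ S → U ≤ Q := by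
    intro U D hD hne
    obtain ⟨R, hR, hRU, hRc⟩ := exists_normal_of_constrained hS hF hD (hlow _ _ hD hne)
    have hRQ : R ≤ Q := IsNormal.le_core hR
    exact fun x hx =>
      hRQ (hRc ⟨hx, fun y hy => (hQS x (hD.1.2.2.2.1.1 hx) y (hRQ hy)).symm⟩)
  -- equal to its residual subsystem of `p`-power index
  have hperf : F.hyperfocalSubgroup p = S := by
    set Y := F.hyperfocalSubgroup p with hY
    have hYsc : F.StronglyClosed Y := Cfsg.Agent.S5124.result p hS F hF
    by_contra hne
    obtain ⟨D, hDs, hDi⟩ := exists_pPowerIndex (Nat.card S) S hS F hF Y hYsc.1 le_rfl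
      (Nat.le_add_left _ _)
    have hYn : (Y.subgroupOf S).Normal := ⟨fun x hx a =>
      StronglyClosed.conj_mem hYsc a.2 hx⟩
    have hYQ := hsmall Y D (isNormalIn_of_pPower hS hF hYsc.1 hYn hDs hDi) hne
    refine hn ⟨hF, S, ?_, ⟨le_rfl, fun R hR => ?_⟩⟩
    · have hone : ∀ P, P ≤ S → ∀ α ∈ F.autGroup P, (orderOf α).Coprime p → α = 1 := by
        intro P hP α hα hco
        haveI := finite_of_le hP
        refine MulEquiv.ext fun x => ?_
        set z : P := x⁻¹ * α x with hz
        have hzQ : (z : Ω) ∈ Q := hYQ (sub_mem_hyperfocal_of_coprime hP hα hco x)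
        obtain ⟨-, hext⟩ := isCentral_iff.1 hQcent
        obtain ⟨g, hg, hgx, hgQ⟩ := hext P _ (isMap_autFun hP hα)
        have hfix : α z = z := Subtype.ext (by
          rw [← autFun_apply α z.2, ← hgx z z.2, hgQ z hzQ])
        have h1 := pow_apply_of_fixed (β := α) (x := x) (z := z)
          (by rw [hz, mul_inv_cancel_left]) hfix (orderOf α)
        rw [pow_orderOf_eq_one, MulAut.one_apply, eq_comm, mul_eq_left] at h1
        obtain ⟨e, he⟩ := hS.to_le hP z
        have h2 : z = 1 := orderOf_eq_one_iff.1 (Nat.eq_one_of_dvd_coprimes (hco.pow_right e)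
          (orderOf_dvd_of_pow_eq_one h1) (orderOf_dvd_of_pow_eq_one he))
        rw [MulAut.one_apply]
        exact (inv_mul_eq_one.1 h2).symm
      have hle : F ≤ innerFusionSystem S := le_of_coprime_aut hS hF fun P hP α hα hco => by
        rw [hone P hP α hα hco]
        exact one_mem _
      refine isNormal_iff.2 ⟨le_rfl, fun P f hf => ?_⟩
      obtain ⟨φ, ⟨hP, a, ha, hax⟩, hφx⟩ := le_iff_isMap.1 hle P f hf
      have hm := isMap_conj F (P := S) le_rfl ha
      refine ⟨_, hm.mono (sup_le hP le_rfl), fun x hx => ?_,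
        eq_of_le_of_card_le hm.img_le hm.card_img.ge⟩
      exact ((hφx ⟨x, hx⟩).symm.trans (hax ⟨x, hx⟩)).symm
    · rw [eq_of_le_of_card_le (isConj_le_right hR) (isConj_card hR).ge]
      exact inf_le_left
  refine ⟨hF, hperf, fun E hE => ?_⟩
  have hZsc : F.StronglyClosed F.center :=
    IsNormal.stronglyClosed (IsCentral.isNormal center_isCentral)
  have hEsat : E.IsSaturated p :=
    isSaturated_image hS hF (isSurjectiveMorphism_factor hS hF hZsc hE)
  have hSQ : ¬ S ≤ Q := fun hle => hn (constrained_of_centralizer_core hF fun x hx => hle hx.1)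
  refine ⟨hEsat, fun hbot => hSQ fun x hx => ?_, fun W' D' hD' => ?_⟩
  · have h1 : (QuotientGroup.mk' ((F.center).subgroupOf S)) ⟨x, hx⟩ = 1 := by
      have := Subgroup.mem_top ((QuotientGroup.mk' ((F.center).subgroupOf S)) ⟨x, hx⟩)
      rw [hbot, Subgroup.mem_bot] at this
      exact this
    rw [hQZ]
    exact (hE.2.1 _).1 h1
  set θ := QuotientGroup.mk' ((F.center).subgroupOf S) with hθ
  have hd : Pre.Setup F p F.center θ E D' := ⟨hS, hF, center_isCentral, hE, hD'⟩
  obtain ⟨D, hD, hgood⟩ := hd.exists_normal_preimage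
  by_cases hW : Pre.wSub θ W' = S
  · have hall := htop _ D hD hW
    have hW' : W' = ⊤ := by
      rw [← hd.im_wSub, hW, eq_top_iff]
      intro y _
      obtain ⟨s, rfl⟩ := QuotientGroup.mk'_surjective _ y
      exact (Pre.mem_im le_rfl).2 ⟨s, s.2, Pre.qmap_of_mem s.2⟩
    refine Or.inr ⟨hW', fun P' => Set.Subset.antisymm (hD'.1.2.2.1 P') fun φ hφ => ?_⟩
    obtain ⟨g, hg, hgx⟩ := hd.lift (isMap_of_hom hφ)
    obtain ⟨-, hPW, f', hf', hfx⟩ := hgood _ g (hall _ g hg)
    rw [hd.im_pre (fun y _ => Subgroup.mem_top y)] at hf'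
    refine hf'.mem_hom fun x => ?_
    obtain ⟨s, hs⟩ := QuotientGroup.mk'_surjective _ (x : S ⧸ (F.center).subgroupOf S)
    have hmem : (s : Ω) ∈ preimageAlong θ P' := Pre.mem_pre.2 ⟨s.2, by
      rw [Pre.qmap_of_mem s.2]
      exact hs ▸ x.2⟩
    have h1 := hgx s hmem
    have h2 := hfx s hmem
    rw [← h1, Pre.qmap_of_mem s.2] at h2
    have e : θ ⟨(s : Ω), s.2⟩ = (x : S ⧸ (F.center).subgroupOf S) := hs
    rw [e, toFun_apply φ x] at h2
    exact h2.symm
  · left
    have hWQ := hsmall _ D hD hW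
    rw [← hd.im_wSub, eq_bot_iff]
    intro y hy
    obtain ⟨x, hx, rfl⟩ := (Pre.mem_im Pre.wSub_le).1 hy
    rw [Subgroup.mem_bot, hd.qmap_eq_one (Pre.wSub_le hx)]
    exact hQZ ▸ hWQ hx

/-- A subnormal system that is not constrained has a component. -/
theorem exists_component : ∀ (n : ℕ) (T : Subgroup Ω) (E : FusionSystem T),
    IsPGroup p S → F.IsSaturated p → E.IsSubnormalIn F p → E.IsSaturated p →
    ¬ E.IsConstrained p → Nat.card T = n →
      ∃ (U : Subgroup Ω) (C : FusionSystem U), C.IsComponentIn F p := by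
  intro n
  induction n using Nat.strong_induction_on with
  | _ n ih => ?_
  intro T E hS hF hE hEs hn hcard
  have hTS : T ≤ S := le_of_subnormal hE
  haveI := finite_of_le hTS
  have hTp : IsPGroup p T := hS.to_le hTS
  obtain ⟨E₀, hE₀⟩ := Cfsg.Agent.S5140.result p hTp E hEs
  have hE₀n : E₀.IsNormalIn E p :=
    Cfsg.Agent.S5141.result p hTp E hEs E (isWeaklyNormalIn_self hEs) E₀ hE₀
  have hE₀s := isSubnormalIn_of_normal hE₀n hE
  have hn₀ : ¬ E₀.IsConstrained p := fun hc => hn (constrained_of_normal_over_top hTp hEs hE₀n hc)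
  by_cases hbad : ∃ (U : Subgroup Ω) (D : FusionSystem U),
      D.IsNormalIn E₀ p ∧ U ≠ T ∧ ¬ D.IsConstrained p
  · obtain ⟨U, D, hD, hne, hnc⟩ := hbad
    have hUT : U ≤ T := hD.1.2.2.2.1.1
    refine ih (Nat.card U) ?_ U D hS hF (isSubnormalIn_of_normal hD hE₀s) hD.1.1 hnc rfl
    rw [← hcard]
    by_contra hge
    exact hne (eq_of_le_of_card_le hUT (not_lt.1 hge))
  refine ⟨T, E₀, hE₀s, quasisimple_of_minimal hTp hE₀.1 hn₀ (fun U D hD hne => ?_)
    fun U D hD hU P f hf => ?_⟩
  · by_contra hc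
    exact hbad ⟨U, D, hD, hne, hc⟩
  subst hU
  obtain ⟨E₁, hE₁⟩ := Cfsg.Agent.S5140.result p hTp E₀ hE₀.1
  have hE₁D : E₁.IsSubsystemOf D := by
    have hself : E₀.IsNormalIn E₀ p := by
      refine ⟨isWeaklyNormalIn_self hE₀.1, fun α hα => ?_⟩
      have hc : centralizerIn U U ≤ U := inf_le_left
      have hsup : U ⊔ centralizerIn U U = U := sup_eq_left.2 hc
      have hle : U ≤ U ⊔ centralizerIn U U := le_sup_left
      have hm : IsMap E₀ (U ⊔ centralizerIn U U) (autFun α) :=
        (isMap_autFun le_rfl hα).mono hsup.le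
      have hi : img (U ⊔ centralizerIn U U) (autFun α) = U ⊔ centralizerIn U U := by
        rw [hsup]; exact img_toFun_aut α
      refine ⟨hm.toAut hi, hm.toAut_mem hi, fun x => ?_, fun c hc' => ?_⟩
      · rw [IsMap.toAut_apply]
        exact autFun_apply α x.2
      · rw [IsMap.toAut_apply]
        have hcU : (c : Ω) ∈ U := hc'.1
        have hac : autFun α c ∈ U := autFun_mem α hcU
        refine Subgroup.mem_inf.2 ⟨U.mul_mem (U.inv_mem hcU) hac, ?_⟩
        have hcz : autFun α c ∈ centralizer (U : Set Ω) := fun y hy => by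
          have hy' : autFun α⁻¹ y ∈ U := autFun_mem _ hy
          have hmU := isMap_autFun (F := E₀) le_rfl hα
          rw [← autFun_apply_inv α hy, ← hmU.map_mul hy' hcU, hc'.2 _ hy', hmU.map_mul hcU hy']
        exact mul_mem (inv_mem hc'.2) hcz
    exact Cfsg.Agent.S5142.result p hTp E₀ hE₀.1 E₀ hself E₁ hE₁ D hD
  have hE₁E : E₁.HasPrimeToPIndexIn E p := by
    refine ⟨fun X φ hφ => hE₀.2.1.1 X (hE₁.2.1.1 X hφ), fun X hX => ?_⟩
    rw [Subgroup.map_le_iff_le_comap]
    refine (Subgroup.closure_le _).2 fun α hα => ?_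
    obtain ⟨k, hk⟩ := hα
    have h0 : (α : MulAut X) ∈ E₀.autGroup X :=
      hE₀.2.1.2 X hX ⟨α, Subgroup.subset_closure ⟨k, hk⟩, rfl⟩
    refine hE₁.2.1.2 X hX ⟨⟨α, h0⟩, Subgroup.subset_closure ⟨k, ?_⟩, rfl⟩
    rw [Subgroup.orderOf_mk, Subgroup.orderOf_coe]
    exact hk
  exact Pre.isMap_of_sub' hE₁D (Pre.isMap_of_sub' (hE₀.2.2 E₁ hE₁.1 hE₁E) hf)

/-- A constrained system has no component. -/
theorem no_component_of_constrained (hS : IsPGroup p S) (hc : F.IsConstrained p)
    {C : FusionSystem U} (hC : C.IsComponentIn F p) : False := by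
  obtain ⟨hF, Q, hQ, hQc⟩ := hc
  have hUS : U ≤ S := le_of_subnormal hC.1
  haveI := finite_of_le hUS
  obtain ⟨hUC, -⟩ := CoreCent.subnormal_centralizes hC.1 hS hF hC.2.1 hC.2.2.1
    (CoreCent.core_le_center_of_quasisimple (hS.to_le hUS) hC.2)
  refine Cfsg.Agent.S5148.result p (hS.to_le hUS) C hC.2 ⟨⟨fun a b => Subtype.ext ?_⟩⟩
  have hQcore : Q ≤ F.core := IsNormal.le_core hQ
  have ha : (a : Ω) ∈ F.core :=
    hQcore (hQc.2 Q (isConj_refl hQ.1) ⟨hUS a.2, fun q hq => (hUC a.2).2 q (hQcore hq)⟩)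
  exact (hUC b.2).2 _ ha

theorem constrained_iff_no_component (hS : IsPGroup p S) (hF : F.IsSaturated p) :
    F.IsConstrained p ↔ ¬ ∃ (U : Subgroup Ω) (C : FusionSystem U), C.IsComponentIn F p := by
  refine ⟨fun hc ⟨U, C, hC⟩ => no_component_of_constrained hS hc hC, fun h => ?_⟩
  by_contra hn
  exact h (exists_component (Nat.card S) S F hS hF (.refl F p) hF hn rfl)

end CfsgLib.Comp.CC
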