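import Cfsg.Agent.Lib.Comp.FusionStabilizer
import Cfsg.Agent.Lib.Comp.PrimeResidualLeast
import Cfsg.Agent.Lib.Fusion.NormalSubgroup
import Cfsg.Agent.Lib.Fusion.ModelBasic
import Mathlib.GroupTheory.Transfer

/-!
Normal subsystems of the fusion system of a `p`-constrained group come from normal subgroups.
-/

set_option autoImplicit false
set_option linter.unusedVariables false
set_option linter.unusedSectionVars false
set_option linter.style.haveILetI false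

namespace CfsgLib.Comp.Fus

open Cfsg Cfsg.FusionSystem Subgroup CfsgLib.Fusion

variable {G : Type*} [Group G] {p : ℕ} {S T Q : Subgroup G} {E : FusionSystem T}

theorem isMap_group_of {P : Subgroup G} {f : G → G} (hP : P ≤ S) {g : G}
    (hg : ∀ x ∈ P, f x = g * x * g⁻¹) (hS : ∀ x ∈ P, f x ∈ S) :
    IsMap (groupFusionSystem S) P f := by
  have h : conjHom P g ∈ (groupFusionSystem S).Hom P :=
    ⟨hP, fun x => (hg x x.2 ▸ hS x x.2 : g * (x : G) * g⁻¹ ∈ S), g, fun x => rfl⟩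
  exact ⟨conjHom P g, h, fun x => (hg x x.2).symm⟩

theorem exists_conj_of_group {P : Subgroup G} {f : G → G}
    (hf : IsMap (groupFusionSystem S) P f) : ∃ g, ∀ x ∈ P, f x = g * x * g⁻¹ := by
  obtain ⟨φ, ⟨-, -, g, hg⟩, hφ⟩ := hf
  exact ⟨g, fun x hx => (hφ ⟨x, hx⟩).symm.trans (hg ⟨x, hx⟩)⟩

theorem isMap_subgroup_of {H P : Subgroup G} (hTH : T ≤ H) {f : G → G} (hP : P ≤ T) {g : G}
    (hgH : g ∈ H) (hg : ∀ x ∈ P, f x = g * x * g⁻¹) (hT : ∀ x ∈ P, f x ∈ T) :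
    IsMap (fusionSystemOfSubgroup H T hTH) P f := by
  have h : conjHom P g ∈ (fusionSystemOfSubgroup H T hTH).Hom P :=
    ⟨hP, fun x => (hg x x.2 ▸ hT x x.2 : g * (x : G) * g⁻¹ ∈ T), g, hgH, fun x => rfl⟩
  exact ⟨conjHom P g, h, fun x => (hg x x.2).symm⟩

theorem exists_conj_of_subgroup {H P : Subgroup G} {hTH : T ≤ H} {f : G → G}
    (hf : IsMap (fusionSystemOfSubgroup H T hTH) P f) :
    ∃ g ∈ H, ∀ x ∈ P, f x = g * x * g⁻¹ := by
  obtain ⟨φ, ⟨-, -, g, hgH, hg⟩, hφ⟩ := hf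
  exact ⟨g, hgH, fun x hx => (hφ ⟨x, hx⟩).symm.trans (hg ⟨x, hx⟩)⟩

/-- The elements acting on `Q ∩ T` as the subsystem does and trivially on `Q` modulo `T`. -/
def envSub (E : FusionSystem T) (Q : Subgroup G) (hQ : Q.Normal)
    (hn : ∀ g : G, ∀ x ∈ T ⊓ Q, g * x * g⁻¹ ∈ T ⊓ Q) : Subgroup G where
  carrier := {g | (∀ q ∈ Q, q⁻¹ * (g * q * g⁻¹) ∈ T) ∧
    ∃ α ∈ E.autGroup (T ⊓ Q), ∀ x : (T ⊓ Q : Subgroup G),
      ((α x : (T ⊓ Q : Subgroup G)) : G) = g * (x : G) * g⁻¹}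
  one_mem' := ⟨fun q hq => by simp, 1, one_mem _, fun x => by simp⟩
  mul_mem' := by
    rintro a b ⟨ha, α, hα, hαx⟩ ⟨hb, β, hβ, hβx⟩
    refine ⟨fun q hq => ?_, α * β, mul_mem hα hβ, fun x => ?_⟩
    · have h1 := hn a _ ⟨hb q hq, Q.mul_mem (Q.inv_mem hq) (hQ.conj_mem q hq b)⟩
      have h2 := T.mul_mem (ha q hq) h1.1
      convert h2 using 1
      group
    · rw [MulAut.mul_apply, hαx, hβx]
      group
  inv_mem' := by
    rintro a ⟨ha, α, hα, hαx⟩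
    refine ⟨fun q hq => ?_, α⁻¹, inv_mem hα, fun x => ?_⟩
    · have h := T.inv_mem (ha (a⁻¹ * q * a) (by simpa using hQ.conj_mem q hq a⁻¹))
      convert h using 1
      group
    · have h := hαx (α⁻¹ x)
      rw [MulAut.apply_inv_self] at h
      rw [h]
      group

theorem mem_envSub {hQ : Q.Normal} {hn : ∀ g : G, ∀ x ∈ T ⊓ Q, g * x * g⁻¹ ∈ T ⊓ Q} {g : G} :
    g ∈ envSub E Q hQ hn ↔ (∀ q ∈ Q, q⁻¹ * (g * q * g⁻¹) ∈ T) ∧
      ∃ α ∈ E.autGroup (T ⊓ Q), ∀ x : (T ⊓ Q : Subgroup G),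
        ((α x : (T ⊓ Q : Subgroup G)) : G) = g * (x : G) * g⁻¹ := Iff.rfl

section Main

variable [Finite G] [Fact p.Prime] (W : Sylow p G)
  (hC : Subgroup.centralizer ((Cfsg.pCore p G : Subgroup G) : Set G) ≤ Cfsg.pCore p G)
  (hTS : T ≤ (W : Subgroup G))
  (hw : E.IsWeaklyNormalIn (groupFusionSystem (W : Subgroup G)) p)

include hTS hw

/-- Conjugates in `S` of elements of `T` lie in `T`. -/
theorem conj_mem_closed {g x : G} (hx : x ∈ T) (hgx : g * x * g⁻¹ ∈ (W : Subgroup G)) :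
    g * x * g⁻¹ ∈ T := by
  have hz : Subgroup.zpowers x ≤ T := Subgroup.zpowers_le.2 hx
  have hm : IsMap (groupFusionSystem (W : Subgroup G)) (Subgroup.zpowers x)
      fun y => g * y * g⁻¹ := by
    refine isMap_group_of (hz.trans hTS) (g := g) (fun y hy => rfl) fun y hy => ?_
    obtain ⟨i, rfl⟩ := Subgroup.mem_zpowers_iff.1 hy
    rw [← conj_zpow]
    exact Subgroup.zpow_mem _ hgx i
  exact StronglyClosed.apply_mem hw.2.2.2.1 hm (Subgroup.mem_zpowers x) hx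

theorem core_inter_normal : ∀ g : G, ∀ x ∈ T ⊓ Cfsg.pCore p G,
    g * x * g⁻¹ ∈ T ⊓ Cfsg.pCore p G := fun g x hx => by
  have h : g * x * g⁻¹ ∈ Cfsg.pCore p G :=
    (Subgroup.sSup_normal _ fun _ hN => hN.1).conj_mem x hx.2 g
  exact ⟨conj_mem_closed W hTS hw hx.1 (CfsgLib.Fusion.pCore_le_sylow W h), h⟩

theorem core_inter_fullyNormalized : E.IsFullyNormalized (T ⊓ Cfsg.pCore p G) := by
  refine ⟨inf_le_left, fun R hR => ?_⟩
  obtain ⟨f, hf, rfl⟩ := isConj_iff.1 hR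
  have hfF := isSubsystemOf_iff.1 hw.2.2.1 _ f hf
  obtain ⟨g, hg⟩ := exists_conj_of_group hfF
  have hle : img (T ⊓ Cfsg.pCore p G) f ≤ T ⊓ Cfsg.pCore p G := fun y hy => by
    obtain ⟨x, hx, rfl⟩ := hf.mem_img.1 hy
    rw [hg x hx]
    exact core_inter_normal W hTS hw g x hx
  rw [eq_of_le_of_card_le hle hf.card_img.ge]

theorem le_envSub : T ≤ envSub E (Cfsg.pCore p G) (Subgroup.sSup_normal _ fun _ hN => hN.1)
    (core_inter_normal W hTS hw) := by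
  intro t ht
  refine mem_envSub.2 ⟨fun q hq => ?_, ?_⟩
  · have h := StronglyClosed.conj_mem hw.2.2.2.1
      ((W : Subgroup G).inv_mem (CfsgLib.Fusion.pCore_le_sylow W hq)) ht
    rw [inv_inv] at h
    simpa [mul_assoc] using T.mul_mem h (T.inv_mem ht)
  · have hn : t ∈ normalizer ((T ⊓ Cfsg.pCore p G : Subgroup G) : Set G) := fun z =>
      ⟨fun hz => core_inter_normal W hTS hw t z hz, fun hz => by
        simpa [mul_assoc] using core_inter_normal W hTS hw t⁻¹ _ hz⟩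
    exact ⟨_, autInducedBy_le_autGroup inf_le_left
      (mem_autInducedBy_iff.2 ⟨t, ht, fun x => rfl⟩ :
        (T ⊓ Cfsg.pCore p G).normalizerMonoidHom ⟨t, hn⟩ ∈ _), fun x => rfl⟩

theorem envSub_normal : (envSub E (Cfsg.pCore p G) (Subgroup.sSup_normal _ fun _ hN => hN.1)
    (core_inter_normal W hTS hw)).Normal := by
  have hQn : (Cfsg.pCore p G).Normal := Subgroup.sSup_normal _ fun _ hN => hN.1
  have hQ₀ := core_inter_normal W hTS hw
  refine ⟨fun h hh a => mem_envSub.2 ⟨fun q hq => ?_, ?_⟩⟩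
  · obtain ⟨h1, -⟩ := mem_envSub.1 hh
    have hq' : a⁻¹ * q * a ∈ Cfsg.pCore p G := by simpa using hQn.conj_mem q hq a⁻¹
    have h2 : a * ((a⁻¹ * q * a)⁻¹ * (h * (a⁻¹ * q * a) * h⁻¹)) * a⁻¹ ∈ T :=
      (hQ₀ a _ ⟨h1 _ hq', (Cfsg.pCore p G).mul_mem ((Cfsg.pCore p G).inv_mem hq')
        (hQn.conj_mem _ hq' h)⟩).1
    convert h2 using 1
    group
  · obtain ⟨-, α, hα, hαx⟩ := mem_envSub.1 hh
    have hn : a ∈ normalizer ((T ⊓ Cfsg.pCore p G : Subgroup G) : Set G) := fun z =>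
      ⟨fun hz => hQ₀ a z hz, fun hz => by simpa [mul_assoc] using hQ₀ a⁻¹ _ hz⟩
    set c := (T ⊓ Cfsg.pCore p G).normalizerMonoidHom ⟨a, hn⟩ with hc
    have hcF : c ∈ (groupFusionSystem (W : Subgroup G)).autGroup (T ⊓ Cfsg.pCore p G) := by
      refine (autGroup_iff_isMap (inf_le_left.trans hTS) (f := fun y => a * y * a⁻¹) fun x => rfl).2 ?_
      exact isMap_group_of (inf_le_left.trans hTS) (g := a) (fun x hx => rfl)
        fun x hx => hTS (hQ₀ a x hx).1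
    refine ⟨c * α * c⁻¹, autGroup_conj_mem hw.2.2 inf_le_left hcF hα, fun x => ?_⟩
    rw [MulAut.mul_apply, MulAut.mul_apply]
    show a * ((α (c⁻¹ x) : (T ⊓ Cfsg.pCore p G : Subgroup G)) : G) * a⁻¹ = _
    rw [hαx]
    have e : ((c⁻¹ x : (T ⊓ Cfsg.pCore p G : Subgroup G)) : G) = a⁻¹ * (x : G) * a := by
      have h := congrArg Subtype.val (MulAut.apply_inv_self _ c x)
      calc ((c⁻¹ x : (T ⊓ Cfsg.pCore p G : Subgroup G)) : G)
          = a⁻¹ * (a * ((c⁻¹ x : (T ⊓ Cfsg.pCore p G : Subgroup G)) : G) * a⁻¹) * a := by group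
        _ = a⁻¹ * (x : G) * a := by
          rw [show a * ((c⁻¹ x : (T ⊓ Cfsg.pCore p G : Subgroup G)) : G) * a⁻¹ = (x : G) from h]
    rw [e]
    group

include hC

/-- The elements centralizing `Q ∩ T` and `Q / (Q ∩ T)` lie in `Q`. -/
theorem mem_core_of_trivial {g : G} (h1 : ∀ q ∈ Cfsg.pCore p G, q⁻¹ * (g * q * g⁻¹) ∈ T)
    (h2 : ∀ x ∈ T ⊓ Cfsg.pCore p G, g * x * g⁻¹ = x) : g ∈ Cfsg.pCore p G := by
  have hQn : (Cfsg.pCore p G).Normal := Subgroup.sSup_normal _ fun _ hN => hN.1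
  have hQ₀ := core_inter_normal W hTS hw
  have hmemQ : ∀ a, ∀ q ∈ Cfsg.pCore p G, a * q * a⁻¹ ∈ Cfsg.pCore p G := fun a q hq =>
    hQn.conj_mem q hq a
  let N : Subgroup G :=
    { carrier := {g | (∀ q ∈ Cfsg.pCore p G, q⁻¹ * (g * q * g⁻¹) ∈ T) ∧
        ∀ x ∈ T ⊓ Cfsg.pCore p G, g * x * g⁻¹ = x}
      one_mem' := ⟨fun q hq => by simp, fun x hx => by simp⟩
      mul_mem' := by
        rintro a b ⟨ha, ha'⟩ ⟨hb, hb'⟩
        refine ⟨fun q hq => ?_, fun x hx => ?_⟩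
        · have h2 := T.mul_mem (ha q hq) (hQ₀ a _ ⟨hb q hq,
            (Cfsg.pCore p G).mul_mem ((Cfsg.pCore p G).inv_mem hq) (hmemQ b q hq)⟩).1
          convert h2 using 1
          group
        · calc a * b * x * (a * b)⁻¹ = a * (b * x * b⁻¹) * a⁻¹ := by group
            _ = x := by rw [hb' x hx, ha' x hx]
      inv_mem' := by
        rintro a ⟨ha, ha'⟩
        refine ⟨fun q hq => ?_, fun x hx => ?_⟩
        · have h := T.inv_mem (ha (a⁻¹ * q * a) (by simpa using hmemQ a⁻¹ q hq))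
          convert h using 1
          group
        · conv_lhs => rw [← ha' x hx]
          group }
  have hN : N.Normal := ⟨fun k hk a => ⟨fun q hq => by
      have hq' : a⁻¹ * q * a ∈ Cfsg.pCore p G := by simpa using hmemQ a⁻¹ q hq
      have h2 : a * ((a⁻¹ * q * a)⁻¹ * (k * (a⁻¹ * q * a) * k⁻¹)) * a⁻¹ ∈ T :=
        (hQ₀ a _ ⟨hk.1 _ hq', (Cfsg.pCore p G).mul_mem ((Cfsg.pCore p G).inv_mem hq')
          (hmemQ k _ hq')⟩).1
      convert h2 using 1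
      group, fun x hx => by
      have h := hk.2 _ (by simpa using hQ₀ a⁻¹ x hx : a⁻¹ * x * a ∈ T ⊓ Cfsg.pCore p G)
      calc a * k * a⁻¹ * x * (a * k * a⁻¹)⁻¹ = a * (k * (a⁻¹ * x * a) * k⁻¹) * a⁻¹ := by group
        _ = x := by rw [h]; group⟩⟩
  have hNp : IsPGroup p N := by
    intro n
    set β := (Cfsg.pCore p G).normalizerMonoidHom
      ⟨(n : G), (Subgroup.normalizer_eq_top_iff.2 hQn).symm ▸ Subgroup.mem_top _⟩ with hβdef
    have hQS := CfsgLib.Fusion.pCore_le_sylow W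
    have hβ : β ∈ chainAut (groupFusionSystem (W : Subgroup G)) T (Cfsg.pCore p G) := by
      refine mem_chainAut.2 ⟨(autGroup_iff_isMap hQS (f := fun y => (n : G) * y * (n : G)⁻¹) fun x => rfl).2
        (isMap_group_of hQS (g := (n : G)) (fun x hx => rfl) fun x hx => hQS (hmemQ _ x hx)),
        fun x hx => Subtype.ext (n.2.2 x ⟨hx, x.2⟩), fun x => n.2.1 x x.2⟩
    obtain ⟨k, hk⟩ := isPGroup_chainAut W.isPGroup' hTS ⟨β, hβ⟩
    have hk' : β ^ p ^ k = 1 := congrArg Subtype.val hk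
    rw [hβdef, ← map_pow] at hk'
    have hcen : (n : G) ^ p ^ k ∈ Subgroup.centralizer (Cfsg.pCore p G : Set G) := fun q hq => by
      have h := congrArg Subtype.val (DFunLike.congr_fun hk' ⟨q, hq⟩)
      have h' : (n : G) ^ p ^ k * q * ((n : G) ^ p ^ k)⁻¹ = q := h
      calc q * (n : G) ^ p ^ k = (n : G) ^ p ^ k * q * ((n : G) ^ p ^ k)⁻¹ * (n : G) ^ p ^ k := by
            rw [h']
        _ = (n : G) ^ p ^ k * q := by group
    obtain ⟨m, hm⟩ := (W.isPGroup'.to_le hQS) ⟨_, hC hcen⟩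
    refine ⟨k + m, Subtype.ext ?_⟩
    rw [Subgroup.coe_pow, pow_add, pow_mul]
    exact congrArg Subtype.val hm
  exact (le_sSup (show N ∈ {N : Subgroup G | N.Normal ∧ IsPGroup p N} from ⟨hN, hNp⟩) :
    N ≤ Cfsg.pCore p G) ⟨h1, h2⟩

/-- The Sylow subgroup of the envelope is `T` times elements centralizing both layers. -/
theorem envSub_decomp {s : G} (hs : s ∈ (W : Subgroup G))
    (hsE : s ∈ envSub E (Cfsg.pCore p G) (Subgroup.sSup_normal _ fun _ hN => hN.1)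
      (core_inter_normal W hTS hw)) :
    ∃ t ∈ T, t⁻¹ * s ∈ Cfsg.pCore p G ∧
      ∀ x ∈ T ⊓ Cfsg.pCore p G, (t⁻¹ * s) * x * (t⁻¹ * s)⁻¹ = x := by
  set Q₀ := T ⊓ Cfsg.pCore p G with hQ₀
  have hTp : IsPGroup p T := W.isPGroup'.to_le hTS
  haveI : Finite (MulAut Q₀) := Finite.of_injective (fun e : MulAut Q₀ => (e : Q₀ → Q₀))
    DFunLike.coe_injective
  set A := autInducedBy (W : Subgroup G) Q₀ ⊓ E.autGroup Q₀
  have hle : autInducedBy T Q₀ ≤ A := le_inf (fun α hα => by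
    obtain ⟨t, ht, htx⟩ := mem_autInducedBy_iff.1 hα
    exact mem_autInducedBy_iff.2 ⟨t, hTS ht, htx⟩) (autInducedBy_le_autGroup inf_le_left)
  have hAp : IsPGroup p A := by
    intro α
    obtain ⟨a, ha, hax⟩ := mem_autInducedBy_iff.1 α.2.1
    obtain ⟨k, hk⟩ := W.isPGroup' ⟨a, ha⟩
    refine ⟨k, Subtype.ext (MulEquiv.ext fun x => Subtype.ext ?_)⟩
    have hn : a ∈ normalizer (Q₀ : Set G) := mem_normalizer_of_aut hax
    have e : (α : MulAut Q₀) = Q₀.normalizerMonoidHom ⟨a, hn⟩ :=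
      MulEquiv.ext fun z => Subtype.ext (hax z)
    have hk' : a ^ p ^ k = 1 := congrArg Subtype.val hk
    have hz : (⟨a, hn⟩ : (normalizer (Q₀ : Set G) : Subgroup G)) ^ p ^ k = 1 := Subtype.ext hk'
    rw [Subgroup.coe_pow, e, ← map_pow, hz, map_one]
    rfl
  obtain ⟨γ, hγ, hγ'⟩ := exists_conj_le_autInducedBy
    (fullyAutomized_of_fullyNormalized hTp hw.1 (core_inter_fullyNormalized W hTS hw)) A hAp
    inf_le_right
  have hAeq : autInducedBy T Q₀ = A := by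
    refine eq_of_le_of_card_le hle (le_of_eq_of_le (Subgroup.card_map_of_injective
      (f := (MulAut.conj γ).toMonoidHom) (MulAut.conj γ).injective).symm
      (Subgroup.card_le_of_le ?_))
    rintro _ ⟨κ, hκ, rfl⟩
    exact hγ' κ hκ
  obtain ⟨hs1, α, hα, hαx⟩ := mem_envSub.1 hsE
  have hαA : α ∈ A := ⟨mem_autInducedBy_iff.2 ⟨s, hs, hαx⟩, hα⟩
  rw [← hAeq] at hαA
  obtain ⟨t, ht, htx⟩ := mem_autInducedBy_iff.1 hαA
  have htr : ∀ x ∈ Q₀, (t⁻¹ * s) * x * (t⁻¹ * s)⁻¹ = x := fun x hx => by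
    have e := (hαx ⟨x, hx⟩).symm.trans (htx ⟨x, hx⟩)
    calc (t⁻¹ * s) * x * (t⁻¹ * s)⁻¹ = t⁻¹ * (s * x * s⁻¹) * t := by group
      _ = t⁻¹ * (t * x * t⁻¹) * t := by rw [e]
      _ = x := by group
  have hmem := (envSub E (Cfsg.pCore p G) (Subgroup.sSup_normal _ fun _ hN => hN.1)
    (core_inter_normal W hTS hw)).mul_mem ((envSub E (Cfsg.pCore p G)
      (Subgroup.sSup_normal _ fun _ hN => hN.1) (core_inter_normal W hTS hw)).inv_mem
        (le_envSub W hTS hw ht)) hsE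
  exact ⟨t, ht, mem_core_of_trivial W hC hTS hw (mem_envSub.1 hmem).1 htr, htr⟩

end Main

end CfsgLib.Comp.Fus
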