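import Cfsg.Agent.Lib.PLocal.Sylow
import Cfsg.Agent.Lib.Fusion.ResidualSystem
import Mathlib.GroupTheory.Transfer

/-!
Cutting a normal subgroup down to a strongly closed part of its Sylow subgroup by transfer.
-/

set_option autoImplicit false
set_option linter.unusedSectionVars false
set_option linter.style.haveILetI false

namespace CfsgLib.Comp

open Subgroup

variable {G : Type*} [Group G] [Finite G] {p : ℕ} [Fact p.Prime]

theorem exists_transfer_cut (W : Sylow p G) {T M : Subgroup G} (hM : M.Normal)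
    (hTW : T ≤ (W : Subgroup G)) (hTM : T ≤ M)
    (hclosed : ∀ g : G, ∀ x ∈ T, g * x * g⁻¹ ∈ (W : Subgroup G) → g * x * g⁻¹ ∈ T)
    (hdec : ∀ s ∈ (W : Subgroup G), s ∈ M → ∃ t ∈ T, ∀ m ∈ M,
      (t⁻¹ * s)⁻¹ * (m * (t⁻¹ * s) * m⁻¹) ∈ T) :
    ∃ H : Subgroup G, T ≤ H ∧ H ≤ M ∧ H.Normal ∧ (∀ x ∈ (W : Subgroup G), x ∈ H → x ∈ T) ∧
      (∃ R : Sylow p H, (R : Subgroup H) = T.subgroupOf H) ∧
      ∀ x ∈ M, (orderOf x).Coprime p → x ∈ H := by
  set P : Subgroup M := (W : Subgroup G).subgroupOf M with hPdef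
  set N : Subgroup P := (T.subgroupOf M).subgroupOf P with hNdef
  have hTn : ∀ s ∈ (W : Subgroup G), ∀ t ∈ T, s * t * s⁻¹ ∈ T := fun s hs t ht =>
    hclosed s t ht ((W : Subgroup G).mul_mem ((W : Subgroup G).mul_mem hs (hTW ht))
      ((W : Subgroup G).inv_mem hs))
  haveI : N.Normal := ⟨fun n hn g => hTn ((g : M) : G) g.2 ((n : M) : G) hn⟩
  have hmemN : ∀ x : P, x ∈ N ↔ ((x : M) : G) ∈ T := fun x => Iff.rfl
  have hcomm : ∀ a b : P ⧸ N, a * b = b * a := by
    intro a b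
    induction a using QuotientGroup.induction_on with
    | _ a =>
    induction b using QuotientGroup.induction_on with
    | _ b =>
    rw [← QuotientGroup.mk_mul, ← QuotientGroup.mk_mul, QuotientGroup.eq]
    obtain ⟨t, ht, htk⟩ := hdec _ a.2 (a : M).2
    rw [hmemN]
    show (((a : M) : G) * ((b : M) : G))⁻¹ * (((b : M) : G) * ((a : M) : G)) ∈ T
    have h1 := htk _ (b : M).2
    have hb : ((b : M) : G) ∈ (W : Subgroup G) := b.2
    have hk : (t⁻¹ * ((a : M) : G)) ∈ (W : Subgroup G) :=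
      (W : Subgroup G).mul_mem ((W : Subgroup G).inv_mem (hTW ht)) a.2
    set k := t⁻¹ * ((a : M) : G) with hkdef
    have ea : ((a : M) : G) = t * k := by rw [hkdef, mul_inv_cancel_left]
    have h2 : (k⁻¹ * ((b : M) : G)⁻¹ * k) * t * (k⁻¹ * ((b : M) : G)⁻¹ * k)⁻¹ ∈ T :=
      hTn _ ((W : Subgroup G).mul_mem ((W : Subgroup G).mul_mem ((W : Subgroup G).inv_mem hk)
        ((W : Subgroup G).inv_mem hb)) hk) t ht
    have h3 : k⁻¹ * t⁻¹ * k ∈ T := by
      simpa using hTn _ ((W : Subgroup G).inv_mem hk) t⁻¹ (T.inv_mem ht)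
    have h4 : ((b : M) : G)⁻¹ * (k⁻¹ * (((b : M) : G) * k * ((b : M) : G)⁻¹)) *
        ((b : M) : G)⁻¹⁻¹ ∈ T := hTn _ ((W : Subgroup G).inv_mem hb) _ h1
    rw [ea]
    have e : (t * k * ((b : M) : G))⁻¹ * (((b : M) : G) * (t * k)) =
        (((b : M) : G)⁻¹ * (k⁻¹ * t⁻¹ * k) * ((b : M) : G)⁻¹⁻¹) *
        (((b : M) : G)⁻¹ * (k⁻¹ * (((b : M) : G) * k * ((b : M) : G)⁻¹)) *
          ((b : M) : G)⁻¹⁻¹) * (k⁻¹ * t * k) := by group
    rw [e]
    exact T.mul_mem (T.mul_mem (hTn _ ((W : Subgroup G).inv_mem hb) _ h3) h4)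
      (by simpa using hTn _ ((W : Subgroup G).inv_mem hk) t ht)
  letI : CommGroup (P ⧸ N) :=
    { (inferInstance : Group (P ⧸ N)) with mul_comm := hcomm }
  let φ : P →* P ⧸ N := QuotientGroup.mk' N
  let τ : M →* P ⧸ N := MonoidHom.transfer φ
  have hAp : IsPGroup p (P ⧸ N) :=
    ((show IsPGroup p P from W.isPGroup'.comap_subtype).to_quotient N)
  have hcop : ∀ x : M, (orderOf x).Coprime p → τ x = 1 := fun x hx => by
    obtain ⟨k, hk⟩ := hAp (τ x)
    exact orderOf_eq_one_iff.1 (Nat.eq_one_of_dvd_coprimes (hx.pow_right k)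
      (orderOf_map_dvd τ x) (orderOf_dvd_of_pow_eq_one hk))
  have hindex : ¬ p ∣ P.index := by
    have h := CfsgLib.PLocal.sylow_inf_normal_not_dvd W M
    rwa [Subgroup.inf_relIndex_right] at h
  -- conjugates of elements of `T` are in the kernel
  have hconjT : ∀ (g : G), ∀ t ∈ T, ∀ h : g * t * g⁻¹ ∈ M, τ ⟨g * t * g⁻¹, h⟩ = 1 := by
    intro g t ht h
    classical
    let := P.fintypeQuotientOfFiniteIndex
    rw [MonoidHom.transfer_eq_prod_quotient_orbitRel_zpowers_quot]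
    refine Finset.prod_eq_one fun q _ => ?_
    refine (QuotientGroup.eq_one_iff _).2 ((hmemN _).2 ?_)
    set o : M := q.out.out
    set m := Function.minimalPeriod (((⟨g * t * g⁻¹, h⟩ : M)) • ·) q.out
    show (o : G)⁻¹ * (g * t * g⁻¹) ^ m * (o : G) ∈ T
    have hmem : (o : G)⁻¹ * (g * t * g⁻¹) ^ m * (o : G) ∈ (W : Subgroup G) :=
      QuotientGroup.out_conj_pow_minimalPeriod_mem P (⟨g * t * g⁻¹, h⟩ : M) q.out
    have e : (o : G)⁻¹ * (g * t * g⁻¹) ^ m * (o : G) =
        ((o : G)⁻¹ * g) * t ^ m * ((o : G)⁻¹ * g)⁻¹ := by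
      rw [conj_pow]; group
    rw [e] at hmem ⊢
    exact hclosed _ _ (T.pow_mem ht m) hmem
  have hker : ∀ x : M, (x : G) ∈ (W : Subgroup G) → τ x = 1 → (x : G) ∈ T := by
    intro x hx hτ
    obtain ⟨t, ht, htk⟩ := hdec _ hx x.2
    have hkW : t⁻¹ * (x : G) ∈ (W : Subgroup G) :=
      (W : Subgroup G).mul_mem ((W : Subgroup G).inv_mem (hTW ht)) hx
    set k : P := ⟨⟨t⁻¹ * (x : G), M.mul_mem (M.inv_mem (hTM ht)) x.2⟩, hkW⟩ with hkdef
    have hτk : τ (k : M) = 1 := by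
      have e : (k : M) = ⟨1 * t * 1⁻¹, by simpa using hTM ht⟩⁻¹ * x :=
        Subtype.ext (by simp [hkdef])
      rw [e, map_mul, map_inv, hconjT 1 t ht, inv_one, one_mul, hτ]
    have hcalc : τ (k : M) = φ k ^ P.index := by
      classical
      let := P.fintypeQuotientOfFiniteIndex
      rw [MonoidHom.transfer_eq_prod_quotient_orbitRel_zpowers_quot,
        Subgroup.index_eq_sum_minimalPeriod P (k : M), ← Finset.prod_pow_eq_pow_sum]
      refine Finset.prod_congr rfl fun q _ => ?_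
      set o : M := q.out.out
      set m := Function.minimalPeriod (((k : M)) • ·) q.out
      rw [← map_pow]
      refine (QuotientGroup.eq).2 ((hmemN _).2 ?_)
      show ((o : G)⁻¹ * (t⁻¹ * (x : G)) ^ m * (o : G))⁻¹ * (t⁻¹ * (x : G)) ^ m ∈ T
      have hstep : ∀ i : ℕ, ((t⁻¹ * (x : G)) ^ i)⁻¹ *
          ((o : G)⁻¹ * (t⁻¹ * (x : G)) ^ i * (o : G)⁻¹⁻¹) ∈ T := by
        intro i
        induction i with
        | zero => simp
        | succ i ih =>
          have h1 := htk _ (M.inv_mem o.2)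
          have h2 := hTn _ ((W : Subgroup G).inv_mem hkW) _ ih
          have h3 := T.mul_mem h2 h1
          convert h3 using 1
          rw [pow_succ]
          group
      have h4 := T.inv_mem (hstep m)
      convert h4 using 1
      group
    have hk1 : φ k = 1 := by
      obtain ⟨n, hn⟩ := hAp (φ k)
      refine orderOf_eq_one_iff.1 (Nat.eq_one_of_dvd_coprimes
        (((Fact.out : p.Prime).coprime_iff_not_dvd.2 hindex).pow_left n)
        (orderOf_dvd_of_pow_eq_one hn) (orderOf_dvd_of_pow_eq_one ?_))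
      rw [← hcalc, hτk]
    have h5 : t⁻¹ * (x : G) ∈ T := (hmemN k).1 ((QuotientGroup.eq_one_iff k).1 hk1)
    simpa using T.mul_mem ht h5
  set H : Subgroup G := τ.ker.map M.subtype with hH
  have hHM : H ≤ M := by
    rintro _ ⟨y, -, rfl⟩
    exact y.2
  have hmemH : ∀ (x : G) (hx : x ∈ M), τ ⟨x, hx⟩ = 1 → x ∈ H := fun x hx h => ⟨⟨x, hx⟩, h, rfl⟩
  have hconjH : ∀ (g : G), ∀ t ∈ T, g * t * g⁻¹ ∈ H := fun g t ht =>
    hmemH _ (hM.conj_mem t (hTM ht) g) (hconjT g t ht _)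
  have hTH : T ≤ H := fun t ht => by simpa using hconjH 1 t ht
  have hHW : ∀ x ∈ (W : Subgroup G), x ∈ H → x ∈ T := by
    rintro _ hx ⟨y, hy, rfl⟩
    exact hker y hx hy
  have hcopH : ∀ x ∈ M, (orderOf x).Coprime p → x ∈ H := fun x hx ho =>
    hmemH x hx (hcop _ (by rwa [Subgroup.orderOf_mk]))
  -- a Sylow subgroup of `H`
  have hTp : IsPGroup p (T.subgroupOf H) :=
    (W.isPGroup'.to_le hTW).of_equiv (Subgroup.subgroupOfEquivOfLe hTH).symm
  obtain ⟨R, hR⟩ := hTp.exists_le_sylow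
  have hRT : (R : Subgroup H) = T.subgroupOf H := by
    refine (Subgroup.eq_of_le_of_card_ge hR ?_).symm
    let P' : Sylow p M := (W.isPGroup'.comap_subtype : IsPGroup p P).toSylow hindex
    have hRp : IsPGroup p (((R : Subgroup H).map (Subgroup.inclusion hHM))) := R.isPGroup'.map _
    obtain ⟨R', hR'⟩ := hRp.exists_le_sylow
    obtain ⟨m, hm⟩ := MulAction.exists_smul_eq M R' P'
    have hmap : ∀ r ∈ (R : Subgroup H), (m : G) * (r : G) * (m : G)⁻¹ ∈ T := by
      intro r hr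
      have h1 : m * Subgroup.inclusion hHM r * m⁻¹ ∈ (P' : Subgroup M) := by
        rw [← hm]
        exact ⟨_, hR' ⟨r, hr, rfl⟩, rfl⟩
      refine hHW _ h1 ?_
      obtain ⟨y, hy, hyr⟩ := r.2
      refine hmemH _ (M.mul_mem (M.mul_mem m.2 (hHM r.2)) (M.inv_mem m.2)) ?_
      have e : (⟨(m : G) * (r : G) * (m : G)⁻¹, M.mul_mem (M.mul_mem m.2 (hHM r.2))
          (M.inv_mem m.2)⟩ : M) = m * y * m⁻¹ := Subtype.ext (by
        show _ = (m : G) * (y : G) * (m : G)⁻¹
        rw [show (y : G) = (r : G) from hyr])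
      rw [e]
      exact (MonoidHom.normal_ker τ).conj_mem y hy m
    refine Nat.card_le_card_of_injective
      (fun r : (R : Subgroup H) => (⟨⟨(m : G) * ((r : H) : G) * (m : G)⁻¹,
        hTH (hmap r r.2)⟩, hmap r r.2⟩ : T.subgroupOf H)) fun a b hab => ?_
    have h := congrArg (fun z : T.subgroupOf H => ((z : H) : G)) hab
    exact Subtype.ext (Subtype.ext (mul_left_cancel (mul_right_cancel h)))
  have hnc : H.normalCore.subgroupOf H = ⊤ := by
    refine CfsgLib.Fusion.eq_top_of_sylow_le R (fun r hr => ?_) fun x hx => ?_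
    · rw [hRT] at hr
      exact fun g => hconjH g r hr
    · intro g
      refine hcopH _ (hM.conj_mem _ (hHM x.2) g) ?_
      have e : orderOf (g * (x : G) * g⁻¹) = orderOf x := by
        rw [← Subgroup.orderOf_coe x]
        exact MulEquiv.orderOf_eq (MulAut.conj g) (x : G)
      exact e ▸ hx
  have hHn : H.Normal := by
    have e : H.normalCore = H :=
      le_antisymm H.normalCore_le (Subgroup.subgroupOf_eq_top.1 hnc)
    exact e ▸ inferInstance
  exact ⟨H, hTH, hHM, hHn, hHW, ⟨R, hRT⟩, hcopH⟩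

end CfsgLib.Comp
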