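import Cfsg.Agent.Lib.Comp.ConstrainedNormal
import Cfsg.Agent.Lib.Comp.TransferCut

/-!
The normal subgroup belonging to a normal subsystem of a `p`-constrained group.
-/

set_option autoImplicit false
set_option linter.unusedVariables false
set_option linter.unusedSectionVars false
set_option linter.style.haveILetI false

namespace CfsgLib.Comp.Fus

open Cfsg Cfsg.FusionSystem Subgroup CfsgLib.Fusion

variable {G : Type*} [Group G] {p : ℕ} {T : Subgroup G} {E : FusionSystem T}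
  [Finite G] [Fact p.Prime] (W : Sylow p G)
  (hC : Subgroup.centralizer ((Cfsg.pCore p G : Subgroup G) : Set G) ≤ Cfsg.pCore p G)
  (hTS : T ≤ (W : Subgroup G))
  (hE : E.IsNormalIn (groupFusionSystem (W : Subgroup G)) p)

include hC hTS hE

/-- The automorphisms of `T` of order prime to `p` in the subsystem are induced by elements of
order prime to `p` in the envelope. -/
theorem exists_lift_coprime {a : MulAut T} (ha : a ∈ E.autGroup T) (ho : (orderOf a).Coprime p) :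
    ∃ g ∈ envSub E (Cfsg.pCore p G) (Subgroup.sSup_normal _ fun _ hN => hN.1)
        (core_inter_normal W hTS hE.1),
      (orderOf g).Coprime p ∧ ∀ x : T, ((a x : T) : G) = g * (x : G) * g⁻¹ := by
  obtain ⟨hEsat, hF, hinv⟩ := id hE.1
  have hsc := hinv.2.1
  have hTp : IsPGroup p T := W.isPGroup'.to_le hTS
  have hQn : (Cfsg.pCore p G).Normal := Subgroup.sSup_normal _ fun _ hN => hN.1
  have hQS := CfsgLib.Fusion.pCore_le_sylow W
  set C := centralizerIn (W : Subgroup G) T with hCdef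
  obtain ⟨-, hext⟩ := isNormalIn_iff.1 hE
  obtain ⟨b, hb, hba, hbc⟩ := hext (autFun a) (isMap_autFun le_rfl ha)
  obtain ⟨g₀, hg₀⟩ := exists_conj_of_group hb
  have hT₀ : ∀ x : T, ((a x : T) : G) = g₀ * (x : G) * g₀⁻¹ := fun x => by
    rw [← hg₀ x (mem_sup_left x.2), hba x x.2, autFun_apply a x.2]
  have hpow : ∀ (i : ℕ) (x : T), (((a ^ i) x : T) : G) = g₀ ^ i * (x : G) * (g₀ ^ i)⁻¹ := by
    intro i x
    induction i with
    | zero => simp
    | succ i ih =>
      rw [pow_succ', MulAut.mul_apply, hT₀, ih, pow_succ']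
      group
  have hpowC : ∀ (i : ℕ), ∀ c ∈ C, c⁻¹ * (g₀ ^ i * c * (g₀ ^ i)⁻¹) ∈ T := by
    intro i c hc
    induction i with
    | zero => simp
    | succ i ih =>
      have h1 : c⁻¹ * (g₀ * c * g₀⁻¹) ∈ T := by
        have h := (hbc c hc).1
        rwa [hg₀ c (mem_sup_right hc)] at h
      have h2 : g₀ * (c⁻¹ * (g₀ ^ i * c * (g₀ ^ i)⁻¹)) * g₀⁻¹ ∈ T :=
        hT₀ ⟨_, ih⟩ ▸ Subtype.mem _
      have h3 := T.mul_mem h1 h2
      convert h3 using 1
      rw [pow_succ']
      group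
  -- the part of order prime to `p`
  set n := orderOf g₀
  have hn : n ≠ 0 := (orderOf_pos g₀).ne'
  set k := n.factorization p
  set m := n / p ^ k
  have hcop : (p ^ k).Coprime m := (Nat.coprime_ordCompl (Fact.out : p.Prime) hn).pow_left k
  obtain ⟨e, he, he'⟩ := Nat.chineseRemainder hcop 0 1
  have hnm : p ^ k * m = n := Nat.ordProj_mul_ordCompl_eq_self n p
  have hgo : (orderOf (g₀ ^ e)).Coprime p := by
    refine Nat.Coprime.coprime_dvd_left (orderOf_dvd_of_pow_eq_one ?_)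
      (Nat.coprime_ordCompl (Fact.out : p.Prime) hn).symm
    rw [← pow_mul]
    refine orderOf_dvd_iff_pow_eq_one.1 ?_
    show n ∣ e * m
    rw [← hnm]
    exact Nat.mul_dvd_mul_right (Nat.modEq_zero_iff_dvd.1 he) _
  have hr : orderOf a ∣ m := by
    refine Nat.Coprime.dvd_of_dvd_mul_left ((ho.pow_right k) : (orderOf a).Coprime (p ^ k)) ?_
    rw [hnm]
    refine orderOf_dvd_of_pow_eq_one (MulEquiv.ext fun x => Subtype.ext ?_)
    rw [hpow, pow_orderOf_eq_one]
    simp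
  have hae : a ^ e = a := by
    conv_rhs => rw [← pow_one a]
    rw [pow_eq_pow_iff_modEq]
    exact Nat.ModEq.of_dvd hr he'
  set g := g₀ ^ e with hgdef
  have hgT : ∀ x : T, ((a x : T) : G) = g * (x : G) * g⁻¹ := fun x => by
    rw [hgdef, ← hpow e x, hae]
  have hTC : ∀ y ∈ T ⊔ C, y⁻¹ * (g * y * g⁻¹) ∈ T := by
    intro y hy
    have hy' : y ∈ ((T ⊔ C : Subgroup G) : Set G) := hy
    rw [coe_mul_of_right_le_normalizer_left _ _
      (show C ≤ normalizer (T : Set G) from fun c hc =>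
        StronglyClosed.le_normalizer hsc hc.1)] at hy'
    obtain ⟨t, ht, c, hc, rfl⟩ := hy'
    have h1 : t⁻¹ * (g * t * g⁻¹) ∈ T := T.mul_mem (T.inv_mem ht) (hgT ⟨t, ht⟩ ▸ Subtype.mem _)
    have h2 := StronglyClosed.conj_mem hsc ((W : Subgroup G).inv_mem hc.1) h1
    have h3 := T.mul_mem h2 (hpowC e c hc)
    show (t * c)⁻¹ * (g * (t * c) * g⁻¹) ∈ T
    convert h3 using 1
    rw [hgdef]
    group
  refine ⟨g, mem_envSub.2 ⟨fun q hq => ?_, ?_⟩, hgo, hgT⟩
  · set x := q⁻¹ * (g * q * g⁻¹) with hx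
    have hxQ : x ∈ Cfsg.pCore p G :=
      (Cfsg.pCore p G).mul_mem ((Cfsg.pCore p G).inv_mem hq) (hQn.conj_mem q hq g)
    have hxW := hQS hxQ
    have hqW := hQS hq
    set cq := T.normalizerMonoidHom ⟨q, StronglyClosed.le_normalizer hsc hqW⟩
    set cx := T.normalizerMonoidHom ⟨x, StronglyClosed.le_normalizer hsc hxW⟩
    have hcqF : cq ∈ (groupFusionSystem (W : Subgroup G)).autGroup T :=
      (autGroup_iff_isMap hTS fun y => rfl).2 (isMap_conj _ hTS hqW)
    have hcx : cx = cq⁻¹ * a * cq * a⁻¹ := by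
      refine eq_mul_inv_of_mul_eq ?_
      refine eq_inv_mul_of_mul_eq ?_ |>.trans (mul_assoc _ _ _).symm
      refine MulEquiv.ext fun y => Subtype.ext ?_
      rw [MulAut.mul_apply, MulAut.mul_apply, MulAut.mul_apply]
      show q * (x * ((a y : T) : G) * x⁻¹) * q⁻¹ = ((a (cq y) : T) : G)
      rw [hgT, hgT]
      show _ = g * (q * (y : G) * q⁻¹) * g⁻¹
      rw [hx]
      group
    have hcxE : cx ∈ E.autGroup T := by
      rw [hcx]
      refine mul_mem ?_ (inv_mem ha)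
      simpa using autGroup_conj_mem hinv le_rfl (inv_mem hcqF) ha
    obtain ⟨j, hj⟩ := W.isPGroup' ⟨x, hxW⟩
    have hj' : cx ^ p ^ j = 1 := by
      have e1 : (⟨x, StronglyClosed.le_normalizer hsc hxW⟩ :
          (Subgroup.normalizer (T : Set G) : Subgroup G)) ^ p ^ j = 1 :=
        Subtype.ext (show x ^ p ^ j = 1 from congrArg Subtype.val hj)
      rw [← map_pow, e1, map_one]
    obtain ⟨i, -, hi⟩ := (Nat.dvd_prime_pow Fact.out).1 (orderOf_dvd_of_pow_eq_one hj')
    obtain ⟨t, ht, htx⟩ :=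
      mem_autInducedBy_iff.1 (mem_autInducedBy_of_pow hTp hEsat hcxE hi)
    have hxTC : x ∈ T ⊔ C := by
      have hc : t⁻¹ * x ∈ C := by
        refine ⟨(W : Subgroup G).mul_mem ((W : Subgroup G).inv_mem (hTS ht)) hxW, fun y hy => ?_⟩
        have e1 : x * y * x⁻¹ = t * y * t⁻¹ := htx ⟨y, hy⟩
        calc y * (t⁻¹ * x) = t⁻¹ * (t * y * t⁻¹) * x := by group
          _ = t⁻¹ * (x * y * x⁻¹) * x := by rw [e1]
          _ = t⁻¹ * x * y := by group
      simpa using mul_mem (mem_sup_left (T := C) ht) (mem_sup_right hc)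
    have hstep : ∀ i : ℕ, (q * x ^ i)⁻¹ * (g ^ i * q * (g ^ i)⁻¹) ∈ T := by
      intro i
      induction i with
      | zero => simp
      | succ i ih =>
        have h1 := hTC _ ((T ⊔ C).pow_mem hxTC i)
        have h2 : g * ((q * x ^ i)⁻¹ * (g ^ i * q * (g ^ i)⁻¹)) * g⁻¹ ∈ T :=
          hgT ⟨_, ih⟩ ▸ Subtype.mem _
        have h3 := T.mul_mem h1 h2
        convert h3 using 1
        rw [pow_succ' g i, pow_succ' x i]
        generalize x ^ i = X
        rw [hx]
        group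
    have hxn : x ^ orderOf g ∈ T := by
      have h := hstep (orderOf g)
      rw [pow_orderOf_eq_one g] at h
      have h' := T.inv_mem h
      simpa using h'
    obtain ⟨l, -, hl⟩ := (Nat.dvd_prime_pow Fact.out).1 (orderOf_dvd_of_pow_eq_one
      (show x ^ p ^ j = 1 from congrArg Subtype.val hj))
    obtain ⟨r, hr'⟩ := exists_pow_eq_self_of_coprime (x := x) (n := orderOf g)
      (hl ▸ hgo.pow_right l)
    exact hr' ▸ T.pow_mem hxn r
  · have hn' : g ∈ normalizer ((T ⊓ Cfsg.pCore p G : Subgroup G) : Set G) := fun z =>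
      ⟨fun hz => core_inter_normal W hTS hE.1 g z hz, fun hz => by
        simpa [mul_assoc] using core_inter_normal W hTS hE.1 g⁻¹ _ hz⟩
    refine ⟨(T ⊓ Cfsg.pCore p G).normalizerMonoidHom ⟨g, hn'⟩, ?_, fun x => rfl⟩
    refine (autGroup_iff_isMap inf_le_left fun x => ?_).2
      ((isMap_autFun le_rfl ha).mono (inf_le_left : T ⊓ Cfsg.pCore p G ≤ T))
    rw [autFun_apply a x.2.1, hgT]
    rfl

/-- A normal subsystem of a `p`-constrained group is the system of exactly one normal subgroup. -/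
theorem existsUnique_normal_subgroup :
    ∃ H : Subgroup G, (∃ hTH : T ≤ H, H.Normal ∧
        (∃ R : Sylow p H, (R : Subgroup H) = T.subgroupOf H) ∧
          ∀ P : Subgroup G, E.Hom P = (fusionSystemOfSubgroup H T hTH).Hom P) ∧
      ∀ H' : Subgroup G, (∃ hTH' : T ≤ H', H'.Normal ∧
        (∃ R : Sylow p H', (R : Subgroup H') = T.subgroupOf H') ∧
          ∀ P : Subgroup G, E.Hom P = (fusionSystemOfSubgroup H' T hTH').Hom P) → H' = H := by
  obtain ⟨hEsat, hF, hinv⟩ := id hE.1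
  have hTp : IsPGroup p T := W.isPGroup'.to_le hTS
  set Q := Cfsg.pCore p G with hQdef
  have hQn : Q.Normal := Subgroup.sSup_normal _ fun _ hN => hN.1
  have hQS : Q ≤ (W : Subgroup G) := CfsgLib.Fusion.pCore_le_sylow W
  have hcn := core_inter_normal W hTS hE.1
  set M := envSub E Q hQn hcn with hMdef
  obtain ⟨H, hTH, hHM, hHn, hHW, hHR, hcop⟩ := CfsgLib.Comp.exists_transfer_cut W
    (envSub_normal W hTS hE.1) hTS (le_envSub W hTS hE.1)
    (fun g x hx h => conj_mem_closed W hTS hE.1 hx h) fun s hs hsM => by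
      obtain ⟨t, ht, hk, -⟩ := envSub_decomp W hC hTS hE.1 hs hsM
      exact ⟨t, ht, fun m hm => (mem_envSub.1 hm).1 _ hk⟩
  set HS := fusionSystemOfSubgroup H T hTH
  -- automorphisms of `T`
  have hAut : E.autGroup T ≤ autInducedBy H T := by
    obtain ⟨R, hR⟩ := (fullyAutomized_of_fullyNormalized hTp hEsat (fullyNormalized_top E)).2
    have key := CfsgLib.Fusion.eq_top_of_sylow_le R
      (L := (autInducedBy H T).subgroupOf (E.autGroup T)) (fun r hr => ?_) (fun a ha => ?_)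
    · exact Subgroup.subgroupOf_eq_top.1 key
    · rw [hR] at hr
      obtain ⟨t, ht, htx⟩ := mem_autInducedBy_iff.1 (Subgroup.mem_subgroupOf.1 hr)
      exact Subgroup.mem_subgroupOf.2 (mem_autInducedBy_iff.2 ⟨t, hTH ht, htx⟩)
    · obtain ⟨g, hg, hgo, hgx⟩ :=
        exists_lift_coprime W hC hTS hE a.2 (by rwa [Subgroup.orderOf_coe])
      exact Subgroup.mem_subgroupOf.2 (mem_autInducedBy_iff.2 ⟨g, hcop g hg hgo, hgx⟩)
  -- the generated system
  have hgen : genSys E p ≤ HS := by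
    refine genSys_le_of fun P hP => ?_
    rw [Subgroup.map_le_iff_le_comap]
    refine (Subgroup.closure_le _).2 ?_
    rintro β ⟨k, hk⟩
    obtain ⟨P', hconj, hP'n⟩ := exists_fullyNormalized_conj E hP.1
    obtain ⟨f, hf, rfl⟩ := isConj_iff.1 hconj
    obtain ⟨u, hu⟩ := exists_conj_of_group (isSubsystemOf_iff.1 hinv.1 _ f hf)
    set β' := MulAut.congr hf.equivImg (β : MulAut P) with hβ'
    obtain ⟨γ, hγ, hγ'⟩ := exists_conj_le_autInducedBy
      (fullyAutomized_of_fullyNormalized hTp hEsat hP'n) (Subgroup.zpowers β')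
      (IsPGroup.of_card (n := k) (by
        rw [Nat.card_zpowers, hβ', MulEquiv.orderOf_eq, Subgroup.orderOf_coe, hk]))
      (Subgroup.zpowers_le.2 (hf.congr_mem_autGroup β.2))
    obtain ⟨t, ht, htx⟩ := mem_autInducedBy_iff.1 (hγ' β' (Subgroup.mem_zpowers _))
    obtain ⟨v, hv⟩ := exists_conj_of_group
      (isSubsystemOf_iff.1 hinv.1 _ _ (isMap_autFun hf.img_le hγ))
    have hw' : ∀ x : P, (((β : MulAut P) x : P) : G) =
        ((v * u)⁻¹ * t * (v * u)) * (x : G) * ((v * u)⁻¹ * t * (v * u))⁻¹ := by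
      intro x
      have hval : ∀ z : P, ((γ (hf.equivImg z) : img P f) : G) = (v * u) * (z : G) * (v * u)⁻¹ :=
        fun z => by
          rw [← autFun_apply γ (Subtype.mem _), hv _ (Subtype.mem _), IsMap.coe_equivImg, hu z z.2]
          group
      have h1 := htx (γ (hf.equivImg x))
      rw [MulAut.mul_apply, MulAut.mul_apply, MulAut.inv_apply_self] at h1
      have h2 : β' (hf.equivImg x) = hf.equivImg ((β : MulAut P) x) := by
        rw [hβ']
        show hf.equivImg ((β : MulAut P) (hf.equivImg.symm (hf.equivImg x))) = _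
        rw [MulEquiv.symm_apply_apply]
      rw [h2, hval, hval] at h1
      calc (((β : MulAut P) x : P) : G)
          = (v * u)⁻¹ * ((v * u) * (((β : MulAut P) x : P) : G) * (v * u)⁻¹) * (v * u) := by group
        _ = _ := by rw [h1]; group
    refine (autGroup_iff_isMap hP.1 (f := fun x =>
      ((v * u)⁻¹ * t * (v * u)) * x * ((v * u)⁻¹ * t * (v * u))⁻¹) hw').2
      (isMap_subgroup_of hTH hP.1 ?_ (fun x hx => rfl) fun x hx => ?_)
    · simpa using hHn.conj_mem t (hTH ht) (v * u)⁻¹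
    · have h := hw' ⟨x, hx⟩
      exact h ▸ hP.1 (Subtype.mem _)
  have hEle : ∀ P f, IsMap E P f → IsMap HS P f := by
    intro P f hf
    obtain ⟨a, ha, g, hg, hfx⟩ := exists_frattini hTp hEsat hf
    obtain ⟨h, hh, hhx⟩ := mem_autInducedBy_iff.1 (hAut ha)
    have haH : IsMap HS T (autFun a) := isMap_subgroup_of hTH le_rfl hh
      (fun x hx => by rw [autFun_apply a hx]; exact hhx ⟨x, hx⟩) fun x hx => autFun_mem a hx
    exact ((le_iff_isMap.1 hgen P g hg).comp haH fun x hx => hg.mem hx).congr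
      fun x hx => (hfx x hx).symm
  have hcoreH : ∀ x ∈ Q, x ∈ H → x ∈ T := fun x hx hxH => hHW x (hQS hx) hxH
  have hle : ∀ P f, IsMap HS P f → IsMap E P f := by
    intro P f hf
    obtain ⟨h, hh, hhx⟩ := exists_conj_of_subgroup hf
    obtain ⟨-, α, hα, hαx⟩ := mem_envSub.1 (hHM hh)
    set Q₀ := T ⊓ Q
    set R := P ⊔ Q₀
    have hQ₀T : Q₀ ≤ T := inf_le_left
    have hQmap : IsMap E Q₀ fun x => h * x * h⁻¹ := (autGroup_iff_isMap hQ₀T hαx).1 hα
    have hQi : img Q₀ (fun x => h * x * h⁻¹) = Q₀ :=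
      eq_of_le_of_card_le (fun y hy => by
        obtain ⟨x, hx, rfl⟩ := hQmap.mem_img.1 hy
        exact hcn h x hx) hQmap.card_img.ge
    have hRh : R ≤ T.comap (MulAut.conj h).toMonoidHom :=
      sup_le (fun x hx => show h * x * h⁻¹ ∈ T from hhx x hx ▸ hf.mem hx)
        (fun x hx => (hcn h x hx).1)
    obtain ⟨e, he, hex⟩ := receptive_extend (receptive_of_fullyNormalized hTp hEsat
      (core_inter_fullyNormalized W hTS hE.1)) hQmap hQi (le_sup_right : Q₀ ≤ R) fun a ha =>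
        ⟨sup_le hf.le hQ₀T ha, fun z => ⟨fun hz => hcn a z hz, fun hz => by
          simpa [mul_assoc] using hcn a⁻¹ _ hz⟩, h * a * h⁻¹, hRh ha, fun x hx => by group⟩
    obtain ⟨h', hh', hh'x⟩ := exists_conj_of_subgroup (hEle R e he)
    set z := h⁻¹ * h' with hz
    have hzH : z ∈ H := H.mul_mem (H.inv_mem hh) hh'
    have hz2 : ∀ x ∈ Q₀, z * x * z⁻¹ = x := fun x hx => by
      have e1 := hh'x x (mem_sup_right hx)
      rw [hex x hx] at e1
      calc z * x * z⁻¹ = h⁻¹ * (h' * x * h'⁻¹) * h := by rw [hz]; group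
        _ = h⁻¹ * (h * x * h⁻¹) * h := by rw [← e1]
        _ = x := by group
    have hzQ : z ∈ Q := mem_core_of_trivial W hC hTS hE.1 (mem_envSub.1 (hHM hzH)).1 hz2
    have hzT : z ∈ T := hcoreH z hzQ hzH
    have hzR : ∀ x ∈ P, z⁻¹ * x * z⁻¹⁻¹ ∈ R := fun x hx => R.mul_mem
      (R.mul_mem (R.inv_mem (mem_sup_right ⟨hzT, hzQ⟩)) (mem_sup_left hx))
      (R.inv_mem (R.inv_mem (mem_sup_right ⟨hzT, hzQ⟩)))
    refine ((isMap_conj E hf.le (T.inv_mem hzT)).comp he hzR).congr fun x hx => ?_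
    show e (z⁻¹ * x * z⁻¹⁻¹) = f x
    rw [hh'x _ (hzR x hx), hhx x hx, hz]
    group
  have hEq : E = HS := fusionSystem_ext fun P f => ⟨hEle P f, hle P f⟩
  refine ⟨H, ⟨hTH, hHn, hHR, fun P => by rw [hEq]⟩, ?_⟩
  rintro H' ⟨hTH', hH'n, ⟨R', hR'⟩, hH'⟩
  have hEq' : E = fusionSystemOfSubgroup H' T hTH' := fusionSystem_ext fun P f =>
    ⟨fun ⟨φ, hφ, hφf⟩ => ⟨φ, hH' P ▸ hφ, hφf⟩, fun ⟨φ, hφ, hφf⟩ => ⟨φ, (hH' P).symm ▸ hφ, hφf⟩⟩
  have hW' : ∀ x ∈ (W : Subgroup G), x ∈ H' → x ∈ T := fun x hx hx' => by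
    have h1 : ((W : Subgroup G).subgroupOf H') = R' :=
      R'.3 (show IsPGroup p ((W : Subgroup G).subgroupOf H') from W.isPGroup'.comap_subtype)
        (hR' ▸ fun y hy => hTS hy)
    have h2 : (⟨x, hx'⟩ : H') ∈ ((W : Subgroup G).subgroupOf H') := hx
    rw [h1, hR'] at h2
    exact h2
  have hQ₀n : ∀ a : G, a ∈ normalizer ((T ⊓ Q : Subgroup G) : Set G) := fun a z =>
    ⟨fun hz => hcn a z hz, fun hz => by simpa [mul_assoc] using hcn a⁻¹ _ hz⟩
  have hH'M : H' ≤ M := fun h hh => mem_envSub.2 ⟨fun q hq => by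
    refine hW' _ (hQS (Q.mul_mem (Q.inv_mem hq) (hQn.conj_mem q hq h))) ?_
    have h1 := H'.mul_mem (hH'n.conj_mem h hh q⁻¹) (H'.inv_mem hh)
    convert h1 using 1
    group,
    (T ⊓ Q).normalizerMonoidHom ⟨h, hQ₀n h⟩,
    (autGroup_iff_isMap inf_le_left (f := fun y => h * y * h⁻¹) fun x => rfl).2 (by
      rw [hEq']
      exact isMap_subgroup_of hTH' inf_le_left hh (fun x hx => rfl) fun x hx => (hcn h x hx).1),
    fun x => rfl⟩
  have hH'H : H' ≤ H := by
    refine Subgroup.subgroupOf_eq_top.1 (CfsgLib.Fusion.eq_top_of_sylow_le R'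
      (fun r hr => ?_) fun x hx => hcop _ (hH'M x.2) (show (orderOf (x : G)).Coprime p by rwa [Subgroup.orderOf_coe]))
    rw [hR'] at hr
    exact hTH hr
  refine le_antisymm hH'H fun h hh => ?_
  obtain ⟨-, α, hα, hαx⟩ := mem_envSub.1 (hHM hh)
  have hm : IsMap E (T ⊓ Q) fun x => h * x * h⁻¹ := (autGroup_iff_isMap inf_le_left hαx).1 hα
  rw [hEq'] at hm
  obtain ⟨h', hh', hh'x⟩ := exists_conj_of_subgroup hm
  have hzH : h'⁻¹ * h ∈ H := H.mul_mem (H.inv_mem (hH'H hh')) hh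
  have hz2 : ∀ x ∈ T ⊓ Q, (h'⁻¹ * h) * x * (h'⁻¹ * h)⁻¹ = x := fun x hx => by
    calc (h'⁻¹ * h) * x * (h'⁻¹ * h)⁻¹ = h'⁻¹ * (h * x * h⁻¹) * h' := by group
      _ = h'⁻¹ * (h' * x * h'⁻¹) * h' := by rw [hh'x x hx]
      _ = x := by group
  have hzQ := mem_core_of_trivial W hC hTS hE.1 (mem_envSub.1 (hHM hzH)).1 hz2
  simpa using H'.mul_mem hh' (hTH' (hcoreH _ hzQ hzH))

end CfsgLib.Comp.Fus
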