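import Cfsg.Agent.Lib.Comp.CanonicalExt
import Cfsg.Agent.Lib.Fusion.InvariantTransport
import Cfsg.Agent.Lib.Fusion.ModelBasic
import Cfsg.Agent.Lib.Fusion.NormalCriteria
import Cfsg.Agent.Lib.Fusion.Simple

/-!
A normal subsystem over `T` moves the elements of a normal subgroup `Q` inside their cosets of
`Q ∩ T`; that intersection is normal in the subsystem.
-/

set_option autoImplicit false
set_option linter.unusedVariables false
set_option linter.unusedSectionVars false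
set_option linter.style.haveILetI false

namespace CfsgLib.Comp.CoreAct

open Cfsg Cfsg.FusionSystem Subgroup CfsgLib.Fusion CfsgLib.Comp.Fus CfsgLib.Comp.CExt

variable {Ω : Type*} [Group Ω] {S T Q : Subgroup Ω} {F : FusionSystem S} {E : FusionSystem T}

theorem isMap_of_sub (h : E.IsSubsystemOf F) {P : Subgroup Ω} {f : Ω → Ω} (hf : IsMap E P f) :
    IsMap F P f := by
  obtain ⟨φ, hφ, hx⟩ := hf
  exact ⟨φ, h P hφ, hx⟩

variable [Finite S]

/-- The maps of `E` with extensions moving the elements of `Q` inside their cosets of `Q ∩ T`. -/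
noncomputable def modSys (E : FusionSystem T) (hT : F.StronglyClosed T) (hQ : F.IsNormal Q) :
    FusionSystem T where
  Hom P := {φ | φ ∈ E.Hom P ∧ ∃ g, IsMap F (P ⊔ Q) g ∧ (∀ x : P, g x = φ x) ∧
    ∀ q ∈ Q, q⁻¹ * g q ∈ Q ⊓ T}
  le_of_mem h := E.le_of_mem h.1
  injective_of_mem h := E.injective_of_mem h.1
  conj_mem {P t} hP ht := by
    have hQn : S ≤ normalizer (Q : Set Ω) :=
      StronglyClosed.le_normalizer (IsNormal.stronglyClosed hQ)
    refine ⟨E.conj_mem hP ht, fun x => t * x * t⁻¹,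
      isMap_conj F (sup_le (hP.trans hT.1) hQ.1) (hT.1 ht), fun x => rfl, fun q hq => ?_⟩
    refine Subgroup.mem_inf.2 ⟨Q.mul_mem (Q.inv_mem hq) ((hQn (hT.1 ht) q).1 hq), ?_⟩
    have := T.mul_mem (StronglyClosed.conj_mem hT (S.inv_mem (hQ.1 hq)) ht) (T.inv_mem ht)
    simpa [mul_assoc] using this
  comp_mem {P P' φ ψ} hφ hψ h := by
    obtain ⟨g, hg, hgx, hgq⟩ := hφ.2
    obtain ⟨g', hg', hg'x, hg'q⟩ := hψ.2
    have hgQ : ∀ q ∈ Q, g q ∈ Q := fun q hq => by
      rw [← mul_inv_cancel_left q (g q)]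
      exact Q.mul_mem hq (Subgroup.mem_inf.1 (hgq q hq)).1
    have hg'Q : ∀ q ∈ Q, g' q ∈ Q := fun q hq => by
      rw [← mul_inv_cancel_left q (g' q)]
      exact Q.mul_mem hq (Subgroup.mem_inf.1 (hg'q q hq)).1
    have hin : ∀ x ∈ P ⊔ Q, g x ∈ P' ⊔ Q := fun x hx => by
      refine hg.img_sup_le le_sup_left le_sup_right ?_ ?_ (hg.apply_mem_img hx)
      · intro z hz
        obtain ⟨u, hu, rfl⟩ := (hg.mono le_sup_left).mem_img.1 hz
        rw [hgx ⟨u, hu⟩]
        exact mem_sup_left (h ⟨u, hu⟩)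
      · intro z hz
        obtain ⟨u, hu, rfl⟩ := (hg.mono le_sup_right).mem_img.1 hz
        exact mem_sup_right (hgQ u hu)
    refine ⟨E.comp_mem hφ.1 hψ.1 h, fun x => g' (g x), hg.comp hg' hin, fun x => ?_, fun q hq => ?_⟩
    · show g' (g x) = ψ (φ.codRestrict P' h x)
      rw [hgx x]
      exact hg'x ⟨φ x, h x⟩
    · show q⁻¹ * g' (g q) ∈ Q ⊓ T
      set a := q⁻¹ * g q with ha
      have hga : g q = q * a := by rw [ha, mul_inv_cancel_left]
      have haA := hgq q hq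
      have haQ := (Subgroup.mem_inf.1 haA).1
      have h1 : g' a ∈ Q ⊓ T := by
        rw [← mul_inv_cancel_left a (g' a)]
        exact (Q ⊓ T).mul_mem haA (hg'q a haQ)
      rw [hga, hg'.map_mul (mem_sup_right hq) (mem_sup_right haQ), ← mul_assoc]
      exact (Q ⊓ T).mul_mem (hg'q q hq) h1
  inv_mem {P φ} hφ := by
    obtain ⟨ψ, hψ, hψx⟩ := E.inv_mem hφ.1
    obtain ⟨g, hg, hgx, hgq⟩ := hφ.2
    obtain ⟨k, hk, hkx, -, -⟩ := hg.exists_inv
    haveI := finite_of_le hg.le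
    haveI := finite_of_le hQ.1
    have hgQ : img Q g = Q := by
      refine eq_of_le_of_card_le (fun z hz => ?_) (hg.mono le_sup_right).card_img.ge
      obtain ⟨q, hq, rfl⟩ := (hg.mono le_sup_right).mem_img.1 hz
      rw [← mul_inv_cancel_left q (g q)]
      exact Q.mul_mem hq (Subgroup.mem_inf.1 (hgq q hq)).1
    have hle : φ.range ⊔ Q ≤ img (P ⊔ Q) g := by
      refine sup_le ?_ (hgQ.ge.trans (img_mono le_sup_right))
      rintro _ ⟨x, rfl⟩
      rw [← hgx x]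
      exact hg.apply_mem_img (mem_sup_left x.2)
    refine ⟨ψ, ⟨hψ, k, hk.mono hle, ?_, fun q hq => ?_⟩, hψx⟩
    · rintro ⟨_, x, rfl⟩
      show k (φ x) = _
      rw [hψx x, ← hgx x, hkx _ (mem_sup_left x.2)]
    · obtain ⟨u, hu, rfl⟩ := (hg.mono le_sup_right).mem_img.1 (hgQ.ge hq)
      rw [hkx u (mem_sup_right hu)]
      have := (Q ⊓ T).inv_mem (hgq u hu)
      rwa [mul_inv_rev, inv_inv] at this

theorem mem_modSys_autGroup {hT : F.StronglyClosed T} {hQ : F.IsNormal Q} {R : Subgroup Ω}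
    (hR : R ≤ T) {α : MulAut R} (hα : α ∈ E.autGroup R) {g : Ω → Ω} (hg : IsMap F (R ⊔ Q) g)
    (hgx : ∀ x : R, g x = ((α x : R) : Ω)) (hgQ : ∀ q ∈ Q, q⁻¹ * g q ∈ Q ⊓ T) :
    α ∈ (modSys E hT hQ).autGroup R :=
  (autGroup_mem_iff hR).2 ⟨(autGroup_mem_iff hR).1 hα, g, hg, hgx, hgQ⟩

variable {p : ℕ} [Fact p.Prime]

section Main

variable (hS : IsPGroup p S) (hF : F.IsSaturated p) (hE : E.IsNormalIn F p) (hQ : F.IsNormal Q)

include hS hF hE hQ

/-- Conjugation by an element of `S` normalizing `R` keeps `Aut_E(R)`. -/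
theorem conj_mem_autGroup {R : Subgroup Ω} (hR : R ≤ T) {α : MulAut R} (hα : α ∈ E.autGroup R)
    {a : Ω} (ha : a ∈ S) (han : a ∈ normalizer (R : Set Ω)) :
    R.normalizerMonoidHom ⟨a, han⟩ * α * (R.normalizerMonoidHom ⟨a, han⟩)⁻¹ ∈ E.autGroup R := by
  obtain ⟨⟨-, -, hinv⟩, -⟩ := hE
  have hsc := hinv.2.1
  have hTn : a ∈ normalizer (T : Set Ω) := StronglyClosed.le_normalizer hsc ha
  set c := T.normalizerMonoidHom ⟨a, hTn⟩ with hcdef
  have hc : c ∈ F.autGroup T := autInducedBy_le_autGroup hsc.1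
    (mem_autInducedBy_iff.2 ⟨a, ha, fun x => rfl⟩)
  have hcv : ∀ x ∈ T, autFun c x = a * x * a⁻¹ := fun x hx => by
    rw [autFun_apply c hx]; rfl
  obtain ⟨g, hg, hgx⟩ := IsInvariantIn.transport hinv hc (isMap_of_autGroup hR hα)
  have hm : IsMap F T (autFun c) := isMap_autFun hsc.1 hc
  have himg : img R (autFun c) = R := by
    ext z
    rw [mem_img_autFun hm hR]
    constructor
    · rintro ⟨x, hx, rfl⟩
      rw [hcv x (hR hx)]
      exact (han x).1 hx
    · intro hz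
      refine ⟨a⁻¹ * z * a, ?_, ?_⟩
      · have := ((inv_mem han : a⁻¹ ∈ normalizer (R : Set Ω)) z).1 hz
        rwa [inv_inv] at this
      · rw [hcv _ ?_]
        · group
        · have := ((inv_mem hTn : a⁻¹ ∈ normalizer (T : Set Ω)) z).1 (hR hz)
          rwa [inv_inv] at this
  rw [himg] at hg
  refine (autGroup_iff_isMap hR fun x => ?_).2 hg
  set y : R := (R.normalizerMonoidHom ⟨a, han⟩)⁻¹ x with hy
  have hyx : R.normalizerMonoidHom ⟨a, han⟩ y = x := MulAut.apply_inv_self R _ x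
  have h1 := hgx y y.2
  rw [hcv _ (hR y.2), toFun_aut_apply α y.2, hcv _ (hR (α _).2)] at h1
  have h2 : ((x : R) : Ω) = a * (y : Ω) * a⁻¹ := by rw [← hyx]; rfl
  rw [h2, h1]
  show ((R.normalizerMonoidHom ⟨a, han⟩ (α y) : R) : Ω) = _
  rfl

/-- An element of `Q` inducing an automorphism from `Aut_E(R)` acts on `R` as an element of `R`,
if `O_p(Aut_E(R))` is inner. -/
theorem exists_inner {R : Subgroup Ω} (hR : R ≤ T)
    (hr : (pCore p (E.autGroup R)).map (E.autGroup R).subtype ≤ Inn R) {x : Ω} (hx : x ∈ Q)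
    (hxn : x ∈ normalizer (R : Set Ω)) (hxE : R.normalizerMonoidHom ⟨x, hxn⟩ ∈ E.autGroup R) :
    ∃ r ∈ R, r⁻¹ * x ∈ centralizerIn S R := by
  obtain ⟨⟨-, -, hinv⟩, -⟩ := hE
  have hRS : R ≤ S := hR.trans hinv.2.1.1
  haveI hn : ((autInducedBy Q R).subgroupOf (E.autGroup R)).Normal := ⟨fun β hβ γ => by
    rw [Subgroup.mem_subgroupOf, mem_autInducedBy_iff] at hβ ⊢
    obtain ⟨b, hb, hbx⟩ := hβ
    obtain ⟨-, hext⟩ := isNormal_iff.1 hQ
    obtain ⟨g, hgm, hgx, hgQ⟩ := hext R _ (isMap_of_sub hinv.1 (isMap_of_autGroup hR γ.2))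
    refine ⟨g b, hgQ ▸ (hgm.mono le_sup_right).apply_mem_img hb, fun x => ?_⟩
    set y := ((γ : MulAut R)⁻¹ x) with hy
    have hx : x = (γ : MulAut R) y := (MulAut.apply_inv_self _ _ _).symm
    simp only [Subgroup.coe_mul, Subgroup.coe_inv, MulAut.mul_apply]
    rw [← hy, hx, ← toFun_aut_apply (γ : MulAut R) y.2, ← hgx _ y.2,
      ← toFun_aut_apply (γ : MulAut R) (SetLike.coe_mem ((β : MulAut R) y)),
      ← hgx _ (SetLike.coe_mem _), hbx y,
      hgm.map_conj (Subgroup.mem_sup_right hb) (Subgroup.mem_sup_left y.2)]⟩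
  haveI := finite_of_le hRS
  have hp : IsPGroup p ((autInducedBy Q R).subgroupOf (E.autGroup R)) :=
    (isPGroup_autInducedBy (hS.to_le hQ.1) R).comap_of_injective _
      (Subgroup.subtype_injective (E.autGroup R))
  have h1 : (⟨_, hxE⟩ : E.autGroup R) ∈ pCore p (E.autGroup R) :=
    (le_sSup (α := Subgroup (E.autGroup R)) ⟨inferInstance, hp⟩ :
      (autInducedBy Q R).subgroupOf (E.autGroup R) ≤ pCore p (E.autGroup R))
      (mem_autInducedBy_iff.2 ⟨x, hx, fun z => rfl⟩)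
  obtain ⟨r, hr'⟩ := hr ⟨_, h1, rfl⟩
  refine ⟨r, r.2, S.mul_mem (S.inv_mem (hRS r.2)) (hQ.1 hx), fun z hz => ?_⟩
  have h2 : (r : Ω) * z * (r : Ω)⁻¹ = x * z * x⁻¹ :=
    congrArg (fun φ : MulAut R => ((φ ⟨z, hz⟩ : R) : Ω)) hr'
  calc z * ((r : Ω)⁻¹ * x) = (r : Ω)⁻¹ * ((r : Ω) * z * (r : Ω)⁻¹) * x := by group
    _ = (r : Ω)⁻¹ * (x * z * x⁻¹) * x := by rw [h2]
    _ = (r : Ω)⁻¹ * x * z := by group

/-- `Q ∩ T` lies in every centric subgroup with inner `O_p(Aut_E)`. -/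
theorem inf_le_of_inner {R : Subgroup Ω} (hR : E.IsCentric R)
    (hr : (pCore p (E.autGroup R)).map (E.autGroup R).subtype ≤ Inn R) : Q ⊓ T ≤ R := by
  have hsc : F.StronglyClosed T := hE.1.2.2.2.1
  haveI := finite_of_le hsc.1
  refine le_of_normalizer_inf_le (hS.to_le hsc.1) hR.1 inf_le_right (fun a ha => ?_)
    fun a haQ han => ?_
  · have haS : a ∈ S := hsc.1 (hR.1 ha)
    rw [Subgroup.mem_normalizer_iff_map_conj_eq,
      Subgroup.map_inf _ _ _ (MulAut.conj a).injective,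
      Subgroup.mem_normalizer_iff_map_conj_eq.1
        (StronglyClosed.le_normalizer (IsNormal.stronglyClosed hQ) haS),
      Subgroup.mem_normalizer_iff_map_conj_eq.1 (StronglyClosed.le_normalizer hsc haS)]
  · obtain ⟨haQ, haT⟩ := Subgroup.mem_inf.1 haQ
    have haE : R.normalizerMonoidHom ⟨a, han⟩ ∈ E.autGroup R :=
      autInducedBy_le_autGroup hR.1 (mem_autInducedBy_iff.2 ⟨a, haT, fun x => rfl⟩)
    obtain ⟨r, hr, hrc⟩ := exists_inner hS hF hE hQ hR.1 hr haQ han haE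
    have h1 : r⁻¹ * a ∈ R :=
      hR.2 R (isConj_refl hR.1) ⟨T.mul_mem (T.inv_mem (hR.1 hr)) haT, hrc.2⟩
    rw [← mul_inv_cancel_left r a]
    exact R.mul_mem hr h1

/-- Automorphisms of coprime order move `Q` modulo `Q ∩ T`, up to a power generating them. -/
theorem exists_mod_of_canExt {R : Subgroup Ω} (hR : E.IsCentric R)
    (hr : (pCore p (E.autGroup R)).map (E.autGroup R).subtype ≤ Inn R) {α : MulAut R}
    (hα : α ∈ E.autGroup R) (hco : (orderOf α).Coprime p) {G : Ω → Ω} (hG : CanExt F p R α G) :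
    ∃ g, IsMap F (R ⊔ Q) g ∧ (∀ x : R, g x = ((α x : R) : Ω)) ∧ ∀ q ∈ Q, q⁻¹ * g q ∈ Q ⊓ T := by
  have hsc : F.StronglyClosed T := hE.1.2.2.2.1
  have hRT := hR.1
  have hRS : R ≤ S := hRT.trans hsc.1
  haveI := finite_of_le hRS
  have hAR : Q ⊓ T ≤ R := inf_le_of_inner hS hF hE hQ hR hr
  set C := centralizerIn S R with hC
  have hQn : S ≤ normalizer (Q : Set Ω) :=
    StronglyClosed.le_normalizer (IsNormal.stronglyClosed hQ)
  have hnorm : ∀ q ∈ Q, ∀ z ∈ R, q * z * q⁻¹ ∈ R := fun q hq z hz => by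
    have h1 : q * (z * q⁻¹ * z⁻¹) ∈ Q ⊓ T := by
      refine Subgroup.mem_inf.2 ⟨Q.mul_mem hq ((hQn (hRS hz) q⁻¹).1 (Q.inv_mem hq)), ?_⟩
      have := T.mul_mem (StronglyClosed.conj_mem hsc (hQ.1 hq) (hRT hz)) (T.inv_mem (hRT hz))
      simpa [mul_assoc] using this
    have := R.mul_mem (hAR h1) hz
    simpa [mul_assoc] using this
  have hqn : ∀ q ∈ Q, q ∈ normalizer (R : Set Ω) := fun q hq =>
    haveI : Finite (R : Set Ω) := (finite_of_le hRS : Finite R)
    Subgroup.mem_normalizer_fintype (hnorm q hq)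
  obtain ⟨-, hext⟩ := isNormal_iff.1 hQ
  obtain ⟨g, hg, hgG, hgQ⟩ := hext _ G hG.map
  have hgR : ∀ x : R, g x = ((α x : R) : Ω) := fun x => by
    rw [hgG x (mem_sup_left x.2), hG.val]
  have hgQm : ∀ q ∈ Q, g q ∈ Q := fun q hq => by
    have := (hg.mono le_sup_right).apply_mem_img hq
    rwa [hgQ] at this
  have hCn : C ≤ normalizer (R : Set Ω) :=
    inf_le_right.trans (Subgroup.centralizer_le_normalizer _)
  -- elements of `Q ∩ R C`
  have hW : ∀ u ∈ Q, u ∈ R ⊔ C → u⁻¹ * g u ∈ Q ⊓ T := by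
    intro u huQ hu
    refine Subgroup.mem_inf.2 ⟨Q.mul_mem (Q.inv_mem huQ) (hgQm u huQ), hRT ?_⟩
    have h : u ∈ ((C ⊔ R : Subgroup Ω) : Set Ω) := (sup_comm R C).le hu
    rw [Subgroup.coe_mul_of_left_le_normalizer_right C R hCn, Set.mem_mul] at h
    obtain ⟨c, hc, r, hr, rfl⟩ := h
    rw [hgG _ hu, hG.map.map_mul (mem_sup_right hc) (mem_sup_left hr), hG.val ⟨r, hr⟩,
      show (c * r)⁻¹ * (G c * ((α ⟨r, hr⟩ : R) : Ω)) =
        r⁻¹ * (c⁻¹ * G c) * ((α ⟨r, hr⟩ : R) : Ω) by group]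
    exact R.mul_mem (R.mul_mem (R.inv_mem hr) (hG.triv c hc)) (α _).2
  -- elements of `Q`
  have hmove : ∀ q ∈ Q, q⁻¹ * g q ∈ Q ∧ q⁻¹ * g q ∈ R ⊔ C := by
    intro q hq
    refine ⟨Q.mul_mem (Q.inv_mem hq) (hgQm q hq), ?_⟩
    have hgq := hgQm q hq
    set x := g q * q⁻¹ with hx
    have hxQ : x ∈ Q := Q.mul_mem hgq (Q.inv_mem hq)
    have e : R.normalizerMonoidHom ⟨g q, hqn _ hgq⟩ =
        α * R.normalizerMonoidHom ⟨q, hqn q hq⟩ * α⁻¹ := by
      ext z
      set w := α⁻¹ z with hw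
      have hz : α w = z := MulAut.apply_inv_self R α z
      show g q * (z : Ω) * (g q)⁻¹ =
        ((α (R.normalizerMonoidHom ⟨q, hqn q hq⟩ w) : R) : Ω)
      rw [← hgR, ← hz, ← hgR,
        ← hg.map_conj (mem_sup_right hq) (mem_sup_left (mem_sup_left w.2))]
      rfl
    have hxE : R.normalizerMonoidHom ⟨x, hqn x hxQ⟩ ∈ E.autGroup R := by
      have e2 : R.normalizerMonoidHom ⟨x, hqn x hxQ⟩ = α *
          (R.normalizerMonoidHom ⟨q, hqn q hq⟩ * α⁻¹ *
            (R.normalizerMonoidHom ⟨q, hqn q hq⟩)⁻¹) := by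
        rw [← mul_assoc, ← mul_assoc, ← e, ← map_inv, ← map_mul]
        rfl
      rw [e2]
      exact mul_mem hα (conj_mem_autGroup hS hF hE hQ hRT (inv_mem hα) (hQ.1 hq) (hqn q hq))
    obtain ⟨r, hr, hrc⟩ := exists_inner hS hF hE hQ hRT hr hxQ (hqn x hxQ) hxE
    have e3 : q⁻¹ * g q = q⁻¹ * r * q * (q⁻¹ * (r⁻¹ * x) * q) := by rw [hx]; group
    rw [e3]
    refine mul_mem (mem_sup_left ?_) (mem_sup_right ⟨?_, fun z hz => ?_⟩)
    · have := hnorm q⁻¹ (Q.inv_mem hq) r hr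
      rwa [inv_inv] at this
    · exact S.mul_mem (S.mul_mem (S.inv_mem (hQ.1 hq)) hrc.1) (hQ.1 hq)
    · have h := hrc.2 (q * z * q⁻¹) (hnorm q hq z hz)
      calc z * (q⁻¹ * (r⁻¹ * x) * q) = q⁻¹ * (q * z * q⁻¹ * (r⁻¹ * x)) * q := by group
        _ = q⁻¹ * (r⁻¹ * x * (q * z * q⁻¹)) * q := by rw [h]
        _ = q⁻¹ * (r⁻¹ * x) * q * z := by group
  have hgm : IsMap F (R ⊔ Q) g := hg.mono (sup_le_sup_right le_sup_left Q)
  have hgRQ : ∀ x ∈ R ⊔ Q, g x ∈ R ⊔ Q := fun x hx => by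
    refine hgm.img_sup_le le_sup_left le_sup_right ?_ ?_ (hgm.apply_mem_img hx)
    · intro z hz
      obtain ⟨u, hu, rfl⟩ := (hgm.mono le_sup_left).mem_img.1 hz
      rw [hgR ⟨u, hu⟩]
      exact mem_sup_left (α _).2
    · exact hgQ.le.trans le_sup_right
  obtain ⟨k, hk⟩ := hS.exists_card_eq
  obtain ⟨m, hm⟩ : ∃ m : ℕ, (α ^ p ^ k) ^ m = α :=
    exists_pow_eq_self_of_coprime (Nat.Coprime.pow_left k hco.symm)
  refine ⟨g^[p ^ k * m], isMap_iterate hgm hgRQ _, fun x => ?_, fun q hq => ?_⟩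
  · have hit : ∀ j : ℕ, g^[j] (x : Ω) = (((α ^ j) x : R) : Ω) := by
      intro j
      induction j with
      | zero => simp
      | succ j ih => rw [Function.iterate_succ_apply', ih, hgR, pow_succ', MulAut.mul_apply]
    rw [hit, pow_mul, hm]
  · obtain ⟨hwQ, hwW⟩ := hmove q hq
    set w := q⁻¹ * g q with hw
    have hgq : g q = q * w := by rw [hw, mul_inv_cancel_left]
    have hit : ∀ j : ℕ, ∃ a ∈ Q ⊓ T, g^[j] q = q * w ^ j * a := by
      intro j
      induction j with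
      | zero => exact ⟨1, one_mem _, by simp⟩
      | succ j ih =>
        obtain ⟨a, ha, hj⟩ := ih
        have haQ := (Subgroup.mem_inf.1 ha).1
        have hwj : w ^ j ∈ Q := Q.pow_mem hwQ j
        have h1 := hW (w ^ j) hwj (pow_mem hwW j)
        have h2 : g a ∈ Q ⊓ T := Subgroup.mem_inf.2 ⟨hgQm a haQ, by
          rw [hgR ⟨a, hAR ha⟩]; exact hRT (α _).2⟩
        refine ⟨(w ^ j)⁻¹ * g (w ^ j) * g a, (Q ⊓ T).mul_mem h1 h2, ?_⟩
        rw [Function.iterate_succ_apply', hj,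
          hgm.map_mul (mem_sup_right (Q.mul_mem hq hwj)) (mem_sup_right haQ),
          hgm.map_mul (mem_sup_right hq) (mem_sup_right hwj), hgq, pow_succ']
        group
    obtain ⟨a, ha, hj⟩ := hit (p ^ k * m)
    have hone : w ^ (p ^ k) = 1 := by
      rw [← hk]
      exact congrArg Subtype.val (pow_card_eq_one' (x := (⟨w, hQ.1 hwQ⟩ : S)))
    rw [hj, pow_mul, hone, one_pow, mul_one, inv_mul_cancel_left]
    exact ha

theorem pCore_map_le_inn_top :
    (pCore p (E.autGroup T)).map (E.autGroup T).subtype ≤ Inn T := by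
  have hsc : F.StronglyClosed T := hE.1.2.2.2.1
  haveI := finite_of_le hsc.1
  obtain ⟨W, hW⟩ := (fullyAutomized_of_fullyNormalized (hS.to_le hsc.1) hE.1.1
    (fullyNormalized_top E)).2
  refine (Subgroup.map_mono (pCore_le_sylow W)).trans ?_
  rintro _ ⟨a, ha, rfl⟩
  rw [hW] at ha
  obtain ⟨u, hu, hux⟩ := mem_autInducedBy_iff.1 ha
  exact ⟨⟨u, hu⟩, MulEquiv.ext fun z => Subtype.ext (hux z).symm⟩

/-- The maps of a normal subsystem move a normal subgroup `Q` modulo `Q ∩ T`. -/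
theorem le_modSys : E ≤ modSys E hE.1.2.2.2.1 hQ := by
  obtain ⟨hEsat, -, hinv⟩ := hE.1
  have hsc : F.StronglyClosed T := hinv.2.1
  haveI := finite_of_le hsc.1
  have hTp : IsPGroup p T := hS.to_le hsc.1
  set D₀ := modSys E hE.1.2.2.2.1 hQ
  suffices key : ∀ m, ∀ R, E.IsFullyNormalized R → Nat.card T - Nat.card R = m →
      E.autGroup R ≤ D₀.autGroup R from
    alperin hTp hEsat fun R hR => by
      rcases hR with rfl | hR
      · exact key _ _ (fullyNormalized_top E) rfl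
      · exact key _ R hR.2.1 rfl
  intro m
  induction m using Nat.strong_induction_on with
  | _ m ih =>
  intro R hR hm
  have hRT := hR.1
  haveI := finite_of_le hRT
  obtain ⟨W, hW⟩ := (fullyAutomized_of_fullyNormalized hTp hEsat hR).2
  rcases eq_or_lt_of_le hRT with rfl | hlt
  · -- the top
    refine Subgroup.subgroupOf_eq_top.1 (eq_top_of_sylow_le W ?_ fun x hx => ?_)
    · rw [hW]
      exact Subgroup.comap_mono (autInducedBy_le_autGroup le_rfl)
    obtain ⟨G, hG⟩ := exists_canExt_top hS hF hE x.2 (by rwa [Subgroup.orderOf_coe])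
    obtain ⟨g, hg, hgx, hgQ⟩ := exists_mod_of_canExt hS hF hE hQ
      (centric_of_fullyCentralized hTp hEsat
        (fullyCentralized_of_fullyNormalized hTp hEsat hR) fun c hc => hc.1)
      (pCore_map_le_inn_top hS hF hE hQ) x.2 (by rwa [Subgroup.orderOf_coe]) hG
    exact mem_modSys_autGroup le_rfl x.2 hg hgx hgQ
  have hlarge : ∀ {M : Subgroup Ω} {f : Ω → Ω}, IsMap E M f → Nat.card R < Nat.card M →
      IsMap D₀ M f := fun {M f} hf hc =>
    isMap_of_large_automizers hTp hEsat (fun U hU hRU => ih _ (by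
      have := Subgroup.card_le_of_le hU.1
      omega) U hU rfl) hf hc
  have hextD : ∀ α : MulAut R, IsExtendable E R α → α ∈ D₀.autGroup R := by
    rintro α ⟨R', hR', g, hg, hgx⟩
    haveI := finite_of_le hg.le
    exact (autGroup_iff_isMap hRT fun x => (hgx x).symm).2 ((hlarge hg
      (lt_of_not_ge fun h => hR'.ne (eq_of_le_of_card_le hR'.le h))).mono hR'.le)
  by_cases hc : E.IsCentric R
  swap
  · rw [← extAut_eq_of_not_centric hTp hEsat hR hc]
    exact (Subgroup.closure_le _).2 hextD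
  by_cases hes : E.IsEssential p R
  swap
  · rw [← extAut_eq_of_not_essential hTp hEsat hlt hR hes]
    exact (Subgroup.closure_le _).2 hextD
  have hrad := essential_isRadical hTp hEsat hes
  set A := pGenAut E p R with hA
  set L := (D₀.autGroup R).subgroupOf (E.autGroup R) with hL
  have hWA : (W : Subgroup (E.autGroup R)) ≤ A := fun w hw => by
    obtain ⟨i, hi⟩ := IsPGroup.iff_orderOf.1 W.isPGroup' ⟨w, hw⟩
    exact Subgroup.subset_closure ⟨i, by rwa [← Subgroup.orderOf_coe] at hi⟩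
  have hWL : (W : Subgroup (E.autGroup R)) ≤ L := by
    rw [hW]
    exact Subgroup.comap_mono (autInducedBy_le_autGroup hRT)
  obtain ⟨V, hV⟩ := CfsgLib.Transfer.exists_sylow_eq_subgroupOf W A
  have hAL : A ≤ L := by
    refine Subgroup.subgroupOf_eq_top.1 (eq_top_of_sylow_le V ?_ fun a ha => ?_)
    · rw [hV]
      exact Subgroup.comap_mono hWL
    · have hco : (orderOf ((a : E.autGroup R) : MulAut R)).Coprime p := by
        rwa [Subgroup.orderOf_coe, Subgroup.orderOf_coe]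
      obtain ⟨G, hG⟩ := exists_canExt hS hF hE hc (α := (a : E.autGroup R)) a.2
        (by rwa [Subgroup.orderOf_coe])
      obtain ⟨g, hg, hgx, hgQ⟩ := exists_mod_of_canExt hS hF hE hQ hc hrad.2.le a.1.2 hco hG
      exact mem_modSys_autGroup hRT a.1.2 hg hgx hgQ
  have hsup := V.normalizer_sup_eq_top
  rw [hV, Subgroup.subgroupOf_map_subtype, inf_eq_left.2 hWA] at hsup
  refine Subgroup.subgroupOf_eq_top.1 (top_le_iff.1 (hsup.ge.trans (sup_le (fun ν hν => ?_) hAL)))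
  obtain ⟨u, hu, huR⟩ := SetLike.exists_of_lt (lt_normalizerIn hTp hlt)
  set c : E.autGroup R := ⟨R.normalizerMonoidHom ⟨u, hu.2⟩, autInducedBy_le_autGroup hRT
    (mem_autInducedBy_iff.2 ⟨u, hu.1, fun x => rfl⟩)⟩ with hcdef
  have hcW : c ∈ (W : Subgroup (E.autGroup R)) := by
    rw [hW]
    exact mem_autInducedBy_iff.2 ⟨u, hu.1, fun x => rfl⟩
  have h1 := (Subgroup.mem_normalizer_iff.1 hν c).1 hcW
  rw [hW] at h1
  obtain ⟨b, hb, hbx⟩ := mem_autInducedBy_iff.1 h1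
  refine hextD _ (isExtendable_of_meet hTp hEsat (fullyCentralized_of_fullyNormalized hTp hEsat hR)
    ν.2 hu huR hb fun x => ?_)
  simp only [Subgroup.coe_subtype]
  rw [← hbx ((ν : MulAut R) x)]
  simp [hcdef]

/-- `Q ∩ T` is normal in a normal subsystem over `T`. -/
theorem isNormal_inf : E.IsNormal (Q ⊓ T) := by
  obtain ⟨hEsat, -, hinv⟩ := hE.1
  have hsc : F.StronglyClosed T := hinv.2.1
  haveI := finite_of_le hsc.1
  have hTp : IsPGroup p T := hS.to_le hsc.1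
  refine isNormal_of_alperin hTp hEsat inf_le_right fun P hP => ?_
  have hPT : P ≤ T := hP.elim (fun e => e.le) fun e => e.1.1
  refine ⟨?_, fun α hα x hx => ?_⟩
  · rcases hP with rfl | hP
    · exact inf_le_right
    · exact inf_le_of_inner hS hF hE hQ hP.1 (essential_isRadical hTp hEsat hP).2.le
  · refine Subgroup.mem_inf.2 ⟨?_, hPT (α x).2⟩
    have := StronglyClosed.apply_mem (IsNormal.stronglyClosed hQ)
      (isMap_of_sub hinv.1 (isMap_of_autGroup hPT hα)) x.2 (Subgroup.mem_inf.1 hx).1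
    rwa [toFun_aut_apply _ x.2] at this

/-- A map of a normal subsystem extends to `Q`, moving it inside cosets of `Q ∩ T`. -/
theorem exists_mod {P : Subgroup Ω} {f : Ω → Ω} (hf : IsMap E P f) :
    ∃ g, IsMap F (P ⊔ Q) g ∧ (∀ x ∈ P, g x = f x) ∧ ∀ q ∈ Q, q⁻¹ * g q ∈ Q ⊓ T := by
  obtain ⟨φ, ⟨-, g, hg, hgx, hgQ⟩, hφ⟩ := le_iff_isMap.1 (le_modSys hS hF hE hQ) P f hf
  exact ⟨g, hg, fun x hx => (hgx ⟨x, hx⟩).trans (hφ ⟨x, hx⟩), hgQ⟩

end Main

end CfsgLib.Comp.CoreAct
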