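import Cfsg.Agent.Lib.ClassK.Kulakov

/-!
Miller's theorem on the number of cyclic subgroups of a non-cyclic `p`-group (`p` odd) and the
number of elements of a given order.
-/

set_option autoImplicit false

namespace CfsgLib.Comp

open Subgroup CfsgLib.ClassK

universe u

variable {p : ℕ} [hp : Fact p.Prime]

/-- Number of cyclic subgroups of order `p ^ s` below `M`. -/
noncomputable def cycCount {G : Type u} [Group G] (p s : ℕ) (M : Subgroup G) : ℕ :=
  Nat.card {H : Subgroup G // (Nat.card H = p ^ s ∧ IsCyclic H) ∧ H ≤ M}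

omit hp in
theorem cycCount_eq {G : Type u} [Group G] (s : ℕ) (M : Subgroup G) :
    cycCount p s M = cycCount p s (⊤ : Subgroup M) :=
  Nat.card_congr
    { toFun := fun H => ⟨H.1.subgroupOf M,
        ⟨(Nat.card_congr (subgroupOfEquivOfLe H.2.2).toEquiv).trans H.2.1.1,
          (subgroupOfEquivOfLe H.2.2).isCyclic.2 H.2.1.2⟩, le_top⟩
      invFun := fun H => ⟨H.1.map M.subtype,
        ⟨(card_map_of_injective M.subtype_injective).trans H.2.1.1,
          (equivMapOfInjective H.1 M.subtype M.subtype_injective).isCyclic.1 H.2.1.2⟩,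
        map_subtype_le _⟩
      left_inv := fun H => Subtype.ext (map_subgroupOf_eq_of_le H.2.2)
      right_inv := fun H => Subtype.ext (comap_map_eq_self_of_injective M.subtype_injective H.1) }

/-- Miller: a non-cyclic `p`-group (`p` odd) has a multiple of `p` cyclic subgroups of each order
`p ^ s`, `s ≥ 2`. -/
theorem miller (hp2 : p ≠ 2) (m : ℕ) : ∀ {G : Type u} [Group G] [Finite G], Nat.card G = p ^ m →
    ¬ IsCyclic G → ∀ s, 2 ≤ s → p ∣ cycCount p s (⊤ : Subgroup G) := by
  induction m using Nat.strong_induction_on with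
  | _ m ih => ?_
  intro G _ _ hm hnc s hs
  classical
  have hG : IsPGroup p G := IsPGroup.of_card hm
  have hnone : ∀ H : Subgroup G, Nat.card H = p ^ s → IsCyclic H → s < m := by
    intro H hH hc
    rcases Nat.lt_or_ge s m with h | h
    · exact h
    · refine absurd ?_ hnc
      have : H = ⊤ := eq_top_of_le_card H (by rw [hH, hm]; exact Nat.pow_le_pow_right hp.out.pos h)
      subst this
      exact topEquiv.isCyclic.1 hc
  rcases isEmpty_or_nonempty {H : Subgroup G // (Nat.card H = p ^ s ∧ IsCyclic H) ∧ H ≤ ⊤} with he | ⟨⟨H₀, ⟨hH₀, hc₀⟩, -⟩⟩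
  · rw [cycCount, Nat.card_of_isEmpty]; exact dvd_zero p
  have hsm := hnone H₀ hH₀ hc₀
  haveI := Fintype.ofFinite {M : Subgroup G // M.index = p}
  haveI := Fintype.ofFinite {H : Subgroup G // (Nat.card H = p ^ s ∧ IsCyclic H) ∧ H ≤ ⊤}
  -- each cyclic subgroup lies in `1` modulo `p` maximal subgroups
  have hover : ∀ H : {H : Subgroup G // (Nat.card H = p ^ s ∧ IsCyclic H) ∧ H ≤ ⊤},
      Nat.card {M : {M : Subgroup G // M.index = p} // H.1 ≤ M.1} ≡ 1 [MOD p] := by
    rintro ⟨H, ⟨hH, hc⟩, -⟩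
    have hn : (H ⊔ frattini G).Normal := by
      refine ⟨fun x hx g => ?_⟩
      have h1 : g * x * g⁻¹ * x⁻¹ ∈ H ⊔ frattini G := by
        refine mem_sup_right ?_
        have := StructC.comm_mem_frattini hG g⁻¹ x⁻¹
        rwa [inv_inv, inv_inv] at this
      have := mul_mem h1 hx
      rwa [inv_mul_cancel_right] at this
    have e : Nat.card {M : {M : Subgroup G // M.index = p} // H ≤ M.1} =
        Nat.card {M : Subgroup G // M.index = p ∧ H ⊔ frattini G ≤ M} :=
      Nat.card_congr ((Equiv.subtypeSubtypeEquivSubtypeInter _ (fun M => H ≤ M)).trans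
        (Equiv.subtypeEquivRight fun M => ⟨fun h => ⟨h.1,
          sup_le h.2 (SubCount.frattini_le_of_index hG h.1)⟩, fun h => ⟨h.1, le_sup_left.trans h.2⟩⟩))
    rw [e]
    obtain ⟨c, hc'⟩ : ∃ c, (H ⊔ frattini G).index = p ^ c := by
      have := (hG.to_quotient (H ⊔ frattini G)).exists_card_eq
      rwa [← index_eq_card] at this
    rcases c with _ | _ | c
    · rw [pow_zero, index_eq_one] at hc'
      rw [frattini_nongenerating hc', card_top, hm] at hH
      have := Nat.pow_right_injective hp.out.two_le hH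
      omega
    · rw [zero_add, pow_one] at hc'
      refine SubCount.modEq_of_eq (Nat.card_eq_one_iff_exists.mpr
        ⟨⟨H ⊔ frattini G, hc', le_rfl⟩, fun M => Subtype.ext ?_⟩)
      rcases eq_or_lt_of_le M.2.2 with h | h
      · exact h.symm
      · have h2 := (SubCount.isCoatom_of_index hc').2 _ h
        have h3 := M.2.1
        rw [h2, index_top] at h3
        exact absurd h3.symm hp.out.ne_one
    · have h := (SubCount.card_index_prime_over hG (H ⊔ frattini G) le_sup_right
        (hc' ▸ pow_dvd_pow p (by omega))).of_dvd (dvd_pow_self p two_ne_zero)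
      exact h.trans (by simp [Nat.ModEq])
  -- count incident pairs
  have hsum : ∑ H : {H : Subgroup G // (Nat.card H = p ^ s ∧ IsCyclic H) ∧ H ≤ ⊤},
      Nat.card {M : {M : Subgroup G // M.index = p} // H.1 ≤ M.1} =
      ∑ M : {M : Subgroup G // M.index = p}, cycCount p s M.1 := by
    simp only [cycCount]
    rw [← Nat.card_sigma, ← Nat.card_sigma]
    exact Nat.card_congr
      { toFun := fun x => ⟨x.2.1, x.1.1, x.1.2.1, x.2.2⟩
        invFun := fun x => ⟨⟨x.2.1, x.2.2.1, le_top⟩, x.1, x.2.2.2⟩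
        left_inv := fun _ => rfl
        right_inv := fun _ => rfl }
  have hM : ∀ M : {M : Subgroup G // M.index = p},
      cycCount p s M.1 ≡ (if IsCyclic M.1 then 1 else 0) [MOD p] := by
    rintro ⟨M, hMi⟩
    have hMc : Nat.card M = p ^ (m - 1) := by
      have h := M.card_mul_index
      rw [hMi, hm] at h
      obtain ⟨m', rfl⟩ : ∃ m', m = m' + 1 := ⟨m - 1, by omega⟩
      rw [pow_succ] at h
      simpa using Nat.eq_of_mul_eq_mul_right hp.out.pos h
    rw [cycCount_eq]
    split_ifs with hc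
    · haveI := hc
      refine SubCount.modEq_of_eq (Nat.card_eq_one_iff_exists.mpr ?_)
      obtain ⟨K, hK⟩ := Sylow.exists_subgroup_card_pow_prime (G := M) p (n := s)
        (by rw [hMc]; exact pow_dvd_pow p (by omega))
      exact ⟨⟨K, ⟨hK, inferInstance⟩, le_top⟩, fun L => Subtype.ext
        (Kulakov.subgroup_eq_of_card (L.2.1.1.trans hK.symm))⟩
    · exact (Nat.modEq_zero_iff_dvd).2 (ih (m - 1) (by omega) hMc hc s hs)
  have h1 : cycCount p s (⊤ : Subgroup G) ≡
      ∑ M : {M : Subgroup G // M.index = p}, (if IsCyclic M.1 then 1 else 0) [MOD p] := by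
    have e1 : cycCount p s (⊤ : Subgroup G) =
        ∑ _H : {H : Subgroup G // (Nat.card H = p ^ s ∧ IsCyclic H) ∧ H ≤ ⊤}, 1 := by
      rw [cycCount, Finset.sum_const, Finset.card_univ, smul_eq_mul, mul_one, Nat.card_eq_fintype_card]
    rw [e1]
    refine ((Nat.ModEq.sum fun H _ => (hover H).symm).trans ?_)
    rw [hsum]
    exact Nat.ModEq.sum fun M _ => hM M
  refine Nat.modEq_zero_iff_dvd.1 (h1.trans (Nat.modEq_zero_iff_dvd.2 ?_))
  rw [Finset.sum_boole, Nat.cast_id]
  have h2 := Kulakov.card_cyclic_max (by omega) hm hnc (fun h => hp2 h.1)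
  refine h2.trans (dvd_of_eq ?_)
  rw [← Fintype.card_subtype, ← Nat.card_eq_fintype_card]
  exact Nat.card_congr (Equiv.subtypeSubtypeEquivSubtypeInter _ (fun M : Subgroup G => IsCyclic M)).symm

/-- Pairs of an element of order `m` and a cyclic subgroup of order `p ^ s` centralizing it. -/
abbrev ZCPair (G : Type u) [Group G] (p s m : ℕ) : Type u :=
  {x : G × Subgroup G // orderOf x.1 = m ∧ (Nat.card x.2 = p ^ s ∧ IsCyclic x.2) ∧
    x.2 ≤ centralizer ({x.1} : Set G)}

variable {G : Type u} [Group G] [Finite G]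

/-- In a group with a non-cyclic Sylow subgroup, `p` divides the number of pairs. -/
theorem dvd_card_zcPair (hp2 : p ≠ 2) (P : Sylow p G) (hP : ¬ IsCyclic (P : Subgroup G)) {s : ℕ}
    (hs : 2 ≤ s) (m : ℕ) : p ∣ Nat.card (ZCPair G p s m) := by
  classical
  let act : MulAction (P : Subgroup G) (ZCPair G p s m) :=
    { smul := fun g x => ⟨((g : G) * x.1.1 * (g : G)⁻¹, x.1.2.map (MulAut.conj (g : G)).toMonoidHom),
        (MulEquiv.orderOf_eq (MulAut.conj (g : G)) x.1.1).trans x.2.1,
        ⟨(card_map_of_injective (MulAut.conj (g : G)).injective).trans x.2.2.1.1,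
          (equivMapOfInjective _ _ (MulAut.conj (g : G)).injective).isCyclic.1 x.2.2.1.2⟩,
        by
          rintro _ ⟨c, hc, rfl⟩
          rw [mem_centralizer_singleton_iff]
          have h := mem_centralizer_singleton_iff.1 (x.2.2.2 hc)
          show (g : G) * c * (g : G)⁻¹ * ((g : G) * x.1.1 * (g : G)⁻¹) = _
          calc (g : G) * c * (g : G)⁻¹ * ((g : G) * x.1.1 * (g : G)⁻¹)
              = (g : G) * (c * x.1.1) * (g : G)⁻¹ := by group
            _ = (g : G) * (x.1.1 * c) * (g : G)⁻¹ := by rw [h]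
            _ = _ := by simp [mul_assoc]⟩
      one_smul := fun x => Subtype.ext (Prod.ext (show (1 : G) * x.1.1 * (1 : G)⁻¹ = x.1.1 by simp)
        (show x.1.2.map (MulAut.conj ((1 : (P : Subgroup G)) : G)).toMonoidHom = x.1.2 by
          ext y; simp [mem_map]))
      mul_smul := fun g h x => Subtype.ext (Prod.ext
        (show ((g * h : (P : Subgroup G)) : G) * x.1.1 * ((g * h : (P : Subgroup G)) : G)⁻¹ =
          (g : G) * ((h : G) * x.1.1 * (h : G)⁻¹) * (g : G)⁻¹ by simp [mul_assoc])
        (show x.1.2.map (MulAut.conj ((g * h : (P : Subgroup G)) : G)).toMonoidHom =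
            (x.1.2.map (MulAut.conj (h : G)).toMonoidHom).map (MulAut.conj (g : G)).toMonoidHom by
          rw [map_map]; congr 1; ext y; simp [mul_assoc])) }
  have h1 := P.isPGroup'.card_modEq_card_fixedPoints (ZCPair G p s m)
  -- cyclic subgroups of `P`
  let Y : Type u := {H : Subgroup (P : Subgroup G) // (Nat.card H = p ^ s ∧ IsCyclic H) ∧ H ≤ ⊤}
  let actY : MulAction (P : Subgroup G) Y :=
    { smul := fun g H => ⟨H.1.map (MulAut.conj g).toMonoidHom,
        ⟨(card_map_of_injective (MulAut.conj g).injective).trans H.2.1.1,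
          (equivMapOfInjective _ _ (MulAut.conj g).injective).isCyclic.1 H.2.1.2⟩, le_top⟩
      one_smul := fun H => Subtype.ext (show H.1.map (MulAut.conj (1 : (P : Subgroup G))).toMonoidHom = H.1 by
        ext y; simp [mem_map])
      mul_smul := fun g h H => Subtype.ext
        (show H.1.map (MulAut.conj (g * h)).toMonoidHom =
            (H.1.map (MulAut.conj h).toMonoidHom).map (MulAut.conj g).toMonoidHom by
          rw [map_map]; congr 1; ext y; simp [mul_assoc]) }
  have h2 := P.isPGroup'.card_modEq_card_fixedPoints Y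
  obtain ⟨n, hn⟩ := IsPGroup.iff_card.1 P.isPGroup'
  have h3 : p ∣ Nat.card (MulAction.fixedPoints (P : Subgroup G) Y) :=
    Nat.modEq_zero_iff_dvd.1 (h2.symm.trans (Nat.modEq_zero_iff_dvd.2 (miller hp2 n hn hP s hs)))
  refine Nat.modEq_zero_iff_dvd.1 (h1.trans (Nat.modEq_zero_iff_dvd.2 ?_))
  -- fixed pairs: a fixed subgroup of `P` and an element centralizing `P`
  let Z : Type u := {z : G // orderOf z = m ∧ ∀ g ∈ (P : Subgroup G), g * z = z * g}
  have e : Nat.card (MulAction.fixedPoints (P : Subgroup G) (ZCPair G p s m)) =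
      Nat.card (Z × MulAction.fixedPoints (P : Subgroup G) Y) := by
    have hle : ∀ x ∈ MulAction.fixedPoints (P : Subgroup G) (ZCPair G p s m),
        x.1.2 ≤ (P : Subgroup G) := by
      intro x hx
      have hCp : IsPGroup p x.1.2 := IsPGroup.of_card x.2.2.1.1
      have hN : (P : Subgroup G) ≤ normalizer (x.1.2 : Set G) := fun g hg =>
        mem_normalizer_iff_map_conj_eq.2
          (congrArg (fun v : ZCPair G p s m => v.1.2) (hx ⟨g, hg⟩))
      exact le_sup_left.trans
        (P.is_maximal' (hCp.to_sup_of_normal_left' P.isPGroup' hN) le_sup_right).le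
    refine Nat.card_congr
      { toFun := fun x => (⟨x.1.1.1, x.1.2.1, fun g hg => ?_⟩,
          ⟨⟨x.1.1.2.subgroupOf (P : Subgroup G),
            ⟨(Nat.card_congr (subgroupOfEquivOfLe (hle x.1 x.2)).toEquiv).trans x.1.2.2.1.1,
              (subgroupOfEquivOfLe (hle x.1 x.2)).isCyclic.2 x.1.2.2.1.2⟩, le_top⟩, fun g => ?_⟩)
        invFun := fun x => ⟨⟨(x.1.1, x.2.1.1.map (P : Subgroup G).subtype), x.1.2.1,
            ⟨(card_map_of_injective (P : Subgroup G).subtype_injective).trans x.2.1.2.1.1,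
              (equivMapOfInjective _ _ (P : Subgroup G).subtype_injective).isCyclic.1 x.2.1.2.1.2⟩,
            fun c hc => mem_centralizer_singleton_iff.2 (x.1.2.2 c (map_subtype_le _ hc))⟩,
          fun g => ?_⟩
        left_inv := fun x => Subtype.ext (Subtype.ext (Prod.ext rfl
          (map_subgroupOf_eq_of_le (hle x.1 x.2))))
        right_inv := fun x => Prod.ext rfl (Subtype.ext (Subtype.ext
          (comap_map_eq_self_of_injective (P : Subgroup G).subtype_injective _))) }
    · have := congrArg (fun v : ZCPair G p s m => v.1.1) (x.2 ⟨g, hg⟩)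
      exact mul_inv_eq_iff_eq_mul.1 this
    · apply Subtype.ext
      show (x.1.1.2.subgroupOf (P : Subgroup G)).map (MulAut.conj g).toMonoidHom = _
      refine map_injective (P : Subgroup G).subtype_injective ?_
      rw [map_map]
      conv_rhs => rw [map_subgroupOf_eq_of_le (hle x.1 x.2)]
      have h := congrArg (fun v : ZCPair G p s m => v.1.2) (x.2 g)
      refine Eq.trans ?_ h
      conv_rhs =>
        rw [show (g • x.1).1.2 = x.1.1.2.map (MulAut.conj (g : G)).toMonoidHom from rfl,
          ← map_subgroupOf_eq_of_le (hle x.1 x.2), map_map]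
      rfl
    · apply Subtype.ext
      refine Prod.ext ?_ ?_
      · show (g : G) * x.1.1 * (g : G)⁻¹ = x.1.1
        rw [x.1.2.2 g g.2, mul_inv_cancel_right]
      · show (x.2.1.1.map (P : Subgroup G).subtype).map (MulAut.conj (g : G)).toMonoidHom =
          x.2.1.1.map (P : Subgroup G).subtype
        have h := congrArg (fun v : Y => v.1.map (P : Subgroup G).subtype) (x.2.2 g)
        refine Eq.trans ?_ h
        show _ = (x.2.1.1.map (MulAut.conj g).toMonoidHom).map (P : Subgroup G).subtype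
        rw [map_map, map_map]
        rfl
  rw [e, Nat.card_prod]
  exact dvd_mul_of_dvd_right h3 _

/-- The elements of order `p ^ s * m` split into pairs and generators. -/
theorem card_orderOf_eq_mul {s m : ℕ} (hm : Nat.Coprime p m) :
    Nat.card {g : G // orderOf g = p ^ s * m} =
      Nat.card (ZCPair G p s m) * Nat.totient (p ^ s) := by
  classical
  haveI := Fintype.ofFinite (ZCPair G p s m)
  have hgen : ∀ x : ZCPair G p s m,
      Nat.card {y : x.1.2 // orderOf y = p ^ s} = Nat.totient (p ^ s) := by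
    intro x
    haveI := x.2.2.1.2
    haveI := Fintype.ofFinite x.1.2
    rw [Nat.card_eq_fintype_card, Fintype.card_subtype]
    exact IsCyclic.card_orderOf_eq_totient (by rw [← Nat.card_eq_fintype_card, x.2.2.1.1])
  have hcop : Nat.Coprime (p ^ s) m := hm.pow_left s
  obtain ⟨e, he1, he2⟩ := Nat.chineseRemainder hcop 1 0
  obtain ⟨f, hf1, hf2⟩ := Nat.chineseRemainder hcop 0 1
  have hsum : Nat.card {g : G // orderOf g = p ^ s * m} =
      Nat.card (Σ x : ZCPair G p s m, {y : x.1.2 // orderOf y = p ^ s}) := by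
    have hF : ∀ x : (Σ x : ZCPair G p s m, {y : x.1.2 // orderOf y = p ^ s}),
        orderOf ((x.2.1 : G) * x.1.1.1) = p ^ s * m := by
      intro x
      have hc : Commute (x.2.1 : G) x.1.1.1 :=
        mem_centralizer_singleton_iff.1 (x.1.2.2.2 x.2.1.2)
      rw [hc.orderOf_mul_eq_mul_orderOf_of_coprime (by rw [Subgroup.orderOf_coe, x.2.2, x.1.2.1]; exact hcop),
        Subgroup.orderOf_coe, x.2.2, x.1.2.1]
    refine (Nat.card_congr (Equiv.ofBijective (fun x => ⟨(x.2.1 : G) * x.1.1.1, hF x⟩) ⟨?_, ?_⟩)).symm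
    · rintro ⟨⟨⟨z, C⟩, hz, ⟨hC, hCc⟩, hCz⟩, ⟨y, hyC⟩, hy⟩ ⟨⟨⟨z', C'⟩, hz', ⟨hC', hCc'⟩, hCz'⟩, ⟨y', hyC'⟩, hy'⟩ h
      simp only [Subtype.mk.injEq] at h
      have key : ∀ (y z : G) (n : ℕ), Commute y z → orderOf y = p ^ s → orderOf z = m →
          (n ≡ 1 [MOD p ^ s] → n ≡ 0 [MOD m] → (y * z) ^ n = y) ∧
          (n ≡ 0 [MOD p ^ s] → n ≡ 1 [MOD m] → (y * z) ^ n = z) := by
        intro y z n hc hoy hoz
        rw [← hoy, ← hoz]
        refine ⟨fun h1 h2 => ?_, fun h1 h2 => ?_⟩
        · rw [hc.mul_pow, pow_eq_pow_iff_modEq.2 h1, pow_eq_pow_iff_modEq.2 h2, pow_one, pow_zero,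
            mul_one]
        · rw [hc.mul_pow, pow_eq_pow_iff_modEq.2 h1, pow_eq_pow_iff_modEq.2 h2, pow_one, pow_zero,
            one_mul]
      rw [orderOf_mk] at hy hy'
      have hc : Commute y z := mem_centralizer_singleton_iff.1 (hCz hyC)
      have hc' : Commute y' z' := mem_centralizer_singleton_iff.1 (hCz' hyC')
      obtain rfl : y = y' := by
        rw [← (key y z e hc hy hz).1 he1 he2, h, (key y' z' e hc' hy' hz').1 he1 he2]
      obtain rfl : z = z' := by
        rw [← (key y z f hc hy hz).2 hf1 hf2, h, (key y z' f hc' hy' hz').2 hf1 hf2]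
      have hCy : ∀ D : Subgroup G, Nat.card D = p ^ s → y ∈ D → zpowers y = D := fun D hD hyD =>
        eq_of_le_of_card_ge (zpowers_le.2 hyD) (by rw [hD, Nat.card_zpowers, hy])
      obtain rfl : C = C' := (hCy C hC hyC).symm.trans (hCy C' hC' hyC')
      rfl
    · rintro ⟨g, hg⟩
      have hy1 : (g ^ e) ^ (p ^ s) = 1 := by
        rw [← pow_mul, ← orderOf_dvd_iff_pow_eq_one, hg, mul_comm e]
        exact Nat.mul_dvd_mul_left _ (Nat.modEq_zero_iff_dvd.1 he2)
      have hz1 : (g ^ f) ^ m = 1 := by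
        rw [← pow_mul, ← orderOf_dvd_iff_pow_eq_one, hg]
        exact Nat.mul_dvd_mul_right (Nat.modEq_zero_iff_dvd.1 hf1) m
      have hyz : g ^ e * g ^ f = g := by
        rw [← pow_add]
        conv_rhs => rw [← pow_one g]
        rw [pow_eq_pow_iff_modEq, hg, ← Nat.modEq_and_modEq_iff_modEq_mul hcop]
        exact ⟨he1.add hf1, he2.add hf2⟩
      have hc : Commute (g ^ e) (g ^ f) := (Commute.refl g).pow_pow e f
      have hd : p ^ s * m ∣ orderOf (g ^ e) * orderOf (g ^ f) := by
        rw [← hg]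
        nth_rw 1 [← hyz]
        exact hc.orderOf_mul_dvd_mul_orderOf
      have hoy : orderOf (g ^ e) = p ^ s := by
        refine Nat.dvd_antisymm (orderOf_dvd_of_pow_eq_one hy1) ?_
        refine Nat.Coprime.dvd_of_dvd_mul_right ?_ ((dvd_mul_right _ m).trans hd)
        exact hcop.coprime_dvd_right (orderOf_dvd_of_pow_eq_one hz1)
      have hoz : orderOf (g ^ f) = m := by
        refine Nat.dvd_antisymm (orderOf_dvd_of_pow_eq_one hz1) ?_
        refine Nat.Coprime.dvd_of_dvd_mul_left ?_ ((dvd_mul_left m _).trans hd)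
        exact hcop.symm.coprime_dvd_right (orderOf_dvd_of_pow_eq_one hy1)
      refine ⟨⟨⟨(g ^ f, zpowers (g ^ e)), hoz, ⟨by rw [Nat.card_zpowers, hoy], inferInstance⟩,
        zpowers_le.2 (mem_centralizer_singleton_iff.2 hc.eq)⟩,
        ⟨⟨g ^ e, mem_zpowers _⟩, by rw [orderOf_mk, hoy]⟩⟩, Subtype.ext hyz⟩
  rw [hsum, Nat.card_sigma, Finset.sum_congr rfl fun x _ => hgen x, Finset.sum_const, Finset.card_univ,
    smul_eq_mul, Nat.card_eq_fintype_card]

end CfsgLib.Comp
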