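import Cfsg.Agent.Lib.Comp.ConstrainedComponent
import Cfsg.Agent.Lib.Comp.Local
import Cfsg.Agent.Lib.Fusion.NormalizerSaturated
import Cfsg.Agent.S5148

/-!
A normalizer system is constrained when the centralizer system of a central subgroup of order `p`
of the normalized subgroup is constrained.
-/

set_option autoImplicit false
set_option linter.unusedVariables false
set_option linter.unusedSectionVars false
set_option linter.style.haveILetI false

namespace CfsgLib.Comp.Dich

open Cfsg Cfsg.FusionSystem Subgroup CfsgLib.Fusion CfsgLib.Comp.Fus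

section Group

variable {A : Type*} [Group A] [Finite A] {p : ℕ} [Fact p.Prime]

/-- An automorphism of coprime order fixing a subgroup `U` and its fixed points on a
self-centralizing normal subgroup is trivial. -/
theorem eq_one_of_fixed (hA : IsPGroup p A) {β : MulAut A} (hβ : (orderOf β).Coprime p)
    {R U : Subgroup A} [R.Normal] (hR : ∀ x ∈ R, β x ∈ R) (hC : centralizer (R : Set A) ≤ R)
    (hU : ∀ u ∈ U, β u = u) (hfix : ∀ x ∈ R, (∀ u ∈ U, u * x = x * u) → β x = x) : β = 1 := by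
  haveI : Finite (MulAut A) := Finite.of_injective _ DFunLike.coe_injective
  set B := Subgroup.zpowers β with hBdef
  have key : ∀ g ∈ B, (∀ x ∈ R, (g : MulAut A) x ∈ R) ∧ (∀ u ∈ U, g u = u) ∧
      (∀ x ∈ R, (∀ u ∈ U, u * x = x * u) → g x = x) := by
    intro g hg
    obtain ⟨n, rfl⟩ := ((isOfFinOrder_of_finite β).mem_powers_iff_mem_zpowers).2 hg
    induction n with
    | zero => simp
    | succ n ih =>
      obtain ⟨h1, h2, h3⟩ := ih (Subgroup.npow_mem_zpowers β n)
      simp only [pow_succ', MulAut.mul_apply]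
      exact ⟨fun x hx => hR _ (h1 x hx), fun u hu => by rw [h2 u hu, hU u hu],
        fun x hx hc => by rw [h3 x hx hc, hfix x hx hc]⟩
  let φ : B →* MulAut A := B.subtype
  haveI : Finite (A ⋊[φ] B) := Finite.of_equiv _ SemidirectProduct.equivProd.symm
  let i : A →* A ⋊[φ] B := SemidirectProduct.inl
  have hi : Function.Injective i := SemidirectProduct.inl_injective
  let j : B →* A ⋊[φ] B := SemidirectProduct.inr
  have hconj : ∀ (g : B) (a : A), j g * i a = i ((g : MulAut A) a) * j g := fun g a => by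
    refine eq_mul_inv_iff_mul_eq.1 ?_ |>.symm
    rw [← map_inv]
    exact SemidirectProduct.inl_aut g a
  have hfix' : ∀ x ∈ R, β x = x := by
    have h := CfsgLib.Comp.le_centralizer_of_centralizes_fixed (p := p) (R := R.map i)
      (P := U.map i) (Q := j.range) ((hA.to_subgroup R).map i) ((hA.to_subgroup U).map i)
      (by rw [← Nat.card_congr (MonoidHom.ofInjective (f := j)
            SemidirectProduct.inr_injective).toEquiv, hBdef, Nat.card_zpowers]
          exact hβ)
      ((Subgroup.map_mono (show U ≤ normalizer (R : Set A) from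
          le_top.trans (Subgroup.normalizer_eq_top_iff.2 ‹_›).ge)).trans
        (Subgroup.le_normalizer_map i)) ?_ ?_ ?_
    · intro x hx
      have hb : j ⟨β, mem_zpowers β⟩ ∈ j.range := ⟨_, rfl⟩
      have h1 := h hb (i x) (mem_map_of_mem i hx)
      rw [hconj] at h1
      exact (hi (mul_right_cancel h1)).symm
    · rintro _ ⟨g, rfl⟩
      refine Subgroup.mem_normalizer_iff.2 fun z => ⟨?_, fun hz => ?_⟩
      · rintro ⟨x, hx, rfl⟩
        rw [hconj, mul_inv_cancel_right]
        exact mem_map_of_mem i ((key g g.2).1 x hx)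
      · obtain ⟨x, hx, hxz⟩ := hz
        refine ⟨((g⁻¹ : B) : MulAut A) x, (key _ (g⁻¹).2).1 x hx, ?_⟩
        have h2 := hconj g⁻¹ x
        rw [hxz] at h2
        rw [map_inv, ← mul_assoc, ← mul_assoc, inv_mul_cancel, one_mul] at h2
        exact (mul_right_cancel h2).symm
    · rintro _ ⟨g, rfl⟩ _ ⟨u, hu, rfl⟩
      rw [hconj, (key g g.2).2.1 u hu]
    · rintro _ ⟨g, rfl⟩ _ hz
      obtain ⟨⟨x, hx, rfl⟩, hc⟩ := Subgroup.mem_inf.1 hz
      rw [hconj, (key g g.2).2.2 x hx fun u hu => hi (by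
        rw [map_mul, map_mul]; exact hc _ (mem_map_of_mem i hu))]
  refine MulEquiv.ext fun x => ?_
  have ht : x⁻¹ * β x ∈ R := hC fun q hq => by
    have h1 : x * q * x⁻¹ ∈ R := Subgroup.Normal.conj_mem ‹_› q hq x
    have h2 := hfix' _ h1
    rw [map_mul, map_mul, map_inv, hfix' q hq] at h2
    calc q * (x⁻¹ * β x) = x⁻¹ * (x * q * x⁻¹) * β x := by group
      _ = x⁻¹ * (β x * q * (β x)⁻¹) * β x := by rw [h2]
      _ = x⁻¹ * β x * q := by group
  set t := x⁻¹ * β x with htdef
  have hpow : ∀ n : ℕ, (β ^ n) x = x * t ^ n := by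
    intro n
    induction n with
    | zero => simp
    | succ n ih =>
      rw [pow_succ', MulAut.mul_apply, ih, map_mul, map_pow, hfix' t ht, pow_succ',
        ← mul_assoc, htdef]
      group
  have h1 : t ^ orderOf β = 1 := by
    have h2 := hpow (orderOf β)
    rw [pow_orderOf_eq_one, MulAut.one_apply] at h2
    exact mul_left_cancel (a := x) (by rw [← h2, mul_one])
  have h3 : orderOf t = 1 := by
    obtain ⟨k, hk⟩ := IsPGroup.iff_orderOf.1 hA t
    exact Nat.dvd_one.1 ((Nat.Coprime.pow_right k hβ).gcd_eq_one ▸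
      Nat.dvd_gcd (orderOf_dvd_of_pow_eq_one h1) (hk ▸ dvd_rfl))
  rw [orderOf_eq_one_iff, htdef, inv_mul_eq_one] at h3
  exact h3.symm

end Group

variable {Ω : Type*} [Group Ω] {S T U X : Subgroup Ω} {F : FusionSystem S} {p : ℕ}
  [Fact p.Prime] [Finite S]

theorem isNormal_normalizerSystem (hU : U ≤ S) {E : FusionSystem (normalizerIn S U)}
    (hE : F.IsNormalizerSystem U E) : E.IsNormal U := by
  refine isNormal_iff.2 ⟨le_inf hU Subgroup.le_normalizer, fun P f hf => ?_⟩
  obtain ⟨hP, hv, g, hg, hgx, hgU⟩ := (isMap_normalizerSystem_iff hE).1 hf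
  refine ⟨g, (isMap_normalizerSystem_iff hE).2 ⟨sup_le hP (le_inf hU Subgroup.le_normalizer),
    fun x hx => ?_, g, hg.mono (sup_le le_rfl le_sup_right), fun _ _ => rfl, hgU⟩, hgx, hgU⟩
  refine hg.img_sup_le le_sup_left le_sup_right ?_ ?_ (hg.apply_mem_img hx)
  · intro z hz
    obtain ⟨y, hy, rfl⟩ := (hg.mono le_sup_left).mem_img.1 hz
    rw [hgx y hy]
    exact hv y hy
  · rw [hgU]
    exact le_inf hU Subgroup.le_normalizer

/-- Constrained centralizer systems give constrained normalizer systems. -/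
theorem constrained_normalizer (hS : IsPGroup p S) (hF : F.IsSaturated p)
    (hU : F.IsFullyNormalized U) {E : FusionSystem (normalizerIn S U)}
    (hE : F.IsNormalizerSystem U E) (hXU : X ≤ U) (hUX : U ≤ centralizer (X : Set Ω))
    {X' : Subgroup Ω} (hX' : F.IsFullyNormalized X') {φ : Ω → Ω}
    (hφ : IsMap F (normalizerIn S X) φ) (hφX : img X φ = X')
    {C : FusionSystem (centralizerIn S X')} (hC : F.IsCentralizerSystem X' C)
    (hCc : C.IsConstrained p) : E.IsConstrained p := by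
  obtain ⟨hCs, Q', hQn, hQc⟩ := hCc
  have hQcc : centralizerIn (centralizerIn S X') Q' ≤ Q' := hQc.2 Q' (isConj_refl hQn.1)
  have hUS := hU.1
  have hEs := isSaturated_normalizerSystem hS hF hU hE
  have hNS : normalizerIn S U ≤ S := inf_le_left
  haveI := finite_of_le hNS
  have hNp : IsPGroup p ↥(normalizerIn S U) := hS.to_le hNS
  have hEsub : ∀ {P : Subgroup Ω} {f : Ω → Ω}, IsMap E P f → IsMap F P f := by
    intro P f hf
    obtain ⟨-, -, g, hg, hgx, -⟩ := (isMap_normalizerSystem_iff hE).1 hf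
    exact (hg.mono le_sup_left).congr hgx
  set U' := img U φ with hU'
  set W := centralizerIn S U ⊔ U with hWdef
  have hCUX : centralizerIn S U ≤ centralizerIn S X := fun c hc =>
    ⟨hc.1, fun z hz => hc.2 z (hXU hz)⟩
  have hWX : W ≤ centralizerIn S X := sup_le hCUX fun u hu => ⟨hUS hu, hUX hu⟩
  have hWN : W ≤ normalizerIn S X := hWX.trans centralizerIn_le_normalizerIn
  have hφW := hφ.mono hWN
  have hUW : U ≤ W := le_sup_right
  have hWC : ∀ w ∈ W, φ w ∈ centralizerIn S X' := fun w hw => by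
    rw [← hφX]
    exact hφW.apply_mem_centralizerIn (hXU.trans hUW) hw (hWX hw).2
  have hU'C : img (centralizerIn S U) φ = centralizerIn S U' := by
    haveI : Finite ↥(centralizerIn S U') := finite_of_le inf_le_left
    refine eq_of_le_of_card_le ?_ ?_
    · intro z hz
      obtain ⟨c, hc, rfl⟩ := (hφW.mono le_sup_left).mem_img.1 hz
      exact hφW.apply_mem_centralizerIn hUW (mem_sup_left hc) hc.2
    · rw [(hφW.mono le_sup_left).card_img]
      exact (fullyCentralized_of_fullyNormalized hS hF hU).2 U' (hφW.mono hUW).isConj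
  obtain ⟨ψ, hψ, hψx, -, -⟩ := hφW.exists_inv
  -- the lift of a map centralizing `U`
  have lift : ∀ (P : Subgroup Ω) (f : Ω → Ω), P ≤ centralizerIn S U → IsMap F (P ⊔ U) f →
      (∀ x ∈ P, f x ∈ centralizerIn S U) → (∀ u ∈ U, f u = u) →
      ∃ G, IsMap F (img (P ⊔ U) φ ⊔ Q') G ∧ (∀ x ∈ P ⊔ U, G (φ x) = φ (f x)) ∧
        img Q' G = Q' := by
    intro P f hP hf hfP hfU
    have hPW : P ⊔ U ≤ W := sup_le_sup_right hP U
    have hfW : ∀ x ∈ P ⊔ U, f x ∈ W := fun x hx => by
      refine hf.img_sup_le le_sup_left le_sup_right ?_ ?_ (hf.apply_mem_img hx)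
      · intro z hz
        obtain ⟨y, hy, rfl⟩ := (hf.mono le_sup_left).mem_img.1 hz
        exact mem_sup_left (hfP y hy)
      · intro z hz
        obtain ⟨y, hy, rfl⟩ := (hf.mono le_sup_right).mem_img.1 hz
        exact (hfU y hy).symm ▸ mem_sup_right hy
    have hA : img (P ⊔ U) φ ≤ img W φ := img_mono hPW
    have hψA : ∀ z ∈ img (P ⊔ U) φ, ψ z ∈ P ⊔ U := fun z hz => by
      obtain ⟨x, hx, rfl⟩ := (hφW.mono hPW).mem_img.1 hz
      rwa [hψx x (hPW hx)]
    have h1 : IsMap F (img (P ⊔ U) φ) (fun z => φ (f (ψ z))) :=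
      ((hψ.mono hA).comp hf hψA).comp hφW fun z hz => hfW _ (hψA z hz)
    have hX'A : X' ≤ img (P ⊔ U) φ := by
      rw [← hφX]
      exact img_mono (hXU.trans le_sup_right)
    have h2 : IsMap C (img (P ⊔ U) φ) (fun z => φ (f (ψ z))) := by
      refine (isMap_centralizerSystem_iff hC).2 ⟨fun z hz => ?_,
        fun z hz => hWC _ (hfW _ (hψA z hz)), _, h1.mono (sup_le le_rfl hX'A), fun _ _ => rfl,
        fun z hz => ?_⟩
      · obtain ⟨x, hx, rfl⟩ := (hφW.mono hPW).mem_img.1 hz
        exact hWC x (hPW hx)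
      · rw [← hφX] at hz
        obtain ⟨x, hx, rfl⟩ := (hφW.mono (hXU.trans hUW)).mem_img.1 hz
        show φ (f (ψ (φ x))) = φ x
        rw [hψx x (hUW (hXU hx)), hfU x (hXU hx)]
    obtain ⟨G, hG, hGx, hGQ⟩ := (isNormal_iff.1 hQn).2 _ _ h2
    refine ⟨G, ?_, fun x hx => ?_, hGQ⟩
    · obtain ⟨-, -, g, hg, hgx, -⟩ := (isMap_centralizerSystem_iff hC).1 hG
      exact (hg.mono le_sup_left).congr hgx
    · rw [hGx _ ((hφW.mono hPW).apply_mem_img hx), hψx x (hPW hx)]
  -- the part of the core seen in the centralizer of `U`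
  set R₀ := img (Q' ⊓ centralizerIn S U') ψ with hR₀
  have hQW : Q' ⊓ centralizerIn S U' ≤ img W φ :=
    inf_le_right.trans (hU'C ▸ img_mono le_sup_left)
  have hR₀mem : ∀ {y : Ω}, y ∈ R₀ ↔ y ∈ centralizerIn S U ∧ φ y ∈ Q' := by
    intro y
    rw [hR₀, (hψ.mono hQW).mem_img]
    constructor
    · rintro ⟨z, hz, rfl⟩
      obtain ⟨hzQ, hzC⟩ := Subgroup.mem_inf.1 hz
      rw [← hU'C] at hzC
      obtain ⟨c, hc, rfl⟩ := (hφW.mono le_sup_left).mem_img.1 hzC
      rw [hψx c (mem_sup_left hc)]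
      exact ⟨hc, hzQ⟩
    · rintro ⟨hy, hyQ⟩
      exact ⟨φ y, ⟨hyQ, hU'C ▸ (hφW.mono le_sup_left).apply_mem_img hy⟩,
        hψx y (mem_sup_left hy)⟩
  have hR₀C : R₀ ≤ centralizerIn S U := fun y hy => (hR₀mem.1 hy).1
  have hUn : E.IsNormal U := isNormal_normalizerSystem hUS hE
  have hUE : U ≤ normalizerIn S U := hUn.1
  have hCN : centralizerIn S U ≤ centralizerIn (normalizerIn S U) U := fun c hc =>
    ⟨centralizerIn_le_normalizerIn hc, hc.2⟩
  have hD := CfsgLib.Comp.CoreCent.isNormalIn_centralizerSys hNp hEs hUn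
  have hR₀D : (centralizerSys E U hUE).IsNormal R₀ := by
    refine isNormal_iff.2 ⟨hR₀C.trans hCN, fun P f hf => ?_⟩
    obtain ⟨hP, hv, g, hg, hgx, hgU⟩ :=
      (isMap_centralizerSystem_iff (isCentralizerSystem_centralizerSys E U hUE)).1 hf
    have hP' : P ≤ centralizerIn S U := fun x hx => ⟨hNS (hP hx).1, (hP hx).2⟩
    have hv' : ∀ x ∈ P, g x ∈ centralizerIn S U := fun x hx => by
      rw [hgx x hx]
      exact ⟨hNS (hv x hx).1, (hv x hx).2⟩
    obtain ⟨G, hG, hGx, hGQ⟩ := lift P g hP' (hEsub hg) hv' hgU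
    set M := P ⊔ U ⊔ R₀ with hM
    have hMW : M ≤ W := sup_le (sup_le_sup_right hP' U) (hR₀C.trans le_sup_left)
    have hMA : ∀ x ∈ M, φ x ∈ img (P ⊔ U) φ ⊔ Q' := fun x hx => by
      refine (hφW.mono hMW).img_sup_le le_sup_left le_sup_right le_sup_left ?_
        ((hφW.mono hMW).apply_mem_img hx)
      intro z hz
      obtain ⟨y, hy, rfl⟩ := (hφW.mono (hR₀C.trans le_sup_left)).mem_img.1 hz
      exact mem_sup_right (hR₀mem.1 hy).2
    have h1 : IsMap F M (fun x => G (φ x)) := (hφW.mono hMW).comp hG hMA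
    have hR₀img : ∀ y ∈ R₀, G (φ y) ∈ Q' ⊓ centralizerIn S U' := fun y hy => by
      obtain ⟨hyC, hyQ⟩ := hR₀mem.1 hy
      refine ⟨hGQ.le ((hG.mono le_sup_right).apply_mem_img hyQ), h1.mem (mem_sup_right hy), ?_⟩
      intro z hz
      obtain ⟨u, hu, rfl⟩ := (hφW.mono hUW).mem_img.1 hz
      have hu1 : u ∈ P ⊔ U := mem_sup_right hu
      rw [← hgU u hu, ← hGx u hu1]
      rw [← h1.map_mul (mem_sup_left hu1) (mem_sup_right hy),
        ← h1.map_mul (mem_sup_right hy) (mem_sup_left hu1), hyC.2 u hu]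
    have hmem : ∀ x ∈ M, G (φ x) ∈ img W φ := fun x hx => by
      refine h1.img_sup_le le_sup_left le_sup_right ?_ ?_ (h1.apply_mem_img hx)
      · intro z hz
        obtain ⟨y, hy, rfl⟩ := (h1.mono le_sup_left).mem_img.1 hz
        rw [hGx y hy]
        refine hφW.apply_mem_img ?_
        refine hg.img_sup_le le_sup_left le_sup_right ?_ ?_ (hg.apply_mem_img hy)
        · intro w hw
          obtain ⟨a, ha, rfl⟩ := (hg.mono le_sup_left).mem_img.1 hw
          exact mem_sup_left (hv' a ha)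
        · intro w hw
          obtain ⟨a, ha, rfl⟩ := (hg.mono le_sup_right).mem_img.1 hw
          exact (hgU a ha).symm ▸ mem_sup_right ha
      · intro z hz
        obtain ⟨y, hy, rfl⟩ := (h1.mono le_sup_right).mem_img.1 hz
        exact hQW (hR₀img y hy)
    set h := fun x => ψ (G (φ x)) with hh
    have hmap : IsMap F M h := h1.comp hψ hmem
    have hPU : ∀ x ∈ P ⊔ U, h x = g x := fun x hx => by
      show ψ (G (φ x)) = g x
      rw [hGx x hx]
      refine hψx _ ?_
      obtain ⟨-, c, hc⟩ : True ∧ ∃ c, c ∈ W ∧ φ c = φ (g x) := by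
        refine ⟨trivial, ?_⟩
        have := hmem x (mem_sup_left hx)
        rw [hGx x hx] at this
        exact hφW.mem_img.1 this
      refine hg.img_sup_le le_sup_left le_sup_right ?_ ?_ (hg.apply_mem_img hx)
      · intro w hw
        obtain ⟨a, ha, rfl⟩ := (hg.mono le_sup_left).mem_img.1 hw
        exact mem_sup_left (hv' a ha)
      · intro w hw
        obtain ⟨a, ha, rfl⟩ := (hg.mono le_sup_right).mem_img.1 hw
        exact (hgU a ha).symm ▸ mem_sup_right ha
    have hR₀h : ∀ y ∈ R₀, h y ∈ R₀ := fun y hy =>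
      (hψ.mono hQW).apply_mem_img (hR₀img y hy)
    have hMU : ∀ u ∈ U, h u = u := fun u hu => (hPU u (mem_sup_right hu)).trans (hgU u hu)
    have hUimg : img U h = U := by
      rw [img_congr (g := id) hMU]
      ext z
      rw [(isMap_id F hUS).mem_img]
      exact ⟨fun ⟨x, hx, hxz⟩ => hxz ▸ hx, fun hz => ⟨z, hz, rfl⟩⟩
    have hMN : M ≤ normalizerIn S U :=
      sup_le (sup_le (hP'.trans centralizerIn_le_normalizerIn) hUE)
        (hR₀C.trans centralizerIn_le_normalizerIn)
    have hhN : ∀ x ∈ M, h x ∈ normalizerIn S U := fun x hx => by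
      refine ⟨hmap.mem hx, fun z => ?_⟩
      have hkey : ∀ u ∈ U, h x * u * (h x)⁻¹ ∈ U := fun u hu => by
        have huM : u ∈ M := mem_sup_left (mem_sup_right hu)
        have hc : x * u * x⁻¹ ∈ U := ((hMN hx).2 u).1 hu
        rw [← hMU u hu, ← hmap.map_conj hx huM, hMU _ hc]
        exact hc
      haveI := finite_of_le hUS
      refine ⟨hkey z, fun hz => ?_⟩
      have hx' := inv_mem hx
      have huM : h x * z * (h x)⁻¹ ∈ M := mem_sup_left (mem_sup_right hz)
      have hc : x⁻¹ * (h x * z * (h x)⁻¹) * (x⁻¹)⁻¹ ∈ U := ((hMN hx').2 _).1 hz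
      have h3 := hmap.map_conj hx' huM
      rw [hMU _ hz, hMU _ hc, hmap.map_inv hx] at h3
      rw [h3] at hc
      simpa [mul_assoc] using hc
    have hEh : IsMap E M h := (isMap_normalizerSystem_iff hE).2
      ⟨hMN, hhN, h, hmap.mono (sup_le le_rfl (le_sup_right.trans le_sup_left)), fun _ _ => rfl,
        hUimg⟩
    refine ⟨h, (isMap_centralizerSystem_iff (isCentralizerSystem_centralizerSys E U hUE)).2
      ⟨sup_le hP (hR₀C.trans hCN), fun x hx => ?_, h, hEh.mono ?_, fun _ _ => rfl, hMU⟩,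
      fun x hx => (hPU x (mem_sup_left hx)).trans (hgx x hx), ?_⟩
    · have hxM : x ∈ M := sup_le_sup_right le_sup_left R₀ hx
      refine ⟨hhN x hxM, fun u hu => ?_⟩
      have huM : u ∈ M := mem_sup_left (mem_sup_right hu)
      have hxC : x ∈ centralizerIn S U := sup_le hP' hR₀C hx
      rw [← hMU u hu, ← hmap.map_mul huM hxM, ← hmap.map_mul hxM huM, hxC.2 u hu]
    · exact sup_le (sup_le_sup_right le_sup_left R₀) (le_sup_right.trans le_sup_left)
    · haveI := finite_of_le (hR₀C.trans (inf_le_left : centralizerIn S U ≤ S))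
      refine eq_of_le_of_card_le (fun z hz => ?_) (hmap.mono le_sup_right).card_img.ge
      obtain ⟨y, hy, rfl⟩ := (hmap.mono le_sup_right).mem_img.1 hz
      exact hR₀h y hy
  have hR₀core : R₀ ≤ E.core := (IsNormal.le_core hR₀D).trans
    (IsNormal.le_core (CfsgLib.Comp.CC.isNormal_core_of_invariant hNp hEs hD.1.2.2))
  have hUcore : U ≤ E.core := IsNormal.le_core hUn
  rw [CfsgLib.Comp.CC.constrained_iff_no_component hNp hEs]
  rintro ⟨T, K, hK⟩
  obtain ⟨hKsub, hKq⟩ := hK
  have hTN : T ≤ normalizerIn S U := by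
    suffices H : ∀ {T : Subgroup Ω} (K : FusionSystem T) {S : Subgroup Ω} (F : FusionSystem S)
        (p : ℕ), K.IsSubnormalIn F p → T ≤ S from H K E p hKsub
    intro T K S F p h
    induction h with
    | refl => exact le_rfl
    | step _ h₂ ih => exact ih.trans h₂.1.2.2.2.1.1
  haveI := finite_of_le (hTN.trans hNS)
  have hTp : IsPGroup p T := hNp.to_le hTN
  obtain ⟨hTC, hKC⟩ := CfsgLib.Comp.CoreCent.subnormal_centralizes hKsub hNp hEs hKq.1 hKq.2.1
    (CfsgLib.Comp.CoreCent.core_le_center_of_quasisimple hTp hKq)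
  have hTU : T ≤ centralizerIn S U := fun t ht =>
    ⟨hNS (hTN ht), fun u hu => (hTC ht).2 u (hUcore hu)⟩
  have hbot : K.hyperfocalSubgroup p ≤ ⊥ := by
    refine hyperfocal_le_of ⊥ fun P hP α hα hco x => ?_
    suffices hα1 : α = 1 by simp [hα1]
    have hm := isMap_of_autGroup hP hα
    have hmE : IsMap (centralizerSys E E.core (core_le E)) P (toFun (P.subtype.comp α.toMonoidHom)) :=
      Pre.isMap_of_sub' hKC hm
    obtain ⟨-, -, g, hg, hgx, hgR⟩ :=
      (isMap_centralizerSystem_iff (isCentralizerSystem_centralizerSys E E.core (core_le E))).1 hmE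
    have hgP : ∀ y : P, g y = ((α y : P) : Ω) := fun y => by
      rw [hgx y y.2, toFun_aut_apply α y.2]
    have hg' : IsMap F (P ⊔ R₀ ⊔ U) g :=
      (hEsub hg).mono (sup_le (sup_le_sup_left hR₀core P) (hUcore.trans le_sup_right))
    have hPC : P ⊔ R₀ ≤ centralizerIn S U := sup_le (hP.trans hTU) hR₀C
    have hgmem : ∀ z ∈ P ⊔ R₀, g z ∈ P ⊔ R₀ := fun z hz => by
      refine (hg'.mono le_sup_left).img_sup_le le_sup_left le_sup_right ?_ ?_
        ((hg'.mono le_sup_left).apply_mem_img hz)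
      · intro w hw
        obtain ⟨y, hy, rfl⟩ := ((hg'.mono le_sup_left).mono le_sup_left).mem_img.1 hw
        rw [hgP ⟨y, hy⟩]
        exact mem_sup_left (α _).2
      · intro w hw
        obtain ⟨y, hy, rfl⟩ := ((hg'.mono le_sup_left).mono le_sup_right).mem_img.1 hw
        exact (hgR y (hR₀core hy)).symm ▸ mem_sup_right hy
    obtain ⟨G, hG, hGx, hGQ⟩ := lift (P ⊔ R₀) g hPC hg' (fun z hz => hPC (hgmem z hz))
      (fun u hu => hgR u (hUcore hu))
    set B := P ⊔ R₀ ⊔ U with hB
    set A := img B φ ⊔ Q' with hA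
    have hBW : B ≤ W := sup_le_sup_right hPC U
    have hgB : ∀ z ∈ B, g z ∈ B := fun z hz => by
      refine hg'.img_sup_le le_sup_left le_sup_right ?_ ?_ (hg'.apply_mem_img hz)
      · intro w hw
        obtain ⟨y, hy, rfl⟩ := (hg'.mono le_sup_left).mem_img.1 hw
        exact mem_sup_left (hgmem y hy)
      · intro w hw
        obtain ⟨y, hy, rfl⟩ := (hg'.mono le_sup_right).mem_img.1 hw
        exact (hgR y (hUcore hy)).symm ▸ mem_sup_right hy
    have hAX : A ≤ centralizerIn S X' := sup_le (fun z hz => by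
      obtain ⟨y, hy, rfl⟩ := (hφW.mono hBW).mem_img.1 hz
      exact hWC y (hBW hy)) hQn.1
    have hAS : A ≤ S := hAX.trans inf_le_left
    haveI := finite_of_le hAS
    have hAi : img A G = A := by
      refine eq_of_le_of_card_le ?_ hG.card_img.ge
      refine hG.img_sup_le le_sup_left le_sup_right ?_ (hGQ.le.trans le_sup_right)
      intro z hz
      obtain ⟨w, hw, rfl⟩ := (hG.mono le_sup_left).mem_img.1 hz
      obtain ⟨y, hy, rfl⟩ := (hφW.mono hBW).mem_img.1 hw
      rw [hGx y hy]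
      exact mem_sup_left ((hφW.mono hBW).apply_mem_img (hgB y hy))
    set β : MulAut A := hG.toAut hAi with hβ
    have hφA : ∀ {y : Ω}, y ∈ B → φ y ∈ A := fun {y} hy =>
      mem_sup_left ((hφW.mono hBW).apply_mem_img hy)
    have hpow : ∀ (n : ℕ) (y : P), (β ^ n) ⟨φ y, hφA (mem_sup_left (mem_sup_left y.2))⟩ =
        ⟨φ ((α ^ n) y : P), hφA (mem_sup_left (mem_sup_left ((α ^ n) y).2))⟩ := by
      intro n
      induction n with
      | zero => intro y; simp
      | succ n ih =>
        intro y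
        refine Subtype.ext ?_
        rw [pow_succ', MulAut.mul_apply, ih y, hβ, IsMap.toAut_apply]
        show G (φ ((α ^ n) y : P)) = φ ((α ^ (n + 1)) y : P)
        rw [hGx _ (mem_sup_left (mem_sup_left ((α ^ n) y).2)), hgP, pow_succ', MulAut.mul_apply]
    haveI : Finite (MulAut A) := Finite.of_injective _ DFunLike.coe_injective
    obtain ⟨a, r, hr, hN⟩ :=
      Nat.exists_eq_pow_mul_and_not_dvd (orderOf_pos β).ne' p (Fact.out : p.Prime).ne_one
    have hcop : (orderOf (β ^ (p ^ a))).Coprime p := by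
      refine Nat.Coprime.coprime_dvd_left (orderOf_dvd_of_pow_eq_one (n := r) ?_)
        (Nat.Coprime.symm ((Fact.out : p.Prime).coprime_iff_not_dvd.2 hr))
      rw [← pow_mul, ← hN, pow_orderOf_eq_one]
    haveI : (Q'.subgroupOf A).Normal := by
      refine (Subgroup.normal_subgroupOf_iff_le_normalizer (le_sup_right : Q' ≤ A)).2 ?_
      exact hAX.trans (StronglyClosed.le_normalizer (IsNormal.stronglyClosed hQn))
    have hiter : ∀ (n : ℕ) (z : A), ((z : Ω) ∈ Q' → (((β ^ n) z : A) : Ω) ∈ Q') ∧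
        ((z : Ω) ∈ img (R₀ ⊔ U) φ → (β ^ n) z = z) := by
      intro n
      induction n with
      | zero => exact fun z => ⟨fun h => h, fun _ => rfl⟩
      | succ n ih =>
        intro z
        rw [pow_succ', MulAut.mul_apply, hβ, IsMap.toAut_apply]
        refine ⟨fun h => hGQ.le ((hG.mono le_sup_right).apply_mem_img ((ih z).1 h)), fun h => ?_⟩
        refine Subtype.ext ?_
        rw [IsMap.toAut_apply, ← hβ, (ih z).2 h]
        obtain ⟨y, hy, hyz⟩ :=
          (hφW.mono (sup_le_sup_right hR₀C U)).mem_img.1 h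
        have hyB : y ∈ B := sup_le_sup_right le_sup_right U hy
        rw [← hyz, hGx y hyB, hgR y (sup_le hR₀core hUcore hy)]
    have h1 := eq_one_of_fixed (hS.to_le hAS) hcop (R := Q'.subgroupOf A)
      (U := (img U φ).subgroupOf A) (fun z hz => (hiter _ z).1 hz) (fun z hz => ?_)
      (fun z hz => (hiter _ z).2 (img_mono le_sup_right hz)) (fun z hz hc => ?_)
    · have h2 : α ^ (p ^ a) = 1 := MulEquiv.ext fun y => Subtype.ext (by
        have := congrArg Subtype.val (hpow (p ^ a) y)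
        rw [h1] at this
        exact (hφW.inj (hBW (mem_sup_left (mem_sup_left y.2)))
          (hBW (mem_sup_left (mem_sup_left ((α ^ p ^ a) y).2))) this).symm)
      have h3 := Nat.dvd_gcd (dvd_refl (orderOf α)) (orderOf_dvd_of_pow_eq_one h2)
      rw [(Nat.Coprime.pow_right a hco).gcd_eq_one, Nat.dvd_one, orderOf_eq_one_iff] at h3
      exact h3
    · refine hQcc ⟨hAX z.2, fun q hq => ?_⟩
      exact congrArg Subtype.val (hz ⟨q, mem_sup_right hq⟩ hq)
    · refine (hiter _ z).2 ?_
      have hzQ : (z : Ω) ∈ Q' := hz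
      have hzC : (z : Ω) ∈ centralizerIn S U' := ⟨hAS z.2, fun u hu => by
        have huA : u ∈ A := mem_sup_left (img_mono le_sup_right hu)
        exact congrArg Subtype.val (hc ⟨u, huA⟩ hu)⟩
      rw [← hU'C] at hzC
      obtain ⟨c, hcC, hcz⟩ := (hφW.mono le_sup_left).mem_img.1 hzC
      rw [← hcz]
      refine (hφW.mono (sup_le_sup_right hR₀C U)).apply_mem_img (mem_sup_left ?_)
      exact hR₀mem.2 ⟨hcC, hcz.symm ▸ hzQ⟩
  have hTbot : T = ⊥ := eq_bot_iff.2 (hKq.2.1 ▸ hbot)
  refine Cfsg.Agent.S5148.result p hTp K hKq ⟨⟨fun a b => Subtype.ext ?_⟩⟩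
  have ha : (a : Ω) = 1 := Subgroup.mem_bot.1 (hTbot.le a.2)
  simp [ha]

end CfsgLib.Comp.Dich
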