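import Cfsg.Agent.Lib.Comp.LayerKey

/-!
Components commute and are normal in the layer.
-/

set_option autoImplicit false
set_option linter.unusedVariables false
set_option linter.unusedSectionVars false
set_option linter.style.haveILetI false

universe u

namespace CfsgLib.Comp.Lay

open Cfsg Cfsg.FusionSystem Subgroup CfsgLib.Fusion CfsgLib.Comp.Fus

variable {Ω : Type u} [Group Ω] {S T U : Subgroup Ω} {F : FusionSystem S} {E : FusionSystem T}
  {C : FusionSystem U} {p : ℕ}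

/-- The components of `F` that are images of `C` under maps on `T`. -/
def Orbit (F : FusionSystem S) (p : ℕ) (T : Subgroup Ω) (C : FusionSystem U) (Y : Sys Ω) : Prop :=
  Y.2.IsComponentIn F p ∧ ∃ a k, IsMap F T a ∧ IsIso C Y.2 a k

/-- The components equal to `C`. -/
def Only (C : FusionSystem U) (Y : Sys Ω) : Prop := Y = ⟨U, C⟩

/-- The induction statement. -/
def Dich (F : FusionSystem S) (p : ℕ) : Prop :=
  ∀ (U : Subgroup Ω) (C : FusionSystem U), C.IsComponentIn F p →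
    ∀ (T : Subgroup Ω) (D : FusionSystem T), D.IsNormalIn F p →
      C.IsSubnormalIn D p ∨ ∀ t ∈ T, ∀ x ∈ U, t * x = x * t

/-- Distinct components commute. -/
def Pairwise' (F : FusionSystem S) (p : ℕ) : Prop :=
  ∀ X Y : Sys Ω, X.2.IsComponentIn F p → Y.2.IsComponentIn F p → X ≠ Y →
    ∀ a ∈ X.1, ∀ b ∈ Y.1, a * b = b * a

/-- If the components generate, they are normal. -/
def NormalComp (F : FusionSystem S) (p : ℕ) : Prop :=
  (∀ (R : Subgroup Ω) (D : FusionSystem R), D.IsNormalIn F p →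
      (∀ Y : Sys Ω, Y.2.IsComponentIn F p → Y.2.IsSubsystemOf D) → F.IsSubsystemOf D) →
    ∀ (U : Subgroup Ω) (C : FusionSystem U), C.IsComponentIn F p → C.IsNormalIn F p

/-- The structure of the closure of a component. -/
structure Closure (F : FusionSystem S) (p : ℕ) (C : FusionSystem U) (L : FusionSystem T) : Prop where
  gen : IsGen F p (Only C) L
  zfix : ZFix L
  perfect : T ≤ L.hyperfocalSubgroup p
  spanned : ∀ K : Subgroup Ω, (∀ Y, Orbit F p T C Y → Y.1 ≤ K) → T ≤ K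
  normal : C.IsNormalIn L p
  pair : Pairwise' L p

variable [Fact p.Prime] [Finite S]

theorem hyperfocal_mono (hCE : C.IsSubsystemOf E) :
    C.hyperfocalSubgroup p ≤ E.hyperfocalSubgroup p := by
  have hUT : U ≤ T := le_of_isSubsystemOf hCE
  refine hyperfocal_le_of _ fun P hP α hα hco x => ?_
  exact sub_mem_hyperfocal_of_coprime (hP.trans hUT)
    ((autGroup_mem_iff (hP.trans hUT)).2 (hCE P ((autGroup_mem_iff hP).1 hα))) hco x

theorem self_component_eq (hS : IsPGroup p S) (hC : C.IsComponentIn F p)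
    (hFC : F.IsSubsystemOf C) {W : Subgroup Ω} {C' : FusionSystem W}
    (hC' : C'.IsComponentIn F p) : (⟨W, C'⟩ : Sys Ω) = ⟨U, C⟩ := by
  cases sys_ext (sub_of_subnormal hC.1) hFC
  by_cases hn : F.IsSubsystemOf C'
  · exact sys_ext (sub_of_subnormal hC'.1) hn
  exfalso
  obtain ⟨V, D, hD, hC'D, hne⟩ := exists_proper_step hC'.1 hn
  rcases QSN.normal_central_or_all hS hC.2 hD with hz | ⟨rfl, hall⟩
  · exact not_comm_of_component hS hC' fun a ha b hb =>
      FusionSystem.center_le_centralizer _ (hz (le_of_subnormal hC'D hb)) a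
        (le_of_component hC' ha)
  · exact hne (isSubsystemOf_iff.2 hall)

theorem orbit_self (hS : IsPGroup p S) (hC : C.IsComponentIn F p) (hUT : U ≤ T) (hT : T ≤ S) :
    Orbit F p T C ⟨U, C⟩ := by
  refine ⟨hC, id, id, isMap_id F hT, ?_⟩
  have hp : ∀ P : Subgroup Ω, push id P = P := fun P => by
    show Subgroup.closure (id '' (P : Set Ω)) = P
    rw [Set.image_id, Subgroup.closure_eq]
  refine ⟨fun x hx => hx, fun x hx => hx, fun _ _ => rfl, fun _ _ => rfl, fun _ _ _ _ => rfl,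
    fun P f hf => ?_, fun P f hf => ?_⟩
  · rw [hp]; exact hf
  · rw [hp]; exact hf

theorem orbit_le (hT : F.StronglyClosed T) (hUT : U ≤ T) {Y : Sys Ω} (hY : Orbit F p T C Y) :
    Y.1 ≤ T := by
  obtain ⟨-, a, k, ha, hiso⟩ := hY
  intro y hy
  rw [← hiso.right y hy]
  exact StronglyClosed.apply_mem hT ha (hUT (hiso.mem' y hy)) (hUT (hiso.mem' y hy))

theorem orbit_invariant (hS : IsPGroup p S) (hT : F.StronglyClosed T) (hUT : U ≤ T)
    (hC : C.IsComponentIn F p) : IsInvariantFamily F T (Orbit F p T C) := by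
  intro a₁ c₁ ha₁ hc₁ X hX P f hf
  obtain ⟨-, a, k, ha, hiso⟩ := id hX
  have hg : IsMap F T fun x => a₁ (a x) :=
    ha.comp ha₁ fun x hx => StronglyClosed.apply_mem hT ha hx hx
  obtain ⟨W, Z, k', hiso', hZn⟩ := exists_subnormal_image hC.1 (hg.mono hUT)
  have hUS := le_of_component hC
  haveI := finite_of_le hUS
  have hZ : Orbit F p T C ⟨W, Z⟩ :=
    ⟨⟨hZn, isQuasisimple_transport (hS.to_le hUS) hiso' hC.2⟩, _, k', hg, hiso'⟩
  refine ⟨⟨W, Z⟩, hZ, ?_⟩
  have hXT := orbit_le hT hUT hX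
  have hi : IsIso X.2 Z a₁ c₁ := by
    refine isIso_congr (isIso_trans hiso.symm hiso') (fun y hy => ?_) fun z hz => ?_
    · show a₁ (a (k y)) = a₁ y
      rw [hiso.right y hy]
    · show a (k' z) = c₁ z
      conv_rhs => rw [← hiso'.right z hz]
      exact (hc₁ _ (StronglyClosed.apply_mem hT ha (hUT (hiso'.mem' z hz))
        (hUT (hiso'.mem' z hz)))).symm
  exact hi.map P f hf

theorem exists_closure (hS : IsPGroup p S) (hF : F.IsSaturated p) (hC : C.IsComponentIn F p)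
    (hFC : ¬ F.IsSubsystemOf C)
    (ih : ∀ {T : Subgroup Ω} (L : FusionSystem T), L.IsNormalIn F p → mapCount L < mapCount F →
      Dich L p ∧ Pairwise' L p ∧ NormalComp L p) :
    ∃ (T : Subgroup Ω) (L : FusionSystem T),
      Closure F p C L ∧ mapCount L < mapCount F ∧ Dich L p := by
  obtain ⟨T, L, hL⟩ := exists_gen hS hF (O := Only C) fun X hX => by
    rw [show X = ⟨U, C⟩ from hX]; exact hC
  obtain ⟨T₁, D₁, hD₁, hCD₁, hne⟩ := exists_proper_step hC.1 hFC
  have hLD : L.IsSubsystemOf D₁ := hL.2.2 _ _ hD₁ fun X hX => by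
    rw [show X = ⟨U, C⟩ from hX]; exact sub_of_subnormal hCD₁
  have hlt : mapCount L < mapCount F := by
    haveI := finite_of_le hD₁.1.2.2.2.1.1
    exact (mapCount_le hLD).trans_lt (mapCount_lt (sub_of_normal hD₁) hne)
  obtain ⟨hdich, hpair, hnc⟩ := ih L hL.1 hlt
  have hTsc : F.StronglyClosed T := hL.1.1.2.2.2.1
  haveI := finite_of_le hTsc.1
  have hTp : IsPGroup p T := hS.to_le hTsc.1
  have hLs : L.IsSaturated p := hL.1.1.1
  have hUT : U ≤ T := le_of_isSubsystemOf (hL.2.1 ⟨U, C⟩ rfl)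
  have hO : ∀ Y, Orbit F p T C Y → Y.2.IsComponentIn L p := fun Y hY =>
    ⟨subnormal_of_le hS hY.1 hL.1 (orbit_le hTsc hUT hY), hY.1.2⟩
  have hgenO : IsGen F p (Orbit F p T C) L := ⟨hL.1, fun Y hY => sub_of_subnormal (hO Y hY).1,
    fun R D hD hOD => hL.2.2 R D hD fun X hX => by
      rw [show X = ⟨U, C⟩ from hX]; exact hOD _ (orbit_self hS hC hUT hTsc.1)⟩
  obtain ⟨T', E', hE'⟩ := exists_gen hTp hLs hO
  have hLE' : L.IsSubsystemOf E' :=
    gen_self hS (fun Y hY => hY.1) hgenO (orbit_invariant hS hTsc hUT hC) hE'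
  have hnorm := hnc fun R D hD hall =>
    sub_trans hLE' (hE'.2.2 R D hD fun Y hY => hall Y (hO Y hY))
  obtain ⟨W, Q, hQ, hQz, hQsub, hQgen, -⟩ := exists_product_set (F := L) hTp
    ⟨_, orbit_self hS hC hUT hTsc.1⟩
    (fun Y hY => ⟨hnorm _ _ (hO Y hY), zfix_component hS hY.1⟩)
    (fun X Y hX hY hne => hpair X Y (hO X hX) (hO Y hY) hne)
  cases sys_ext (sub_trans hLE' (hE'.2.2 W Q hQ hQsub)) (sub_of_normal hQ)
  refine ⟨T, L, ⟨hL, hQz, hQgen _ fun Y hY => ?_, hQgen,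
    hnorm U C (hO _ (orbit_self hS hC hUT hTsc.1)), hpair⟩, hlt, hdich⟩
  exact hY.1.2.2.1.ge.trans (hyperfocal_mono (sub_of_subnormal (hO Y hY).1))

theorem orbit_of_le (hS : IsPGroup p S) {L : FusionSystem T} (hL : Closure F p C L) {W : Subgroup Ω}
    {C' : FusionSystem W} (hC' : C'.IsComponentIn F p) (hWT : W ≤ T) : Orbit F p T C ⟨W, C'⟩ := by
  by_contra hno
  have hC'L : C'.IsComponentIn L p := ⟨subnormal_of_le hS hC' hL.gen.1 hWT, hC'.2⟩
  have hTsc : F.StronglyClosed T := hL.gen.1.1.2.2.2.1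
  have hUT : U ≤ T := le_of_isSubsystemOf (hL.gen.2.1 ⟨U, C⟩ rfl)
  refine not_comm_of_component hS hC' fun a ha b hb => ?_
  exact (hL.spanned (centralizer (W : Set Ω)) (fun Y hY y hy w hw =>
    hL.pair ⟨W, C'⟩ Y hC'L ⟨subnormal_of_le hS hY.1 hL.gen.1 (orbit_le hTsc hUT hY), hY.1.2⟩
      (fun h => hno (h ▸ hY)) w hw y hy) (hWT hb)) a ha

theorem closure_eq (hS : IsPGroup p S) {L : FusionSystem T} (hL : Closure F p C L)
    (hC : C.IsComponentIn F p) {W R : Subgroup Ω} {C' : FusionSystem W} {L' : FusionSystem R}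
    (hL' : Closure F p C' L') (hC' : C'.IsComponentIn F p) (hWT : W ≤ T) :
    (⟨R, L'⟩ : Sys Ω) = ⟨T, L⟩ := by
  have hor := orbit_of_le hS hL hC' hWT
  obtain ⟨-, a, k, ha, hiso⟩ := id hor
  have hsub : L'.IsSubsystemOf L := hL'.gen.2.2 _ _ hL.gen.1 fun X hX => by
    rw [show X = ⟨W, C'⟩ from hX]; exact sub_of_le hS hC' hL.gen.1 hWT
  refine sys_ext hsub (hL.gen.2.2 _ _ hL'.gen.1 fun X hX => ?_)
  rw [show X = ⟨U, C⟩ from hX]
  refine sub_of_le hS hC hL'.gen.1 fun x hx => ?_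
  have hR : F.StronglyClosed R := hL'.gen.1.1.2.2.2.1
  have hUT : U ≤ T := le_of_isSubsystemOf (hL.gen.2.1 ⟨U, C⟩ rfl)
  have haU := ha.mono hUT
  obtain ⟨c, hc, hcx, -, -⟩ := haU.exists_inv
  rw [← hcx x hx]
  exact StronglyClosed.apply_mem hR hc (haU.apply_mem_img hx)
    (le_of_isSubsystemOf (hL'.gen.2.1 ⟨W, C'⟩ rfl) (hiso.mem x hx))

theorem closure_orbit (hS : IsPGroup p S) {L : FusionSystem T} (hL : Closure F p C L)
    (hC : C.IsComponentIn F p) {Y : Sys Ω} (hY : Orbit F p T C Y) {W R : Subgroup Ω}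
    {C' : FusionSystem W} {L' : FusionSystem R} (hL' : Closure F p C' L')
    (hC' : C'.IsComponentIn F p) (hYR : Y.1 ≤ R) : (⟨R, L'⟩ : Sys Ω) = ⟨T, L⟩ := by
  have hR : F.StronglyClosed R := hL'.gen.1.1.2.2.2.1
  have hUT : U ≤ T := le_of_isSubsystemOf (hL.gen.2.1 ⟨U, C⟩ rfl)
  obtain ⟨-, a, k, ha, hiso⟩ := id hY
  have haU := ha.mono hUT
  obtain ⟨c, hc, hcx, -, -⟩ := haU.exists_inv
  refine (closure_eq hS hL' hC' hL hC fun x hx => ?_).symm
  rw [← hcx x hx]
  exact StronglyClosed.apply_mem hR hc (haU.apply_mem_img hx) (hYR (hiso.mem x hx))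

theorem main_aux : ∀ (n : ℕ) {S : Subgroup Ω} (F : FusionSystem S) [Finite S],
    IsPGroup p S → F.IsSaturated p → mapCount F ≤ n →
    Dich F p ∧ Pairwise' F p ∧ NormalComp F p := by
  intro n
  induction n using Nat.strong_induction_on with
  | _ n ih =>
  intro S F _ hS hF hn
  have ih' : ∀ {T : Subgroup Ω} (L : FusionSystem T), L.IsNormalIn F p →
      mapCount L < mapCount F → Dich L p ∧ Pairwise' L p ∧ NormalComp L p := fun {T} L hL hlt => by
    haveI := finite_of_le hL.1.2.2.2.1.1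
    exact ih _ (hlt.trans_le hn) L (hS.to_le hL.1.2.2.2.1.1) hL.1.1 le_rfl
  have hclo : ∀ {U : Subgroup Ω} {C : FusionSystem U}, C.IsComponentIn F p → ¬ F.IsSubsystemOf C →
      ∃ (T : Subgroup Ω) (L : FusionSystem T),
        Closure F p C L ∧ mapCount L < mapCount F ∧ Dich L p :=
    fun hC hne => exists_closure hS hF hC hne ih'
  have hA : Dich F p := by
    intro U C hC T D hD
    have hTsc : F.StronglyClosed T := hD.1.2.2.2.1
    by_cases hFC : F.IsSubsystemOf C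
    · cases sys_ext (sub_of_subnormal hC.1) hFC
      rcases QSN.normal_central_or_all hS hC.2 hD with hz | ⟨rfl, hall⟩
      · exact .inr fun t ht x hx => (FusionSystem.center_le_centralizer _ (hz ht) x hx).symm
      · exact .inl (subnormal_of_le hS hC hD le_rfl)
    obtain ⟨R, L, hL, hlt, hdL⟩ := hclo hC hFC
    obtain ⟨M, ⟨hM, hM₁, hM₂⟩, -⟩ := Meet.exists_meet hS hL.gen.1 hD
    have hUR : U ≤ R := le_of_isSubsystemOf (hL.gen.2.1 ⟨U, C⟩ rfl)
    have hRsc : F.StronglyClosed R := hL.gen.1.1.2.2.2.1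
    haveI := finite_of_le hRsc.1
    rcases hdL U C ⟨subnormal_of_le hS hC hL.gen.1 hUR, hC.2⟩ _ M hM₁ with h | h
    · exact .inl (.step h hM₂)
    refine .inr fun t ht x hx => ?_
    have hAsc : F.StronglyClosed (R ⊓ T) := Meet.stronglyClosed_inf hL.gen.1.1.2.2 hD.1.2.2
    have hAc : ∀ z ∈ T ⊓ R, ∀ y ∈ R, y * z = z * y := by
      intro z hz y hy
      refine (hL.spanned (centralizer ((R ⊓ T : Subgroup Ω) : Set Ω)) (fun Y hY w hw v hv => ?_) hy
        z ⟨hz.2, hz.1⟩).symm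
      obtain ⟨-, a, k, ha, hiso⟩ := id hY
      obtain ⟨v₀, hv₀, rfl⟩ := (ha.mono inf_le_left).mem_img.1
        ((StronglyClosed.img_eq hAsc ha inf_le_left).ge hv)
      rw [← hiso.right w hw, ← ha.map_mul hv₀.1 (hUR (hiso.mem' w hw)),
        ← ha.map_mul (hUR (hiso.mem' w hw)) hv₀.1, h v₀ hv₀ _ (hiso.mem' w hw)]
    exact commute_of_closed hS hL.gen.1 hTsc hAc hL.zfix hL.perfect t ht x (hUR hx)
  have hB : Pairwise' F p := by
    rintro ⟨U, C⟩ ⟨W, C'⟩ hC hC' hne a ha b hb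
    by_cases hFC : F.IsSubsystemOf C
    · exact absurd (self_component_eq hS hC hFC hC').symm hne
    by_cases hFC' : F.IsSubsystemOf C'
    · exact absurd (self_component_eq hS hC' hFC' hC) hne
    obtain ⟨R, L', hL', -, -⟩ := hclo hC' hFC'
    have hWR : W ≤ R := le_of_isSubsystemOf (hL'.gen.2.1 ⟨W, C'⟩ rfl)
    rcases hA U C hC R L' hL'.gen.1 with h | h
    · exact hL'.pair ⟨U, C⟩ ⟨W, C'⟩ ⟨h, hC.2⟩
        ⟨subnormal_of_le hS hC' hL'.gen.1 hWR, hC'.2⟩ hne a ha b hb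
    · exact (h b (hWR hb) a ha).symm
  refine ⟨hA, hB, fun hgen U C hC => ?_⟩
  by_cases hFC : F.IsSubsystemOf C
  · cases sys_ext (sub_of_subnormal hC.1) hFC
    exact isNormalIn_self hS hF
  have hnone : ∀ {W : Subgroup Ω} {C' : FusionSystem W}, C'.IsComponentIn F p →
      ¬ F.IsSubsystemOf C' := by
    intro W C' hC' h
    cases self_component_eq hS hC' h hC
    exact hFC h
  let O : Sys Ω → Prop := fun X => ∃ Y : Sys Ω, Y.2.IsComponentIn F p ∧ Closure F p Y.2 X.2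
  obtain ⟨R₀, L₀, hL₀, -, -⟩ := hclo hC hFC
  obtain ⟨W, Q, hQ, -, hQsub, -, hQn⟩ := exists_product_set (F := F) hS (O := O)
    ⟨⟨R₀, L₀⟩, ⟨U, C⟩, hC, hL₀⟩
    (fun X ⟨Y, hY, hX⟩ => ⟨hX.gen.1, hX.zfix⟩)
    (by
      rintro ⟨R, L⟩ ⟨R', L'⟩ ⟨⟨U₁, C₁⟩, hC₁, hX⟩ ⟨⟨U₂, C₂⟩, hC₂, hX'⟩ hne a ha b hb
      refine (hX'.spanned (centralizer (R : Set Ω)) (fun Y hY y hy r hr => ?_) hb a ha)
      rcases hA Y.1 Y.2 hY.1 R L hX.gen.1 with h | h
      · exact absurd (closure_orbit hS hX' hC₂ hY hX hC₁ (le_of_subnormal h)) hne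
      · exact h r hr y hy)
  have hFQ : F.IsSubsystemOf Q := hgen W Q hQ fun Y hY => by
    obtain ⟨R, L, hL, -, -⟩ := hclo hY (hnone hY)
    exact sub_trans (hL.gen.2.1 Y rfl) (hQsub ⟨R, L⟩ ⟨Y, hY, hL⟩)
  cases sys_ext hFQ (sub_of_normal hQ)
  exact hQn ⟨R₀, L₀⟩ ⟨⟨U, C⟩, hC, hL₀⟩ U C hL₀.normal

/-- A component is subnormal in a normal subsystem or commutes with its subgroup. -/
theorem dichotomy (hS : IsPGroup p S) (hC : C.IsComponentIn F p) (hD : E.IsNormalIn F p) :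
    C.IsSubnormalIn E p ∨ ∀ t ∈ T, ∀ x ∈ U, t * x = x * t :=
  (main_aux (mapCount F) F hS hD.1.2.1 le_rfl).1 U C hC T E hD

theorem components_commute (hS : IsPGroup p S) (hF : F.IsSaturated p) {X Y : Sys Ω}
    (hX : X.2.IsComponentIn F p) (hY : Y.2.IsComponentIn F p) (hne : X ≠ Y) :
    ∀ a ∈ X.1, ∀ b ∈ Y.1, a * b = b * a :=
  (main_aux (mapCount F) F hS hF le_rfl).2.1 X Y hX hY hne

/-- The layer exists. -/
theorem exists_layer (hS : IsPGroup p S) (hF : F.IsSaturated p) :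
    ∃ (T : Subgroup Ω) (E : FusionSystem T), E.IsLayerOf F p := by
  obtain ⟨T, E, hn, hsub, hmin⟩ := exists_gen hS hF (O := fun X => X.2.IsComponentIn F p)
    fun _ h => h
  exact ⟨T, E, hn, fun U C hC => hsub ⟨U, C⟩ hC,
    fun R D hD h => hmin R D hD fun X hX => h X.1 X.2 hX⟩

theorem invariant_components (hS : IsPGroup p S) (hT : F.StronglyClosed T) :
    IsInvariantFamily F T fun X => X.2.IsComponentIn F p ∧ X.1 ≤ T := by
  rintro a c ha hc X ⟨hX, hXT⟩ P f hf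
  obtain ⟨W, Z, k', hiso, hZn⟩ := exists_subnormal_image hX.1 (ha.mono hXT)
  have hUS := le_of_component hX
  haveI := finite_of_le hUS
  refine ⟨⟨W, Z⟩, ⟨⟨hZn, isQuasisimple_transport (hS.to_le hUS) hiso hX.2⟩, fun y hy => ?_⟩, ?_⟩
  · rw [← hiso.right y hy]
    exact StronglyClosed.apply_mem hT ha (hXT (hiso.mem' y hy)) (hXT (hiso.mem' y hy))
  · have hi : IsIso X.2 Z a c := isIso_congr hiso (fun _ _ => rfl) fun z hz => by
      conv_rhs => rw [← hiso.right z hz]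
      exact (hc _ (hXT (hiso.mem' z hz))).symm
    exact hi.map P f hf

/-- Components are normal in the layer. -/
theorem component_normal_layer (hS : IsPGroup p S) (hF : F.IsSaturated p) (hE : E.IsLayerOf F p)
    (hC : C.IsComponentIn F p) : C.IsNormalIn E p := by
  obtain ⟨hn, hsub, hmin⟩ := hE
  have hTsc : F.StronglyClosed T := hn.1.2.2.2.1
  haveI := finite_of_le hTsc.1
  have hTp : IsPGroup p T := hS.to_le hTsc.1
  have hle : ∀ {W : Subgroup Ω} {D : FusionSystem W}, D.IsComponentIn F p → W ≤ T :=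
    fun h => le_of_isSubsystemOf (hsub _ _ h)
  let O : Sys Ω → Prop := fun X => X.2.IsComponentIn F p ∧ X.1 ≤ T
  have hO : ∀ X, O X → X.2.IsComponentIn E p := fun X hX =>
    ⟨subnormal_of_le hS hX.1 hn hX.2, hX.1.2⟩
  have hgenO : IsGen F p O E := ⟨hn, fun X hX => sub_of_subnormal (hO X hX).1,
    fun R D hD h => hmin R D hD fun W D' hD' => h ⟨W, D'⟩ ⟨hD', hle hD'⟩⟩
  obtain ⟨T', E', hE'⟩ := exists_gen hTp hn.1.1 hO
  have hsubE : E.IsSubsystemOf E' :=
    gen_self hS (fun X hX => hX.1) hgenO (invariant_components hS hTsc) hE'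
  exact (main_aux (mapCount E) E hTp hn.1.1 le_rfl).2.2
    (fun R D hD hall => sub_trans hsubE (hE'.2.2 R D hD fun X hX => hall X (hO X hX)))
    U C (hO ⟨U, C⟩ ⟨hC, hle hC⟩)

end CfsgLib.Comp.Lay
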