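import Cfsg.Agent.Lib.Comp.FusionFocal

/-!
The maps of a normal subsystem over `T` centralize the focal subgroup of `C_F(T)`.
-/

set_option autoImplicit false
set_option linter.unusedVariables false
set_option linter.unusedSectionVars false

namespace CfsgLib.Comp.Fus

open Cfsg Cfsg.FusionSystem Subgroup CfsgLib.Fusion

variable {Ω : Type*} [Group Ω] {S T : Subgroup Ω} {F : FusionSystem S} {E : FusionSystem T}

/-- The maps of `E` that extend to maps fixing `Y`. -/
noncomputable def fixSys (E : FusionSystem T) (F : FusionSystem S) (Y : Subgroup Ω) (hY : Y ≤ S)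
    (hT : T ≤ centralizerIn S Y) : FusionSystem T where
  Hom P := {φ | φ ∈ E.Hom P ∧ φ ∈ (centralizerSys F Y hY).Hom P}
  le_of_mem h := E.le_of_mem h.1
  injective_of_mem h := E.injective_of_mem h.1
  conj_mem hP hg := ⟨E.conj_mem hP hg, (centralizerSys F Y hY).conj_mem (hP.trans hT) (hT hg)⟩
  comp_mem hφ hψ h := ⟨E.comp_mem hφ.1 hψ.1 h, (centralizerSys F Y hY).comp_mem hφ.2 hψ.2 h⟩
  inv_mem {P φ} hφ := by
    obtain ⟨ψ, hψ, hψx⟩ := E.inv_mem hφ.1
    obtain ⟨ψ', hψ', hψ'x⟩ := (centralizerSys F Y hY).inv_mem hφ.2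
    have e : ψ = ψ' := MonoidHom.ext fun y => by
      obtain ⟨_, x, rfl⟩ := y
      exact (hψx x).trans (hψ'x x).symm
    exact ⟨ψ, ⟨hψ, e ▸ hψ'⟩, hψx⟩

theorem mem_fixSys_autGroup {Y : Subgroup Ω} {hY : Y ≤ S} {hT : T ≤ centralizerIn S Y}
    {R : Subgroup Ω} (hR : R ≤ T) {α : MulAut R} (hα : α ∈ E.autGroup R) {g : Ω → Ω}
    (hg : IsMap F (R ⊔ Y) g) (hgx : ∀ x : R, g x = ((α x : R) : Ω))
    (hgY : ∀ y ∈ Y, g y = y) : α ∈ (fixSys E F Y hY hT).autGroup R := by
  refine (autGroup_mem_iff hR).2 ⟨(autGroup_mem_iff hR).1 hα,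
    (mem_centralizerHom_iff (f := g) fun x => (hgx x).symm).2
      ⟨hR.trans hT, fun x hx => ?_, g, hg, fun _ _ => rfl, hgY⟩⟩
  rw [hgx ⟨x, hx⟩]
  exact hT (hR (α _).2)

section Main

variable {p : ℕ} [Fact p.Prime] [Finite S] (hS : IsPGroup p S) (hF : F.IsSaturated p)
  (hE : E.IsNormalIn F p)

include hS hF hE

/-- The focal subgroup of `C_F(T)` is carried into that of `C_F(Q)` by a map of a subgroup of `T`
onto `Q`, defined on the centralizer as well. -/
theorem apply_mem_focal {R N Q : Subgroup Ω} {ψ : Ω → Ω} (hT : T ≤ S) (hRT : R ≤ T)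
    (hψ : IsMap F N ψ) (hRN : R ≤ N) (hCN : centralizerIn S R ≤ N) (hQ : img R ψ = Q)
    (hQS : Q ≤ S) {y : Ω} (hy : y ∈ (centralizerSys F T hT).focalSubgroup) :
    y ∈ centralizerIn S T ∧ ψ y ∈ (centralizerSys F Q hQS).focalSubgroup := by
  have hCTR : centralizerIn S T ≤ centralizerIn S R :=
    inf_le_inf_left S (Subgroup.centralizer_le hRT)
  induction hy using Subgroup.closure_induction with
  | mem z hz =>
    obtain ⟨P, φ, x, hφ, rfl⟩ := hz
    obtain ⟨hP, hv, h, hh, hhx, hhT⟩ :=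
      (isMap_centralizerSystem_iff (isCentralizerSystem_centralizerSys F T hT)).1 (isMap_of_hom hφ)
    have hPN : P ≤ N := hP.trans (hCTR.trans hCN)
    have hPR : P ⊔ R ≤ N := sup_le hPN hRN
    have hm : IsMap F (P ⊔ R) ψ := hψ.mono hPR
    obtain ⟨k, hk, hkx, hky, -⟩ := hm.exists_inv
    have hh' : IsMap F (P ⊔ R) h := hh.mono (sup_le_sup_left hRT P)
    have hhN : ∀ z ∈ P ⊔ R, h z ∈ N := fun z hz => by
      refine hh'.img_sup_le le_sup_left le_sup_right ?_ ?_ (hh'.apply_mem_img hz)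
      · intro w hw
        obtain ⟨u, hu, rfl⟩ := (hh'.mono le_sup_left).mem_img.1 hw
        rw [hhx u hu]
        exact hCN (hCTR (hv u hu))
      · intro w hw
        obtain ⟨u, hu, rfl⟩ := (hh'.mono le_sup_right).mem_img.1 hw
        rw [hhT u (hRT hu)]
        exact hRN hu
    have hcomp : IsMap F (img (P ⊔ R) ψ) (fun w => ψ (h (k w))) :=
      (hk.comp hh' fun w hw => (hky w hw).1).comp hψ fun w hw => hhN _ (hky w hw).1
    have hle : img P ψ ⊔ Q ≤ img (P ⊔ R) ψ :=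
      sup_le (img_mono le_sup_left) (hQ ▸ img_mono le_sup_right)
    have hP' : ∀ u ∈ centralizerIn S T, ψ u ∈ centralizerIn S Q := fun u hu => by
      have := hψ.apply_mem_centralizerIn hRN (hCN (hCTR hu)) (hCTR hu).2
      rwa [hQ] at this
    have hg : IsMap (centralizerSys F Q hQS) (img P ψ) (fun w => ψ (h (k w))) := by
      refine (isMap_centralizerSystem_iff (isCentralizerSystem_centralizerSys F Q hQS)).2
        ⟨fun w hw => ?_, fun w hw => ?_, _, hcomp.mono hle, fun _ _ => rfl, fun w hw => ?_⟩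
      · obtain ⟨u, hu, rfl⟩ := (hψ.mono hPN).mem_img.1 hw
        exact hP' u (hP hu)
      · obtain ⟨u, hu, rfl⟩ := (hψ.mono hPN).mem_img.1 hw
        show ψ (h (k (ψ u))) ∈ _
        rw [hkx u (mem_sup_left hu), hhx u hu]
        exact hP' _ (hv u hu)
      · obtain ⟨u, hu, rfl⟩ := (hψ.mono hRN).mem_img.1 (hQ.symm ▸ hw)
        show ψ (h (k (ψ u))) = ψ u
        rw [hkx u (mem_sup_right hu), hhT u (hRT hu)]
    have hφv : φ x = toFun φ (x : Ω) := (toFun_apply φ x).symm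
    have hxT : (x : Ω) ∈ centralizerIn S T := hP x.2
    have hφT : φ x ∈ centralizerIn S T := hφv ▸ hv x x.2
    refine ⟨mul_mem (inv_mem hxT) hφT, Subgroup.subset_closure ⟨img P ψ, hg.toHom,
      ⟨ψ x, (hψ.mono hPN).apply_mem_img x.2⟩, hg.toHom_mem, ?_⟩⟩
    show ψ ((x : Ω)⁻¹ * φ x) = (ψ x)⁻¹ * ψ (h (k (ψ x)))
    rw [hψ.map_mul (N.inv_mem (hPN x.2)) (hCN (hCTR hφT)), hψ.map_inv (hPN x.2),
      hkx _ (mem_sup_left x.2), hhx _ x.2, hφv]
  | one => exact ⟨one_mem _, by rw [hψ.map_one]; exact one_mem _⟩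
  | mul a c _ _ ha hc =>
    exact ⟨mul_mem ha.1 hc.1, by
      rw [hψ.map_mul (hCN (hCTR ha.1)) (hCN (hCTR hc.1))]; exact mul_mem ha.2 hc.2⟩
  | inv a _ ha =>
    exact ⟨inv_mem ha.1, by rw [hψ.map_inv (hCN (hCTR ha.1))]; exact inv_mem ha.2⟩

/-- Automorphisms of coprime order in the group generated by the `p`-elements of `Aut_E(R)` are
restrictions of maps fixing the focal subgroup of `C_F(T)`. -/
theorem exists_fix_of_pGen {R : Subgroup Ω} (hT : T ≤ S) (hR : E.IsCentric R)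
    {α : E.autGroup R} (hα : α ∈ pGenAut E p R) (hcop : (orderOf α).Coprime p) :
    ∃ g, IsMap F (R ⊔ (centralizerSys F T hT).focalSubgroup) g ∧
      (∀ x : R, g x = (((α : MulAut R) x : R) : Ω)) ∧
      ∀ y ∈ (centralizerSys F T hT).focalSubgroup, g y = y := by
  obtain ⟨⟨hEsat, -, hinv⟩, -⟩ := id hE
  obtain ⟨hsub, hsc, -, hfrat⟩ := id hinv
  haveI := finite_of_le hT
  have hTp : IsPGroup p T := hS.to_le hT
  have hRT := hR.1
  have hRS : R ≤ S := hRT.trans hT
  haveI := finite_of_le hRS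
  obtain ⟨Q, hconj, hQn⟩ := exists_fullyNormalized_conj F hRS
  obtain ⟨ψ, hψ, hψi, -⟩ := exists_map_normalizerIn_of_fullyNormalized hS hF hQn hconj
  set N := normalizerIn S R
  have hRN : R ≤ N := le_normalizerIn hRS
  have hCN : centralizerIn S R ≤ N := centralizerIn_le_normalizerIn
  have hψR := hψ.mono hRN
  have hQT : Q ≤ T := hψi ▸ fun z hz => by
    obtain ⟨u, hu, rfl⟩ := hψR.mem_img.1 hz
    exact StronglyClosed.apply_mem hsc hψR hu (hRT hu)
  have hQS : Q ≤ S := hQn.1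
  haveI := finite_of_le hQS
  -- `ψ` on `R` is an automorphism of `T` after a map of `E`
  obtain ⟨a, ha, φ₀, hφ₀, hax⟩ := hfrat R hRT hψR.toHom hψR.toHom_mem
  have he : IsMap E R (toFun φ₀) := isMap_of_hom hφ₀
  have hψe : ∀ x ∈ R, ψ x = autFun a (toFun φ₀ x) := fun x hx => by
    have hm : φ₀ ⟨x, hx⟩ ∈ T := toFun_of_mem φ₀ hx ▸ he.mem hx
    rw [toFun_of_mem φ₀ hx, autFun_apply a hm]
    exact hax ⟨x, hx⟩ hm
  have ham : IsMap F T (autFun a) := isMap_autFun hT ha
  set R₁ := img R (toFun φ₀) with hR₁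
  have hQimg : Q = img R₁ (autFun a) := by
    rw [← hψi]
    ext z
    rw [hψR.mem_img, mem_img_autFun ham he.img_le]
    constructor
    · rintro ⟨x, hx, rfl⟩
      exact ⟨_, he.apply_mem_img hx, (hψe x hx).symm⟩
    · rintro ⟨w, hw, rfl⟩
      obtain ⟨x, hx, rfl⟩ := he.mem_img.1 hw
      exact ⟨x, hx, hψe x hx⟩
  have hQE : E.IsCentric Q := by
    refine centric_of_fullyCentralized hTp hEsat (fullyCentralized_of_fullyNormalized hTp hEsat
      (fullyNormalized_subsystem hS hF hsc hsub hQT hQn)) fun c hc => ?_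
    set d := autFun a⁻¹ c
    have hd : d ∈ T := autFun_mem _ hc.1
    have had : autFun a d = c := autFun_apply_inv a hc.1
    have hdR : d ∈ centralizerIn T R₁ := by
      refine ⟨hd, fun r hr => ham.inj (T.mul_mem (he.img_le hr) hd) (T.mul_mem hd (he.img_le hr)) ?_⟩
      rw [ham.map_mul (he.img_le hr) hd, ham.map_mul hd (he.img_le hr), had]
      exact hc.2 _ (hQimg ▸ (ham.mono he.img_le).apply_mem_img hr)
    rw [hQimg, ← had]
    exact (ham.mono he.img_le).apply_mem_img (hR.2 R₁ he.isConj hdR)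
  -- conjugation of `Aut_E(R)` by `ψ`
  set Θ : MulAut R ≃* MulAut Q :=
    MulAut.congr (hψR.equivImg.trans (MulEquiv.subgroupCongr hψi)) with hΘdef
  have hval : ∀ x : R, ((hψR.equivImg.trans (MulEquiv.subgroupCongr hψi)) x : Ω) = ψ x :=
    fun x => rfl
  have hΘ : ∀ (β : MulAut R) (x : R) (hx : ψ x ∈ Q),
      ((Θ β ⟨ψ x, hx⟩ : Q) : Ω) = ψ ((β x : R) : Ω) := by
    intro β x hx
    have e : (⟨ψ x, hx⟩ : Q) = (hψR.equivImg.trans (MulEquiv.subgroupCongr hψi)) x :=
      Subtype.ext (hval x).symm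
    rw [e, hΘdef]
    simp only [MulAut.congr, MulEquiv.coe_mk, Equiv.coe_fn_mk, MulEquiv.trans_apply,
      MulEquiv.symm_trans_apply, MulEquiv.symm_apply_apply]
    exact hval (β x)
  have hmem : ∀ β ∈ E.autGroup R, Θ β ∈ E.autGroup Q := by
    intro β hβ
    have hm := isMap_of_autGroup hRT hβ
    have hmR : ∀ x ∈ R, toFun (R.subtype.comp β.toMonoidHom) x ∈ R := fun x hx => by
      rw [toFun_aut_apply _ hx]; exact (β _).2
    obtain ⟨k, hk, hkx, hky, -⟩ := he.exists_inv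
    obtain ⟨g, hg, hgx⟩ := IsInvariantIn.transport hinv ha ((hk.comp hm fun w hw => (hky w hw).1).comp he
      fun w hw => hmR _ (hky w hw).1)
    rw [← hR₁, ← hQimg] at hg
    refine (autGroup_iff_isMap hQT fun z => ?_).2 hg
    obtain ⟨w, hw, hwz⟩ := hψR.mem_img.1 (hψi.symm ▸ z.2 : (z : Ω) ∈ img R ψ)
    have e : z = ⟨ψ w, hwz.symm ▸ z.2⟩ := Subtype.ext hwz.symm
    rw [e, hΘ β ⟨w, hw⟩]
    show _ = g (ψ w)
    rw [hψe w hw, hgx _ (he.apply_mem_img hw), hkx w hw, toFun_aut_apply _ hw,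
      hψe _ (β ⟨w, hw⟩).2]
  let Θ' : E.autGroup R →* E.autGroup Q :=
    (Θ.toMonoidHom.comp (E.autGroup R).subtype).codRestrict _ fun β => hmem β β.2
  have hΘ'inj : Function.Injective Θ' := fun β γ h =>
    Subtype.ext (Θ.injective (congrArg Subtype.val h))
  have hgen : pGenAut E p R ≤ (pGenAut E p Q).comap Θ' := by
    refine (Subgroup.closure_le _).2 fun β hβ => Subgroup.subset_closure ?_
    obtain ⟨i, hi⟩ := hβ
    exact ⟨i, by rw [orderOf_injective Θ' hΘ'inj, hi]⟩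
  obtain ⟨g₀, hg₀, hg₀x, hg₀z⟩ :=
    exists_ext_of_pGen hS hF hsc hsub hEsat hQn hQE (Θ' α) (hgen hα)
  set C := centralizerIn S Q
  set Z := Q ⊓ centralizer (Q : Set Ω)
  have hZC : Z ≤ C := fun z hz => ⟨hQS hz.1, hz.2⟩
  have hg₀W : ∀ x ∈ Q ⊔ C, g₀ x ∈ Q ⊔ C := fun x hx => by
    refine hg₀.img_sup_le le_sup_left le_sup_right ?_ ?_ (hg₀.apply_mem_img hx)
    · intro z hz
      obtain ⟨w, hw, rfl⟩ := (hg₀.mono le_sup_left).mem_img.1 hz
      rw [hg₀x ⟨w, hw⟩]
      exact mem_sup_left (Subtype.mem _)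
    · intro z hz
      obtain ⟨w, hw, rfl⟩ := (hg₀.mono le_sup_right).mem_img.1 hz
      exact mem_sup_right (by simpa using C.mul_mem hw (hZC (hg₀z w hw)))
  have hord : (orderOf (Θ' α : MulAut Q)).Coprime p := by
    rwa [Subgroup.orderOf_coe, orderOf_injective Θ' hΘ'inj]
  obtain ⟨i, n, hn, hix, hper⟩ := exists_coprime_power hg₀ hg₀W le_sup_left hord hg₀x
  set g := g₀^[i]
  have hg : IsMap F (Q ⊔ C) g := isMap_iterate hg₀ hg₀W i
  have hgW : ∀ x ∈ Q ⊔ C, g x ∈ Q ⊔ C := fun x hx => iterate_mem hg₀W i hx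
  have hfix := fixes_focal_centralizer hS hF (fullyCentralized_of_fullyNormalized hS hF hQn) hg
    (fun x hx => by rw [hix ⟨x, hx⟩]; exact Subtype.mem _)
    (iterate_trivial_mod hg₀ le_sup_right hZC hg₀z i) hn hper
  -- pull back
  set Y := (centralizerSys F T hT).focalSubgroup
  have hY : ∀ y ∈ Y, y ∈ centralizerIn S R ∧ ψ y ∈ (centralizerSys F Q hQS).focalSubgroup :=
    fun y hy => by
      obtain ⟨h1, h2⟩ := apply_mem_focal hS hF hE hT hRT hψ hRN hCN hψi hQS hy
      exact ⟨inf_le_inf_left S (Subgroup.centralizer_le hRT) h1, h2⟩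
  have hRY : R ⊔ Y ≤ N := sup_le hRN fun y hy => hCN (hY y hy).1
  have hm : IsMap F (R ⊔ Y) ψ := hψ.mono hRY
  obtain ⟨k, hk, hkx, -, -⟩ := hm.exists_inv
  have hin : ∀ x ∈ R ⊔ Y, ψ x ∈ Q ⊔ C := fun x hx => by
    refine hm.img_sup_le le_sup_left le_sup_right ?_ ?_ (hm.apply_mem_img hx)
    · rw [hψi]; exact le_sup_left
    · intro z hz
      obtain ⟨w, hw, rfl⟩ := (hm.mono le_sup_right).mem_img.1 hz
      have := hψ.apply_mem_centralizerIn hRN (hCN (hY w hw).1) (hY w hw).1.2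
      rw [hψi] at this
      exact mem_sup_right this
  have hgψR : ∀ x : R, g (ψ x) = ψ (((α : MulAut R) x : R) : Ω) := fun x => by
    have hx : ψ x ∈ Q := hψi ▸ hψR.apply_mem_img x.2
    rw [hix ⟨ψ x, hx⟩]
    exact hΘ (α : MulAut R) x hx
  have hgψY : ∀ y ∈ Y, g (ψ y) = ψ y := fun y hy => hfix _ (hY y hy).2
  have hcomp : IsMap F (R ⊔ Y) (fun x => g (ψ x)) := hm.comp hg hin
  have hout : ∀ x ∈ R ⊔ Y, g (ψ x) ∈ img (R ⊔ Y) ψ := fun x hx => by
    refine hcomp.img_sup_le le_sup_left le_sup_right ?_ ?_ (hcomp.apply_mem_img hx)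
    · intro z hz
      obtain ⟨w, hw, rfl⟩ := (hcomp.mono le_sup_left).mem_img.1 hz
      show g (ψ w) ∈ _
      rw [hgψR ⟨w, hw⟩]
      exact hm.apply_mem_img (mem_sup_left (Subtype.mem _))
    · intro z hz
      obtain ⟨w, hw, rfl⟩ := (hcomp.mono le_sup_right).mem_img.1 hz
      show g (ψ w) ∈ _
      rw [hgψY w hw]
      exact hm.apply_mem_img (mem_sup_right hw)
  refine ⟨fun x => k (g (ψ x)), hcomp.comp hk hout, fun x => ?_, fun y hy => ?_⟩
  · show k (g (ψ x)) = _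
    rw [hgψR, hkx _ (mem_sup_left (Subtype.mem _))]
  · show k (g (ψ y)) = y
    rw [hgψY y hy, hkx _ (mem_sup_right hy)]

/-- A normal subsystem over `T` centralizes the focal subgroup of `C_F(T)`. -/
theorem le_fixSys_focal (hT : T ≤ S) (hY : (centralizerSys F T hT).focalSubgroup ≤ S)
    (hTY : T ≤ centralizerIn S (centralizerSys F T hT).focalSubgroup) :
    E ≤ fixSys E F (centralizerSys F T hT).focalSubgroup hY hTY := by
  obtain ⟨⟨hEsat, -, hinv⟩, hext⟩ := id hE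
  obtain ⟨hsub, hsc, -, -⟩ := id hinv
  haveI := finite_of_le hT
  have hTp : IsPGroup p T := hS.to_le hT
  set Y := (centralizerSys F T hT).focalSubgroup
  set D₀ := fixSys E F Y hY hTY
  suffices key : ∀ m, ∀ R, E.IsFullyNormalized R → Nat.card T - Nat.card R = m →
      E.autGroup R ≤ D₀.autGroup R from
    alperin hTp hEsat fun R hR => by
      rcases hR with rfl | hR
      · exact key _ _ (fullyNormalized_top E) rfl
      · exact key _ R hR.2.1 rfl
  intro m
  induction m using Nat.strong_induction_on with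
  | _ m ih =>
  intro R hR hm
  have hRT := hR.1
  haveI := finite_of_le hRT
  obtain ⟨W, hW⟩ := (fullyAutomized_of_fullyNormalized hTp hEsat hR).2
  rcases eq_or_lt_of_le hRT with rfl | hlt
  · -- the top
    refine Subgroup.subgroupOf_eq_top.1 (eq_top_of_sylow_le W ?_ fun x hx => ?_)
    · rw [hW]
      exact Subgroup.comap_mono (autInducedBy_le_autGroup le_rfl)
    obtain ⟨β, hβ, hβx, hβz⟩ := hext (x : MulAut R) x.2
    have hW' : R ⊔ centralizerIn S R ≤ S := sup_le hT inf_le_left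
    set g₀ := toFun ((R ⊔ centralizerIn S R).subtype.comp β.toMonoidHom) with hg₀def
    have hg₀ : IsMap F (R ⊔ centralizerIn S R) g₀ := isMap_of_autGroup hW' hβ
    have hg₀W : ∀ z ∈ R ⊔ centralizerIn S R, g₀ z ∈ R ⊔ centralizerIn S R := fun z hz => by
      rw [hg₀def, toFun_aut_apply _ hz]; exact Subtype.mem _
    have hg₀x : ∀ z : R, g₀ z = (((x : MulAut R) z : R) : Ω) := fun z => by
      rw [hg₀def, toFun_aut_apply _ (mem_sup_left z.2)]
      exact hβx z
    have hg₀z : ∀ c ∈ centralizerIn S R, c⁻¹ * g₀ c ∈ R ⊓ centralizer (R : Set Ω) := fun c hc => by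
      rw [hg₀def, toFun_aut_apply _ (mem_sup_right hc)]
      exact hβz ⟨c, mem_sup_right hc⟩ hc
    have hord : (orderOf (x : MulAut R)).Coprime p := by rwa [Subgroup.orderOf_coe]
    obtain ⟨i, n, hn, hix, hper⟩ := exists_coprime_power hg₀ hg₀W le_sup_left hord hg₀x
    have hfc : F.IsFullyCentralized R := by
      refine ⟨hT, fun Q hQ => ?_⟩
      obtain ⟨f, hf, hi⟩ := isConj_iff.1 hQ
      rw [StronglyClosed.img_eq hsc hf le_rfl] at hi
      subst hi
      rfl
    have hfix := fixes_focal_centralizer hS hF hfc (isMap_iterate hg₀ hg₀W i)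
      (fun z hz => by rw [hix ⟨z, hz⟩]; exact Subtype.mem _)
      (iterate_trivial_mod (Z := R ⊓ centralizer (R : Set Ω)) (C := centralizerIn S R) hg₀ le_sup_right
        (fun z hz => ⟨hT hz.1, hz.2⟩) hg₀z i) hn hper
    exact mem_fixSys_autGroup le_rfl x.2 ((isMap_iterate hg₀ hg₀W i).mono
      (sup_le_sup_left (show Y ≤ centralizerIn S R from
        (Subgroup.closure_le _).2 fun z hz => by
          obtain ⟨P, φ, u, hφ, rfl⟩ := hz
          exact mul_mem (inv_mem (hφ.2.1 u.2)) (hφ.2.2.1 u)) R)) hix hfix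
  have hlarge : ∀ {M : Subgroup Ω} {f : Ω → Ω}, IsMap E M f → Nat.card R < Nat.card M →
      IsMap D₀ M f := fun {M f} hf hc =>
    isMap_of_large_automizers hTp hEsat (fun U hU hRU => ih _ (by
      have := Subgroup.card_le_of_le hU.1
      omega) U hU rfl) hf hc
  have hextD : ∀ α : MulAut R, IsExtendable E R α → α ∈ D₀.autGroup R := by
    rintro α ⟨R', hR', g, hg, hgx⟩
    haveI := finite_of_le hg.le
    exact (autGroup_iff_isMap hRT fun x => (hgx x).symm).2 ((hlarge hg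
      (lt_of_not_ge fun h => hR'.ne (eq_of_le_of_card_le hR'.le h))).mono hR'.le)
  by_cases hc : E.IsCentric R
  swap
  · rw [← extAut_eq_of_not_centric hTp hEsat hR hc]
    exact (Subgroup.closure_le _).2 hextD
  set A := pGenAut E p R with hA
  set L := (D₀.autGroup R).subgroupOf (E.autGroup R) with hL
  have hWA : (W : Subgroup (E.autGroup R)) ≤ A := fun w hw => by
    obtain ⟨i, hi⟩ := IsPGroup.iff_orderOf.1 W.isPGroup' ⟨w, hw⟩
    exact Subgroup.subset_closure ⟨i, by rwa [← Subgroup.orderOf_coe] at hi⟩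
  have hWL : (W : Subgroup (E.autGroup R)) ≤ L := by
    rw [hW]
    exact Subgroup.comap_mono (autInducedBy_le_autGroup hRT)
  obtain ⟨V, hV⟩ := CfsgLib.Transfer.exists_sylow_eq_subgroupOf W A
  have hAL : A ≤ L := by
    refine Subgroup.subgroupOf_eq_top.1 (eq_top_of_sylow_le V ?_ fun a ha => ?_)
    · rw [hV]
      exact Subgroup.comap_mono hWL
    · obtain ⟨g, hg, hgx, hgY⟩ := exists_fix_of_pGen hS hF hE hT hc (α := (a : E.autGroup R)) a.2
        (by rwa [Subgroup.orderOf_coe])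
      exact mem_fixSys_autGroup hRT a.1.2 hg hgx hgY
  have hsup := V.normalizer_sup_eq_top
  rw [hV, Subgroup.subgroupOf_map_subtype, inf_eq_left.2 hWA] at hsup
  refine Subgroup.subgroupOf_eq_top.1 (top_le_iff.1 (hsup.ge.trans (sup_le (fun ν hν => ?_) hAL)))
  obtain ⟨u, hu, huR⟩ := SetLike.exists_of_lt (lt_normalizerIn hTp hlt)
  set c : E.autGroup R := ⟨R.normalizerMonoidHom ⟨u, hu.2⟩, autInducedBy_le_autGroup hRT
    (mem_autInducedBy_iff.2 ⟨u, hu.1, fun x => rfl⟩)⟩ with hcdef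
  have hcW : c ∈ (W : Subgroup (E.autGroup R)) := by
    rw [hW]
    exact mem_autInducedBy_iff.2 ⟨u, hu.1, fun x => rfl⟩
  have h1 := (Subgroup.mem_normalizer_iff.1 hν c).1 hcW
  rw [hW] at h1
  obtain ⟨b, hb, hbx⟩ := mem_autInducedBy_iff.1 h1
  refine hextD _ (isExtendable_of_meet hTp hEsat (fullyCentralized_of_fullyNormalized hTp hEsat hR)
    ν.2 hu huR hb fun x => ?_)
  simp only [Subgroup.coe_subtype]
  rw [← hbx ((ν : MulAut R) x)]
  simp [hcdef]

theorem focalSubgroup_le_sSup (D : FusionSystem (centralizerIn S T))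
    (hD : F.IsCentralizerSystem T D) :
    D.focalSubgroup ≤ sSup {X : Subgroup Ω |
      X ≤ centralizerIn S T ∧ ∀ P : Subgroup Ω, E.Hom P ⊆ F.centralizerHom X P} := by
  obtain ⟨⟨hEsat, -, hinv⟩, -⟩ := id hE
  obtain ⟨hsub, hsc, -, -⟩ := id hinv
  have hT : T ≤ S := hsc.1
  have hfoc : D.focalSubgroup = (centralizerSys F T hT).focalSubgroup := by
    unfold FusionSystem.focalSubgroup
    simp only [hD _]
    rfl
  set Y := (centralizerSys F T hT).focalSubgroup
  have hYC : Y ≤ centralizerIn S T := (Subgroup.closure_le _).2 fun z hz => by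
    obtain ⟨P, φ, u, hφ, rfl⟩ := hz
    exact mul_mem (inv_mem (hφ.2.1 u.2)) (hφ.2.2.1 u)
  have hTY : T ≤ centralizerIn S Y :=
    le_inf hT fun t ht y hy => ((hYC hy).2 t ht).symm
  rw [hfoc]
  refine le_sSup ⟨hYC, fun P φ hφ => ?_⟩
  exact (le_fixSys_focal hS hF hE hT (hYC.trans inf_le_left) hTY P hφ).2

end Main

end CfsgLib.Comp.Fus
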