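import Cfsg.Agent.Lib.Comp.GeneralizedFitting
import Cfsg.Agent.Lib.Comp.LayerMain
import Cfsg.Agent.S5293

/-!
The generalized Fitting subsystem: its hyperfocal subgroup, and coprime automorphisms centralizing
its subgroup.
-/

set_option autoImplicit false
set_option linter.unusedVariables false
set_option linter.unusedSectionVars false
set_option linter.style.haveILetI false

universe u

namespace CfsgLib.Comp.EBal

open Cfsg Cfsg.FusionSystem Subgroup CfsgLib.Fusion CfsgLib.Comp.Fus CfsgLib.Comp.CProd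

variable {Ω : Type u} [Group Ω] {S T T₀ : Subgroup Ω} {F : FusionSystem S} {E : FusionSystem T}
  {E₀ : FusionSystem T₀} {p : ℕ} [Fact p.Prime] [Finite S]

/-- What is used of the generalized Fitting subsystem. -/
structure Ctx (F : FusionSystem S) (E : FusionSystem T) (p : ℕ) : Prop where
  pS : IsPGroup p S
  normal : E.IsNormalIn F p
  absorb : ∀ Y : Subgroup Ω, Y ≤ centralizerIn S T →
    (∀ P : Subgroup Ω, E.Hom P ⊆ F.centralizerHom Y P) → Y ≤ T

namespace Ctx

variable (hc : Ctx F E p)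

include hc

theorem sat : F.IsSaturated p := hc.normal.1.2.1

theorem closed : F.StronglyClosed T := hc.normal.1.2.2.2.1

theorem le : T ≤ S := hc.closed.1

end Ctx

theorem ctx_of_layer (hS : IsPGroup p S) (hF : F.IsSaturated p) (hE₀ : E₀.IsLayerOf F p) :
    Ctx F (prodSys (GFit.setup_core_layer hS hF hE₀)) p := by
  have hSet := GFit.setup_core_layer hS hF hE₀
  refine ⟨hS, hSet.isNormalIn, fun Y hY hYE => ?_⟩
  exact (GFit.le_center_of_centralized hS hF
    ⟨T₀, E₀, hE₀, hSet.isCentralProductOf⟩ hY hYE).trans (center_le _)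

/-- Automorphisms of order prime to `p` of the generalized Fitting subsystem are trivial modulo the
subgroup of the layer. -/
theorem hyperfocal_prod_le (hS : IsPGroup p S) (hF : F.IsSaturated p) (hE₀ : E₀.IsLayerOf F p) :
    (prodSys (GFit.setup_core_layer hS hF hE₀)).hyperfocalSubgroup p ≤ T₀ := by
  have hSet := GFit.setup_core_layer hS hF hE₀
  have hTsc : F.StronglyClosed T₀ := hE₀.1.1.2.2.2.1
  have hn : ∀ {s t : Ω}, s ∈ S → t ∈ T₀ → s * t * s⁻¹ ∈ T₀ := fun hs ht =>
    StronglyClosed.conj_mem hTsc hs ht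
  refine hyperfocal_le_of _ fun P hP α hα hcop => ?_
  have hPS : P ≤ S := hP.trans hSet.le_sup
  haveI := finite_of_le hPS
  obtain ⟨-, f₁, f₂, h₁, h₂, hfx⟩ := hSet.isMap_iff.1 (isMap_of_autGroup hP hα)
  obtain ⟨-, q, hq, hf₁⟩ := GFit.isMap_inner_iff.1 h₁
  have hqS : q ∈ S := core_le F hq
  have step : ∀ y : P, (q * (y : Ω) * q⁻¹)⁻¹ * ((α y : P) : Ω) ∈ T₀ := by
    intro y
    obtain ⟨a, ha, b, hb, hab⟩ := exists_split hSet.comm (hP y.2)
    have habP : a * b ∈ P := by rw [hab]; exact y.2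
    have e : ((α y : P) : Ω) = q * a * q⁻¹ * f₂ b := by
      rw [← toFun_aut_apply α y.2]
      simp only [← hab]
      rw [hfx a ha b hb habP, hf₁ a (part_mem_left hSet.comm hP ha hb habP)]
    have hb' : b ∈ part T₀ F.core P := by
      refine part_mem_left hSet.swap.comm (hP.trans (sup_comm F.core T₀).le) hb ha ?_
      rwa [← hSet.comm a ha b hb]
    rw [e, ← hab, show (q * (a * b) * q⁻¹)⁻¹ * (q * a * q⁻¹ * f₂ b) =
      q * b⁻¹ * q⁻¹ * f₂ b by group]
    exact T₀.mul_mem (hn hqS (T₀.inv_mem hb)) (h₂.mem hb')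
  have hpow : ∀ (m : ℕ) (y : P),
      (q ^ m * (y : Ω) * (q ^ m)⁻¹)⁻¹ * (((α ^ m) y : P) : Ω) ∈ T₀ := by
    intro m
    induction m with
    | zero => intro y; simp
    | succ m ih =>
      intro y
      set z := (α ^ m) y
      rw [show (α ^ (m + 1)) y = α z by rw [pow_succ', MulAut.mul_apply]]
      rw [show (q ^ (m + 1) * (y : Ω) * (q ^ (m + 1))⁻¹)⁻¹ * ((α z : P) : Ω) =
        (q * ((q ^ m * (y : Ω) * (q ^ m)⁻¹)⁻¹ * (z : Ω)) * q⁻¹) *
          ((q * (z : Ω) * q⁻¹)⁻¹ * ((α z : P) : Ω)) by rw [pow_succ']; group]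
      exact T₀.mul_mem (hn hqS (ih y)) (step z)
  obtain ⟨k, hk⟩ := hS ⟨q, hqS⟩
  have hk' : q ^ p ^ k = 1 := congrArg Subtype.val hk
  obtain ⟨m, hm0, hm1⟩ := Nat.chineseRemainder (hcop.pow_right k).symm 0 1
  intro x
  obtain ⟨c, rfl⟩ := Nat.modEq_zero_iff_dvd.1 hm0
  have h := hpow (p ^ k * c) x
  rw [pow_mul q, hk', one_pow, pow_eq_pow_iff_modEq.2 hm1, pow_one] at h
  simpa using h

/-- An automorphism of order prime to `p` of a subgroup of `C_S(T)` extending by the identity on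
`T` is trivial. -/
theorem eq_one_of_fix (hc : Ctx F E p) {P : Subgroup Ω} (hP : P ≤ centralizerIn S T)
    {β : MulAut P} (hcop : (orderOf β).Coprime p) {g : Ω → Ω} (hg : IsMap F (P ⊔ T) g)
    (hgx : ∀ x : P, g x = ((β x : P) : Ω)) (hgT : ∀ t ∈ T, g t = t) : β = 1 := by
  have hD := isCentralizerSystem_centralizerSys F T hc.le
  set D := centralizerSys F T hc.le
  have hm : IsMap D P (autFun β) := (isMap_centralizerSystem_iff hD).2
    ⟨hP, fun x hx => hP (autFun_mem β hx), g, hg,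
      fun x hx => (hgx ⟨x, hx⟩).trans (autFun_apply β hx).symm, hgT⟩
  have hβ : β ∈ D.autGroup P :=
    (autGroup_iff_isMap hP fun x => (autFun_apply β x.2).symm).2 hm
  haveI := finite_of_le (hP.trans inf_le_left)
  refine eq_one_of_fixes_sub (hc.pS.to_le (hP.trans inf_le_left)) hcop fun x => ?_
  have h1 := Cfsg.Agent.S5293.result p hc.pS F hc.sat E hc.normal _ rfl D hD
    (hyperfocal_le_focal D p (sub_mem_hyperfocal_of_coprime hP hβ hcop x))
  have h2 : (x : Ω)⁻¹ * ((β x : P) : Ω) ∈ T := sSup_le (fun X hX => hc.absorb X hX.1 hX.2) h1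
  refine Subtype.ext ?_
  rw [← hgx]
  push_cast
  exact hgT _ h2

end CfsgLib.Comp.EBal
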