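import Cfsg.Agent.Lib.Comp.EBalStep

/-!
Local values of the functor at a subgroup whose intersection with `T` is not centric.
-/

set_option autoImplicit false
set_option linter.unusedVariables false
set_option linter.unusedSectionVars false
set_option linter.style.haveILetI false

universe u

namespace CfsgLib.Comp.EBal.TopData

open Cfsg Cfsg.FusionSystem Subgroup CfsgLib.Fusion CfsgLib.Comp.Fus CfsgLib.Comp.CProd

variable {Ω : Type u} [Group Ω] {S T W : Subgroup Ω} {F : FusionSystem S}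
  {E : FusionSystem T} {p : ℕ} {D : TopData F E p} [Fact p.Prime] [Finite S] (hc : Ctx F E p)

include hc

theorem lt_of_not_le (hTW : ¬ T ≤ W) (hWS : W ≤ S) : W < S :=
  lt_of_le_of_ne hWS fun e => hTW (e ▸ hc.le)

omit hc in
theorem centric_sup_centralizerIn (hS : IsPGroup p S) (hF : F.IsSaturated p)
    (hW : F.IsFullyCentralized W) : F.IsCentric (W ⊔ centralizerIn S W) := by
  refine ⟨sup_le hW.1 inf_le_left, fun R hR => ?_⟩
  obtain ⟨f, hf, rfl⟩ := isConj_iff.1 hR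
  intro c hc
  have hfW := hf.mono (le_sup_left : W ≤ W ⊔ centralizerIn S W)
  obtain ⟨k, hk, hkx, hky, hki⟩ := hfW.exists_inv
  obtain ⟨h, hh, hhx⟩ :=
    receptive_extend_centralizer (receptive_of_fullyCentralized hS hF hW) hk hki
  have hhW : img (img W f) h = W := (img_congr hhx).trans hki
  have hdom : img (W ⊔ centralizerIn S W) f ≤ img W f ⊔ centralizerIn S (img W f) := by
    refine hf.img_sup_le le_sup_left le_sup_right le_sup_left ?_
    intro y hy
    obtain ⟨r, hr, rfl⟩ := (hf.mono le_sup_right).mem_img.1 hy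
    exact mem_sup_right (hf.apply_mem_centralizerIn le_sup_left (mem_sup_right hr) hr.2)
  have hcC : c ∈ centralizerIn S (img W f) :=
    ⟨hc.1, Subgroup.centralizer_le (img_mono le_sup_left) hc.2⟩
  have hcomp := hf.comp hh fun x hx => hdom (hf.apply_mem_img hx)
  have hcW : img W (fun x => h (f x)) = W := by
    rw [img_congr (g := id) fun w hw => (hhx _ (hfW.apply_mem_img hw)).trans (hkx w hw)]
    simp [img]
  haveI := finite_of_le (sup_le hW.1 inf_le_left : W ⊔ centralizerIn S W ≤ S)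
  have hst : ∀ x ∈ W ⊔ centralizerIn S W, h (f x) ∈ W ⊔ centralizerIn S W := fun x hx => by
    refine hcomp.img_sup_le le_sup_left le_sup_right (hcW.le.trans le_sup_left) ?_
      (hcomp.apply_mem_img hx)
    intro y hy
    obtain ⟨r, hr, rfl⟩ := (hcomp.mono le_sup_right).mem_img.1 hy
    have h1 := hcomp.apply_mem_centralizerIn le_sup_left (mem_sup_right hr) hr.2
    rw [hcW] at h1
    exact mem_sup_right h1
  have h1 := hh.apply_mem_centralizerIn le_sup_left (mem_sup_right hcC) hcC.2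
  rw [hhW] at h1
  obtain ⟨r, hr, e⟩ := hcomp.mem_img.1 ((img_eq_of_mapsTo hcomp hst).ge
    (mem_sup_right h1 : h c ∈ W ⊔ centralizerIn S W))
  exact hh.inj (hdom (hf.apply_mem_img hr)) (mem_sup_right hcC) e ▸ hf.apply_mem_img hr

/-- The values of the identity of a subgroup of `N_S(W)` over `W` come from `C_S(W)`. -/
theorem dX_mem (hW : InC F T W) (hWn : F.IsFullyNormalized W)
    (IH : ∀ P, InC F T P → Nat.card W < Nat.card P → D.Good P) (M : WModel F p W)
    {X : Subgroup Ω} (hWX : W < X) (hX : X ≤ normalizerIn S W) {γ : D.Quot} (hγ : D.Th X id γ) :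
    ∃ c ∈ centralizerIn S W, D.bar c = γ := by
  have hS := hc.pS
  have hF := hc.sat
  have hWS := hW.1
  have hN := isNormalizerSystem_normalizerSys F W hWn.1
  have hNS : normalizerIn S W ≤ S := inf_le_left
  haveI : Finite (normalizerIn S W) := finite_normalizerIn
  have hXS : X ≤ S := hX.trans hNS
  haveI := finite_of_le hXS
  haveI := finite_of_le hWS
  obtain ⟨X', hconj, hX'n⟩ := exists_fullyNormalized_conj (normalizerSys F W hWn.1) hX
  obtain ⟨ψ, hψ, rfl⟩ := isConj_iff.1 hconj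
  obtain ⟨-, hψN, g₀, hg₀, hg₀x, hg₀W⟩ := (isMap_normalizerSystem_iff hN).1 hψ
  have hψF : IsMap F X ψ := (hg₀.mono le_sup_left).congr hg₀x
  have hψW : img W ψ = W := by rw [← img_congr fun w hw => hg₀x w (hWX.le hw), hg₀W]
  obtain ⟨m, hm⟩ := WModel.exists_real (M := M) hX hWX.le hψF hψN hψW
  set C := centralizerIn S W with hC
  have hCN : C ≤ normalizerIn S W := centralizerIn_le_normalizerIn
  set Y := X ⊔ C with hY
  have hYN : Y ≤ normalizerIn S W := sup_le hX hCN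
  have hsub : Y ≤ ((M.ι.range.comap (MulAut.conj m).toMonoidHom).comap M.ι).map
      (normalizerIn S W).subtype := by
    refine sup_le (fun x hx => ⟨⟨x, hX hx⟩, ⟨_, hm.eq hx⟩, rfl⟩) fun c hcC => ?_
    obtain ⟨c', hc', e⟩ := M.cent (m * M.ι ⟨c, hCN hcC⟩ * m⁻¹) fun w hw => by
      obtain ⟨w', hw', e⟩ := M.wnormal m⁻¹ w hw
      have h1 : (⟨c, hCN hcC⟩ : normalizerIn S W) * ⟨w', M.le hw'⟩ =
          ⟨w', M.le hw'⟩ * ⟨c, hCN hcC⟩ := Subtype.ext (hcC.2 w' hw').symm
      have h2 := congrArg M.ι h1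
      rw [map_mul, map_mul, e, inv_inv] at h2
      calc m * M.ι ⟨c, hCN hcC⟩ * m⁻¹ * M.ι ⟨w, M.le hw⟩
          = m * (M.ι ⟨c, hCN hcC⟩ * (m⁻¹ * M.ι ⟨w, M.le hw⟩ * m)) * m⁻¹ := by group
        _ = m * ((m⁻¹ * M.ι ⟨w, M.le hw⟩ * m) * M.ι ⟨c, hCN hcC⟩) * m⁻¹ := by rw [h2]
        _ = _ := by group
    exact ⟨⟨c, hCN hcC⟩, ⟨⟨c', centralizerIn_le_normalizerIn hc'⟩, e⟩, rfl⟩
  obtain ⟨g, hg, hgW, hgx⟩ := M.map Y hYN m fun x hx => by
    obtain ⟨z, hz, e⟩ := hsub hx
    have e' : z = ⟨x, hYN hx⟩ := Subtype.ext e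
    subst e'
    exact hz
  have hYW : Y ⊔ W = Y := sup_eq_left.2 (hWX.le.trans le_sup_left)
  rw [hYW] at hg hgx
  have hgψ : ∀ x ∈ X, g x = ψ x := fun x hx => by
    obtain ⟨h1, h2⟩ := hgx x (hX hx) (mem_sup_left hx)
    exact congrArg Subtype.val (M.inj (h2.trans (hm.eq hx).symm))
  have hlt : ∀ P : Subgroup Ω, P ≤ S → X ≤ P → Nat.card W < Nat.card P := fun P hP hXP => by
    haveI := finite_of_le hP
    exact lt_of_lt_of_le (lt_of_not_ge fun h => hWX.ne (eq_of_le_of_card_le hWX.le h))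
      (Subgroup.card_le_of_le hXP)
  obtain ⟨δ, hδ⟩ := (IH Y (hW.mono (hWX.le.trans le_sup_left) (hYN.trans hNS))
    (hlt Y (hYN.trans hNS) le_sup_left)).1 g hg
  have hδX : D.Th X ψ δ := (Th.mono hc hδ le_sup_left).congr hc hgψ
  obtain ⟨k, hk, hkx⟩ := Th.exists_inv hc hδX
  have hkm : ∀ y ∈ img X ψ, k y ∈ X := fun y hy => by
    obtain ⟨x, hx, rfl⟩ := hψF.mem_img.1 hy
    rw [hkx x hx]
    exact hx
  have hid : D.Th (img X ψ) id (δ * (γ * δ⁻¹)) :=
    ((hk.trans hc hγ hkm).trans hc hδX hkm).congr hc fun y hy => by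
      obtain ⟨x, hx, rfl⟩ := hψF.mem_img.1 hy
      show ψ (id (k (ψ x))) = id (ψ x)
      rw [hkx x hx]
      rfl
  have hWX' : W ≤ img X ψ := hψW.ge.trans (img_mono hWX.le)
  have hX'N : img X ψ ≤ normalizerIn S W := fun y hy => by
    obtain ⟨x, hx, rfl⟩ := hψF.mem_img.1 hy
    exact hψN x hx
  have hX'c : F.IsFullyCentralized (img X ψ) := by
    refine ⟨hψF.img_le, fun Q hQ => ?_⟩
    obtain ⟨f, hf, rfl⟩ := isConj_iff.1 hQ
    have hfW := hf.mono hWX'
    obtain ⟨φ, hφ, hφi, hφN⟩ :=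
      exists_map_normalizerIn_of_fullyNormalized hS hF hWn (isConj_symm hfW.isConj)
    have hfN : ∀ y ∈ img X ψ, f y ∈ normalizerIn S (img W f) := fun y hy =>
      hf.apply_mem_normalizerIn hWX' hy (hX'N hy).2
    have hcomp := hf.comp hφ hfN
    have hcW : img W (fun y => φ (f y)) = W := by
      rw [img_comp_eq hfW (hφ.mono (le_normalizerIn hfW.img_le)) fun x hx => hfW.apply_mem_img hx]
      exact hφi
    have hcN : IsMap (normalizerSys F W hWn.1) (img X ψ) fun y => φ (f y) :=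
      (isMap_normalizerSystem_iff hN).2 ⟨hX'N, fun y hy => hφN _ (hfN y hy), _,
        (sup_eq_left.2 hWX').symm ▸ hcomp, fun _ _ => rfl, hcW⟩
    have hle : img (img X ψ) f ≤ normalizerIn S (img W f) := fun y hy => by
      obtain ⟨x, hx, rfl⟩ := hf.mem_img.1 hy
      exact hfN x hx
    have hCsub : centralizerIn S (img (img X ψ) f) ≤ normalizerIn S (img W f) := fun c hcc =>
      centralizerIn_le_normalizerIn
        (show c ∈ centralizerIn S (img W f) from
          ⟨hcc.1, Subgroup.centralizer_le (img_mono hWX') hcc.2⟩)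
    have hto : img (centralizerIn S (img (img X ψ) f)) φ ≤
        centralizerIn (normalizerIn S W) (img (img X ψ) fun y => φ (f y)) := by
      intro y hy
      obtain ⟨c, hcc, rfl⟩ := (hφ.mono hCsub).mem_img.1 hy
      refine ⟨hφN c (hCsub hcc), ?_⟩
      have h := (hφ.apply_mem_centralizerIn hle (hCsub hcc) hcc.2).2
      rwa [← img_comp_eq hf hφ hfN] at h
    haveI : Finite (centralizerIn (normalizerIn S W) (img (img X ψ) fun y => φ (f y))) :=
      finite_of_le (inf_le_left.trans hNS)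
    haveI : Finite (centralizerIn S (img X ψ)) := finite_centralizerIn
    rw [← (hφ.mono hCsub).card_img]
    refine (Subgroup.card_le_of_le hto).trans
      (((fullyCentralized_of_fullyNormalized (hS.to_le hNS)
        (isSaturated_normalizerSystem hS hF hWn hN) hX'n).2 _ hcN.isConj).trans ?_)
    exact Subgroup.card_le_of_le (inf_le_inf_right _ hNS)
  obtain ⟨c', hc'C, hc'⟩ := (IH (img X ψ) (hW.mono hWX' hψF.img_le)
    (by rw [hψF.card_img]; exact hlt X hXS le_rfl)).2 hX'c _ hid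
  have hgC : img C g = C := by
    haveI : Finite C := finite_centralizerIn
    refine img_eq_of_mapsTo (hg.mono le_sup_right) fun c hcC => ?_
    have h1 := hg.apply_mem_centralizerIn (hWX.le.trans le_sup_left) (mem_sup_right hcC) hcC.2
    rwa [hgW] at h1
  obtain ⟨c, hcC, rfl⟩ := (hg.mono (le_sup_right : C ≤ Y)).mem_img.1
    (hgC.ge ⟨hc'C.1, Subgroup.centralizer_le hWX' hc'C.2⟩)
  refine ⟨c, hcC, ?_⟩
  rw [Th.bar_apply hc hδ c (mem_sup_right hcC), ← mul_assoc] at hc'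
  exact mul_left_cancel (mul_right_cancel hc')

/-- Local values when `W ∩ T` is not centric in the subsystem. -/
theorem exists_loc_one (hW : InC F T W) (hWn : F.IsFullyNormalized W) (hTW : ¬ T ≤ W)
    (IH : ∀ P, InC F T P → Nat.card W < Nat.card P → D.Good P)
    (h0 : ¬ centralizerIn T (W ⊓ T) ≤ W ⊓ T) :
    ∃ Val, D.IsLoc W Val := by
  have hS := hc.pS
  have hF := hc.sat
  obtain ⟨M⟩ := exists_wModel hc hW hWn
  have hWS := hW.1
  have hNS : normalizerIn S W ≤ S := inf_le_left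
  haveI : Finite (normalizerIn S W) := finite_normalizerIn
  haveI := finite_of_le hWS
  have hWn' : M.stab W = ⊤ := M.stab_self
  have hW0 : ∀ (m : M.G), ∀ z ∈ M.isub (W ⊓ T), m * z * m⁻¹ ∈ M.isub (W ⊓ T) := by
    intro m z hz
    obtain ⟨g, hg, hgx, -, hgW⟩ :=
      WModel.exists_map_of_stab (M := M) (Y := W) (m := m) M.le (by rw [hWn']; trivial)
    obtain ⟨x, hx, ⟨hxW, hxT⟩, rfl⟩ := M.exists_of_mem_isub hz
    rw [← hgx.eq (mem_sup_left hxW)]
    exact (M.mem_isub _).2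
      ⟨hgW x hxW, StronglyClosed.apply_mem hc.closed hg (mem_sup_left hxW) hxT⟩
  let K : Subgroup M.G :=
    { carrier := {m | (∀ z ∈ M.isub (W ⊓ T), m * z = z * m) ∧
        ∀ z ∈ M.isub W, z⁻¹ * (m * z * m⁻¹) ∈ M.isub (W ⊓ T)}
      one_mem' := ⟨fun z _ => by simp, fun z _ => by simp⟩
      mul_mem' := fun {a b} ha hb => ⟨fun z hz => by
          rw [mul_assoc, hb.1 z hz, ← mul_assoc, ha.1 z hz, mul_assoc], fun z hz => by
          have h := hb.2 z hz
          have h' := mul_mem (ha.2 z hz) h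
          have e : z⁻¹ * (a * z * a⁻¹) * (z⁻¹ * (b * z * b⁻¹)) =
              z⁻¹ * (a * b * z * (a * b)⁻¹) := by
            have e1 := ha.1 _ h
            calc z⁻¹ * (a * z * a⁻¹) * (z⁻¹ * (b * z * b⁻¹))
                = z⁻¹ * (a * z * a⁻¹) * ((z⁻¹ * (b * z * b⁻¹)) * a) * a⁻¹ := by group
              _ = z⁻¹ * (a * z * a⁻¹) * (a * (z⁻¹ * (b * z * b⁻¹))) * a⁻¹ := by rw [e1]
              _ = _ := by group
          rwa [e] at h'⟩
      inv_mem' := fun {a} ha => ⟨fun z hz => by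
          rw [inv_mul_eq_iff_eq_mul, ← mul_assoc, ha.1 z hz, mul_inv_cancel_right], fun z hz => by
          have h := ha.2 z hz
          have e1 := ha.1 _ h
          have e : (z⁻¹ * (a * z * a⁻¹))⁻¹ = z⁻¹ * (a⁻¹ * z * a⁻¹⁻¹) := by
            calc (z⁻¹ * (a * z * a⁻¹))⁻¹
                = a⁻¹ * (a * (z⁻¹ * (a * z * a⁻¹))⁻¹) := by group
              _ = a⁻¹ * ((z⁻¹ * (a * z * a⁻¹))⁻¹ * a) := by
                rw [ha.1 _ (inv_mem h)]
              _ = a⁻¹ * (a * z⁻¹ * a⁻¹ * z * a) := by group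
              _ = _ := by group
          rw [← e]
          exact inv_mem h⟩ }
  haveI hKn : K.Normal := ⟨fun d hd g => by
    refine ⟨fun z hz => ?_, fun z hz => ?_⟩
    · have h := hd.1 _ (by simpa using hW0 g⁻¹ z hz : g⁻¹ * z * g ∈ M.isub (W ⊓ T))
      calc g * d * g⁻¹ * z = g * (d * (g⁻¹ * z * g)) * g⁻¹ := by group
        _ = g * (g⁻¹ * z * g * d) * g⁻¹ := by rw [h]
        _ = _ := by group
    · have hz' : g⁻¹ * z * g ∈ M.isub W := by
        have h1 : g⁻¹ ∈ M.stab W := by rw [hWn']; trivial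
        have h2 := (h1 z).1 hz
        rwa [inv_inv] at h2
      have h := hW0 g _ (hd.2 _ hz')
      rw [show g * ((g⁻¹ * z * g)⁻¹ * (d * (g⁻¹ * z * g) * d⁻¹)) * g⁻¹ =
        z⁻¹ * (g * d * g⁻¹ * z * (g * d * g⁻¹)⁻¹) by group] at h
      exact h⟩
  have hKp : IsPGroup p K := isPGroup_of_coprime_eq_one fun ⟨k, hk⟩ hco => by
    rw [Subgroup.orderOf_mk] at hco
    obtain ⟨g, hg, hgx, -, hgW⟩ :=
      WModel.exists_map_of_stab (M := M) (Y := W) (m := k) M.le (by rw [hWn']; trivial)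
    have hgW' := hgx.mono (le_sup_left : W ≤ W ⊔ W)
    have hg' := hg.mono (le_sup_left : W ≤ W ⊔ W)
    have hi := img_eq_of_mapsTo hg' hgW
    have hfix : ∀ x ∈ W, x ∈ W ⊓ T → g x = x := fun x hx hxT => by
      have e := hgW'.eq hx
      rw [hk.1 _ ((M.mem_isub (M.le hx)).2 hxT), mul_inv_cancel_right] at e
      exact congrArg Subtype.val (M.inj e)
    have hmod : ∀ x ∈ W, x⁻¹ * g x ∈ W ⊓ T := fun x hx => by
      have h := hk.2 _ ((M.mem_isub (M.le hx)).2 hx)
      rw [← hgW'.eq hx, ← map_inv, ← map_mul] at h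
      exact (M.mem_isub (mul_mem (Subgroup.inv_mem _ (M.le hx)) (hgW'.mem hx))).1 h
    have hone : hg'.toAut hi = 1 := by
      refine eq_one_of_fixes_sub (hS.to_le hWS) (hgW'.coprime_toAut hg' hi hco) fun x => ?_
      refine Subtype.ext ?_
      rw [IsMap.toAut_apply]
      push_cast [IsMap.toAut_apply]
      exact hfix _ (W.mul_mem (W.inv_mem x.2) (hgW _ x.2)) (hmod _ x.2)
    obtain ⟨c, hcC, e⟩ := M.cent k fun w hw => by
      have e := hgW'.eq hw
      have e' : g w = w := by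
        have := IsMap.toAut_apply hg' hi ⟨w, hw⟩
        rw [hone] at this
        exact this.symm
      simp only [e'] at e
      exact (eq_mul_inv_iff_mul_eq.1 e).symm
    obtain ⟨s, hs⟩ := M.P.isPGroup' ⟨k, by rw [M.range_eq]; exact ⟨_, e⟩⟩
    exact Subtype.ext (orderOf_eq_one_iff.1 (Nat.eq_one_of_dvd_coprimes (hco.pow_right s) dvd_rfl
      (orderOf_dvd_of_pow_eq_one (congrArg Subtype.val hs))))
  haveI hWnorm : (M.isub W).Normal :=
    normal_of_top_le_normalizer (show ⊤ ≤ M.stab W from hWn'.ge)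
  set OG := K ⊔ M.isub W with hOG
  have hOGle : OG ≤ M.ι.range :=
    sup_le ((hKp.le_sylow_of_normal M.P).trans M.range_eq.le) M.isub_le_range
  set O := (OG.comap M.ι).map (normalizerIn S W).subtype with hOdef
  have hON : O ≤ normalizerIn S W := Subgroup.map_subtype_le _
  have hOS : O ≤ S := hON.trans hNS
  haveI := finite_of_le hOS
  have hmemO : ∀ {x : Ω} (hx : x ∈ normalizerIn S W), x ∈ O ↔ M.ι ⟨x, hx⟩ ∈ OG := fun {x} hx =>
    ⟨fun ⟨y, hy, e⟩ => by
      have e' : y = ⟨x, hx⟩ := Subtype.ext e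
      exact e' ▸ hy, fun h => ⟨⟨x, hx⟩, h, rfl⟩⟩
  have hisO : M.isub O = OG := by
    refine le_antisymm (fun z hz => ?_) fun z hz => ?_
    · obtain ⟨x, hx, hxO, rfl⟩ := M.exists_of_mem_isub hz
      exact (hmemO hx).1 hxO
    · obtain ⟨⟨x, hx⟩, rfl⟩ := hOGle hz
      exact (M.mem_isub hx).2 ((hmemO hx).2 hz)
  have hstO : ∀ m : M.G, m ∈ M.stab O := fun m => by
    rw [WModel.stab, hisO]
    exact le_normalizer_of_normal (Subgroup.mem_top m)
  have hWO : W ≤ O := fun w hw =>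
    (hmemO (M.le hw)).2 (mem_sup_right ((M.mem_isub (M.le hw)).2 hw))
  have hCO : centralizerIn S W ≤ O := fun c hcC => by
    refine (hmemO (centralizerIn_le_normalizerIn hcC)).2 (mem_sup_left
      ⟨fun z hz => ?_, fun z hz => ?_⟩)
    · obtain ⟨x, hx, hxW, rfl⟩ := M.exists_of_mem_isub hz
      rw [← map_mul, ← map_mul]
      exact congrArg M.ι (Subtype.ext (hcC.2 x hxW.1).symm)
    · obtain ⟨x, hx, hxW, rfl⟩ := M.exists_of_mem_isub hz
      have e : M.ι ⟨c, centralizerIn_le_normalizerIn hcC⟩ * M.ι ⟨x, hx⟩ =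
          M.ι ⟨x, hx⟩ * M.ι ⟨c, centralizerIn_le_normalizerIn hcC⟩ := by
        rw [← map_mul, ← map_mul]
        exact congrArg M.ι (Subtype.ext (hcC.2 x hxW).symm)
      rw [e, mul_inv_cancel_right, inv_mul_cancel]
      exact one_mem _
  obtain ⟨t, htC, htN, htW⟩ : ∃ t ∈ centralizerIn T (W ⊓ T),
      t ∈ normalizer (W : Set Ω) ∧ t ∉ W := by
    by_contra hne
    have hle := le_of_normalizer_inf_le hS hWS (inf_le_left.trans hc.le) (fun a ha =>
      CfsgLib.Comp.le_normalizer_inf (M := W) (fun b hb => StronglyClosed.le_normalizer hc.closed (hWS hb))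
        ((CfsgLib.Comp.le_normalizer_inf (M := W) W.le_normalizer
          fun b hb => StronglyClosed.le_normalizer hc.closed (hWS hb)).trans
          (CfsgLib.Comp.normalizer_le_normalizer_centralizer _)) ha)
      fun a ha han => by_contra fun hW' => hne ⟨a, ha, han, hW'⟩
    exact h0 fun x hx => ⟨hle hx, hx.1⟩
  have htN' : t ∈ normalizerIn S W := ⟨hc.le htC.1, htN⟩
  have htO : t ∈ O := (hmemO htN').2 (mem_sup_left ⟨fun z hz => by
      obtain ⟨x, hx, hxW, rfl⟩ := M.exists_of_mem_isub hz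
      rw [← map_mul, ← map_mul]
      exact congrArg M.ι (Subtype.ext (htC.2 x hxW).symm), fun z hz => by
      obtain ⟨x, hx, hxW, rfl⟩ := M.exists_of_mem_isub hz
      rw [← map_inv, ← map_inv, ← map_mul, ← map_mul, ← map_mul]
      refine (M.mem_isub _).2 ⟨?_, ?_⟩
      · exact W.mul_mem (W.inv_mem hxW) ((htN x).1 hxW)
      · show x⁻¹ * (t * x * t⁻¹) ∈ T
        rw [show x⁻¹ * (t * x * t⁻¹) = (x⁻¹ * t * x⁻¹⁻¹) * t⁻¹ by group]
        exact T.mul_mem (StronglyClosed.conj_mem hc.closed (S.inv_mem (hWS hxW)) htC.1)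
          (T.inv_mem htC.1)⟩)
  have hWltO : W < O := lt_of_le_of_ne hWO fun e => htW (e ▸ htO)
  have hOcard : ∀ P : Subgroup Ω, P ≤ S → O ≤ P → Nat.card W < Nat.card P := fun P hP hOP => by
    haveI := finite_of_le hP
    exact lt_of_lt_of_le (lt_of_not_ge fun h => hWltO.ne (eq_of_le_of_card_le hWO h))
      (Subgroup.card_le_of_le hOP)
  have hOgood := IH O (hW.mono hWO hOS) (hOcard O hOS le_rfl)
  have hOW : O ⊔ W = O := sup_eq_left.2 hWO
  have hOc : F.IsFullyCentralized O := centric_fullyCentralized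
    (centric_of_le (centric_sup_centralizerIn hS hF
      (fullyCentralized_of_fullyNormalized hS hF hWn)) (sup_le hWO hCO) hOS)
  refine ⟨fun σ γ => ∃ g, D.Th O g γ ∧ (∀ x ∈ O, g x ∈ O) ∧ ∀ x ∈ W, g x ∈ W ∧ σ x = g x,
    ⟨fun σ hσ hσi => ?_, ?_, ?_, ?_, ?_, ?_, ?_⟩⟩
  · have hσW : ∀ x ∈ W, σ x ∈ W := fun x hx => hσi.le (hσ.apply_mem_img hx)
    obtain ⟨m, hm⟩ := WModel.exists_real (M := M) M.le le_rfl hσ (fun x hx => M.le (hσW x hx)) hσi
    obtain ⟨g, hg, hgx, -, hgO⟩ := WModel.exists_map_of_stab (M := M) hON (hstO m)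
    rw [hOW] at hg hgx
    obtain ⟨γ, hγ⟩ := hOgood.1 g hg
    have hgσ : ∀ x ∈ W, g x = σ x := fun x hx => (hgx.mono hWO).unique hm hx
    exact ⟨γ, g, hγ, hgO, fun x hx => ⟨hgσ x hx ▸ hσW x hx, (hgσ x hx).symm⟩⟩
  · rintro σ γ ⟨g, hg, -, hgW⟩
    exact (Th.mono hc hg hWO).congr hc fun x hx => (hgW x hx).2.symm
  · rintro σ τ γ δ ⟨g, hg, hgO, hgW⟩ ⟨g', hg', hg'O, hg'W⟩
    refine ⟨fun x => g' (g x), hg.trans hc hg' hgO, fun x hx => hg'O _ (hgO x hx), fun x hx => ?_⟩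
    have h1 := hgW x hx
    refine ⟨(hg'W _ h1.1).1, ?_⟩
    show τ (σ x) = g' (g x)
    rw [h1.2, (hg'W _ h1.1).2]
  · rintro σ τ γ ⟨g, hg, hgO, hgW⟩ hστ
    exact ⟨g, hg, hgO, fun x hx => ⟨(hgW x hx).1, (hστ x hx).symm.trans (hgW x hx).2⟩⟩
  · rintro σ γ ⟨g, hg, hgO, hgW⟩ hσ
    have hgm := Th.isMap hc hg
    have hfixW : ∀ x ∈ W, g x = x := fun x hx => (hgW x hx).2.symm.trans (hσ x hx)
    obtain ⟨m, hm⟩ := WModel.exists_real (M := M) hON hWO hgm (fun x hx => hON (hgO x hx))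
      ((img_congr hfixW).trans (by simp [img]))
    obtain ⟨c, hcN, hcC, rfl⟩ :=
      ((hm.mono hWO).congr (f := id) hfixW).exists_centralizer le_rfl
    have hgc : ∀ x ∈ O, g x = c * x * c⁻¹ := fun x hx =>
      hm.unique (WModel.real_conj hON hcN) hx
    obtain ⟨k, hk, hkx⟩ := Th.exists_inv hc hg
    rw [img_eq_of_mapsTo hgm hgO] at hk
    have hid : D.Th O id (γ⁻¹ * D.bar c) :=
      ((th_conj hc hOS hcC.1).trans hc hk fun x hx => hgc x hx ▸ hgO x hx).congr hc fun x hx => by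
        show k (c * x * c⁻¹) = x
        rw [← hgc x hx, hkx x hx]
    obtain ⟨d, hdC, hd⟩ := hOgood.2 hOc _ hid
    refine ⟨c * d⁻¹, mul_mem hcC (Subgroup.inv_mem _
      ⟨hdC.1, Subgroup.centralizer_le hWO hdC.2⟩), ?_⟩
    rw [bar_mul hc hcC.1 (S.inv_mem hdC.1), bar_inv hc hdC.1, hd]
    group
  · intro β _ _ _ hce _
    exact absurd (hce.2 _ (isConj_refl hce.1)) h0
  · intro X k γ hWX hX hk hki
    have hkm := Th.isMap hc hk
    have hkW : ∀ x ∈ W, k x ∈ W := fun x hx =>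
      hki.le ((hkm.mono hWX.le).apply_mem_img hx)
    have hkN : ∀ x ∈ X, k x ∈ normalizerIn S W := fun x hx => by
      have h := hkm.apply_mem_normalizerIn hWX.le hx (hX hx).2
      rwa [hki] at h
    obtain ⟨m, hm⟩ := WModel.exists_real (M := M) hX hWX.le hkm hkN hki
    have hYN : X ⊔ O ≤ normalizerIn S W := sup_le hX hON
    have hsub : X ⊔ O ≤ ((M.ι.range.comap (MulAut.conj m).toMonoidHom).comap M.ι).map
        (normalizerIn S W).subtype := by
      refine sup_le (fun x hx => ⟨⟨x, hX hx⟩, ⟨_, hm.eq hx⟩, rfl⟩) fun x hx =>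
        ⟨⟨x, hON hx⟩, ?_, rfl⟩
      exact M.isub_le_range (((hstO m) _).1 ((M.mem_isub (hON hx)).2 hx))
    obtain ⟨g, hg, -, hgx⟩ := M.map _ hYN m fun x hx => by
      obtain ⟨z, hz, e⟩ := hsub hx
      have e' : z = ⟨x, hYN hx⟩ := Subtype.ext e
      subst e'
      exact hz
    rw [sup_eq_left.2 (hWO.trans le_sup_right)] at hg hgx
    obtain ⟨δ, hδ⟩ := (IH _ (hW.mono (hWO.trans le_sup_right) (hYN.trans hNS))
      (hOcard _ (hYN.trans hNS) le_sup_right)).1 g hg
    have hgk : ∀ x ∈ X, g x = k x := fun x hx => by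
      obtain ⟨h1, h2⟩ := hgx x (hX hx) (mem_sup_left hx)
      exact congrArg Subtype.val (M.inj (h2.trans (hm.eq hx).symm))
    have hgO : ∀ x ∈ O, g x ∈ O := fun x hx => by
      obtain ⟨h1, h2⟩ := hgx x (hON hx) (mem_sup_right hx)
      exact (M.mem_isub h1).1 (h2 ▸ ((hstO m) _).1 ((M.mem_isub (hON hx)).2 hx))
    obtain ⟨j, hj, hjx⟩ := Th.exists_inv hc ((Th.mono hc hδ le_sup_left).congr hc hgk)
    have hid : D.Th X id (δ⁻¹ * γ) :=
      (hk.trans hc hj fun x hx => hkm.apply_mem_img hx).congr hc fun x hx => hjx x hx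
    obtain ⟨c, hcC, hc'⟩ := dX_mem hc hW hWn IH M hWX hX hid
    have hcO : ∀ x ∈ O, c * x * c⁻¹ ∈ O := fun x hx =>
      (((M.ι_mem_stab_iff hON (centralizerIn_le_normalizerIn hcC)).1 (hstO _)) x).1 hx
    refine ⟨fun x => g (c * x * c⁻¹), ?_, fun x hx => hgO _ (hcO x hx), fun x hx => ?_⟩
    · have h := (th_conj (D := D) hc hOS hcC.1).trans hc (Th.mono hc hδ le_sup_right) hcO
      rwa [hc', mul_inv_cancel_left] at h
    · have e : c * x * c⁻¹ = x := by rw [← hcC.2 x hx, mul_inv_cancel_right]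
      show g (c * x * c⁻¹) ∈ W ∧ k x = g (c * x * c⁻¹)
      rw [e, hgk x (hWX.le hx)]
      exact ⟨hkW x hx, rfl⟩

end CfsgLib.Comp.EBal.TopData
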