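import Cfsg.Agent.Lib.Comp.EBalTheta

/-!
Generation of stabilizers in a model, and subsystems given by a property of maps.
-/

set_option autoImplicit false
set_option linter.unusedVariables false
set_option linter.unusedSectionVars false
set_option linter.style.haveILetI false

universe u

namespace CfsgLib.Comp.EBal

open Cfsg Cfsg.FusionSystem Subgroup CfsgLib.Fusion CfsgLib.Comp.Fus CfsgLib.Comp.CProd

section Grp

variable {G : Type*} [Group G] [Finite G] {p : ℕ} [Fact p.Prime] {P L K R : Subgroup G}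

theorem exists_conj_into (Q : Sylow p L) (hQ : (Q : Subgroup L) = P.subgroupOf L)
    (hR : IsPGroup p R) (hRL : R ≤ L) : ∃ g ∈ L, ∀ z ∈ R, g * z * g⁻¹ ∈ P := by
  obtain ⟨Q', hQ'⟩ := (hR.of_equiv (Subgroup.subgroupOfEquivOfLe hRL).symm).exists_le_sylow
  obtain ⟨g, hg⟩ := MulAction.exists_smul_eq L Q' Q
  refine ⟨g, g.2, fun z hz => ?_⟩
  have h1 : (g * ⟨z, hRL hz⟩ * g⁻¹ : L) ∈ (Q : Subgroup L) := by
    rw [← hg, Sylow.coe_subgroup_smul]
    exact ⟨⟨z, hRL hz⟩, hQ' (show (⟨z, hRL hz⟩ : L) ∈ R.subgroupOf L from hz), rfl⟩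
  rw [hQ] at h1
  exact h1

/-- The Sylow subgroups of a suitable subgroup are cut out by the same subgroup. -/
theorem exists_sylow_sub (hP : IsPGroup p P) (Q : Sylow p L)
    (hQ : (Q : Subgroup L) = P.subgroupOf L) (hKL : K ≤ L)
    (h : ∀ g ∈ L, ∀ z ∈ K, g * z * g⁻¹ ∈ P → g * z * g⁻¹ ∈ K) :
    ∃ Q' : Sylow p K, (Q' : Subgroup K) = P.subgroupOf K := by
  obtain ⟨Q₀, hQ₀⟩ := (hP.comap_of_injective K.subtype K.subtype_injective).exists_le_sylow
  refine ⟨Q₀, (eq_of_le_of_card_le hQ₀ ?_).symm⟩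
  obtain ⟨g, hgL, hg⟩ := exists_conj_into Q hQ (R := (Q₀ : Subgroup K).map K.subtype)
    (Q₀.isPGroup'.map _) ((Subgroup.map_subtype_le _).trans hKL)
  have hgz : ∀ z : (Q₀ : Subgroup K), g * ((z : K) : G) * g⁻¹ ∈ P := fun z =>
    hg _ ⟨z, z.2, rfl⟩
  refine Nat.card_le_card_of_injective
    (fun z : (Q₀ : Subgroup K) => (⟨⟨_, h g hgL _ (z : K).2 (hgz z)⟩, hgz z⟩ : P.subgroupOf K))
    fun a b hab => Subtype.ext (Subtype.ext ?_)
  have h1 : g * ((a : K) : G) * g⁻¹ = g * ((b : K) : G) * g⁻¹ :=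
    congrArg (fun z : P.subgroupOf K => ((z : K) : G)) hab
  exact mul_left_cancel (mul_right_cancel h1)

/-- A property closed under products holding on a Sylow subgroup and on the elements of order
prime to `p` holds everywhere. -/
theorem gen_mem (Q : Sylow p K) (hQ : (Q : Subgroup K) = P.subgroupOf K) {Pr : G → Prop}
    (h1 : Pr 1) (hmul : ∀ a ∈ K, ∀ b ∈ K, Pr a → Pr b → Pr (a * b))
    (hP : ∀ a ∈ K, a ∈ P → Pr a) (hco : ∀ a ∈ K, (orderOf a).Coprime p → Pr a) :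
    ∀ a ∈ K, Pr a := by
  let L₀ : Subgroup K :=
    { carrier := {a : K | Pr a}
      one_mem' := h1
      mul_mem' := fun {a b} ha hb => hmul _ a.2 _ b.2 ha hb
      inv_mem' := fun {a} ha => by
        have hpow : ∀ n : ℕ, Pr ((a ^ n : K) : G) := by
          intro n
          induction n with
          | zero => simpa using h1
          | succ n ih =>
            rw [pow_succ, Subgroup.coe_mul]
            exact hmul _ (a ^ n).2 _ a.2 ih ha
        have e : a⁻¹ = a ^ (orderOf a - 1) := inv_eq_of_mul_eq_one_right (by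
          rw [← pow_succ', Nat.sub_add_cancel (orderOf_pos a), pow_orderOf_eq_one])
        show Pr ((a⁻¹ : K) : G)
        rw [e]
        exact hpow _ }
  have htop : L₀ = ⊤ := closure_coprime_sylow Q (fun a ha => hP _ a.2 (hQ.le ha))
    fun a ha => hco _ a.2 (by rwa [Subgroup.orderOf_coe])
  intro a ha
  exact htop.ge (Subgroup.mem_top (⟨a, ha⟩ : K))

/-- An element normalizing a subgroup can be moved into the normalizer of the trace of a Sylow
subgroup. -/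
theorem frattini (hP : IsPGroup p P) (Q : Sylow p K) (hQ : (Q : Subgroup K) = P.subgroupOf K)
    {m : G} (hm : m ∈ normalizer (K : Set G)) :
    ∃ k ∈ K, k * m ∈ normalizer ((P ⊓ K : Subgroup G) : Set G) := by
  obtain ⟨k, hkK, hk⟩ := exists_conj_into Q hQ (R := (P ⊓ K).map (MulAut.conj m).toMonoidHom)
    ((hP.to_le inf_le_left).map _) (by
      rintro _ ⟨z, hz, rfl⟩
      exact (hm z).1 hz.2)
  refine ⟨k, hkK, mem_normalizer_of_conj_le fun z hz => ?_⟩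
  have h1 := hk (m * z * m⁻¹) ⟨z, hz, rfl⟩
  have e : k * m * z * (k * m)⁻¹ = k * (m * z * m⁻¹) * k⁻¹ := by group
  rw [e]
  exact ⟨h1, K.mul_mem (K.mul_mem hkK ((hm z).1 hz.2)) (K.inv_mem hkK)⟩

end Grp

section Sys

variable {Ω : Type u} [Group Ω] {S P : Subgroup Ω}

/-- The maps of `F` with a property, as a system. -/
noncomputable def predSys (F : FusionSystem S) (Pr : Subgroup Ω → (Ω → Ω) → Prop)
    (hcongr : ∀ P f g, IsMap F P f → Pr P f → (∀ x ∈ P, f x = g x) → Pr P g)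
    (hconj : ∀ P s, P ≤ S → s ∈ S → Pr P fun x => s * x * s⁻¹)
    (hcomp : ∀ P Q f g, IsMap F P f → IsMap F Q g → Pr P f → Pr Q g → (∀ x ∈ P, f x ∈ Q) →
      Pr P fun x => g (f x))
    (hinv : ∀ P f k, IsMap F P f → Pr P f → IsMap F (img P f) k → (∀ x ∈ P, k (f x) = x) →
      Pr (img P f) k) : FusionSystem S where
  Hom P := {φ | φ ∈ F.Hom P ∧ Pr P (toFun φ)}
  le_of_mem h := F.le_of_mem h.1
  injective_of_mem h := F.injective_of_mem h.1
  conj_mem {P s} hP hs := ⟨F.conj_mem hP hs, hcongr P _ _ (isMap_conj F hP hs) (hconj P s hP hs)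
    fun x hx => (toFun_of_mem (conjHom P s) hx).symm⟩
  comp_mem {P Q φ ψ} hφ hψ h := by
    have hm : ∀ x ∈ P, toFun φ x ∈ Q := fun x hx => by
      rw [toFun_of_mem _ hx]
      exact h ⟨x, hx⟩
    refine ⟨F.comp_mem hφ.1 hψ.1 h, hcongr P _ _
      ((isMap_of_hom hφ.1).comp (isMap_of_hom hψ.1) hm)
      (hcomp P Q _ _ (isMap_of_hom hφ.1) (isMap_of_hom hψ.1) hφ.2 hψ.2 hm) fun x hx => ?_⟩
    show toFun ψ (toFun φ x) = _
    rw [toFun_of_mem ψ (hm x hx), toFun_of_mem (ψ.comp (φ.codRestrict Q h)) hx]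
    exact congrArg ψ (Subtype.ext (toFun_of_mem φ hx))
  inv_mem {P φ} hφ := by
    obtain ⟨ψ, hψ, hψx⟩ := F.inv_mem hφ.1
    have e : img P (toFun φ) = φ.range := by
      rw [← (isMap_of_hom hφ.1).range_toHom]
      exact congrArg MonoidHom.range (MonoidHom.ext fun x => toFun_apply φ x)
    refine ⟨ψ, ⟨hψ, ?_⟩, hψx⟩
    have h := hinv P _ (toFun ψ) (isMap_of_hom hφ.1) hφ.2 (by rw [e]; exact isMap_of_hom hψ) fun x hx => by
      rw [toFun_of_mem φ hx, toFun_of_mem ψ ⟨⟨x, hx⟩, rfl⟩]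
      exact hψx ⟨x, hx⟩
    rwa [e] at h

theorem isMap_predSys_iff {F : FusionSystem S} {Pr : Subgroup Ω → (Ω → Ω) → Prop}
    {hcongr hconj hcomp hinv} {f : Ω → Ω} :
    IsMap (predSys F Pr hcongr hconj hcomp hinv) P f ↔ IsMap F P f ∧ Pr P f := by
  constructor
  · rintro ⟨φ, hφ, hf⟩
    exact ⟨⟨φ, hφ.1, hf⟩, hcongr P _ _ (isMap_of_hom hφ.1) hφ.2
      fun x hx => (toFun_of_mem φ hx).trans (hf ⟨x, hx⟩)⟩
  · rintro ⟨h, hp⟩
    exact ⟨h.toHom, ⟨h.toHom_mem, hcongr P _ _ h hp fun x hx => (toFun_of_mem h.toHom hx).symm⟩,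
      h.toHom_apply⟩

end Sys

variable {Ω : Type u} [Group Ω] {S T V Y Z R : Subgroup Ω} {F : FusionSystem S}
  {E : FusionSystem T} {p : ℕ} {f g : Ω → Ω}

namespace WModel

variable {M : WModel F p V} {m a : M.G}

theorem isub_sup (hY : Y ≤ normalizerIn S V) (hZ : Z ≤ normalizerIn S V) :
    M.isub (Y ⊔ Z) = M.isub Y ⊔ M.isub Z := by
  rw [WModel.isub, Subgroup.subgroupOf_sup hY hZ, Subgroup.map_sup]
  rfl

theorem stab_inf_le_sup (hY : Y ≤ normalizerIn S V) (hZ : Z ≤ normalizerIn S V) :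
    M.stab Y ⊓ M.stab Z ≤ M.stab (Y ⊔ Z) := fun m hm => by
  refine mem_normalizer_of_conj_le fun z hz => ?_
  rw [isub_sup hY hZ] at hz ⊢
  exact (sup_le (fun y hy => mem_sup_left ((hm.1 y).1 hy))
    (fun y hy => mem_sup_right ((hm.2 y).1 hy)) :
      M.isub Y ⊔ M.isub Z ≤ (M.isub Y ⊔ M.isub Z).comap (MulAut.conj m).toMonoidHom) hz

theorem Real.apply_mem (h : M.Real Y g m) (hm : m ∈ M.stab Y) {x : Ω} (hx : x ∈ Y) : g x ∈ Y := by
  have h1 := (hm _).1 ((M.mem_isub (h.le hx)).2 hx)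
  rw [← h.eq hx] at h1
  exact (M.mem_isub _).1 h1

theorem exists_map [Finite S] (hVY : V ≤ Y) (hY : Y ≤ normalizerIn S V) (hm : m ∈ M.stab Y) :
    ∃ g, IsMap F Y g ∧ M.Real Y g m ∧ img V g = V ∧ ∀ x ∈ Y, g x ∈ Y := by
  obtain ⟨g, hg, hgx, hgV, hgY⟩ := exists_map_of_stab hY hm
  exact ⟨g, hg.mono le_sup_left, hgx.mono le_sup_left, hgV, hgY⟩

theorem Real.inv (h : M.Real Y f m) (hf : IsMap F Y f) (hN : img Y f ≤ normalizerIn S V)
    {k : Ω → Ω} (hk : ∀ x ∈ Y, k (f x) = x) : M.Real (img Y f) k m⁻¹ := fun y hy => by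
  obtain ⟨x, hx, rfl⟩ := hf.mem_img.1 hy
  refine ⟨hN hy, (hk x hx).symm ▸ h.le hx, ?_⟩
  simp only [hk x hx]
  rw [show (⟨f x, hN hy⟩ : normalizerIn S V) = ⟨f x, h.mem hx⟩ from rfl, h.eq hx]
  group

end WModel

namespace TopData

variable {D : TopData F E p} [Fact p.Prime] [Finite S] (hc : Ctx F E p) (M : WModel F p V)
  (H : Subgroup M.G) [H.Normal]
  (hHT : ∀ (n : Ω) (hn : n ∈ normalizerIn S V), M.ι ⟨n, hn⟩ ∈ H ↔ n ∈ T)
  (hside : ∀ h ∈ H, ∃ e, IsMap E V e ∧ ∀ (x : Ω) (hx : x ∈ V), ∃ hex : e x ∈ V,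
    M.ι ⟨e x, M.le hex⟩ = h * M.ι ⟨x, M.le hx⟩ * h⁻¹)
  (hV : E.IsCentric V)

include hc hHT hside hV

/-- An element of order prime to `p` of the side subgroup has the trivial value. -/
theorem th_coprime (hVR : V ≤ R) (hR : R ≤ normalizerIn S V) {a : M.G} (ha : a ∈ H)
    (hast : a ∈ M.stab R) (hcop : (orderOf a).Coprime p) :
    ∃ g, M.Real R g a ∧ D.Th R g 1 := by
  obtain ⟨g, hg, hga, hgV, hgR⟩ := WModel.exists_map hVR hR hast
  refine ⟨g, hga, ?_⟩
  have hRS : R ≤ S := hR.trans inf_le_left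
  haveI := finite_of_le hRS
  haveI := finite_of_le (inf_le_left.trans hRS : R ⊓ T ≤ S)
  have hVT : V ≤ T := hV.1
  have hgL : ∀ x ∈ R ⊓ T, g x ∈ R ⊓ T := fun x hx =>
    ⟨hgR x hx.1, StronglyClosed.apply_mem hc.closed hg hx.1 hx.2⟩
  have hgLm := hg.mono (inf_le_left : R ⊓ T ≤ R)
  have hi := img_eq_of_mapsTo hgLm hgL
  have hE : IsMap E V g := by
    obtain ⟨e, he, hex⟩ := hside a ha
    refine he.congr fun x hx => ?_
    obtain ⟨h1, h2⟩ := hex x hx
    exact congrArg Subtype.val (M.inj (h2.trans (hga.eq (hVR hx)).symm))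
  have hev : ∀ x ∈ R ⊓ T, autFun (hgLm.toAut hi) x = g x := fun x hx => by
    rw [autFun_apply _ hx, IsMap.toAut_apply]
  have hVL : V ≤ R ⊓ T := le_inf hVR hVT
  have hEL := agree_mem hc hV hVL (fun x hx => ⟨hx.2, (hR hx.1).2⟩) (hgLm.toAut_mem hi)
    ((hga.mono inf_le_left).coprime_toAut hgLm hi hcop)
    (fun x hx => by
      rw [hev x (hVL hx)]
      exact hgV.le ((hg.mono hVR).apply_mem_img hx))
    (hE.congr fun x hx => (hev x (hVL hx)).symm)
  have hiR := img_eq_of_mapsTo hg hgR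
  have hevR : ∀ x ∈ R, autFun (hg.toAut hiR) x = g x := fun x hx => by
    rw [autFun_apply _ hx, IsMap.toAut_apply]
  refine .pure hRS le_rfl (hg.toAut_mem hiR) (hga.coprime_toAut hg hiR hcop) (fun x hx => ?_)
    (centric_of_le hV hVL inf_le_right)
    (hEL.congr fun x hx => (hev x hx).trans (hevR x hx.1).symm) fun x hx => (hevR x hx).symm
  rw [hevR x hx]
  have hxN := mul_mem (Subgroup.inv_mem _ (hga.le hx)) (hga.mem hx)
  refine (hHT _ hxN).1 ?_
  have e : M.ι ⟨x⁻¹ * g x, hxN⟩ =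
      (M.ι ⟨x, hga.le hx⟩)⁻¹ * a * M.ι ⟨x, hga.le hx⟩ * a⁻¹ := by
    rw [show (⟨x⁻¹ * g x, hxN⟩ : normalizerIn S V) = ⟨x, hga.le hx⟩⁻¹ * ⟨g x, hga.mem hx⟩ from rfl,
      map_mul, map_inv, hga.eq hx]
    group
  rw [e]
  have h1 := (inferInstance : H.Normal).conj_mem a ha (M.ι ⟨x, hga.le hx⟩)⁻¹
  rw [inv_inv] at h1
  exact H.mul_mem h1 (H.inv_mem ha)

/-- The elements of a part of the side subgroup have the trivial value. -/
theorem th_side (hVR : V ≤ R) (hR : R ≤ normalizerIn S V) {K : Subgroup M.G}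
    (hK : K ≤ H ⊓ M.stab R) (Q : Sylow p K) (hQ : (Q : Subgroup K) = M.ι.range.subgroupOf K) :
    ∀ a ∈ K, ∃ g, M.Real R g a ∧ D.Th R g 1 := by
  have hRS : R ≤ S := hR.trans inf_le_left
  refine gen_mem Q hQ (Pr := fun a => ∃ g, M.Real R g a ∧ D.Th R g 1)
    ⟨id, WModel.real_one hR, th_id hc hRS⟩ ?_ ?_
    fun a ha hcop => th_coprime hc M H hHT hside hV hVR hR (hK ha).1 (hK ha).2 hcop
  · rintro a ha b hb ⟨g, hg, hgT⟩ ⟨g', hg', hg'T⟩
    have hmem : ∀ x ∈ R, g' x ∈ R := fun x hx => hg'.apply_mem (hK hb).2 hx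
    refine ⟨fun x => g (g' x), hg'.comp hg hmem, ?_⟩
    have := hg'T.trans hc hgT hmem
    rwa [one_mul] at this
  · rintro _ ha ⟨⟨t, htN⟩, rfl⟩
    have htT : t ∈ T := (hHT t htN).1 (hK ha).1
    refine ⟨fun x => t * x * t⁻¹, WModel.real_conj hR htN, ?_⟩
    have := th_conj (D := D) hc hRS (hc.le htT)
    rwa [(bar_eq_one_iff hc (hc.le htT)).2 htT] at this

end TopData

end CfsgLib.Comp.EBal
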