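import Cfsg.Agent.Lib.Comp.EBalCaseOne
import Cfsg.Agent.Lib.Comp.EBalGen

/-!
Local values of the functor at a subgroup whose intersection with `T` is centric.
-/

set_option autoImplicit false
set_option linter.unusedVariables false
set_option linter.unusedSectionVars false
set_option linter.style.haveILetI false

universe u

namespace CfsgLib.Comp.EBal.TopData

open Cfsg Cfsg.FusionSystem Subgroup CfsgLib.Fusion CfsgLib.Comp.Fus CfsgLib.Comp.CProd

variable {Ω : Type u} [Group Ω] {S T W : Subgroup Ω} {F : FusionSystem S}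
  {E : FusionSystem T} {p : ℕ}

/-- The local value: the value of the factor normalizing the trace on `T` of the normalizer. -/
def ValTwo (D : TopData F E p) (M : WModel F p (W ⊓ T)) (H : Subgroup M.G) (σ : Ω → Ω)
    (γ : D.Quot) : Prop :=
  ∃ (h n : M.G) (f : Ω → Ω), h ∈ H ⊓ M.stab W ∧ n ∈ M.stab W ∧
    n ∈ M.stab (normalizerIn T W) ∧ M.Real W σ (h * n) ∧
    M.Real (W ⊔ normalizerIn T W) f n ∧ D.Th (W ⊔ normalizerIn T W) f γ

variable {D : TopData F E p} [Fact p.Prime] [Finite S] (hc : Ctx F E p)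

include hc

theorem exists_loc_two (hW : InC F T W) (hWn : F.IsFullyNormalized W) (hTW : ¬ T ≤ W)
    (IH : ∀ P, InC F T P → Nat.card W < Nat.card P → D.Good P)
    (hVn : F.IsFullyNormalized (W ⊓ T)) (hVc : E.IsCentric (W ⊓ T)) :
    ∃ Val, D.IsLoc W Val := by
  have hS := hc.pS
  have hF := hc.sat
  have hWS := hW.1
  haveI := finite_of_le hWS
  have hNS : normalizerIn S W ≤ S := inf_le_left
  haveI : Finite (normalizerIn S W) := finite_normalizerIn
  have hVC : InC F T (W ⊓ T) := ⟨inf_le_left.trans hWS, fun R hR => by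
    obtain ⟨f, hf, rfl⟩ := isConj_iff.1 hR
    exact (centric_img_of_map hS hc.normal.1 hf hVc).2 _
      (isConj_refl (centric_img_of_map hS hc.normal.1 hf hVc).1)⟩
  obtain ⟨M⟩ := exists_wModel hc hVC hVn
  obtain ⟨H, hHn, hHT, hside, hcopH⟩ := exists_sideGroup hc hVn hVc M
  haveI := hHn
  obtain ⟨M'⟩ := exists_wModel hc hW hWn
  -- the normalizers
  have hVW : W ⊓ T ≤ W := inf_le_left
  have hnT : ∀ {s : Ω}, s ∈ S → s ∈ normalizer (T : Set Ω) := fun hs =>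
    StronglyClosed.le_normalizer hc.closed hs
  have hNV : normalizerIn S W ≤ normalizerIn S (W ⊓ T) := fun s hs =>
    ⟨hs.1, CfsgLib.Comp.le_normalizer_inf (M := normalizerIn S W) inf_le_right
      (fun a ha => hnT ha.1) hs⟩
  have hWNS : W ≤ normalizerIn S W := le_normalizerIn hWS
  have hWN : W ≤ normalizerIn S (W ⊓ T) := hWNS.trans hNV
  set NT := normalizerIn T W with hNTdef
  have hNTN : NT ≤ normalizerIn S W := inf_le_inf_right _ hc.le
  have hNTV : NT ≤ normalizerIn S (W ⊓ T) := hNTN.trans hNV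
  have hNTn : normalizerIn S W ≤ normalizer (NT : Set Ω) :=
    CfsgLib.Comp.le_normalizer_inf (fun a ha => hnT ha.1) (inf_le_right.trans le_normalizer)
  have hVNT : W ⊓ T ≤ NT := fun x hx => ⟨hx.2, W.le_normalizer hx.1⟩
  have hXN : W ⊔ NT ≤ normalizerIn S (W ⊓ T) := sup_le hWN hNTV
  have hXS : W ⊔ NT ≤ S := hXN.trans inf_le_left
  have hWX : W < W ⊔ NT := by
    refine left_lt_sup.2 fun hle => hTW ?_
    exact le_of_normalizer_inf_le hS hWS hc.le (fun a ha => hnT (hWS ha))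
      fun a ha han => hle ⟨ha, han⟩
  have hXcard : ∀ P : Subgroup Ω, P ≤ S → W < P → Nat.card W < Nat.card P := fun P hP hlt => by
    haveI := finite_of_le hP
    exact lt_of_not_ge fun h => hlt.ne (eq_of_le_of_card_le hlt.le h)
  have hstX : ∀ {n : M.G}, n ∈ M.stab W → n ∈ M.stab NT → n ∈ M.stab (W ⊔ NT) := fun h1 h2 =>
    WModel.stab_inf_le_sup hWN hNTV ⟨h1, h2⟩
  have hPp : IsPGroup p M.ι.range := M.range_eq ▸ M.P.isPGroup'
  -- the Sylow subgroups
  have hN := isNormalizerSystem_normalizerSys F W hWn.1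
  have hWnN : (normalizerSys F W hWn.1).IsFullyNormalized W :=
    CfsgLib.Comp.SQ.fullyNormalized_of_closed
      (IsNormal.stronglyClosed (Dich.isNormal_normalizerSystem hWn.1 hN))
  obtain ⟨QW, hQW⟩ := exists_sylow_stab hS hF M hVW le_rfl hWNS hWN hWn hNV hWnN
  obtain ⟨QK, hQK⟩ := exists_sylow_sub (K := H ⊓ M.stab W) hPp QW hQW
    (le_inf inf_le_right inf_le_right) fun g hg z hz _ => ⟨hHn.conj_mem z hz.1 g,
      mul_mem (mul_mem hg.1 hz.2) (Subgroup.inv_mem _ hg.1)⟩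
  have hPK : ∀ z, z ∈ M.ι.range → z ∈ H ⊓ M.stab W →
      ∃ (t : Ω) (ht : t ∈ NT), M.ι ⟨t, hNTV ht⟩ = z := by
    rintro _ ⟨⟨t, htN⟩, rfl⟩ hz
    exact ⟨t, ⟨(hHT t htN).1 hz.1, (M.ι_mem_stab_iff hWN htN).1 hz.2⟩, rfl⟩
  have hisNT : M.isub NT = M.ι.range ⊓ (H ⊓ M.stab W) := by
    refine le_antisymm (fun z hz => ?_) fun z hz => ?_
    · obtain ⟨t, htN, ht, rfl⟩ := M.exists_of_mem_isub hz
      exact ⟨⟨_, rfl⟩, (hHT t htN).2 ht.1, (M.ι_mem_stab_iff hWN htN).2 ht.2⟩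
    · obtain ⟨t, ht, rfl⟩ := hPK z hz.1 hz.2
      exact (M.mem_isub _).2 ht
  obtain ⟨QK2, hQK2⟩ := exists_sylow_sub (K := H ⊓ M.stab W ⊓ M.stab NT) hPp QK hQK inf_le_left
    fun g hg z hz hgP => by
      have h1 : g * z * g⁻¹ ∈ H ⊓ M.stab W := mul_mem (mul_mem hg hz.1) (Subgroup.inv_mem _ hg)
      obtain ⟨t, ht, e⟩ := hPK _ hgP h1
      refine ⟨h1, ?_⟩
      rw [← e]
      exact (M.ι_mem_stab_iff hNTV _).2 (hNTn (hNTN ht))
  have hsideW := th_side (D := D) hc M H hHT hside hVc (R := W) hVW hWN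
    (K := H ⊓ M.stab W) le_rfl QK hQK
  have hsideX := th_side (D := D) hc M H hHT hside hVc (R := W ⊔ NT)
    (hVW.trans le_sup_left) hXN (K := H ⊓ M.stab W ⊓ M.stab NT)
    (fun a ha => ⟨ha.1.1, hstX ha.1.2 ha.2⟩) QK2 hQK2
  let Val := ValTwo (W := W) D M H
  -- existence of values
  have hval : ∀ n : M.G, n ∈ M.stab W → n ∈ M.stab NT →
      ∃ f γ, M.Real (W ⊔ NT) f n ∧ D.Th (W ⊔ NT) f γ := fun n h1 h2 => by
    obtain ⟨f, hf, hfn, -, -⟩ :=
      WModel.exists_map (hVW.trans le_sup_left) hXN (hstX h1 h2)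
    obtain ⟨γ, hγ⟩ :=
      (IH _ (hW.mono le_sup_left hXS) (hXcard _ hXS hWX)).1 f hf
    exact ⟨f, γ, hfn, hγ⟩
  have htotal : ∀ σ, IsMap F W σ → img W σ = W → ∃ γ, Val σ γ := fun σ hσ hσi => by
    have hσW : ∀ x ∈ W, σ x ∈ W := fun x hx => hσi.le (hσ.apply_mem_img hx)
    haveI : Finite (W ⊓ T : Subgroup Ω) := finite_of_le (hVW.trans hWS)
    have hσV : img (W ⊓ T) σ = W ⊓ T := img_eq_of_mapsTo (hσ.mono hVW) fun x hx =>
      ⟨hσW x hx.1, StronglyClosed.apply_mem hc.closed hσ hx.1 hx.2⟩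
    obtain ⟨m, hm⟩ :=
      WModel.exists_real (M := M) hWN hVW hσ (fun x hx => hWN (hσW x hx)) hσV
    have hmW : m ∈ M.stab W := hm.mem_stab hσW
    obtain ⟨k, hk, hkm⟩ := frattini hPp QK hQK (m := m)
      (mem_normalizer_of_conj_le fun z hz =>
        ⟨hHn.conj_mem z hz.1 m, mul_mem (mul_mem hmW hz.2) (Subgroup.inv_mem _ hmW)⟩)
    rw [← hisNT] at hkm
    have hnW : k * m ∈ M.stab W := mul_mem hk.2 hmW
    obtain ⟨f, γ, hf, hγ⟩ := hval _ hnW hkm
    exact ⟨γ, k⁻¹, k * m, f, Subgroup.inv_mem _ hk, hnW, hkm,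
      by rwa [inv_mul_cancel_left], hf, hγ⟩
  have hth : ∀ σ γ, Val σ γ → D.Th W σ γ := by
    rintro σ γ ⟨h, n, f, hh, hnW, hnT, hσ, hf, hγ⟩
    obtain ⟨g, hg, hgT⟩ := hsideW h hh
    have hfW : ∀ x ∈ W, f x ∈ W := fun x hx => (hf.mono le_sup_left).apply_mem hnW hx
    have h1 := ((Th.mono hc hγ le_sup_left).trans hc hgT hfW)
    rw [one_mul] at h1
    exact h1.congr hc fun x hx => ((hf.mono le_sup_left).comp hg hfW).unique hσ hx
  have hcongr : ∀ σ τ γ, Val σ γ → (∀ x ∈ W, σ x = τ x) → Val τ γ := by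
    rintro σ τ γ ⟨h, n, f, hh, hnW, hnT, hσ, hf, hγ⟩ he
    exact ⟨h, n, f, hh, hnW, hnT, hσ.congr he, hf, hγ⟩
  have hmul : ∀ σ τ γ δ, Val σ γ → Val τ δ → Val (fun x => τ (σ x)) (δ * γ) := by
    rintro σ τ γ δ ⟨h₁, n₁, f₁, hh₁, hn₁W, hn₁T, hσ, hf₁, hγ⟩
      ⟨h₂, n₂, f₂, hh₂, hn₂W, hn₂T, hτ, hf₂, hδ⟩
    have hσW : ∀ x ∈ W, σ x ∈ W := fun x hx =>
      hσ.apply_mem (mul_mem hh₁.2 hn₁W) hx
    have hf₁X : ∀ x ∈ W ⊔ NT, f₁ x ∈ W ⊔ NT := fun x hx => hf₁.apply_mem (hstX hn₁W hn₁T) hx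
    refine ⟨h₂ * (n₂ * h₁ * n₂⁻¹), n₂ * n₁, fun x => f₂ (f₁ x),
      mul_mem hh₂ ⟨hHn.conj_mem h₁ hh₁.1 n₂, mul_mem (mul_mem hn₂W hh₁.2) (Subgroup.inv_mem _ hn₂W)⟩,
      mul_mem hn₂W hn₁W, mul_mem hn₂T hn₁T, ?_, hf₁.comp hf₂ hf₁X, hγ.trans hc hδ hf₁X⟩
    rw [show h₂ * (n₂ * h₁ * n₂⁻¹) * (n₂ * n₁) = h₂ * n₂ * (h₁ * n₁) by group]
    exact hσ.comp hτ hσW
  have hconj : ∀ s (hs : s ∈ normalizerIn S W), Val (fun x => s * x * s⁻¹) (D.bar s) := fun s hs => by
    refine ⟨1, M.ι ⟨s, hNV hs⟩, fun x => s * x * s⁻¹, one_mem _,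
      (M.ι_mem_stab_iff hWN _).2 hs.2, (M.ι_mem_stab_iff hNTV _).2 (hNTn hs), ?_,
      WModel.real_conj hXN _, th_conj hc hXS hs.1⟩
    rw [one_mul]
    exact WModel.real_conj hWN _
  have hinv : ∀ σ τ γ, Val σ γ → (∀ x ∈ W, τ (σ x) = x) → Val τ γ⁻¹ := by
    rintro σ τ γ ⟨h, n, f, hh, hnW, hnT, hσ, hf, hγ⟩ he
    have hσi : img W σ = W := img_eq_of_mapsTo (Th.isMap hc (hth σ γ ⟨h, n, f, hh, hnW, hnT, hσ, hf, hγ⟩))
      fun x hx => hσ.apply_mem (mul_mem hh.2 hnW) hx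
    haveI := finite_of_le hXS
    have hfX : img (W ⊔ NT) f = W ⊔ NT := img_eq_of_mapsTo (Th.isMap hc hγ)
      fun x hx => hf.apply_mem (hstX hnW hnT) hx
    obtain ⟨k, hk, hkx⟩ := Th.exists_inv hc hγ
    have hkr := hf.inv (Th.isMap hc hγ) (hfX.le.trans hXN) hkx
    rw [hfX] at hk hkr
    refine ⟨n⁻¹ * h⁻¹ * n, n⁻¹, k, ⟨?_, ?_⟩, Subgroup.inv_mem _ hnW, Subgroup.inv_mem _ hnT, ?_, hkr, hk⟩
    · have h1 := hHn.conj_mem h⁻¹ (Subgroup.inv_mem _ hh.1) n⁻¹
      rwa [inv_inv] at h1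
    · exact mul_mem (mul_mem (Subgroup.inv_mem _ hnW) (Subgroup.inv_mem _ hh.2)) hnW
    · rw [show n⁻¹ * h⁻¹ * n * n⁻¹ = (h * n)⁻¹ by group]
      have h2 := hσ.inv (Th.isMap hc (hth σ γ ⟨h, n, f, hh, hnW, hnT, hσ, hf, hγ⟩))
        (hσi.le.trans hWN) he
      rwa [hσi] at h2
  -- the maps extending to a map with a value
  let Ext : Subgroup Ω → (Ω → Ω) → Prop := fun Y g => ∃ k γ, IsMap F (Y ⊔ W) k ∧
    (∀ x ∈ Y, k x = g x) ∧ img W k = W ∧ Val k γ ∧ (W < Y ⊔ W → D.Th (Y ⊔ W) k γ)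
  have hExt : ∀ X k, W < X → X ≤ normalizerIn S W → IsMap F X k → img W k = W →
      ∃ k' γ, (∀ x ∈ X, k' x = k x) ∧ Val k' γ ∧ D.Th X k' γ := by
    intro X k hWX' hX hk hki
    let Sub := predSys (normalizerSys F W hWn.1) Ext
      (fun P f g _ ⟨k, γ, hk, hkf, hkW, hv, ht⟩ he =>
        ⟨k, γ, hk, fun x hx => (hkf x hx).trans (he x hx), hkW, hv, ht⟩)
      (fun P s hP hs => by
        have hPS : P ⊔ W ≤ S := sup_le (hP.trans hNS) hWS
        refine ⟨fun x => s * x * s⁻¹, D.bar s, isMap_conj F hPS hs.1, fun _ _ => rfl,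
          img_eq_of_mapsTo (isMap_conj F hWS hs.1) fun x hx => (hs.2 x).1 hx, hconj s hs,
          fun _ => th_conj hc hPS hs.1⟩)
      (fun P Q f g hf hg ⟨k₁, γ₁, hk₁, hk₁f, hk₁W, hv₁, ht₁⟩ ⟨k₂, γ₂, hk₂, hk₂g, hk₂W, hv₂, ht₂⟩
          hfQ => by
        have hle : img (P ⊔ W) k₁ ≤ Q ⊔ W := hk₁.img_sup_le le_sup_left le_sup_right
          (fun y hy => by
            obtain ⟨x, hx, rfl⟩ := (hk₁.mono le_sup_left).mem_img.1 hy
            rw [hk₁f x hx]
            exact mem_sup_left (hfQ x hx)) (hk₁W.le.trans le_sup_right)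
        have hmem : ∀ x ∈ P ⊔ W, k₁ x ∈ Q ⊔ W := fun x hx => hle (hk₁.apply_mem_img hx)
        refine ⟨fun x => k₂ (k₁ x), γ₂ * γ₁, hk₁.comp hk₂ hmem, fun x hx => ?_, ?_,
          hmul _ _ _ _ hv₁ hv₂, fun hlt => (ht₁ hlt).trans hc (ht₂ ?_) hmem⟩
        · show k₂ (k₁ x) = g (f x)
          rw [hk₁f x hx, hk₂g _ (hfQ x hx)]
        · rw [img_comp_eq (hk₁.mono le_sup_right) (hk₂.mono le_sup_right)
            fun x hx => hk₁W.le ((hk₁.mono le_sup_right).apply_mem_img hx), hk₁W, hk₂W]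
        · refine lt_of_le_of_ne le_sup_right fun e => ?_
          haveI := finite_of_le hk₁.le
          refine hlt.ne (eq_of_le_of_card_le le_sup_right ?_)
          rw [← hk₁.card_img]
          exact Subgroup.card_le_of_le (hle.trans e.ge))
      (fun P f j hf ⟨k, γ, hk, hkf, hkW, hv, ht⟩ hj hjf => by
        obtain ⟨i, hi, hix, hiy, -⟩ := hk.exists_inv
        have hPf : img P f = img P k := img_congr fun x hx => (hkf x hx).symm
        have himg : img P f ⊔ W = img (P ⊔ W) k := by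
          rw [hPf]
          refine le_antisymm (sup_le (img_mono le_sup_left) (hkW.ge.trans (img_mono le_sup_right))) ?_
          exact hk.img_sup_le le_sup_left le_sup_right le_sup_left (hkW.le.trans le_sup_right)
        refine ⟨i, γ⁻¹, himg ▸ hi, fun y hy => ?_, ?_, hinv k i γ hv fun x hx =>
          hix x (mem_sup_right hx), fun hlt => ?_⟩
        · rw [hPf] at hy
          obtain ⟨x, hx, rfl⟩ := (hk.mono le_sup_left).mem_img.1 hy
          rw [hix x (mem_sup_left hx), hkf x hx, hjf x hx]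
        · have hiW : IsMap F W i := hi.mono (hkW.ge.trans (img_mono le_sup_right))
          refine img_eq_of_mapsTo hiW fun y hy => ?_
          obtain ⟨x, hx, rfl⟩ := (hk.mono le_sup_right).mem_img.1 (hkW.ge hy)
          rw [hix x (mem_sup_right hx)]
          exact hx
        · rw [himg] at hlt ⊢
          obtain ⟨i', hi', hi'x⟩ := Th.exists_inv hc (ht (lt_of_le_of_ne le_sup_right fun e => by
            haveI := finite_of_le hk.img_le
            refine hlt.ne (eq_of_le_of_card_le hlt.le ?_)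
            rw [hk.card_img, ← e]))
          refine hi'.congr hc fun y hy => ?_
          obtain ⟨x, hx, rfl⟩ := hk.mem_img.1 hy
          rw [hi'x x hx, hix x hx])
    have hle : normalizerSys F W hWn.1 ≤ Sub := by
      refine alperin_inductive (hS.to_le hNS) (isSaturated_normalizerSystem hS hF hWn hN)
        fun R hRn hlarge α hα => ?_
      have hRN : R ≤ normalizerIn S W := hRn.1
      have hαN := isMap_autFun hRN hα
      refine (autGroup_iff_isMap hRN fun x => (autFun_apply α x.2).symm).2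
        (isMap_predSys_iff.2 ⟨hαN, ?_⟩)
      obtain ⟨-, -, k, hk, hkα, hkW⟩ := (isMap_normalizerSystem_iff hN).1 hαN
      have hRS : R ≤ S := hRN.trans hNS
      have hR'N : R ⊔ W ≤ normalizerIn S W := sup_le hRN hWNS
      haveI := finite_of_le hRS
      haveI := finite_of_le (hR'N.trans hNS)
      by_cases hWR : W ≤ R
      swap
      · have hcard : Nat.card R < Nat.card (R ⊔ W : Subgroup Ω) := lt_of_not_ge fun h =>
          hWR (le_sup_right.trans (eq_of_le_of_card_le le_sup_left h).ge)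
        have hkN : IsMap (normalizerSys F W hWn.1) (R ⊔ W) k :=
          (isMap_normalizerSystem_iff hN).2 ⟨hR'N, fun x hx => by
            have h := hk.apply_mem_normalizerIn le_sup_right hx (hR'N hx).2
            rwa [hkW] at h, k, by rwa [sup_assoc, sup_idem], fun _ _ => rfl, hkW⟩
        obtain ⟨k', γ, hk', hk'k, hk'W, hv, ht⟩ := (isMap_predSys_iff.1 (hlarge _ _ hkN hcard)).2
        rw [sup_assoc, sup_idem] at hk' ht
        exact ⟨k', γ, hk', fun x hx => (hk'k x (mem_sup_left hx)).trans (hkα x hx), hk'W, hv, ht⟩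
      have eR : R ⊔ W = R := sup_eq_left.2 hWR
      rw [eR] at hk
      rcases hWR.eq_or_lt with e | hlt
      · subst e
        obtain ⟨γ, hγ⟩ := htotal k hk hkW
        refine ⟨k, γ, by rwa [eR], hkα, hkW, hγ, fun h => absurd h ?_⟩
        rw [eR]
        exact lt_irrefl _
      have hkR : ∀ x ∈ R, k x ∈ R := fun x hx => by
        rw [hkα x hx]
        exact autFun_mem α hx
      have hRV : R ≤ normalizerIn S (W ⊓ T) := hRN.trans hNV
      have hVR : W ⊓ T ≤ R := hVW.trans hWR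
      have hkWm : ∀ x ∈ W, k x ∈ W := fun x hx =>
        hkW.le ((hk.mono hWR).apply_mem_img hx)
      haveI : Finite (W ⊓ T : Subgroup Ω) := finite_of_le (hVW.trans hWS)
      obtain ⟨m, hm⟩ := WModel.exists_real (M := M) hRV hVR hk (fun x hx => hRV (hkR x hx))
        (img_eq_of_mapsTo (hk.mono hVR) fun x hx =>
          ⟨hkWm x hx.1, StronglyClosed.apply_mem hc.closed hk (hWR hx.1) hx.2⟩)
      have hmW : m ∈ M.stab W := (hm.mono hWR).mem_stab hkWm
      have hmR : m ∈ M.stab R := hm.mem_stab hkR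
      obtain ⟨QR, hQR⟩ := exists_sylow_stab hS hF M hVW hWR hRN hRV hWn hNV hRn
      obtain ⟨QH, hQH⟩ := exists_sylow_sub (K := H ⊓ (M.stab W ⊓ M.stab R)) hPp QR hQR
        inf_le_right fun g hg z hz _ =>
          ⟨hHn.conj_mem z hz.1 g, mul_mem (mul_mem hg hz.2) (Subgroup.inv_mem _ hg)⟩
      obtain ⟨k₀, hk₀, hk₀m⟩ := frattini hPp QH hQH (m := m)
        (mem_normalizer_of_conj_le fun z hz => ⟨hHn.conj_mem z hz.1 m,
          mul_mem (mul_mem ⟨hmW, hmR⟩ hz.2) (Subgroup.inv_mem _ ⟨hmW, hmR⟩)⟩)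
      have hTRV : normalizerIn NT R ≤ normalizerIn S (W ⊓ T) := inf_le_left.trans hNTV
      have hisR : M.isub (normalizerIn NT R) = M.ι.range ⊓ (H ⊓ (M.stab W ⊓ M.stab R)) := by
        refine le_antisymm (fun z hz => ?_) fun z hz => ?_
        · obtain ⟨t, htN, ht, rfl⟩ := M.exists_of_mem_isub hz
          exact ⟨⟨_, rfl⟩, (hHT t htN).2 ht.1.1, (M.ι_mem_stab_iff hWN htN).2 ht.1.2,
            (M.ι_mem_stab_iff hRV htN).2 ht.2⟩
        · obtain ⟨t, ht, rfl⟩ := hPK z hz.1 ⟨hz.2.1, hz.2.2.1⟩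
          exact (M.mem_isub _).2 ⟨ht, (M.ι_mem_stab_iff hRV _).1 hz.2.2.2⟩
      rw [← hisR] at hk₀m
      have hnW : k₀ * m ∈ M.stab W := mul_mem hk₀.2.1 hmW
      have hnR : k₀ * m ∈ M.stab R := mul_mem hk₀.2.2 hmR
      obtain ⟨f, γ, hf, hvf, htf⟩ :
          ∃ f γ, M.Real R f (k₀ * m) ∧ Val f γ ∧ D.Th R f γ := by
        by_cases hTR : normalizerIn NT R ≤ R
        · have hNTR : NT ≤ R := le_of_normalizer_inf_le hS hRS (hNTN.trans hNS)
            (fun a ha => hNTn (hRN ha)) fun a ha han => hTR ⟨ha, han⟩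
          obtain ⟨f, hf, hfn, -, hfR⟩ := WModel.exists_map hVR hRV hnR
          have hnT : k₀ * m ∈ M.stab NT := (hfn.mono hNTR).mem_stab fun x hx =>
            ⟨StronglyClosed.apply_mem hc.closed hf (hNTR hx) hx.1, (hRN (hfR x (hNTR hx))).2⟩
          obtain ⟨γ, hγ⟩ := (IH R (hW.mono hWR hRS) (hXcard R hRS hlt)).1 f hf
          have hXR : W ⊔ NT ≤ R := sup_le hWR hNTR
          exact ⟨f, γ, hfn, ⟨1, k₀ * m, f, one_mem _, hnW, hnT,
            by rw [one_mul]; exact hfn.mono hWR, hfn.mono hXR, Th.mono hc hγ hXR⟩, hγ⟩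
        · have hR2 : R ⊔ normalizerIn NT R ≤ normalizerIn S W :=
            sup_le hRN (inf_le_left.trans hNTN)
          have hR2' : R < R ⊔ normalizerIn NT R := left_lt_sup.2 hTR
          obtain ⟨f, hf, hfn, -, hfR⟩ := WModel.exists_map (hVR.trans hR2'.le)
            (hR2.trans hNV) (WModel.stab_inf_le_sup hRV hTRV ⟨hnR, hk₀m⟩)
          have hWR2 : W ≤ R ⊔ normalizerIn NT R := hWR.trans le_sup_left
          have hfW : img W f = W := img_eq_of_mapsTo (hf.mono hWR2) fun x hx =>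
            (hfn.mono hWR2).apply_mem hnW hx
          have hfN : IsMap (normalizerSys F W hWn.1) (R ⊔ normalizerIn NT R) f :=
            (isMap_normalizerSystem_iff hN).2 ⟨hR2, fun x hx => hR2 (hfR x hx), f,
              by rwa [sup_eq_left.2 hWR2], fun _ _ => rfl, hfW⟩
          haveI := finite_of_le (hR2.trans hNS)
          obtain ⟨k', γ, hk', hk'f, hk'W, hv, ht⟩ := (isMap_predSys_iff.1 (hlarge _ _ hfN
            (lt_of_not_ge fun h => hR2'.ne (eq_of_le_of_card_le hR2'.le h)))).2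
          rw [sup_eq_left.2 hWR2] at ht
          exact ⟨k', γ, (hfn.mono le_sup_left).congr fun x hx => (hk'f x (mem_sup_left hx)).symm,
            hv, Th.mono hc (ht (hlt.trans hR2')) le_sup_left⟩
      obtain ⟨g, hg, hgT⟩ := th_side (D := D) hc M H hHT hside hVc hVR hRV
        (K := H ⊓ (M.stab W ⊓ M.stab R)) (fun a ha => ⟨ha.1, ha.2.2⟩) QH hQH k₀⁻¹ (Subgroup.inv_mem _ hk₀)
      have hfR : ∀ x ∈ R, f x ∈ R := fun x hx => hf.apply_mem hnR hx
      have hgv : Val g 1 := by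
        refine ⟨k₀⁻¹, 1, id, ⟨Subgroup.inv_mem _ hk₀.1, Subgroup.inv_mem _ hk₀.2.1⟩, one_mem _, one_mem _, ?_,
          WModel.real_one hXN, th_id hc hXS⟩
        rw [mul_one]
        exact hg.mono hWR
      have hgf : ∀ x ∈ R, g (f x) = k x := fun x hx => by
        have h1 := hf.comp hg hfR
        rw [inv_mul_cancel_left] at h1
        exact h1.unique hm hx
      refine ⟨k, γ, by rwa [eR], hkα, hkW, ?_, fun _ => ?_⟩
      · have h1 := hcongr _ k _ (hmul _ _ _ _ hvf hgv) fun x hx => hgf x (hWR hx)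
        rwa [one_mul] at h1
      · have h1 := (htf.trans hc hgT hfR).congr hc hgf
        rw [one_mul] at h1
        rwa [eR]
    have eX : X ⊔ W = X := sup_eq_left.2 hWX'.le
    have hkN : IsMap (normalizerSys F W hWn.1) X k :=
      (isMap_normalizerSystem_iff hN).2 ⟨hX, fun x hx => by
        have h := hk.apply_mem_normalizerIn hWX'.le hx (hX hx).2
        rwa [hki] at h, k, by rwa [eX], fun _ _ => rfl, hki⟩
    obtain ⟨k', γ, -, hk'k, -, hv, ht⟩ := (isMap_predSys_iff.1 (le_iff_isMap.1 hle X k hkN)).2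
    rw [eX] at ht
    exact ⟨k', γ, hk'k, hv, ht hWX'⟩
  refine ⟨Val, ⟨htotal, hth, hmul, hcongr, ?_, ?_, ?_⟩⟩
  · rintro σ γ ⟨h, n, f, hh, hnW, hnT, hσ, hf, hγ⟩ hid
    obtain ⟨c, hcN, hcC, e⟩ := (hσ.congr (f := id) hid).exists_centralizer hVW
    have hcW : c ∈ normalizerIn S W := centralizerIn_le_normalizerIn hcC
    have hcT : M.ι ⟨c, hcN⟩ ∈ M.stab NT := (M.ι_mem_stab_iff hNTV hcN).2 (hNTn hcW)
    have hh2 : h ∈ H ⊓ M.stab W ⊓ M.stab NT := by
      refine ⟨hh, ?_⟩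
      rw [show h = M.ι ⟨c, hcN⟩ * n⁻¹ by rw [e, mul_inv_cancel_right]]
      exact mul_mem hcT (Subgroup.inv_mem _ hnT)
    obtain ⟨g, hg, hgT⟩ := hsideX h hh2
    have hfX : ∀ x ∈ W ⊔ NT, f x ∈ W ⊔ NT := fun x hx => hf.apply_mem (hstX hnW hnT) hx
    have hgc : ∀ x ∈ W ⊔ NT, g (f x) = c * x * c⁻¹ := fun x hx => by
      have h1 := hf.comp hg hfX
      rw [← e] at h1
      exact h1.unique (WModel.real_conj hXN hcN) hx
    have hcc := th_conj (D := D) hc hXS (hcC.1)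
    obtain ⟨j, hj, hjx⟩ := Th.exists_inv hc hcc
    have h1 := (hγ.trans hc hgT hfX).congr hc hgc
    rw [one_mul] at h1
    have hid' : D.Th (W ⊔ NT) id ((D.bar c)⁻¹ * γ) :=
      (h1.trans hc hj fun x hx => (Th.isMap hc hcc).apply_mem_img hx).congr hc
        fun x hx => hjx x hx
    obtain ⟨d, hdC, hd⟩ := dX_mem hc hW hWn IH M' hWX (sup_le hWNS hNTN) hid'
    refine ⟨c * d, mul_mem hcC hdC, ?_⟩
    rw [bar_mul hc hcC.1 hdC.1, hd, mul_inv_cancel_left]
  · intro β hβ hcop htriv hce hE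
    haveI : Finite (W ⊓ T : Subgroup Ω) := finite_of_le (hVW.trans hWS)
    have hbm := isMap_autFun hWS hβ
    obtain ⟨m, hm⟩ := WModel.exists_real (M := M) hWN hVW hbm
      (fun x hx => hWN (autFun_mem β hx))
      (img_eq_of_mapsTo (hbm.mono hVW) fun x hx =>
        ⟨autFun_mem β hx.1, StronglyClosed.apply_mem hc.closed hbm hx.1 hx.2⟩)
    have hper : ∀ x ∈ W, (autFun β)^[orderOf β] x = x := by
      intro x hx
      have h1 : ∀ i : ℕ, (autFun β)^[i] x = (((β ^ i) ⟨x, hx⟩ : W) : Ω) := by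
        intro i
        induction i with
        | zero => simp
        | succ i ih =>
          rw [Function.iterate_succ_apply', ih, autFun_apply β (Subtype.mem _), pow_succ',
            MulAut.mul_apply]
      rw [h1, pow_orderOf_eq_one]
      rfl
    obtain ⟨j, hj, hmj⟩ :=
      hm.exists_coprime (fun x hx => autFun_mem β hx) (n := orderOf β) hcop hper
    refine ⟨m ^ j, 1, id, ⟨hcopH _ hj (autFun β) hE fun x hx =>
      ⟨hmj.mem hx.1, hmj.eq hx.1⟩, hmj.mem_stab fun x hx => autFun_mem β hx⟩,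
      one_mem _, one_mem _, by rwa [mul_one], WModel.real_one hXN, th_id hc hXS⟩
  · intro X k γ hWX' hX hk hki
    have hkm := Th.isMap hc hk
    obtain ⟨k', γ₀, hk'k, hv, ht⟩ := hExt X k hWX' hX hkm hki
    obtain ⟨j, hj, hjx⟩ := Th.exists_inv hc (ht.congr hc hk'k)
    have hid : D.Th X id (γ₀⁻¹ * γ) :=
      (hk.trans hc hj fun x hx => hkm.apply_mem_img hx).congr hc fun x hx => hjx x hx
    obtain ⟨c, hcC, hc'⟩ := dX_mem hc hW hWn IH M' hWX' hX hid
    have h1 := hmul _ _ _ _ (hconj c (centralizerIn_le_normalizerIn hcC)) hv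
    rw [hc', mul_inv_cancel_left] at h1
    refine hcongr _ k _ h1 fun x hx => ?_
    show k' (c * x * c⁻¹) = k x
    rw [← hcC.2 x hx, mul_inv_cancel_right, hk'k x (hWX'.le hx)]

end CfsgLib.Comp.EBal.TopData
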