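import Cfsg.Agent.Lib.Comp.NormalMapExt
import Cfsg.Agent.S5110

/-!
The system of the generated maps is saturated and its automizers at centric subgroups are the
given groups.
-/

set_option autoImplicit false
set_option linter.unusedVariables false
set_option linter.unusedSectionVars false
set_option linter.style.haveILetI false

namespace CfsgLib.Comp.NMap

open Cfsg Cfsg.FusionSystem Subgroup CfsgLib.Fusion

variable {Ω : Type*} [Group Ω] {S A : Subgroup Ω} {F : FusionSystem S}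
  {K : ∀ U : Subgroup Ω, Subgroup (MulAut U)} {p c : ℕ} {P Q R U V : Subgroup Ω} {f g : Ω → Ω}

variable [Fact p.Prime] [Finite S] (hd : Datum F A p K)

include hd

/-- Transport of an element of the family along a map. -/
theorem exists_conj_mem (hU : U ≤ A) (hf : IsMap F U f) (hi : img U f = V) {β : MulAut U}
    (hβ : β ∈ K U) : ∃ β' ∈ K V, ∀ x : U, autFun β' (f x) = f ((β x : U) : Ω) := by
  subst hi
  have hval : ∀ (x : U) (h : f x ∈ img U f),
      ((MulAut.congr hf.equivImg β ⟨f x, h⟩ : img U f) : Ω) = f ((β x : U) : Ω) := by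
    intro x h
    rw [show (⟨f x, h⟩ : img U f) = hf.equivImg x from Subtype.ext (hf.coe_equivImg x).symm]
    show ((hf.equivImg (β (hf.equivImg.symm (hf.equivImg x))) : img U f) : Ω) = _
    rw [MulEquiv.symm_apply_apply, IsMap.coe_equivImg]
  refine ⟨_, hd.congr U _ f hU hf rfl β hβ _ hval, fun x => ?_⟩
  rw [autFun_apply _ (hf.apply_mem_img x.2), hval]

/-- A map is an element of the family followed by a map from larger subgroups. -/
theorem kmap_split (h : KMap F A K c P f) :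
    ∀ U ≤ P, MCentric F A U → Nat.card U < Nat.card A →
      ∃ κ ∈ K U, ∃ j, KMap F A K (Nat.card U) U j ∧ ∀ x ∈ U, f x = j (autFun κ x) := by
  induction h with
  | @res P R β f hR hc hβ hPR hf =>
    intro U hU hUm hUA
    haveI := finite_of_le (hR.1.trans hd.closed.1)
    have hUR : U ≤ R := hU.trans hPR
    rcases lt_or_eq_of_le (Subgroup.card_le_of_le hUR) with hlt | heq
    · exact ⟨1, one_mem _, f, .res hR hlt hβ hUR fun x hx => hf x (hU hx),
        fun x hx => by rw [autFun_one hx]⟩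
    · have e : U = R := eq_of_le_of_card_le hUR heq.ge
      subst e
      exact ⟨β, hβ, id, kmap_id hd hUA hUm.1, fun x hx => hf x (hU hx)⟩
  | @comp P Q f g h h₁ hmem h₂ hh ih₁ ih₂ =>
    intro U hU hUm hUA
    obtain ⟨κ, hκ, j, hj, hjx⟩ := ih₁ U hU hUm hUA
    obtain ⟨-, hjm, hjA⟩ := hj.isMap hd
    set V := img U j with hV
    have hfm := (h₁.isMap hd).2.1
    have hVQ : V ≤ Q := fun y hy => by
      obtain ⟨x, hx, rfl⟩ := hjm.mem_img.1 hy
      obtain ⟨x', hx'⟩ := κ.surjective ⟨x, hx⟩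
      have e : j x = f x' := by
        rw [hjx _ x'.2, autFun_apply κ x'.2, hx']
      rw [e]
      exact hmem _ (hU x'.2)
    have hVc : Nat.card V = Nat.card U := hjm.card_img
    obtain ⟨κ', hκ', j', hj', hj'x⟩ :=
      ih₂ V hVQ (mcentric_conj hd hUm hjm.isConj) (hVc ▸ hUA)
    obtain ⟨k, hk, hkx, hky, hki⟩ := hjm.exists_inv
    obtain ⟨κ'', hκ'', hκ''x⟩ := exists_conj_mem hd (V := U)
      (fun y hy => by obtain ⟨x, hx, rfl⟩ := hjm.mem_img.1 hy; exact hjA x hx) hk hki hκ'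
    refine ⟨κ'' * κ, mul_mem hκ'' hκ, fun x => j' (j x),
      .comp hj (fun x hx => hjm.apply_mem_img hx) (hVc ▸ hj') (fun _ _ => rfl), fun x hx => ?_⟩
    show h x = j' (j (autFun (κ'' * κ) x))
    have hu : autFun κ x ∈ U := autFun_mem κ hx
    have hv : j (autFun κ x) ∈ V := hjm.apply_mem_img hu
    have e1 := hκ''x ⟨_, hv⟩
    simp only [hkx _ hu] at e1
    rw [autFun_mul_apply _ _ hx, e1, (hky _ (Subtype.mem _)).2, hh x (hU hx), hjx x hx,
      hj'x _ hv, autFun_apply κ' hv]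

/-- Automorphisms of `A` itself. -/
theorem kmap_top (h : KMap F A K c P f) : P = A → ∃ κ ∈ K A, ∀ x ∈ A, f x = autFun κ x := by
  haveI := finite_of_le hd.closed.1
  induction h with
  | @res P R β f hR hc hβ hPR hf =>
    rintro rfl
    have e : R = P := le_antisymm hR.1 hPR
    subst e
    exact ⟨β, hβ, hf⟩
  | @comp P Q f g h h₁ hmem h₂ hh ih₁ ih₂ =>
    rintro rfl
    obtain ⟨κ, hκ, hκx⟩ := ih₁ rfl
    have e : Q = P := le_antisymm (h₂.isMap hd).1 fun y hy => by
      obtain ⟨x, hx⟩ := κ.surjective ⟨y, hy⟩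
      have h' := hmem x x.2
      rwa [hκx x x.2, autFun_apply κ x.2, hx] at h'
    subst e
    obtain ⟨κ', hκ', hκ'x⟩ := ih₂ rfl
    refine ⟨κ' * κ, mul_mem hκ' hκ, fun x hx => ?_⟩
    rw [hh x hx, autFun_mul_apply _ _ hx, hκx x hx, hκ'x _ (autFun_mem κ hx)]

/-- The automorphisms of `R` in the maps over any bound are those of the family. -/
def Loops (F : FusionSystem S) (A : Subgroup Ω) (K : ∀ U : Subgroup Ω, Subgroup (MulAut U))
    (R : Subgroup Ω) : Prop :=
  ∀ c, c < Nat.card R → ∀ f, KMap F A K c R f → img R f = R →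
    ∃ κ ∈ K R, ∀ x ∈ R, f x = autFun κ x

omit hd in
theorem loops_use (hL : Loops F A K R) (hc : c < Nat.card R) (h : KMap F A K c R f)
    (hi : img R f = R) {α : MulAut R} (hα : ∀ x : R, ((α x : R) : Ω) = f x) : α ∈ K R := by
  obtain ⟨κ, hκ, hκx⟩ := hL c hc f h hi
  have e : α = κ := MulEquiv.ext fun x => Subtype.ext (by
    rw [hα, hκx x x.2, autFun_apply κ x.2])
  exact e ▸ hκ

theorem autGroup_sys (hR : MCentric F A R) (hL : Loops F A K R) (hc : c < Nat.card A)
    (hcR : c < Nat.card R) : (sys hd hc).autGroup R = K R := by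
  ext α
  constructor
  · intro hα
    have h := isMap_autFun hR.1 hα
    exact loops_use hL hcR ((isMap_sys_iff hd hc).1 h) CfsgLib.Comp.Fus.img_autFun fun x =>
      (autFun_apply α x.2).symm
  · intro hα
    refine (autGroup_iff_isMap hR.1 fun x => (autFun_apply α x.2).symm).2 ?_
    exact (isMap_sys_iff hd hc).2 (.res hR hcR hα le_rfl fun _ _ => rfl)

variable (hS : IsPGroup p S) (hF : F.IsSaturated p)

include hS hF

theorem fullyNormalized_sys (hQA : Q ≤ A) (hQn : F.IsFullyNormalized Q) (hc : c < Nat.card A) :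
    (sys hd hc).IsFullyNormalized Q := by
  refine ⟨hQA, fun R hR => ?_⟩
  obtain ⟨ψ, hψ, hψi, hψN⟩ :=
    exists_map_normalizerIn_of_fullyNormalized hS hF hQn (isConj_symm (isConj_sys hd hc hR))
  haveI := finite_of_le hd.closed.1
  haveI : Finite (normalizerIn A Q) := finite_normalizerIn
  have hmem : ∀ a : normalizerIn A R, (a : Ω) ∈ normalizerIn S R := fun a =>
    ⟨hd.closed.1 a.2.1, a.2.2⟩
  refine Nat.card_le_card_of_injective (fun a : normalizerIn A R => (⟨ψ a,
    StronglyClosed.apply_mem hd.closed hψ (hmem a) a.2.1, (hψN a (hmem a)).2⟩ :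
      normalizerIn A Q)) fun a b hab => ?_
  exact Subtype.ext (hψ.inj (hmem a) (hmem b) (congrArg Subtype.val hab))

/-- Fully automized. -/
theorem fullyAutomized_sys (hQm : MCentric F A Q) (hQn : F.IsFullyNormalized Q)
    (hL : Loops F A K Q) (hc : c < Nat.card A) (hcQ : c < Nat.card Q) :
    (sys hd hc).IsFullyAutomized p Q := by
  refine ⟨hQm.1, ?_⟩
  rw [autGroup_sys hd hQm hL hc hcQ]
  obtain ⟨P₀, hP₀⟩ := exists_sylow_inner hd hS hF hQm hQn
  exact ⟨P₀, hP₀⟩

/-- The setup of a class. -/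
theorem classSetup (hP : MCentric F A P) (hlt : P < A)
    (hbig : ∀ R, MCentric F A R → Nat.card P < Nat.card R → ∀ c (hc : c < Nat.card A),
      c < Nat.card R → LocSat (sys hd hc) p R) (hPA : Nat.card P < Nat.card A) :
    ClassSetup (sys hd hPA) p {R | MCentric F A R ∧ Nat.card P < Nat.card R} P where
  isPGroup := hS.to_le hd.closed.1
  gen := gen_sys hd hPA
  lt := hlt
  notMem x hx h := by
    have := isConj_card hx
    have := h.2
    omega
  big R hR hc := fun ⟨x, hx, hxR⟩ =>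
    hbig R (mcentric_mono hd (mcentric_conj hd hP (isConj_sys hd hPA hx)) hxR hR) hc _ hPA hc

/-- One step of the computation of the automorphisms at a fully normalized member of a class. -/
theorem loop_step {M : ℕ} (hM : M < Nat.card A) (hPM : Nat.card P = M)
    (h : ClassSetup (sys hd hM) p {R | MCentric F A R ∧ Nat.card P < Nat.card R} P)
    (hP : MCentric F A P)
    (hbig : ∀ R, MCentric F A R → M < Nat.card R → Loops F A K R)
    (hQ : (sys hd hM).IsConj P Q) (hQn : (sys hd hM).IsFullyNormalized Q) :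
    ∀ (d : ℕ) (R : Subgroup Ω) (g : Ω → Ω), IsMap (sys hd hM) R g → Q < R →
      R ≤ normalizerIn A Q → img Q g = Q → Nat.card (normalizerIn A Q) ≤ Nat.card R + d →
      ∃ κ ∈ K Q, ∀ q ∈ Q, g q = autFun κ q := by
  have hA : IsPGroup p A := h.isPGroup
  haveI := finite_of_le hd.closed.1
  have hQA : Q ≤ A := isConj_le_right hQ
  have hQm : MCentric F A Q := mcentric_conj hd hP (isConj_sys hd hM hQ)
  have hQc : Nat.card Q = M := (isConj_card hQ).trans hPM
  haveI := finite_of_le (hQA.trans hd.closed.1)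
  intro d
  induction d with
  | zero =>
    intro R g hg hQR hR hgi hd0
    haveI := finite_normalizerIn (S := A) (P := Q)
    obtain rfl : R = normalizerIn A Q := eq_of_le_of_card_le hR (by omega)
    have hgR : img (normalizerIn A Q) g = normalizerIn A Q := by
      refine eq_of_le_of_card_le (fun y hy => ?_) hg.card_img.ge
      obtain ⟨a, ha, rfl⟩ := hg.mem_img.1 hy
      have h1 := hg.apply_mem_normalizerIn hQR.le ha ha.2
      rwa [hgi] at h1
    have hRm := mcentric_mono hd hQm hQR.le (inf_le_left : normalizerIn A Q ≤ A)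
    have hRc : M < Nat.card (normalizerIn A Q) := by
      rw [← hQc]
      exact lt_of_not_ge fun hh => hQR.ne (eq_of_le_of_card_le hQR.le hh)
    obtain ⟨κ, hκ, hκx⟩ := hbig _ hRm hRc M hRc g ((isMap_sys_iff hd hM).1 hg) hgR
    have hgQ := hg.mono hQR.le
    refine ⟨hgQ.toAut hgi, hd.res Q _ hQm hQR.le inf_le_left κ hκ _ (fun x => ?_), fun q hq => ?_⟩
    · rw [IsMap.toAut_apply, hκx x (hQR.le x.2)]
    · rw [autFun_apply _ hq, IsMap.toAut_apply]
  | succ d ih =>
    intro R g hg hQR hR hgi hd1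
    rcases eq_or_lt_of_le hR with rfl | hRlt
    · exact ih _ g hg hQR le_rfl hgi (by omega)
    have hRA : R ≤ A := hR.trans inf_le_left
    haveI := finite_of_le (hRA.trans hd.closed.1)
    have hgm := (((isMap_sys_iff hd hM).1 hg).isMap hd)
    have hQR' : Q ≤ img R g := by
      have := img_mono (f := g) hQR.le
      rwa [hgi] at this
    have hR' : img R g ≤ normalizerIn A Q := by
      have := img_le_normalizerIn hg hQR.le hR
      rwa [hgi] at this
    have hn : M < Nat.card R := by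
      rw [← hQc]
      exact lt_of_not_ge fun hh => hQR.ne (eq_of_le_of_card_le hQR.le hh)
    have hRm := mcentric_mono hd hQm hQR.le hRA
    obtain ⟨R₀, hRR₀, ha, hr⟩ := h.big R hRA (by omega) ⟨Q, hQ, hQR.le⟩
    haveI := finite_of_le (ha.1.trans hd.closed.1)
    have hR₀m : MCentric F A R₀ := mcentric_conj hd hRm (isConj_sys hd hM hRR₀)
    have hcR₀ : Nat.card R₀ = Nat.card R := isConj_card hRR₀
    have hautR₀ : (sys hd hM).autGroup R₀ = K R₀ :=
      autGroup_sys hd hR₀m (hbig R₀ hR₀m (by omega)) hM (by omega)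
    obtain ⟨φ, hφ, hφi⟩ := isConj_iff.1 hRR₀
    obtain ⟨τ, hτ, hτi, hτN, -⟩ := exists_map_normalizerIn hA ha hr hφ hφi
    obtain ⟨φ', hφ', hφ'i⟩ := isConj_iff.1 (isConj_trans (isConj_symm hg.isConj) hRR₀)
    obtain ⟨τ', hτ', hτ'i, hτ'N, -⟩ := exists_map_normalizerIn hA ha hr hφ' hφ'i
    have hRN : R ≤ normalizerIn A R := le_normalizerIn hg.le
    have hR'N : img R g ≤ normalizerIn A (img R g) := le_normalizerIn hg.img_le
    -- the automorphism of the receptive conjugate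
    obtain ⟨ti, hti, htix, htiy, -⟩ := (hτ.mono hRN).exists_inv
    have hm1 := hti.comp hg fun a ha => (htiy a ha).1
    have hm2 := hm1.comp hτ' fun a ha => hR'N (hg.apply_mem_img (htiy a ha).1)
    rw [hτi] at hm2
    have hm2i : img R₀ (fun a => τ' (g (ti a))) = R₀ := by
      refine eq_of_le_of_card_le (fun b hb => ?_) hm2.card_img.ge
      obtain ⟨a, haR, rfl⟩ := hm2.mem_img.1 hb
      rw [← hτ'i]
      exact (hτ'.mono hR'N).apply_mem_img (hg.apply_mem_img (htiy a (hτi.symm ▸ haR)).1)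
    set α := hm2.toAut hm2i with hα
    have hαA : α ∈ (sys hd hM).autGroup R₀ := hm2.toAut_mem hm2i
    have hαx : ∀ u (hu : u ∈ R) (hτu : τ u ∈ R₀), ((α ⟨τ u, hτu⟩ : R₀) : Ω) = τ' (g u) := by
      intro u hu hτu
      rw [IsMap.toAut_apply, htix u hu]
    have hτQ : img Q τ ≤ R₀ := hτi ▸ img_mono hQR.le
    have hτ'Q : img Q τ' ≤ R₀ := hτ'i ▸ img_mono hQR'
    have hcα : Carries α (img Q τ) (img Q τ') := by
      intro a
      rw [IsMap.toAut_apply, (hτ.mono (hQR.le.trans hRN)).mem_img,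
        (hτ'.mono (hQR'.trans hR'N)).mem_img]
      have haR : (a : Ω) ∈ img R τ := hτi.symm ▸ a.2
      constructor
      · rintro ⟨u, hu, hua⟩
        refine ⟨g u, ?_, by rw [← hua, htix u (hQR.le hu)]⟩
        have := (hg.mono hQR.le).apply_mem_img hu
        rwa [hgi] at this
      · rintro ⟨v, hv, hva⟩
        rw [← hgi] at hv
        obtain ⟨u, hu, rfl⟩ := (hg.mono hQR.le).mem_img.1 hv
        refine ⟨u, hu, ?_⟩
        obtain ⟨h1, h2⟩ := htiy a haR
        have h3 := hτ'.inj (hR'N (hg.apply_mem_img (hQR.le hu))) (hR'N (hg.apply_mem_img h1)) hva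
        rw [hg.inj (hQR.le hu) h1 h3, h2]
    obtain ⟨β, hβ, Y, hY, hcβ, hβc, hsyl⟩ := exists_carries_sylow hA ha hτQ
    have hYc : (sys hd hM).IsConj P Y := by
      rw [← hcβ.img_eq ha.1 hβ hτQ hY]
      exact isConj_trans (isConj_trans hQ (hτ.mono (hQR.le.trans hRN)).isConj)
        ((isMap_autFun ha.1 hβ).mono hτQ).isConj
    have hYm : MCentric F A Y := mcentric_conj hd hP (isConj_sys hd hM hYc)
    obtain ⟨ψ, hψ, hψi, hψN⟩ := h.exists_map_to hQ hQn hYc
    -- a side: a receptive extension moving into `N_A(Q)`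
    have side : ∀ (R : Subgroup Ω) (τ : Ω → Ω) (β : MulAut R₀), Q ≤ R → R ≤ normalizerIn A Q →
        R < normalizerIn A Q → Nat.card R = Nat.card R₀ →
        IsMap (sys hd hM) (normalizerIn A R) τ → img R τ = R₀ →
        (∀ a ∈ normalizerIn A R, τ a ∈ normalizerIn A R₀) → β ∈ (sys hd hM).autGroup R₀ →
        Carries β (img Q τ) Y →
        (∀ κ ∈ autInducedBy (normalizerIn A (img Q τ)) R₀, β * κ * β⁻¹ ∈ autInducedBy A R₀) →
        ∃ κ ∈ K Q, ∀ q ∈ Q, autFun κ q = ψ (autFun β (τ q)) := by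
      intro R τ β hQR hR hRlt hRc hτ hτi hτN hβ hcβ hβc
      haveI := finite_of_le (hR.trans (inf_le_left.trans hd.closed.1))
      set L := normalizerIn (normalizerIn A Q) R with hL
      haveI : Finite L := finite_of_le (inf_le_left.trans (inf_le_left.trans hd.closed.1))
      have hRL : R ≤ L := le_inf hR Subgroup.le_normalizer
      haveI := finite_normalizerIn (S := A) (P := Q)
      have hRLlt : R < L := lt_normalizerIn (hA.to_le inf_le_left) hRlt
      have hLR : L ≤ normalizerIn A R := inf_le_inf_right _ inf_le_left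
      have hLQ : L ≤ normalizerIn A Q := inf_le_left
      have hm := hτ.mono hLR
      have hτQ : img Q τ ≤ R₀ := hτi ▸ img_mono hQR
      have hL₀ : R₀ ≤ img L τ := hτi ▸ img_mono hRL
      have hL₀R : img L τ ≤ normalizerIn A R₀ := fun z hz => by
        obtain ⟨a, ha, rfl⟩ := hm.mem_img.1 hz
        exact hτN a (hLR ha)
      have hL₀X : img L τ ≤ normalizerIn A (img Q τ) :=
        img_le_normalizerIn hm (hQR.trans hRL) hLQ
      obtain ⟨gb, hgb, hgbx⟩ := exists_extend hr hβ hL₀ hL₀R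
        fun κ hκ => hβc κ (autInducedBy_mono hL₀X hκ)
      have hcomp := hm.comp hgb fun a ha => hm.apply_mem_img ha
      have hQX : img Q (fun a => gb (τ a)) = Y := by
        rw [img_comp_eq (hm.mono (hQR.trans hRL)) hgb
            fun a ha => hm.apply_mem_img (hQR.trans hRL ha),
          img_congr fun a ha => hgbx a (hτQ ha)]
        exact hcβ.img_eq hr.1 hβ hτQ hY
      have hLY : ∀ a ∈ L, gb (τ a) ∈ normalizerIn A Y := fun a ha => by
        rw [← hQX]
        exact hcomp.apply_mem_normalizerIn (hQR.trans hRL) ha (hLQ ha).2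
      have hw := hcomp.comp hψ hLY
      have hwi : img Q (fun a => ψ (gb (τ a))) = Q := by
        rw [img_comp_eq (hcomp.mono (hQR.trans hRL)) hψ fun a ha => hLY a (hQR.trans hRL ha),
          hQX, hψi]
      have hlt : Nat.card R < Nat.card L :=
        lt_of_not_ge fun hh => hRLlt.ne (eq_of_le_of_card_le hRL hh)
      have hQR0 : Nat.card Q < Nat.card R := by omega
      obtain ⟨κ, hκ, hκx⟩ := ih L _ hw (lt_of_le_of_ne (hQR.trans hRL) fun e => by
        rw [← e] at hlt; omega) hLQ hwi (by omega)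
      refine ⟨κ, hκ, fun q hq => ?_⟩
      rw [← hκx q hq]
      show ψ (gb (τ q)) = ψ (autFun β (τ q))
      rw [hgbx _ (hτQ ((hm.mono (hQR.trans hRL)).apply_mem_img hq))]
    obtain ⟨κ₁, hκ₁, hκ₁q⟩ :=
      side R τ β hQR.le hR hRlt hcR₀.symm hτ hτi hτN hβ hcβ hβc
    set δ := β * α⁻¹ with hδ
    have hcδ : Carries δ (img Q τ') Y := hcα.inv.comp hcβ
    have hδA : δ ∈ (sys hd hM).autGroup R₀ := mul_mem hβ (inv_mem hαA)
    obtain ⟨w, hw, hwc⟩ := hsyl ((autInducedBy (normalizerIn A (img Q τ')) R₀).map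
        (MulAut.conj δ).toMonoidHom) ((isPGroup_autInducedBy_le hA inf_le_left R₀).map _) (by
        rintro _ ⟨u, hu, rfl⟩
        have hu' := autInducedBy_normalizerIn_le_stabAut (F := sys hd hM) ha.1 hu
        exact ⟨mul_mem (mul_mem hδA hu'.1) (inv_mem hδA), hcδ.inv.comp (hu'.2.comp hcδ)⟩)
    have hR'lt : img R g < normalizerIn A Q := lt_of_le_of_ne hR' fun e => by
      have h1 := hg.card_img
      rw [e] at h1
      haveI := finite_normalizerIn (S := A) (P := Q)
      exact hRlt.ne (eq_of_le_of_card_le hR (by omega))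
    obtain ⟨κ₃, hκ₃, hκ₃q⟩ := side (img R g) τ' (w * δ) hQR' hR' hR'lt
      (by rw [hg.card_img]; omega) hτ' hτ'i hτ'N
      (mul_mem hw.1 hδA) (hcδ.comp hw.2) fun κ hκ => by
        have := hwc _ ⟨κ, hκ, rfl⟩
        rw [mul_inv_rev]
        simp only [MulEquiv.coe_toMonoidHom, MulAut.conj_apply] at this
        simpa only [mul_assoc] using this
    -- the restriction of `w` to `Y`
    have hwK : w ∈ K R₀ := hautR₀ ▸ hw.1
    have hwm := (isMap_autFun ha.1 hw.1).mono hY
    have hwY : img Y (autFun w) = Y := hw.2.img_eq ha.1 hw.1 hY hY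
    set wY := hwm.toAut hwY
    have hwYK : wY ∈ K Y := hd.res Y R₀ hYm hY hR₀m.1 w hwK _ fun x => hwm.toAut_apply hwY x
    have hψY := hψ.mono (le_normalizerIn hYm.1)
    obtain ⟨κ₂, hκ₂, hκ₂x⟩ := exists_conj_mem hd hYm.1
      (((isMap_sys_iff hd hM).1 hψY).isMap hd).2.1 hψi hwYK
    refine ⟨κ₃⁻¹ * (κ₂ * κ₁), mul_mem (inv_mem hκ₃) (mul_mem hκ₂ hκ₁), fun q hq => ?_⟩
    have hgq : g q ∈ Q := hgi.le (Subgroup.subset_closure ⟨q, hq, rfl⟩)
    have hτq : τ q ∈ R₀ := hτQ (Subgroup.subset_closure ⟨q, hq, rfl⟩)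
    have hτ'gq : τ' (g q) ∈ R₀ := hτ'Q (Subgroup.subset_closure ⟨g q, hgq, rfl⟩)
    have hy : autFun β (τ q) ∈ Y := by
      rw [autFun_apply β hτq]
      exact (hcβ ⟨τ q, hτq⟩).1 (Subgroup.subset_closure ⟨q, hq, rfl⟩)
    have key : autFun κ₃ (g q) = autFun κ₂ (autFun κ₁ q) := by
      have h2 : (⟨τ' (g q), hτ'gq⟩ : R₀) = α ⟨τ q, hτq⟩ :=
        Subtype.ext (hαx q (hQR.le hq) hτq).symm
      rw [hκ₃q _ hgq, hκ₁q q hq]
      refine Eq.trans ?_ (hκ₂x ⟨_, hy⟩).symm
      congr 1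
      rw [IsMap.toAut_apply]
      show autFun (w * δ) (τ' (g q)) = autFun w (autFun β (τ q))
      rw [autFun_mul_apply _ _ hτ'gq, autFun_apply δ hτ'gq, h2, hδ, MulAut.mul_apply,
        MulAut.inv_apply_self, autFun_apply β hτq]
    rw [autFun_mul_apply _ _ hq, autFun_mul_apply _ _ hq, ← key, autFun_inv_apply κ₃ hgq]

/-- The automorphisms at any member of a class. -/
theorem loops_of_bigger (hP : MCentric F A P) (hlt : P < A)
    (hbig : ∀ R, MCentric F A R → Nat.card P < Nat.card R → Loops F A K R)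
    (hsat : ∀ R, MCentric F A R → Nat.card P < Nat.card R → ∀ c (hc : c < Nat.card A),
      c < Nat.card R → LocSat (sys hd hc) p R) : Loops F A K P := by
  haveI := finite_of_le hd.closed.1
  have hPA : Nat.card P < Nat.card A := by
    haveI := finite_of_le hd.closed.1
    exact lt_of_not_ge fun hh => hlt.ne (eq_of_le_of_card_le hlt.le hh)
  have h := classSetup hd hS hF hP hlt hsat hPA
  obtain ⟨Q, hQ, hQn⟩ := exists_fullyNormalized_conj (sys hd hPA) hlt.le
  have hA : IsPGroup p A := h.isPGroup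
  set J := sys hd hPA with hJ
  let C : Subgroup Ω → (Ω → Ω) → Prop := fun U f =>
    ∀ ψ ψ', IsMap J (normalizerIn A U) ψ → img U ψ = Q →
      IsMap J (normalizerIn A (img U f)) ψ' → img (img U f) ψ' = Q →
      ∃ κ ∈ K Q, ∀ x ∈ U, ψ' (f x) = autFun κ (ψ x)
  have hall : ∀ U, J.IsConj P U → ∀ f, IsMap J U f → C U f := by
    refine h.forall_maps C ?_ ?_ ?_ ?_
    · intro U R g hU hg hlt hR ψ ψ' hψ hψi hψ' hψ'i
      have hm := hψ.mono hR
      obtain ⟨k, hk, hkx, hky, -⟩ := hm.exists_inv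
      have hgR := img_le_normalizerIn hg hlt.le hR
      have h1 := hk.comp hg fun a ha => (hky a ha).1
      have h2 := h1.comp hψ' fun a ha => hgR (hg.apply_mem_img (hky a ha).1)
      have hQle : Q ≤ img R ψ := hψi ▸ img_mono hlt.le
      have hRle : img R ψ ≤ normalizerIn A Q := by
        have := img_le_normalizerIn hm hlt.le hR
        rwa [hψi] at this
      have hfix : ∀ x ∈ U, ψ' (g (k (ψ x))) = ψ' (g x) := fun x hx => by rw [hkx x (hlt.le hx)]
      have hi : img Q (fun a => ψ' (g (k a))) = Q := by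
        haveI := finite_of_le (isConj_le_right hQ |>.trans hd.closed.1)
        refine eq_of_le_of_card_le (fun z hz => ?_) (h2.mono hQle).card_img.ge
        obtain ⟨q, hq, rfl⟩ := (h2.mono hQle).mem_img.1 hz
        obtain ⟨x, hx, rfl⟩ := (hm.mono hlt.le).mem_img.1 (hψi.symm ▸ hq)
        show ψ' (g (k (ψ x))) ∈ Q
        rw [hfix x hx, ← hψ'i]
        exact (hψ'.mono (le_normalizerIn (isConj_le_right
          (isConj_trans hU (hg.mono hlt.le).isConj)))).apply_mem_img
          ((hg.mono hlt.le).apply_mem_img hx)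
      have hne : Q < img R ψ := lt_of_le_of_ne hQle fun e => by
        have h1 := hm.card_img
        rw [← e, isConj_card hQ, ← isConj_card hU] at h1
        haveI := finite_of_le (hg.le.trans hd.closed.1)
        exact hlt.ne (eq_of_le_of_card_le hlt.le h1.ge)
      obtain ⟨κ, hκ, hκx⟩ := loop_step hd hS hF hPA rfl h hP hbig hQ hQn
        (Nat.card (normalizerIn A Q)) _ _ h2 hne hRle hi (by omega)
      refine ⟨κ, hκ, fun x hx => ?_⟩
      rw [← hfix x hx]
      exact hκx _ (hψi ▸ (hm.mono hlt.le).apply_mem_img hx)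
    · intro U f g hU hfg hC ψ ψ' hψ hψi hψ' hψ'i
      rw [← img_congr hfg] at hψ' hψ'i
      obtain ⟨κ, hκ, hκx⟩ := hC ψ ψ' hψ hψi hψ' hψ'i
      exact ⟨κ, hκ, fun x hx => by rw [← hfg x hx]; exact hκx x hx⟩
    · intro U f g hU hf hg h₁ h₂ ψ ψ' hψ hψi hψ' hψ'i
      obtain ⟨ψ₀, hψ₀, hψ₀i, -⟩ := h.exists_map_to hQ hQn (isConj_trans hU hf.isConj)
      rw [img_comp_eq hf hg fun a ha => hf.apply_mem_img ha] at hψ' hψ'i
      obtain ⟨κ, hκ, hκx⟩ := h₁ ψ ψ₀ hψ hψi hψ₀ hψ₀i
      obtain ⟨κ', hκ', hκ'x⟩ := h₂ ψ₀ ψ' hψ₀ hψ₀i hψ' hψ'i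
      refine ⟨κ' * κ, mul_mem hκ' hκ, fun x hx => ?_⟩
      have hxQ : ψ x ∈ Q :=
        hψi ▸ (hψ.mono (le_normalizerIn (isConj_le_right hU))).apply_mem_img hx
      rw [autFun_mul_apply _ _ hxQ, ← hκx x hx]
      exact hκ'x _ (hf.apply_mem_img hx)
    · intro U f f' hU hf hf' hid h₁ ψ ψ' hψ hψi hψ' hψ'i
      have e : img (img U f) f' = U := by
        rw [← img_comp_eq hf hf' fun a ha => hf.apply_mem_img ha, img_congr (g := id) hid, img_id]
      rw [e] at hψ' hψ'i
      obtain ⟨κ, hκ, hκx⟩ := h₁ ψ' ψ hψ' hψ'i hψ hψi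
      refine ⟨κ⁻¹, inv_mem hκ, fun y hy => ?_⟩
      obtain ⟨x, hx, rfl⟩ := hf.mem_img.1 hy
      rw [hid x hx, hκx x hx, autFun_inv_apply κ
        (hψ'i ▸ (hψ'.mono (le_normalizerIn (isConj_le_right hU))).apply_mem_img hx)]
  intro c hc f hf hfi
  obtain ⟨κ₀, hκ₀, j, hj, hjx⟩ := kmap_split hd hf P le_rfl hP hPA
  obtain ⟨-, hjm, -⟩ := hj.isMap hd
  haveI := finite_of_le (hlt.le.trans hd.closed.1)
  have hji : img P j = P := by
    refine eq_of_le_of_card_le (fun y hy => ?_) hjm.card_img.ge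
    obtain ⟨x, hx, rfl⟩ := hjm.mem_img.1 hy
    obtain ⟨x', hx'⟩ := κ₀.surjective ⟨x, hx⟩
    rw [show j x = f x' by rw [hjx _ x'.2, autFun_apply κ₀ x'.2, hx']]
    exact hfi.le ((hf.isMap hd).2.1.apply_mem_img x'.2)
  obtain ⟨ψ, hψ, hψi, -⟩ := h.exists_map_to hQ hQn (isConj_refl hlt.le)
  obtain ⟨κ, hκ, hκx⟩ := hall P (isConj_refl hlt.le) j ((isMap_sys_iff hd hPA).2 hj) ψ ψ hψ hψi
    (hji.symm ▸ hψ) (by rw [hji]; exact hψi)
  have hψP := hψ.mono (le_normalizerIn hlt.le)
  obtain ⟨k, hk, hkx, -, hki⟩ := hψP.exists_inv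
  rw [hψi] at hk hki
  obtain ⟨κ', hκ', hκ'x⟩ := exists_conj_mem hd (isConj_le_right hQ)
    (((isMap_sys_iff hd hPA).1 hk).isMap hd).2.1 hki hκ
  refine ⟨κ' * κ₀, mul_mem hκ' hκ₀, fun x hx => ?_⟩
  have hu : autFun κ₀ x ∈ P := autFun_mem κ₀ hx
  have hQu : ψ (autFun κ₀ x) ∈ Q := hψi ▸ hψP.apply_mem_img hu
  rw [autFun_mul_apply _ _ hx, hjx x hx]
  have h1 := hκ'x ⟨_, hQu⟩
  simp only [hkx _ hu] at h1
  rw [h1, ← autFun_apply κ hQu, ← hκx _ hu, hkx _ (hji.le (hjm.apply_mem_img hu))]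

/-- Receptivity at a fully normalized member. -/
theorem receptive_sys (hQm : MCentric F A Q) (hQn : F.IsFullyNormalized Q)
    (hL : Loops F A K Q) (hlt : Q < A)
    (hsat : ∀ R, MCentric F A R → Nat.card Q < Nat.card R → ∀ c (hc : c < Nat.card A),
      c < Nat.card R → LocSat (sys hd hc) p R)
    (hc : c < Nat.card A) (hcQ : c < Nat.card Q) : (sys hd hc).IsReceptive Q := by
  haveI := finite_of_le hd.closed.1
  haveI := finite_of_le hQn.1
  have hQA : Nat.card Q < Nat.card A :=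
    lt_of_not_ge fun hh => hlt.ne (eq_of_le_of_card_le hlt.le hh)
  refine receptive_of_extend hQm.1 fun P₀ f hf hfi R hPR hR => ?_
  have hfm := ((isMap_sys_iff hd hc).1 hf)
  have hfF := (hfm.isMap hd).2.1
  have hPc : Nat.card P₀ = Nat.card Q := by rw [← hfi, hf.card_img]
  have hPm : MCentric F A P₀ := mcentric_conj hd hQm (isConj_symm (hfi ▸ hfF.isConj))
  haveI := finite_of_le hfF.le
  have hP₀lt : P₀ < A := lt_of_le_of_ne hPm.1 fun e => by rw [e] at hPc; omega
  have hP₀A : Nat.card P₀ < Nat.card A := by omega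
  have h := classSetup hd hS hF hPm hP₀lt (fun R hR hcR => hsat R hR (by omega)) hP₀A
  -- the class of `P₀` contains `Q`
  obtain ⟨κ₀, hκ₀, j, hj, hjx⟩ := kmap_split hd hfm P₀ le_rfl hPm hP₀A
  obtain ⟨-, hjm, -⟩ := hj.isMap hd
  have hji : img P₀ j = Q := by
    refine eq_of_le_of_card_le (fun y hy => ?_) (by rw [hjm.card_img, hPc])
    obtain ⟨x, hx, rfl⟩ := hjm.mem_img.1 hy
    obtain ⟨x', hx'⟩ := κ₀.surjective ⟨x, hx⟩
    rw [show j x = f x' by rw [hjx _ x'.2, autFun_apply κ₀ x'.2, hx'], ← hfi]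
    exact hf.apply_mem_img x'.2
  have hQconj : (sys hd hP₀A).IsConj P₀ Q :=
    hji ▸ ((isMap_sys_iff hd _).2 hj).isConj
  obtain ⟨ψ, hψ, hψi, hψN⟩ := h.exists_map_to hQconj (fullyNormalized_sys hd hS hF hQm.1 hQn _)
    (isConj_refl hPm.1)
  have hψK : KMap F A K c (normalizerIn A P₀) ψ := by
    refine ((isMap_sys_iff hd _).1 hψ).raise hd le_rfl ?_
    haveI : Finite (normalizerIn A P₀) := finite_normalizerIn
    have hcP₀ : c < Nat.card P₀ := by omega
    exact hcP₀.trans_le (Subgroup.card_le_of_le (le_normalizerIn hPm.1))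
  have hPN : P₀ ≤ normalizerIn A P₀ := le_normalizerIn hPm.1
  have hψP := hψ.mono hPN
  obtain ⟨k, hk, hkx, hky, hki⟩ := hψP.exists_inv
  rw [hψi] at hk hky hki
  have hkK : KMap F A K c Q k :=
    ((isMap_sys_iff hd _).1 hk).raise hd le_rfl hcQ
  have hfk : KMap F A K c Q fun y => f (k y) :=
    .comp hkK (fun y hy => (hky y hy).1) hfm fun _ _ => rfl
  have hfki : img Q (fun y => f (k y)) = Q := by
    have hm := (hfk.isMap hd).2.1
    refine eq_of_le_of_card_le (fun z hz => ?_) hm.card_img.ge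
    obtain ⟨y, hy, rfl⟩ := hm.mem_img.1 hz
    exact hfi ▸ hf.apply_mem_img (hky y hy).1
  obtain ⟨κ, hκ, hκx⟩ := hL c hcQ _ hfk hfki
  have hRN : R ≤ normalizerIn A P₀ := fun a ha => ⟨(hR a ha).1, (hR a ha).2.1⟩
  set L := img R ψ
  have hψR := hψ.mono hRN
  have hQL : Q ≤ L := hψi ▸ img_mono hPR
  have hLN : L ≤ normalizerIn A Q := fun y hy => by
    obtain ⟨a, ha, rfl⟩ := hψR.mem_img.1 hy
    exact hψN a (hRN ha)
  obtain ⟨g, hg, hgx⟩ := exists_ext_aut hd hS hF hQm hQn hcQ hκ hQL hLN fun δ hδ => by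
    obtain ⟨l, hl, hlx⟩ := mem_autInducedBy_iff.1 hδ
    obtain ⟨a, ha, rfl⟩ := hψR.mem_img.1 hl
    obtain ⟨-, han, b, hb, hbx⟩ := hR a ha
    refine mem_autInducedBy_iff.2 ⟨b, hb, fun y => ?_⟩
    obtain ⟨z, rfl⟩ := κ.surjective y
    obtain ⟨x, hx, hxz⟩ := hψP.mem_img.1 (hψi.symm ▸ z.2 : (z : Ω) ∈ img P₀ ψ)
    have hz1 : ((κ z : Q) : Ω) = f x := by
      rw [← autFun_apply κ z.2, ← hκx _ z.2, ← hxz, hkx x hx]
    have hax : a * x * a⁻¹ ∈ P₀ := (han x).1 hx
    have e : ((δ z : Q) : Ω) = ψ (a * x * a⁻¹) := by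
      rw [hlx z, ← hxz, hψ.map_conj (hRN ha) (hPN hx)]
    rw [MulAut.mul_apply, MulAut.mul_apply, MulAut.inv_apply_self, hz1, ← hbx x hx,
      ← autFun_apply κ (δ z).2, ← hκx _ (δ z).2, e, hkx _ hax]
  refine ⟨fun a => g (ψ a), (isMap_sys_iff hd hc).2
    (.comp (hψK.mono hRN) (fun a ha => hψR.apply_mem_img ha) hg fun _ _ => rfl), fun x hx => ?_⟩
  have hq : ψ x ∈ Q := hψi ▸ hψP.apply_mem_img hx
  show g (ψ x) = f x
  rw [hgx ⟨_, hq⟩, ← autFun_apply κ hq, ← hκx _ hq, hkx x hx]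

/-- Both properties at every centric subgroup. -/
theorem level : ∀ P, MCentric F A P →
    Loops F A K P ∧ ∀ c (hc : c < Nat.card A), c < Nat.card P → LocSat (sys hd hc) p P := by
  haveI := finite_of_le hd.closed.1
  have hA : IsPGroup p A := hS.to_le hd.closed.1
  suffices key : ∀ n, ∀ P, MCentric F A P → Nat.card A - Nat.card P = n →
      Loops F A K P ∧ ∀ c (hc : c < Nat.card A), c < Nat.card P → LocSat (sys hd hc) p P from
    fun P hP => key _ P hP rfl
  intro n
  induction n using Nat.strong_induction_on with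
  | _ n ih =>
  intro P hP hn
  haveI := finite_of_le (hP.1.trans hd.closed.1)
  rcases eq_or_lt_of_le hP.1 with rfl | hlt
  · have hPn : F.IsFullyNormalized P := ⟨hd.closed.1, fun R hR => by
      obtain ⟨f, hf, rfl⟩ := isConj_iff.1 hR
      rw [StronglyClosed.img_eq hd.closed hf le_rfl]⟩
    have hloops : Loops F P K P := fun c hc f hf hfi => kmap_top hd hf rfl
    refine ⟨hloops, fun c hc hcP => ⟨P, isConj_refl le_rfl,
      fullyAutomized_sys hd hS hF hP hPn hloops hc hcP, ?_⟩⟩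
    refine receptive_of_extend le_rfl fun P₀ f hf hfi R hPR hR => ⟨f, hf.mono fun a ha => ?_,
      fun _ _ => rfl⟩
    have e : P₀ = P := by
      refine eq_of_le_of_card_le hf.le ?_
      rw [← hf.card_img, hfi]
    exact e ▸ (hR a ha).1
  have hPA : Nat.card P < Nat.card A :=
    lt_of_not_ge fun hh => hlt.ne (eq_of_le_of_card_le hlt.le hh)
  have hbig : ∀ R, MCentric F A R → Nat.card P < Nat.card R → Loops F A K R ∧
      ∀ c (hc : c < Nat.card A), c < Nat.card R → LocSat (sys hd hc) p R := fun R hR hcR => by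
    have := Subgroup.card_le_of_le hR.1
    exact ih _ (by omega) R hR rfl
  have hloopsAll : ∀ U, MCentric F A U → Nat.card U = Nat.card P → Loops F A K U := by
    intro U hU hUc
    have hUlt : U < A := lt_of_le_of_ne hU.1 fun e => by rw [e] at hUc; omega
    exact loops_of_bigger hd hS hF hU hUlt (fun R hR hcR => (hbig R hR (by omega)).1)
      fun R hR hcR => (hbig R hR (by omega)).2
  refine ⟨hloopsAll P hP rfl, fun c hc hcP => ?_⟩
  obtain ⟨Q, hPQ, hQn⟩ := exists_fullyNormalized_conj F (hP.1.trans hd.closed.1)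
  have hQm := mcentric_conj hd hP hPQ
  have hQc : Nat.card Q = Nat.card P := isConj_card hPQ
  have hQlt : Q < A := lt_of_le_of_ne hQm.1 fun e => by rw [e] at hQc; omega
  have hQaut := fullyAutomized_sys hd hS hF hQm hQn (hloopsAll Q hQm hQc) hc (hQc ▸ hcP)
  have hQrec := receptive_sys hd hS hF hQm hQn (hloopsAll Q hQm hQc) hQlt
    (fun R hR hcR => (hbig R hR (by omega)).2) hc (hQc ▸ hcP)
  -- transport to the class of `P`
  obtain ⟨f, hf, hfi⟩ := isConj_iff.1 hPQ
  obtain ⟨a, j, ha, hj, hfx⟩ := frattini hd hS hF P hP.1 c hcP f hf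
  obtain ⟨b, hb, hbx, hby, -⟩ := ha.exists_inv
  rw [auto_img hd ha] at hb hby
  have hiso : IsIso (sys hd hc) (sys hd hc) b a := by
    refine ⟨fun x hx => (hby x hx).1, fun y hy => (auto_img hd ha).le (ha.apply_mem_img hy),
      fun x hx => (hby x hx).2, hbx, fun x hx y hy => hb.map_mul hx hy, fun P' f' hf' => ?_,
      fun P' f' hf' => ?_⟩
    · obtain ⟨g, hg, hgx⟩ := ((isMap_sys_iff hd hc).1 hf').transport hd hb
      refine ((isMap_sys_iff hd hc).2 hg).congr fun y hy => ?_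
      obtain ⟨x, hx, rfl⟩ := (hb.mono hf'.le).mem_img.1 hy
      rw [hgx x hx, (hby x (hf'.le hx)).2]
    · obtain ⟨g, hg, hgx⟩ := ((isMap_sys_iff hd hc).1 hf').transport hd ha
      refine ((isMap_sys_iff hd hc).2 hg).congr fun y hy => ?_
      obtain ⟨x, hx, rfl⟩ := (ha.mono hf'.le).mem_img.1 hy
      rw [hgx x hx, hbx x (hf'.le hx)]
  have e : push b Q = img P j := by
    show img Q b = img P j
    ext y
    rw [(hb.mono hQm.1).mem_img, (hj.isMap hd).2.1.mem_img, ← hfi]
    constructor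
    · rintro ⟨z, hz, rfl⟩
      obtain ⟨x, hx, rfl⟩ := hf.mem_img.1 hz
      exact ⟨x, hx, by rw [hfx x hx, hbx _ ((hj.isMap hd).2.2 x hx)]⟩
    · rintro ⟨x, hx, rfl⟩
      exact ⟨f x, hf.apply_mem_img hx, by rw [hfx x hx, hbx _ ((hj.isMap hd).2.2 x hx)]⟩
  refine ⟨img P j, ((isMap_sys_iff hd hc).2 hj).isConj, ?_, ?_⟩
  · exact e ▸ hiso.isFullyAutomized hQaut
  · exact e ▸ hiso.isReceptive hQrec

/-- The generated system is saturated. -/
theorem isSaturated_sys (hc : 0 < Nat.card A) : (sys hd hc).IsSaturated p := by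
  haveI := finite_of_le hd.closed.1
  refine Cfsg.Agent.S5110.result p (hS.to_le hd.closed.1) (sys hd hc)
    {R | MCentric F A R} (fun R hR => hR.1)
    (fun R hR Q hQ => mcentric_conj hd hR (isConj_sys hd hc hQ))
    (fun R hR => by
      haveI := finite_of_le (hR.1.trans hd.closed.1)
      exact (level hd hS hF R hR).2 0 hc Nat.card_pos)
    (fun E hE => gen_sys hd hc E fun R hR => hE R hR.1) fun P hP hPn => absurd ?_ hPn
  refine ⟨hP.1, fun R hR => ?_⟩
  obtain ⟨f, hf, rfl⟩ := isConj_iff.1 hR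
  haveI := finite_of_le (hP.1.trans hd.closed.1)
  obtain ⟨a, j, ha, hj, hfx⟩ := frattini hd hS hF P hP.1 0 Nat.card_pos f hf
  obtain ⟨-, hjm, hjA⟩ := hj.isMap hd
  obtain ⟨b, hb, hbx, hby, -⟩ := ha.exists_inv
  rw [auto_img hd ha] at hb hby
  intro x hx
  have hbC : b x ∈ centralizerIn A (img P j) := by
    refine ⟨(hby x hx.1).1, fun y hy => ?_⟩
    obtain ⟨z, hz, rfl⟩ := hjm.mem_img.1 hy
    have hfz : f z ∈ A := StronglyClosed.apply_mem hd.closed hf hz (hP.1 hz)
    rw [show j z = b (f z) by rw [hfx z hz, hbx _ (hjA z hz)], ← hb.map_mul hfz hx.1,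
      ← hb.map_mul hx.1 hfz, hx.2 _ (hf.apply_mem_img hz)]
  obtain ⟨z, hz, hze⟩ := hjm.mem_img.1
    (hP.2 _ ((isMap_sys_iff hd hc).2 hj).isConj hbC)
  have e : x = f z := by rw [hfx z hz, hze, (hby x hx.1).2]
  rw [e]
  exact hf.apply_mem_img hz

/-- The generated system is weakly normal. -/
theorem isWeaklyNormalIn_sys (hc : 0 < Nat.card A) : (sys hd hc).IsWeaklyNormalIn F p :=
  ⟨isSaturated_sys hd hS hF hc, hF, isInvariantIn_sys hd hS hF hc⟩

end CfsgLib.Comp.NMap
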