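import Cfsg.Agent.Lib.Fusion.FrattiniIndex
import Cfsg.Agent.Lib.Fusion.InvariantTransport
import Cfsg.Agent.Lib.Fusion.ResidualSystem
import Cfsg.Agent.Lib.Fusion.SubsystemCentric
import Cfsg.Agent.Lib.Fusion.NormalizerSaturated
import Cfsg.Agent.Lib.Fusion.Center
import Cfsg.Agent.Lib.Fusion.Generating
import Cfsg.Agent.Lib.Solvable.PCore

/-!
Automorphisms of coprime order that are trivial modulo the centre fix the focal subgroup; the
focal subgroup of `C_F(T)` is centralized by a normal subsystem over `T`.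
-/

set_option autoImplicit false
set_option linter.unusedVariables false
set_option linter.unusedSectionVars false

namespace CfsgLib.Comp.Fus

open Cfsg Cfsg.FusionSystem Subgroup CfsgLib.Fusion

variable {Ω : Type*} [Group Ω]

/-! ### Iterates of maps -/

section Iterate

variable {S P : Subgroup Ω} {F : FusionSystem S} {f : Ω → Ω}

theorem iterate_mem (hi : ∀ x ∈ P, f x ∈ P) (n : ℕ) {x : Ω} (hx : x ∈ P) : f^[n] x ∈ P := by
  induction n with
  | zero => exact hx
  | succ n ih => rw [Function.iterate_succ_apply']; exact hi _ ih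

theorem isMap_iterate (h : IsMap F P f) (hi : ∀ x ∈ P, f x ∈ P) (n : ℕ) : IsMap F P (f^[n]) := by
  induction n with
  | zero => exact isMap_id F h.le
  | succ n ih => exact (ih.comp h fun x hx => iterate_mem hi n hx).congr fun x hx =>
      (Function.iterate_succ_apply' f n x).symm

theorem toAut_pow_coe (h : IsMap F P f) (hi : img P f = P) (n : ℕ) (x : P) :
    (((h.toAut hi ^ n) x : P) : Ω) = f^[n] x := by
  induction n with
  | zero => simp
  | succ n ih => rw [pow_succ', MulAut.mul_apply, h.toAut_apply, ih, Function.iterate_succ_apply']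

end Iterate

/-! ### Automorphisms trivial modulo the centre -/

section FixFocal

variable {C : Subgroup Ω} {p : ℕ} [Fact p.Prime] [Finite C] {D : FusionSystem C}

/-- An automorphism of coprime order that is trivial modulo a central subgroup and preserves the
system fixes the focal subgroup. -/
theorem fixes_focal_of_coprime (hC : IsPGroup p C) (hD : D.IsSaturated p) {Z : Subgroup Ω}
    (hZ : D.IsCentral Z) (b : Ω → Ω) (hmul : ∀ x ∈ C, ∀ y ∈ C, b (x * y) = b x * b y)
    (hbZ : ∀ c ∈ C, c⁻¹ * b c ∈ Z) {n : ℕ} (hn : n.Coprime p) (hper : ∀ c ∈ C, b^[n] c = c)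
    (htr : ∀ (P : Subgroup Ω) (f : Ω → Ω), Z ≤ P → IsMap D P f →
      IsMap D P (fun y => b (f (b^[n - 1] y)))) :
    ∀ y ∈ D.focalSubgroup, b y = y := by
  have hp : p.Prime := Fact.out
  have hn0 : n ≠ 0 := by
    rintro rfl
    exact hp.one_lt.ne' (by simpa using hn)
  have hZC : Z ≤ C := hZ.1
  have hZc : ∀ z ∈ Z, ∀ c ∈ C, c * z = z * c := fun z hz c hc =>
    center_le_centralizer D (IsCentral.le_center hZ hz) c hc
  have hfix : ∀ (P : Subgroup Ω) (f : Ω → Ω), IsMap D P f → Z ≤ P → ∀ z ∈ Z, f z = z :=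
    fun P f hf hZP z hz => IsCentral.apply_eq hZ hf hz (hZP hz)
  have hbmem : ∀ c ∈ C, b c ∈ C := fun c hc => by
    simpa using C.mul_mem hc (hZC (hbZ c hc))
  set χ : Ω → Ω := fun c => c⁻¹ * b c with hχdef
  have hbχ : ∀ c, b c = c * χ c := fun c => by simp [hχdef]
  have hχZ : ∀ c ∈ C, χ c ∈ Z := hbZ
  have hχmul : ∀ x ∈ C, ∀ y ∈ C, χ (x * y) = χ x * χ y := by
    intro x hx y hy
    show (x * y)⁻¹ * b (x * y) = _
    have h1 := hZc _ (hχZ x hx) y⁻¹ (C.inv_mem hy)
    rw [hmul x hx y hy, hbχ x, hbχ y,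
      show (x * y)⁻¹ * (x * χ x * (y * χ y)) = (y⁻¹ * χ x) * (y * χ y) by group, h1]
    group
  have hb1 : b 1 = 1 := by
    have := hmul 1 C.one_mem 1 C.one_mem
    rw [one_mul] at this
    exact mul_eq_right.mp this.symm
  have hχ1 : χ 1 = 1 := by simp [hχdef, hb1]
  have hχinv : ∀ x ∈ C, χ x⁻¹ = (χ x)⁻¹ := fun x hx => by
    rw [eq_inv_iff_mul_eq_one, ← hχmul _ (C.inv_mem hx) x hx, inv_mul_cancel, hχ1]
  have hbinv : ∀ x ∈ C, b x⁻¹ = (b x)⁻¹ := fun x hx => by
    rw [eq_inv_iff_mul_eq_one, ← hmul _ (C.inv_mem hx) x hx, inv_mul_cancel, hb1]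
  -- the maps preserving `χ`
  let D' : FusionSystem C :=
    { Hom := fun P => {φ | φ ∈ D.Hom P ∧ ∀ x : P, χ (φ x) = χ x}
      le_of_mem := fun h => D.le_of_mem h.1
      injective_of_mem := fun h => D.injective_of_mem h.1
      conj_mem := fun {P g} hP hg => ⟨D.conj_mem hP hg, fun x => by
        show χ (g * (x : Ω) * g⁻¹) = χ x
        rw [hχmul _ (C.mul_mem hg (hP x.2)) _ (C.inv_mem hg), hχmul g hg _ (hP x.2), hχinv g hg,
          hZc _ (hχZ _ (hP x.2)) _ (hZC (hχZ g hg)), mul_inv_cancel_right]⟩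
      comp_mem := fun {P Q φ ψ} hφ hψ h => ⟨D.comp_mem hφ.1 hψ.1 h, fun x => by
        show χ (ψ (φ.codRestrict Q h x)) = χ x
        rw [hψ.2]
        exact hφ.2 x⟩
      inv_mem := fun {P φ} hφ => by
        obtain ⟨ψ, hψ, hψx⟩ := D.inv_mem hφ.1
        refine ⟨ψ, ⟨hψ, ?_⟩, hψx⟩
        rintro ⟨_, x, rfl⟩
        rw [hψx x]
        exact (hφ.2 x).symm }
  have hle : D ≤ D' := by
    refine alperin hC hD fun Q hQ α hα => ?_
    have hfn : D.IsFullyNormalized Q := hQ.elim (fun e => e ▸ fullyNormalized_top D) fun e => e.2.1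
    have hQC : Q ≤ C := hfn.1
    have hZQ : Z ≤ Q := by
      rcases hQ with e | e
      · exact e ▸ hZC
      · exact fun z hz => e.1.2 Q (isConj_refl hQC)
          ⟨hZC hz, fun q hq => hZc z hz q (hQC hq)⟩
    haveI := finite_of_le hQC
    set δ : Ω → Ω := toFun (Q.subtype.comp α.toMonoidHom) with hδdef
    have hδ : IsMap D Q δ := isMap_of_autGroup hQC hα
    have hδQ : ∀ x ∈ Q, δ x ∈ Q := fun x hx => by
      rw [hδdef, toFun_aut_apply _ hx]; exact (α _).2
    have hbQ : ∀ x ∈ Q, b x ∈ Q := fun x hx => by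
      rw [hbχ]; exact Q.mul_mem hx (hZQ (hχZ x (hQC hx)))
    set δ' : Ω → Ω := fun y => b (δ (b^[n - 1] y)) with hδ'def
    have hδ' : IsMap D Q δ' := htr Q δ hZQ hδ
    have hδ'Q : img Q δ' = Q := by
      refine eq_of_le_of_card_le (fun y hy => ?_) hδ'.card_img.ge
      obtain ⟨x, hx, rfl⟩ := hδ'.mem_img.1 hy
      exact hbQ _ (hδQ _ (iterate_mem hbQ _ hx))
    set α' : MulAut Q := hδ'.toAut hδ'Q with hα'def
    have hα' : α' ∈ D.autGroup Q := hδ'.toAut_mem hδ'Q
    -- `δ'` against `δ`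
    have hδ'x : ∀ x ∈ Q, δ' x = δ x * χ (δ x) * (χ x)⁻¹ := by
      intro x hx
      set w := b^[n - 1] x
      have hw : w ∈ Q := iterate_mem hbQ _ hx
      have hbw : b w = x := by
        have := Function.iterate_succ_apply' b (n - 1) x
        rw [show (n - 1).succ = n by omega, hper x (hQC hx)] at this
        exact this.symm
      have hz := hχZ w (hQC hw)
      have hwx : w = x * (χ w)⁻¹ := by
        conv_rhs => rw [← hbw, hbχ, mul_inv_cancel_right]
      have h2 : b (χ w) = χ x := by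
        show b (w⁻¹ * b w) = x⁻¹ * b x
        rw [hmul _ (C.inv_mem (hQC hw)) _ (hbmem _ (hQC hw)), hbinv _ (hQC hw), hbw]
      have h3 : δ w = δ x * (χ w)⁻¹ := by
        conv_lhs => rw [hwx]
        rw [hδ.map_mul hx (Q.inv_mem (hZQ hz)), hfix Q δ hδ hZQ _ (Z.inv_mem hz)]
      show b (δ w) = _
      rw [h3, hmul _ (hQC (hδQ x hx)) _ (C.inv_mem (hZC hz)), hbinv _ (hZC hz), h2, hbχ]
    -- the stabilizer of the series `1 ≤ Z ≤ Q`
    let A := D.autGroup Q
    let K : Subgroup A :=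
      { carrier := {k | ∀ y : Q, (y : Ω)⁻¹ * ((k : MulAut Q) y : Q) ∈ Z}
        one_mem' := fun y => by simp
        mul_mem' := fun {k l} hk hl y => by
          have h1 := Z.mul_mem (hl y) (hk ((l : MulAut Q) y))
          show (y : Ω)⁻¹ * ((((k : MulAut Q) * (l : MulAut Q)) y : Q) : Ω) ∈ Z
          rw [MulAut.mul_apply]
          simpa [mul_assoc] using h1
        inv_mem' := fun {k} hk y => by
          have h1 := Z.inv_mem (hk (((k : MulAut Q))⁻¹ y))
          show (y : Ω)⁻¹ * ((((k : MulAut Q))⁻¹ y : Q) : Ω) ∈ Z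
          rw [MulAut.apply_inv_self] at h1
          simpa using h1 }
    have hautZ : ∀ g : A, ∀ z : Q, (z : Ω) ∈ Z → ((((g : MulAut Q)) z : Q) : Ω) = z := fun g z hz => by
      have := hfix Q _ (isMap_of_autGroup hQC g.2) hZQ z hz
      rwa [toFun_aut_apply _ z.2] at this
    haveI hKn : K.Normal := by
      refine ⟨fun k hk g y => ?_⟩
      show (y : Ω)⁻¹ * ((((g : MulAut Q) * (k : MulAut Q) * (g : MulAut Q)⁻¹) y : Q) : Ω) ∈ Z
      rw [MulAut.mul_apply, MulAut.mul_apply]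
      set v := ((g : MulAut Q))⁻¹ y
      have hz : (v : Ω)⁻¹ * ((k : MulAut Q) v : Q) ∈ Z := hk v
      have e : (k : MulAut Q) v = v * ⟨_, hZQ hz⟩ := Subtype.ext (by simp)
      rw [e, map_mul, MulAut.apply_inv_self, Subgroup.coe_mul, inv_mul_cancel_left,
        hautZ g _ hz]
      exact hz
    obtain ⟨m, hm⟩ := IsPGroup.iff_card.1 hC
    have hKp : IsPGroup p K := by
      refine fun k => ⟨m, Subtype.ext (Subtype.ext (MulEquiv.ext fun y => Subtype.ext ?_))⟩
      show ((((k.1 : MulAut Q)) ^ (p ^ m)) y : Ω) = y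
      set η := (y : Ω)⁻¹ * ((k.1 : MulAut Q) y : Q) with hη
      have hηZ : η ∈ Z := k.2 y
      have hstep : ∀ i : ℕ, ((((k.1 : MulAut Q)) ^ i) y : Ω) = y * η ^ i := by
        intro i
        induction i with
        | zero => simp
        | succ i ih =>
          have e : (((k.1 : MulAut Q)) ^ i) y = y * ⟨η ^ i, hZQ (Z.pow_mem hηZ i)⟩ := Subtype.ext ih
          rw [pow_succ', MulAut.mul_apply, e, map_mul, Subgroup.coe_mul,
            hautZ k.1 ⟨η ^ i, hZQ (Z.pow_mem hηZ i)⟩ (Z.pow_mem hηZ i), pow_succ', ← mul_assoc]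
          congr 1
          simp [hη]
      have hηC : η ^ p ^ m = 1 := by
        have := pow_card_eq_one' (x := (⟨η, hZC hηZ⟩ : C))
        rw [hm] at this
        exact congrArg Subtype.val this
      rw [hstep, hηC, mul_one]
    obtain ⟨R, hR⟩ := (fullyAutomized_of_fullyNormalized hC hD hfn).2
    have hKR : K ≤ (R : Subgroup A) := CfsgLib.Solvable.normal_pgroup_le_sylow hKp R
    set k : A := ⟨α' * α⁻¹, mul_mem hα' (inv_mem hα)⟩
    have hkx : ∀ x : Q, ((((k : MulAut Q)) (α x) : Q) : Ω) = δ' x := fun x => by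
      show (((α' * α⁻¹ : MulAut Q) (α x) : Q) : Ω) = _
      rw [MulAut.mul_apply, MulAut.inv_apply_self, hα'def, IsMap.toAut_apply]
    have hkK : k ∈ K := by
      intro y
      obtain ⟨x, rfl⟩ := α.surjective y
      rw [hkx, hδ'x x x.2, hδdef, toFun_aut_apply _ x.2, mul_assoc, inv_mul_cancel_left]
      exact Z.mul_mem (hχZ _ (hQC (α x).2)) (Z.inv_mem (hχZ _ (hQC x.2)))
    have hkS := hKR hkK
    rw [hR, Subgroup.mem_subgroupOf, mem_autInducedBy_iff] at hkS
    obtain ⟨s, hs, hsx⟩ := hkS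
    refine (autGroup_mem_iff (F := D') hQC).2 ⟨(autGroup_mem_iff hQC).1 hα, fun x => ?_⟩
    show χ ((α x : Q) : Ω) = χ x
    set e := χ ((α x : Q) : Ω) with hedef
    set f := χ (x : Ω) with hfdef
    set y : Ω := ((α x : Q) : Ω) with hydef
    have hyC : y ∈ C := hQC (α x).2
    have he : e ∈ Z := hχZ _ hyC
    have hf : f ∈ Z := hχZ _ (hQC x.2)
    set u := e * f⁻¹ with hudef
    have huZ : u ∈ Z := Z.mul_mem he (Z.inv_mem hf)
    -- `u` is a commutator with `s`
    have hyu : s * y * s⁻¹ = y * u := by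
      rw [← hsx (α x), hkx, hδ'x x x.2, hδdef, toFun_aut_apply _ x.2]
      show y * χ y * f⁻¹ = y * u
      rw [hudef, hedef, ← mul_assoc]
      rw [mul_inv_cancel, one_mul, hbχ, mul_assoc]
    have hbu : b u = u := by
      have h1 := congrArg b hyu
      rw [hmul _ (C.mul_mem hs hyC) _ (C.inv_mem hs), hmul s hs y hyC, hbinv s hs,
        hmul y hyC u (hZC huZ), hbχ s, hbχ y] at h1
      have hcs : χ s ∈ Z := hχZ s hs
      have e1 : s * χ s * (y * e) * (s * χ s)⁻¹ = y * u * e := by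
        rw [show s * χ s * (y * e) * (s * χ s)⁻¹ = s * (χ s * (y * e)) * (χ s)⁻¹ * s⁻¹ by group,
          ← hZc _ hcs (y * e) (C.mul_mem hyC (hZC he)),
          show s * (y * e * χ s) * (χ s)⁻¹ * s⁻¹ = s * y * (e * s⁻¹) by group,
          ← hZc _ he _ (C.inv_mem hs),
          show s * y * (s⁻¹ * e) = (s * y * s⁻¹) * e by group, hyu]
      rw [← hedef, e1, mul_assoc y u e, hZc _ he u (hZC huZ), ← mul_assoc] at h1
      exact (mul_left_cancel h1).symm
    have hbu' : ∀ i : ℕ, b (u ^ i) = u ^ i := by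
      intro i
      induction i with
      | zero => simp [hb1]
      | succ i ih => rw [pow_succ, hmul _ (C.pow_mem (hZC huZ) i) _ (hZC huZ), ih, hbu]
    have hrec : ∀ i : ℕ, ∃ F₀ ∈ Z, b^[i] (x : Ω) = x * F₀ ∧ b^[i] y = y * (u ^ i * F₀) := by
      intro i
      induction i with
      | zero => exact ⟨1, Z.one_mem, by simp, by simp⟩
      | succ i ih =>
        obtain ⟨F₀, hF₀, h1, h2⟩ := ih
        have hF₀C := hZC hF₀
        refine ⟨f * b F₀, Z.mul_mem hf ?_, ?_, ?_⟩
        · rw [hbχ]; exact Z.mul_mem hF₀ (hχZ F₀ hF₀C)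
        · rw [Function.iterate_succ_apply', h1, hmul _ (hQC x.2) _ hF₀C, hbχ (x : Ω), mul_assoc]
        · rw [Function.iterate_succ_apply', h2, hmul _ hyC _ (C.mul_mem (C.pow_mem (hZC huZ) i) hF₀C),
            hmul _ (C.pow_mem (hZC huZ) i) _ hF₀C, hbu', hbχ y, ← hedef, mul_assoc]
          congr 1
          have he' : e = u * f := by rw [hudef, inv_mul_cancel_right]
          calc e * (u ^ i * b F₀) = u * (f * u ^ i) * b F₀ := by rw [he']; group
            _ = u * (u ^ i * f) * b F₀ := by rw [hZc _ (Z.pow_mem huZ i) f (hZC hf)]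
            _ = u ^ (i + 1) * (f * b F₀) := by rw [pow_succ']; group
    obtain ⟨F₀, -, h1, h2⟩ := hrec n
    rw [hper _ (hQC x.2), left_eq_mul] at h1
    rw [hper _ hyC, h1, mul_one, left_eq_mul] at h2
    have hu1 : u = 1 := by
      obtain ⟨j, hj⟩ := IsPGroup.iff_orderOf.1 hC ⟨u, hZC huZ⟩
      rw [Subgroup.orderOf_mk] at hj
      exact orderOf_eq_one_iff.1 (Nat.eq_one_of_dvd_coprimes (hn.pow_right j)
        (orderOf_dvd_of_pow_eq_one h2) (hj ▸ dvd_rfl))
    rw [hudef, mul_inv_eq_one] at hu1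
    exact hu1
  intro y hy
  suffices h : y ∈ C ∧ b y = y from h.2
  induction hy using Subgroup.closure_induction with
  | mem y hy =>
    obtain ⟨P, φ, x, hφ, rfl⟩ := hy
    obtain ⟨hP, hv⟩ := D.le_of_mem hφ
    have hχx : χ (φ x) = χ (x : Ω) := (hle P hφ).2 x
    refine ⟨C.mul_mem (C.inv_mem (hP x.2)) (hv x), ?_⟩
    rw [hmul _ (C.inv_mem (hP x.2)) _ (hv x), hbinv _ (hP x.2), hbχ (x : Ω), hbχ (φ x), hχx,
      mul_inv_rev, show (χ (x : Ω))⁻¹ * (x : Ω)⁻¹ * (φ x * χ x) = (χ (x : Ω))⁻¹ * ((x : Ω)⁻¹ * φ x * χ x) by group,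
      hZc _ (hχZ _ (hP x.2)) _ (C.mul_mem (C.inv_mem (hP x.2)) (hv x)), inv_mul_cancel_left]
  | one => exact ⟨C.one_mem, hb1⟩
  | mul a c _ _ ha hc => exact ⟨C.mul_mem ha.1 hc.1, by rw [hmul a ha.1 c hc.1, ha.2, hc.2]⟩
  | inv a _ ha => exact ⟨C.inv_mem ha.1, by rw [hbinv a ha.1, ha.2]⟩

end FixFocal

/-! ### Inside an ambient system -/

section Ambient

variable {S : Subgroup Ω} {F : FusionSystem S} {p : ℕ} [Fact p.Prime] [Finite S]
  (hS : IsPGroup p S) (hF : F.IsSaturated p)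

include hS hF

/-- An `F`-automorphism of `Q C_S(Q)` of coprime order, trivial on `C_S(Q)` modulo `Z(Q)`, fixes
the focal subgroup of `C_F(Q)`. -/
theorem fixes_focal_centralizer {Q : Subgroup Ω} (hQ : F.IsFullyCentralized Q) {g : Ω → Ω}
    (hg : IsMap F (Q ⊔ centralizerIn S Q) g) (hgQ : ∀ x ∈ Q, g x ∈ Q)
    (hgZ : ∀ c ∈ centralizerIn S Q, c⁻¹ * g c ∈ Q ⊓ centralizer (Q : Set Ω)) {n : ℕ}
    (hn : n.Coprime p) (hper : ∀ x ∈ Q ⊔ centralizerIn S Q, g^[n] x = x) :
    ∀ y ∈ (centralizerSys F Q hQ.1).focalSubgroup, g y = y := by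
  set C := centralizerIn S Q with hCdef
  set D := centralizerSys F Q hQ.1
  have hDsys := isCentralizerSystem_centralizerSys F Q hQ.1
  haveI : Finite C := finite_centralizerIn
  have hDsat : D.IsSaturated p := isSaturated_centralizerSystem hS hF hQ hDsys
  set Z := Q ⊓ centralizer (Q : Set Ω)
  have hZC : Z ≤ C := fun z hz => ⟨hQ.1 hz.1, hz.2⟩
  have hgC : ∀ c ∈ C, g c ∈ C := fun c hc => by
    simpa using C.mul_mem hc (hZC (hgZ c hc))
  have hgW : ∀ x ∈ Q ⊔ C, g x ∈ Q ⊔ C := fun x hx =>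
    hg.img_sup_le le_sup_left le_sup_right
      (fun y hy => by obtain ⟨z, hz, rfl⟩ := (hg.mono le_sup_left).mem_img.1 hy
                      exact mem_sup_left (hgQ z hz))
      (fun y hy => by obtain ⟨z, hz, rfl⟩ := (hg.mono le_sup_right).mem_img.1 hy
                      exact mem_sup_right (hgC z hz))
      (hg.apply_mem_img hx)
  have hZ : D.IsCentral Z := by
    refine isCentral_iff.2 ⟨hZC, fun P f hf => ?_⟩
    obtain ⟨hP, hv, h, hh, hhx, hhQ⟩ := (isMap_centralizerSystem_iff hDsys).1 hf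
    refine ⟨h, (isMap_centralizerSystem_iff hDsys).2 ⟨sup_le hP hZC, fun x hx => ?_, h,
      hh.mono (sup_le (sup_le le_sup_left (inf_le_left.trans le_sup_right)) le_sup_right),
      fun _ _ => rfl, hhQ⟩, hhx, fun z hz => hhQ z hz.1⟩
    refine hh.img_sup_le le_sup_left (inf_le_left.trans le_sup_right) ?_ ?_
      ((hh.mono (sup_le le_sup_left (inf_le_left.trans le_sup_right))).apply_mem_img hx)
    · intro y hy
      obtain ⟨u, hu, rfl⟩ := (hh.mono le_sup_left).mem_img.1 hy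
      exact hhx u hu ▸ hv u hu
    · intro y hy
      obtain ⟨u, hu, rfl⟩ := (hh.mono (inf_le_left.trans le_sup_right)).mem_img.1 hy
      rw [hhQ u hu.1]; exact hZC hu
  refine fixes_focal_of_coprime (C := C) (hS.to_le inf_le_left) hDsat hZ g
    (fun x hx y hy => hg.map_mul (mem_sup_right hx) (mem_sup_right hy)) hgZ hn
    (fun c hc => hper c (mem_sup_right hc)) fun P f hZP hf => ?_
  obtain ⟨hP, hv, h, hh, hhx, hhQ⟩ := (isMap_centralizerSystem_iff hDsys).1 hf
  have hsub : P ⊔ Q ≤ Q ⊔ C := sup_le (hP.trans le_sup_right) le_sup_left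
  have hPst : ∀ x ∈ P, g x ∈ P := fun x hx => by
    simpa using P.mul_mem hx (hZP (hgZ x (hP hx)))
  have hst : ∀ x ∈ P ⊔ Q, g x ∈ P ⊔ Q := fun x hx =>
    hg.img_sup_le (hP.trans le_sup_right) le_sup_left
      (fun y hy => by obtain ⟨z, hz, rfl⟩ := (hg.mono (hP.trans le_sup_right)).mem_img.1 hy
                      exact mem_sup_left (hPst z hz))
      (fun y hy => by obtain ⟨z, hz, rfl⟩ := (hg.mono le_sup_left).mem_img.1 hy
                      exact mem_sup_right (hgQ z hz))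
      ((hg.mono hsub).apply_mem_img hx)
  have hval : ∀ x ∈ P ⊔ Q, h x ∈ Q ⊔ C := fun x hx =>
    hh.img_sup_le le_sup_left le_sup_right
      (fun y hy => by obtain ⟨z, hz, rfl⟩ := (hh.mono le_sup_left).mem_img.1 hy
                      exact hhx z hz ▸ mem_sup_right (hv z hz))
      (fun y hy => by obtain ⟨z, hz, rfl⟩ := (hh.mono le_sup_right).mem_img.1 hy
                      exact (hhQ z hz).symm ▸ mem_sup_left hz)
      (hh.apply_mem_img hx)
  have hit : IsMap F (P ⊔ Q) (g^[n - 1]) := (isMap_iterate hg hgW _).mono hsub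
  have hcomp : IsMap F (P ⊔ Q) (fun y => g (h (g^[n - 1] y))) :=
    (hit.comp hh fun x hx => iterate_mem hst _ hx).comp hg fun x hx => hval _ (iterate_mem hst _ hx)
  refine (isMap_centralizerSystem_iff hDsys).2 ⟨hP, fun x hx => ?_, _, hcomp, fun x hx => ?_,
    fun x hx => ?_⟩
  · exact hgC _ (hv _ (iterate_mem hPst _ hx))
  · show g (h (g^[n - 1] x)) = g (f (g^[n - 1] x))
    rw [hhx _ (iterate_mem hPst _ hx)]
  · show g (h (g^[n - 1] x)) = x
    rw [hhQ _ (iterate_mem hgQ _ hx), ← Function.iterate_succ_apply' g (n - 1) x]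
    have hn0 : n ≠ 0 := by
      rintro rfl
      exact (Fact.out : p.Prime).one_lt.ne' (by simpa using hn)
    rw [show (n - 1).succ = n by omega]
    exact hper x (mem_sup_left hx)

omit hS hF in
/-- A map carrying a subgroup into itself can be replaced by a power of order prime to `p`
inducing the same automorphism of coprime order. -/
theorem exists_coprime_power {W Q : Subgroup Ω} {g : Ω → Ω} (hg : IsMap F W g)
    (hgW : ∀ x ∈ W, g x ∈ W) (hQW : Q ≤ W) {α : MulAut Q} (hα : (orderOf α).Coprime p)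
    (hgα : ∀ x : Q, g x = ((α x : Q) : Ω)) :
    ∃ e n : ℕ, n.Coprime p ∧ (∀ x : Q, g^[e] x = ((α x : Q) : Ω)) ∧
      ∀ x ∈ W, (g^[e])^[n] x = x := by
  have hp : p.Prime := Fact.out
  haveI := finite_of_le hg.le
  have hi : img W g = W := eq_of_le_of_card_le (fun y hy => by
    obtain ⟨z, hz, rfl⟩ := hg.mem_img.1 hy
    exact hgW z hz) hg.card_img.ge
  set σ := hg.toAut hi
  set N := orderOf σ
  have hN : N ≠ 0 := (orderOf_pos σ).ne'
  set a := N.factorization p
  have hcop : (p ^ a).Coprime (orderOf α) := (hα.pow_right a).symm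
  obtain ⟨e, he1, he2⟩ := Nat.chineseRemainder hcop 0 1
  refine ⟨e, N / p ^ a, (Nat.coprime_ordCompl hp hN).symm, fun x => ?_, fun x hx => ?_⟩
  · have h : ∀ i : ℕ, g^[i] (x : Ω) = (((α ^ i) x : Q) : Ω) := by
      intro i
      induction i with
      | zero => simp
      | succ i ih => rw [Function.iterate_succ_apply', ih, hgα, pow_succ', MulAut.mul_apply]
    rw [h e, pow_eq_pow_iff_modEq.2 he2, pow_one]
  · rw [← Function.iterate_mul, ← toAut_pow_coe hg hi _ ⟨x, hx⟩, orderOf_dvd_iff_pow_eq_one.1]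
    · rfl
    · obtain ⟨c, hc⟩ := Nat.modEq_zero_iff_dvd.1 he1
      exact ⟨c, by rw [hc, mul_right_comm, Nat.ordProj_mul_ordCompl_eq_self]⟩

omit hS hF in
/-- Triviality modulo a subgroup is preserved by iterates. -/
theorem iterate_trivial_mod {W C Z : Subgroup Ω} {g : Ω → Ω} (hg : IsMap F W g) (hCW : C ≤ W)
    (hZC : Z ≤ C) (hgZ : ∀ c ∈ C, c⁻¹ * g c ∈ Z) (i : ℕ) : ∀ c ∈ C, c⁻¹ * g^[i] c ∈ Z := by
  induction i with
  | zero => intro c _; simp
  | succ i ih =>
    intro c hc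
    have hd : g^[i] c ∈ C := by simpa using C.mul_mem hc (hZC (ih c hc))
    rw [Function.iterate_succ_apply', show c⁻¹ * g (g^[i] c) =
      (c⁻¹ * g^[i] c) * ((g^[i] c)⁻¹ * g (g^[i] c)) by group]
    exact Z.mul_mem (ih c hc) (hgZ _ hd)

/-- The automorphisms in the group generated by the `p`-elements of `Aut_E(Q)` extend to
`Q C_S(Q)`, trivially on `C_S(Q)` modulo `Z(Q)`. -/
theorem exists_ext_of_pGen {T : Subgroup Ω} {E : FusionSystem T} (hTS : F.StronglyClosed T)
    (hsub : E.IsSubsystemOf F) (hE : E.IsSaturated p) {Q : Subgroup Ω}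
    (hQ : F.IsFullyNormalized Q) (hQE : E.IsCentric Q) :
    ∀ α ∈ pGenAut E p Q, ∃ g, IsMap F (Q ⊔ centralizerIn S Q) g ∧
      (∀ x : Q, g x = (((α : MulAut Q) x : Q) : Ω)) ∧
      ∀ c ∈ centralizerIn S Q, c⁻¹ * g c ∈ Q ⊓ centralizer (Q : Set Ω) := by
  haveI := finite_of_le hTS.1
  have hT : IsPGroup p T := hS.to_le hTS.1
  have hQT := hQE.1
  have hQS : Q ≤ S := hQ.1
  haveI := finite_of_le hQS
  set C := centralizerIn S Q
  set Z := Q ⊓ centralizer (Q : Set Ω)
  have hZC : Z ≤ C := fun z hz => ⟨hQS hz.1, hz.2⟩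
  have hrec := receptive_of_fullyNormalized hS hF hQ
  have hCT : centralizerIn T Q ≤ Q := hQE.2 Q (isConj_refl hQT)
  have hEfn : E.IsFullyNormalized Q := fullyNormalized_subsystem hS hF hTS hsub hQT hQ
  -- the group of such automorphisms
  let good : MulAut Q → Prop := fun α => ∃ g, IsMap F (Q ⊔ C) g ∧
    (∀ x : Q, g x = ((α x : Q) : Ω)) ∧ ∀ c ∈ C, c⁻¹ * g c ∈ Z
  have hstab : ∀ {α : MulAut Q} {g : Ω → Ω}, IsMap F (Q ⊔ C) g →
      (∀ x : Q, g x = ((α x : Q) : Ω)) → (∀ c ∈ C, g c ∈ C) → ∀ x ∈ Q ⊔ C, g x ∈ Q ⊔ C := by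
    intro α g hg hgx hgC x hx
    refine hg.img_sup_le le_sup_left le_sup_right ?_ ?_ (hg.apply_mem_img hx)
    · intro y hy
      obtain ⟨z, hz, rfl⟩ := (hg.mono le_sup_left).mem_img.1 hy
      exact mem_sup_left (hgx ⟨z, hz⟩ ▸ (α _).2)
    · intro y hy
      obtain ⟨z, hz, rfl⟩ := (hg.mono le_sup_right).mem_img.1 hy
      exact mem_sup_right (hgC z hz)
  have hgC : ∀ {g : Ω → Ω}, (∀ c ∈ C, c⁻¹ * g c ∈ Z) → ∀ c ∈ C, g c ∈ C := fun h c hc => by
    simpa using C.mul_mem hc (hZC (h c hc))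
  have hone : good 1 := ⟨id, isMap_id F (sup_le hQS inf_le_left), fun x => by simp, fun c _ => by simp⟩
  have hmul : ∀ α β, good α → good β → good (α * β) := by
    rintro α β ⟨g, hg, hgx, hgz⟩ ⟨h, hh, hhx, hhz⟩
    refine ⟨fun x => g (h x), hh.comp hg (hstab hh hhx (hgC hhz)), fun x => ?_, fun c hc => ?_⟩
    · show g (h x) = _
      rw [hhx, hgx, MulAut.mul_apply]
    · show c⁻¹ * g (h c) ∈ Z
      rw [show c⁻¹ * g (h c) = (c⁻¹ * h c) * ((h c)⁻¹ * g (h c)) by group]
      exact Z.mul_mem (hhz c hc) (hgz _ (hgC hhz c hc))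
  let H : Subgroup (E.autGroup Q) :=
    { carrier := {α | good α}
      one_mem' := hone
      mul_mem' := fun {α β} => hmul α β
      inv_mem' := fun {α} hα => by
        have hpow : ∀ i : ℕ, good ((α : MulAut Q) ^ i) := fun i => by
          induction i with
          | zero => exact hone
          | succ i ih => rw [pow_succ]; exact hmul _ _ ih hα
        have h := hpow (orderOf (α : MulAut Q) - 1)
        rwa [pow_sub _ (Nat.one_le_iff_ne_zero.2 (orderOf_pos _).ne'), pow_orderOf_eq_one,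
          pow_one, one_mul] at h }
  intro α hα
  suffices h : pGenAut E p Q ≤ H from h hα
  refine (Subgroup.closure_le _).2 ?_
  rintro β ⟨i, hi⟩
  have hK : IsPGroup p (Subgroup.zpowers (β : MulAut Q)) := IsPGroup.of_card (n := i)
    (by rw [Nat.card_zpowers, Subgroup.orderOf_coe, hi])
  obtain ⟨γ, hγ, hγ'⟩ := exists_conj_le_autInducedBy
    (fullyAutomized_of_fullyNormalized hT hE hEfn) _ hK (Subgroup.zpowers_le.2 β.2)
  obtain ⟨t, ht, htx⟩ := mem_autInducedBy_iff.1 (hγ' _ (Subgroup.mem_zpowers _))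
  have htn := mem_normalizer_of_aut htx
  -- extension of `γ`
  have hγm := isMap_of_autGroup hQS
    ((autGroup_mem_iff hQS).2 (hsub Q ((autGroup_mem_iff hQT).1 hγ)))
  obtain ⟨G, hG, hGx⟩ := receptive_extend_centralizer hrec hγm (img_toFun_aut γ)
  have hGQ : ∀ x : Q, G x = ((γ x : Q) : Ω) := fun x => (hGx x x.2).trans (toFun_aut_apply γ x.2)
  have hGC : ∀ c ∈ C, G c ∈ C := fun c hc => by
    have h := hG.apply_mem_centralizerIn le_sup_left (mem_sup_right hc) hc.2
    rwa [(img_congr hGx).trans (img_toFun_aut γ)] at h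
  have hGW := hstab hG hGQ hGC
  haveI := finite_of_le hG.le
  have hGi : img (Q ⊔ C) G = Q ⊔ C := eq_of_le_of_card_le (fun y hy => by
    obtain ⟨z, hz, rfl⟩ := hG.mem_img.1 hy
    exact hGW z hz) hG.card_img.ge
  obtain ⟨J, hJ, hJx, hJy, -⟩ := hG.exists_inv
  rw [hGi] at hJ hJy
  have htconj : IsMap F (Q ⊔ C) (fun x => t * x * t⁻¹) :=
    isMap_conj F (sup_le hQS inf_le_left) (hTS.1 ht)
  have htC : ∀ c ∈ C, t * c * t⁻¹ ∈ C := fun c hc => by
    refine ⟨S.mul_mem (S.mul_mem (hTS.1 ht) hc.1) (S.inv_mem (hTS.1 ht)), fun q hq => ?_⟩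
    have hq' : t⁻¹ * q * t ∈ Q := (Subgroup.mem_normalizer_iff''.1 htn q).1 hq
    calc q * (t * c * t⁻¹) = t * ((t⁻¹ * q * t) * c) * t⁻¹ := by group
      _ = t * (c * (t⁻¹ * q * t)) * t⁻¹ := by rw [hc.2 _ hq']
      _ = t * c * t⁻¹ * q := by group
  have htW : ∀ x ∈ Q ⊔ C, t * x * t⁻¹ ∈ Q ⊔ C := fun x hx => by
    refine htconj.img_sup_le le_sup_left le_sup_right ?_ ?_ (htconj.apply_mem_img hx)
    · intro y hy
      obtain ⟨z, hz, rfl⟩ := (htconj.mono le_sup_left).mem_img.1 hy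
      exact mem_sup_left ((htn z).1 hz)
    · intro y hy
      obtain ⟨z, hz, rfl⟩ := (htconj.mono le_sup_right).mem_img.1 hy
      exact mem_sup_right (htC z hz)
  refine ⟨fun x => J (t * G x * t⁻¹), (hG.comp htconj hGW).comp hJ fun x hx => htW _ (hGW x hx),
    fun x => ?_, fun c hc => ?_⟩
  · show J (t * G x * t⁻¹) = _
    have e : t * G x * t⁻¹ = G (((β : MulAut Q) x : Q) : Ω) := by
      rw [hGQ, hGQ, ← htx (γ x), MulAut.mul_apply, MulAut.mul_apply, MulAut.inv_apply_self]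
    rw [e, hJx _ (mem_sup_left (((β : MulAut Q) x).2))]
  · show c⁻¹ * J (t * G c * t⁻¹) ∈ Z
    set d := G c
    have hd : d ∈ C := hGC c hc
    set z := d⁻¹ * (t * d * t⁻¹)
    have hzT : z ∈ T := by
      rw [show z = (d⁻¹ * t * d) * t⁻¹ by simp only [z]; group]
      refine T.mul_mem ?_ (T.inv_mem ht)
      simpa using StronglyClosed.conj_mem hTS (S.inv_mem hd.1) ht
    have hzC : z ∈ C := C.mul_mem (C.inv_mem hd) (htC d hd)
    have hzQ : z ∈ Q := hCT ⟨hzT, hzC.2⟩
    have hJz : J z ∈ Q := by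
      have hzi : z ∈ img Q G := by rw [(img_congr hGx).trans (img_toFun_aut γ)]; exact hzQ
      obtain ⟨q, hq, hqz⟩ := (hG.mono le_sup_left).mem_img.1 hzi
      rw [← hqz, hJx q (mem_sup_left hq)]
      exact hq
    have hJC : J z ∈ centralizer (Q : Set Ω) := by
      refine hG.mem_centralizer_of_apply le_sup_left (mem_sup_left hJz) ?_
      rw [(hJy z (mem_sup_right hzC)).2, (img_congr hGx).trans (img_toFun_aut γ)]
      exact hzC.2
    rw [show t * d * t⁻¹ = d * z by simp only [z]; group,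
      hJ.map_mul (mem_sup_right hd) (mem_sup_right hzC), hJx c (mem_sup_right hc), inv_mul_cancel_left]
    exact ⟨hJz, hJC⟩

end Ambient

end CfsgLib.Comp.Fus
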