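import Cfsg.Agent.Lib.Comp.PrimeResidual
import Cfsg.Agent.Lib.Comp.FusionFocal

/-!
The `p'`-residual subsystem of a weakly normal subsystem is normal.
-/

set_option autoImplicit false
set_option linter.unusedVariables false
set_option linter.unusedSectionVars false
set_option linter.style.haveILetI false

namespace CfsgLib.Comp.Fus

open Cfsg Cfsg.FusionSystem Subgroup CfsgLib.Fusion

variable {Ω : Type*} [Group Ω] {S T : Subgroup Ω} {F : FusionSystem S} {E : FusionSystem T}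
  {P V : Subgroup Ω} {p : ℕ}

/-- `f` extends to `P C_S(T)`, trivially on `C_S(T)` modulo `T`. -/
def Liftable (F : FusionSystem S) (T P : Subgroup Ω) (f : Ω → Ω) : Prop :=
  ∃ h, IsMap F (P ⊔ centralizerIn S T) h ∧ (∀ x ∈ P, h x = f x) ∧
    ∀ c ∈ centralizerIn S T, c⁻¹ * h c ∈ T

section Basic

variable [Fact p.Prime] [Finite S] (hS : IsPGroup p S) (hw : E.IsWeaklyNormalIn F p)

include hS hw

theorem finite_base : Finite T := finite_of_le hw.2.2.2.1.1

/-- Centric subgroups of the invariant subsystem are carried to centric subgroups by all maps. -/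
theorem centric_img_of_map {g : Ω → Ω} (hg : IsMap F P g) (hP : E.IsCentric P) :
    E.IsCentric (img P g) := by
  obtain ⟨hEsat, hF, hinv⟩ := id hw
  obtain ⟨-, hsc, hconj, hfrat⟩ := isInvariantIn_iff.1 hinv
  obtain ⟨a, ha, e, he, hgx⟩ := hfrat P g hP.1 hg
  obtain ⟨c, hiso⟩ := exists_iso_invariant hinv ha
  have hQ := hiso.isCentric (centric_of_isConj hP he.isConj)
  have e' : push a (img P e) = img P g := by
    ext y
    rw [hiso.mem_push he.img_le, hg.mem_img]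
    constructor
    · rintro ⟨z, hz, rfl⟩
      obtain ⟨x, hx, rfl⟩ := he.mem_img.1 hz
      exact ⟨x, hx, hgx x hx⟩
    · rintro ⟨x, hx, rfl⟩
      exact ⟨e x, he.apply_mem_img hx, (hgx x hx).symm⟩
  rwa [e'] at hQ

/-- The properties of a lift. -/
theorem lift_mem (hP : E.IsCentric P) {f h : Ω → Ω}
    (hh : IsMap F (P ⊔ centralizerIn S T) h) (hx : ∀ x ∈ P, h x = f x)
    (hc : ∀ c ∈ centralizerIn S T, c⁻¹ * h c ∈ T) :
    (∀ c ∈ centralizerIn S T, c⁻¹ * h c ∈ img P f) ∧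
      img (P ⊔ centralizerIn S T) h = img P f ⊔ centralizerIn S T := by
  have hi : img P h = img P f := img_congr hx
  have hQ : E.IsCentric (img P f) := hi ▸ centric_img_of_map hS hw (hh.mono le_sup_left) hP
  have h1 : ∀ c ∈ centralizerIn S T, c⁻¹ * h c ∈ img P f := fun c hcm => by
    refine hQ.2 _ (isConj_refl hQ.1) ⟨hc c hcm, fun y hy => ?_⟩
    have hcP : c ∈ centralizer (P : Set Ω) := fun q hq => hcm.2 q (hP.1 hq)
    have h2 := hh.apply_mem_centralizerIn le_sup_left (mem_sup_right hcm) hcP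
    rw [hi] at h2
    have h3 : c⁻¹ ∈ centralizerIn S (img P f) :=
      inv_mem ⟨hcm.1, fun q hq => hcm.2 q (hQ.1 hq)⟩
    exact (mul_mem h3 h2).2 y hy
  refine ⟨h1, le_antisymm (fun y hy => hh.img_sup_le le_sup_left le_sup_right ?_ ?_ hy) ?_⟩
  · rw [hi]; exact le_sup_left
  · intro z hz
    obtain ⟨c, hcm, rfl⟩ := (hh.mono le_sup_right).mem_img.1 hz
    have := mul_mem (mem_sup_right (S := img P f) hcm) (mem_sup_left (T := centralizerIn S T) (h1 c hcm))
    rwa [mul_inv_cancel_left] at this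
  · refine sup_le (hi ▸ img_mono le_sup_left) fun c hcm => ?_
    have hz : (c⁻¹ * h c)⁻¹ ∈ img (P ⊔ centralizerIn S T) h :=
      inv_mem (img_mono le_sup_left (hi.symm ▸ h1 c hcm))
    have := mul_mem (hh.apply_mem_img (mem_sup_right hcm)) hz
    rwa [mul_inv_rev, inv_inv, mul_inv_cancel_left] at this

theorem liftable_comp {Q : Subgroup Ω} (hP : E.IsCentric P) {f g : Ω → Ω}
    (hf : Liftable F T P f) (hg : Liftable F T Q g) (hfQ : ∀ x ∈ P, f x ∈ Q) :
    Liftable F T P fun x => g (f x) := by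
  obtain ⟨h, hh, hhx, hhc⟩ := hf
  obtain ⟨k, hk, hkx, hkc⟩ := hg
  obtain ⟨h1, h2⟩ := lift_mem hS hw hP hh hhx hhc
  have hle : img P f ≤ Q := (Subgroup.closure_le _).2 (by rintro _ ⟨x, hx, rfl⟩; exact hfQ x hx)
  have hmem : ∀ x ∈ P ⊔ centralizerIn S T, h x ∈ Q ⊔ centralizerIn S T := fun x hx =>
    sup_le_sup_right hle _ (h2 ▸ hh.apply_mem_img hx)
  refine ⟨fun x => k (h x), hh.comp hk hmem, fun x hx => ?_, fun c hc => ?_⟩
  · show k (h x) = g (f x)
    rw [hhx x hx, hkx _ (hfQ x hx)]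
  · show c⁻¹ * k (h c) ∈ T
    have hz := hle (h1 c hc)
    have e : k (h c) = k c * k (c⁻¹ * h c) := by
      rw [← hk.map_mul (mem_sup_right hc) (mem_sup_left hz), mul_inv_cancel_left]
    rw [e, ← mul_assoc]
    exact T.mul_mem (hkc c hc) (StronglyClosed.apply_mem hw.2.2.2.1 hk (mem_sup_left hz) (hhc c hc))

theorem liftable_conj (hP : P ≤ T) {t : Ω} (ht : t ∈ T) :
    Liftable F T P fun x => t * x * t⁻¹ := by
  have hTS : T ≤ S := hw.2.2.2.1.1
  refine ⟨fun x => t * x * t⁻¹, isMap_conj F (sup_le (hP.trans hTS) inf_le_left) (hTS ht),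
    fun _ _ => rfl, fun c hc => ?_⟩
  show c⁻¹ * (t * c * t⁻¹) ∈ T
  rw [hc.2 t ht, show c⁻¹ * (c * t * t⁻¹) = 1 by group]
  exact T.one_mem

/-- The `p`-generated automorphisms of centric subgroups lift. -/
theorem liftable_pGen (hP : E.IsCentric P) {β : E.autGroup P} (hβ : β ∈ pGenAut E p P) :
    Liftable F T P (toFun (P.subtype.comp (β : MulAut P).toMonoidHom)) := by
  obtain ⟨hEsat, hF, hinv⟩ := id hw
  obtain ⟨hsub, hsc, hconj, hfrat⟩ := isInvariantIn_iff.1 hinv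
  have hT := hsc.1
  haveI := finite_of_le hT
  have hPT := hP.1
  have hPS := hPT.trans hT
  haveI := finite_of_le hPS
  obtain ⟨Q, hconjQ, hQn⟩ := exists_fullyNormalized_conj F hPS
  obtain ⟨ψ, hψ, hψi, -⟩ := exists_map_normalizerIn_of_fullyNormalized hS hF hQn hconjQ
  set N := normalizerIn S P
  have hPN : P ≤ N := le_normalizerIn hPS
  have hCN : centralizerIn S P ≤ N := centralizerIn_le_normalizerIn
  have hψP := hψ.mono hPN
  have hQE : E.IsCentric Q := hψi ▸ centric_img_of_map hS hw hψP hP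
  set Θ : MulAut P ≃* MulAut Q :=
    MulAut.congr (hψP.equivImg.trans (MulEquiv.subgroupCongr hψi)) with hΘdef
  have hval : ∀ x : P, ((hψP.equivImg.trans (MulEquiv.subgroupCongr hψi)) x : Ω) = ψ x :=
    fun x => rfl
  have hΘ : ∀ (γ : MulAut P) (x : P) (hx : ψ x ∈ Q),
      ((Θ γ ⟨ψ x, hx⟩ : Q) : Ω) = ψ ((γ x : P) : Ω) := by
    intro γ x hx
    have e : (⟨ψ x, hx⟩ : Q) = (hψP.equivImg.trans (MulEquiv.subgroupCongr hψi)) x :=
      Subtype.ext (hval x).symm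
    rw [e, hΘdef]
    simp only [MulAut.congr, MulEquiv.coe_mk, Equiv.coe_fn_mk, MulEquiv.trans_apply,
      MulEquiv.symm_trans_apply, MulEquiv.symm_apply_apply]
    exact hval (γ x)
  obtain ⟨a, ha, e, he, hψe⟩ := hfrat P ψ hPT hψP
  have hmem : ∀ γ ∈ E.autGroup P, Θ γ ∈ E.autGroup Q := by
    intro γ hγ
    obtain ⟨k, hk, hkx, hky, -⟩ := he.exists_inv
    obtain ⟨g, hg, hgx⟩ := hconj a ha _ _ ((hk.comp (isMap_of_autGroup hPT hγ)
      fun w hw => (hky w hw).1).comp he fun w hw => by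
        rw [toFun_aut_apply _ (hky w hw).1]; exact Subtype.mem _)
    have hle : Q ≤ img (img P e) a := fun y hy => by
      obtain ⟨x, hx, rfl⟩ := hψP.mem_img.1 (hψi.symm ▸ hy)
      rw [hψe x hx]
      exact (ha.mono he.img_le).apply_mem_img (he.apply_mem_img hx)
    refine (autGroup_iff_isMap hQE.1 fun z => ?_).2 (hg.mono hle)
    obtain ⟨w, hw, hwz⟩ := hψP.mem_img.1 (hψi.symm ▸ z.2 : (z : Ω) ∈ img P ψ)
    have e' : z = ⟨ψ w, hwz.symm ▸ z.2⟩ := Subtype.ext hwz.symm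
    rw [e', hΘ γ ⟨w, hw⟩]
    show _ = g (ψ w)
    rw [hψe w hw, hgx _ (he.apply_mem_img hw), hkx w hw, toFun_aut_apply _ hw,
      hψe _ (γ ⟨w, hw⟩).2]
  let Θ' : E.autGroup P →* E.autGroup Q :=
    (Θ.toMonoidHom.comp (E.autGroup P).subtype).codRestrict _ fun γ => hmem γ γ.2
  have hΘ'inj : Function.Injective Θ' := fun γ δ h =>
    Subtype.ext (Θ.injective (congrArg Subtype.val h))
  have hgen : pGenAut E p P ≤ (pGenAut E p Q).comap Θ' := by
    refine (Subgroup.closure_le _).2 fun γ hγ => Subgroup.subset_closure ?_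
    obtain ⟨i, hi⟩ := hγ
    exact ⟨i, by rw [orderOf_injective Θ' hΘ'inj, hi]⟩
  obtain ⟨g, hg, hgx, hgz⟩ := exists_ext_of_pGen hS hF hsc hsub hEsat hQn hQE (Θ' β) (hgen hβ)
  set C := centralizerIn S T
  have hCP : C ≤ centralizerIn S P := inf_le_inf_left S (Subgroup.centralizer_le hPT)
  have hPC : P ⊔ C ≤ N := sup_le hPN (hCP.trans hCN)
  have hm := hψ.mono hPC
  obtain ⟨k, hk, hkx, hky, -⟩ := hm.exists_inv
  have hψC : ∀ c ∈ C, ψ c ∈ centralizerIn S Q := fun c hc => by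
    have := hψ.apply_mem_centralizerIn hPN (hCN (hCP hc)) (hCP hc).2
    rwa [hψi] at this
  have hin : ∀ x ∈ P ⊔ C, ψ x ∈ Q ⊔ centralizerIn S Q := fun x hx => by
    refine hm.img_sup_le le_sup_left le_sup_right ?_ ?_ (hm.apply_mem_img hx)
    · rw [hψi]; exact le_sup_left
    · intro z hz
      obtain ⟨w, hw, rfl⟩ := (hm.mono le_sup_right).mem_img.1 hz
      exact mem_sup_right (hψC w hw)
  have hQimg : Q ≤ img (P ⊔ C) ψ := hψi.ge.trans (img_mono le_sup_left)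
  have hgP : ∀ x : P, g (ψ x) = ψ ((((β : MulAut P)) x : P) : Ω) := fun x => by
    have hx : ψ x ∈ Q := hψi ▸ hψP.apply_mem_img x.2
    rw [hgx ⟨ψ x, hx⟩]
    exact hΘ (β : MulAut P) x hx
  have hgC : ∀ c ∈ C, ∃ w ∈ P, g (ψ c) = ψ c * ψ w := fun c hc => by
    obtain ⟨w, hw, hwz⟩ := hψP.mem_img.1 (hψi.symm ▸ (hgz _ (hψC c hc)).1)
    exact ⟨w, hw, by rw [hwz, mul_inv_cancel_left]⟩
  have hcomp : IsMap F (P ⊔ C) fun x => g (ψ x) := hm.comp hg hin
  have hout : ∀ x ∈ P ⊔ C, g (ψ x) ∈ img (P ⊔ C) ψ := fun x hx => by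
    refine hcomp.img_sup_le le_sup_left le_sup_right ?_ ?_ (hcomp.apply_mem_img hx)
    · intro z hz
      obtain ⟨w, hw, rfl⟩ := (hcomp.mono le_sup_left).mem_img.1 hz
      show g (ψ w) ∈ _
      rw [hgP ⟨w, hw⟩]
      exact hm.apply_mem_img (mem_sup_left (Subtype.mem _))
    · intro z hz
      obtain ⟨c, hc, rfl⟩ := (hcomp.mono le_sup_right).mem_img.1 hz
      obtain ⟨w, hw, hwz⟩ := hgC c hc
      show g (ψ c) ∈ _
      rw [hwz]
      exact mul_mem (hm.apply_mem_img (mem_sup_right hc)) (hm.apply_mem_img (mem_sup_left hw))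
  refine ⟨fun x => k (g (ψ x)), hcomp.comp hk hout, fun x hx => ?_, fun c hc => ?_⟩
  · show k (g (ψ x)) = _
    rw [hgP ⟨x, hx⟩, hkx _ (mem_sup_left (Subtype.mem _)), toFun_aut_apply _ hx]
  · obtain ⟨w, hw, hwz⟩ := hgC c hc
    show c⁻¹ * k (g (ψ c)) ∈ T
    rw [hwz, ← hm.map_mul (mem_sup_right hc) (mem_sup_left hw),
      hkx _ (mul_mem (mem_sup_right hc) (mem_sup_left hw)), inv_mul_cancel_left]
    exact hPT hw

/-- The maps all of whose centric restrictions lift. -/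
noncomputable def liftSys : FusionSystem T where
  Hom P := {φ | φ ∈ E.Hom P ∧ (E.IsCentric P → Liftable F T P (toFun φ))}
  le_of_mem h := E.le_of_mem h.1
  injective_of_mem h := E.injective_of_mem h.1
  conj_mem {P t} hP ht := ⟨E.conj_mem hP ht, fun _ => by
    obtain ⟨h, hh, hhx, hhc⟩ := liftable_conj hS hw hP ht
    exact ⟨h, hh, fun x hx => by rw [hhx x hx, toFun_of_mem _ hx]; rfl, hhc⟩⟩
  comp_mem {P Q φ ψ} hφ hψ h := ⟨E.comp_mem hφ.1 hψ.1 h, fun hP => by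
    have hm := isMap_of_hom hφ.1
    have hle : img P (toFun φ) ≤ Q := fun y hy => by
      obtain ⟨x, hx, rfl⟩ := hm.mem_img.1 hy
      rw [toFun_of_mem φ hx]
      exact h _
    haveI := finite_base hS hw
    have hQ : E.IsCentric Q :=
      centric_of_le (centric_of_isConj hP hm.isConj) hle (E.le_of_mem hψ.1).1
    obtain ⟨k, hk, hkx, hkc⟩ := liftable_comp hS hw hP (hφ.2 hP) (hψ.2 hQ)
      fun x hx => by rw [toFun_of_mem φ hx]; exact h _
    refine ⟨k, hk, fun x hx => ?_, hkc⟩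
    rw [hkx x hx]
    show toFun ψ (toFun φ x) = _
    rw [toFun_of_mem φ hx, toFun_of_mem ψ (h _), toFun_of_mem _ hx]
    rfl⟩
  inv_mem {P φ} hφ := by
    obtain ⟨ψ, hψ, hψx⟩ := E.inv_mem hφ.1
    refine ⟨ψ, ⟨hψ, fun hr => ?_⟩, hψx⟩
    have hm := isMap_of_hom hφ.1
    have hi : img P (toFun φ) = φ.range := by
      rw [← hm.range_toHom]
      congr 1
      exact MonoidHom.ext fun x => toFun_apply φ x
    have hP : E.IsCentric P := centric_of_isConj hr (isConj_symm (hi ▸ hm.isConj))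
    obtain ⟨h, hh, hhx, hhc⟩ := hφ.2 hP
    obtain ⟨h1, h2⟩ := lift_mem hS hw hP hh hhx hhc
    obtain ⟨k, hk, hkx, -, -⟩ := hh.exists_inv
    rw [h2, hi] at hk
    refine ⟨k, hk, ?_, fun c hc => ?_⟩
    · rintro _ ⟨x, rfl⟩
      rw [toFun_of_mem ψ ⟨x, rfl⟩, hψx, ← toFun_apply φ x, ← hhx x x.2,
        hkx _ (mem_sup_left x.2)]
    · obtain ⟨x, hx, hxz⟩ := hm.mem_img.1 (h1 c hc)
      have e : c = h (c * x⁻¹) := by
        rw [hh.map_mul (mem_sup_right hc) (mem_sup_left (P.inv_mem hx)),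
          hh.map_inv (mem_sup_left hx), hhx x hx, hxz, mul_inv_rev, inv_inv, mul_inv_cancel_left]
      have e' : k c = c * x⁻¹ := by
        conv_lhs => rw [e]
        exact hkx _ (mul_mem (mem_sup_right hc) (mem_sup_left (P.inv_mem hx)))
      rw [e', inv_mul_cancel_left]
      exact T.inv_mem (hP.1 hx)

theorem genSys_le_liftSys : genSys E p ≤ liftSys hS hw := by
  refine genSys_le_of fun P hP β hβ => ?_
  obtain ⟨β, hβ, rfl⟩ := hβ
  refine (autGroup_mem_iff (F := liftSys hS hw) hP.1).2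
    ⟨(autGroup_mem_iff hP.1).1 β.2, fun _ => liftable_pGen hS hw hP hβ⟩

theorem liftable_of_genSys {f : Ω → Ω} (hf : IsMap (genSys E p) P f) (hP : E.IsCentric P) :
    Liftable F T P f := by
  obtain ⟨φ, ⟨-, hφ⟩, hfx⟩ := le_iff_isMap.1 (genSys_le_liftSys hS hw) P f hf
  obtain ⟨h, hh, hhx, hhc⟩ := hφ hP
  exact ⟨h, hh, fun x hx => by rw [hhx x hx, toFun_of_mem φ hx]; exact hfx ⟨x, hx⟩, hhc⟩

/-- A coprime map fixing a centric subgroup `V` of `T` extends to one fixing `N_T(V)`. -/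
theorem climb_step (hV : E.IsCentric V) (hVT : V ≠ T) {δ : Ω → Ω}
    (hδ : IsMap F (V ⊔ centralizerIn S T) δ) (hδV : ∀ v ∈ V, δ v = v)
    (hδW : ∀ w ∈ V ⊔ centralizerIn S T, δ w ∈ V ⊔ centralizerIn S T) {n : ℕ} (hn : n.Coprime p)
    (hper : ∀ w ∈ V ⊔ centralizerIn S T, δ^[n] w = w) :
    ∃ V₁, V < V₁ ∧ E.IsCentric V₁ ∧ ∃ δ₁, IsMap F (V₁ ⊔ centralizerIn S T) δ₁ ∧
      (∀ v ∈ V₁, δ₁ v = v) ∧
      (∀ w ∈ V₁ ⊔ centralizerIn S T, δ₁ w ∈ V₁ ⊔ centralizerIn S T) ∧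
      (∃ n₁ : ℕ, n₁.Coprime p ∧ ∀ w ∈ V₁ ⊔ centralizerIn S T, δ₁^[n₁] w = w) ∧
      ∀ c ∈ centralizerIn S T, δ₁ c = δ c := by
  obtain ⟨hEsat, hF, hinv⟩ := id hw
  obtain ⟨hsub, hsc, hconj, hfrat⟩ := isInvariantIn_iff.1 hinv
  have hT := hsc.1
  haveI := finite_of_le hT
  have hTp : IsPGroup p T := hS.to_le hT
  set C := centralizerIn S T
  set V₁ := normalizerIn T V
  have hlt : V < V₁ := lt_normalizerIn hTp (lt_of_le_of_ne hV.1 hVT)
  have hV₁c : E.IsCentric V₁ := centric_of_le hV hlt.le inf_le_left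
  set W := V ⊔ C with hWdef
  have hWS : W ≤ S := hδ.le
  haveI := finite_of_le hWS
  have hVW : V ≤ W := le_sup_left
  have hnorm : C ≤ normalizer (V : Set Ω) := fun c hc =>
    Subgroup.centralizer_le_normalizer (s := (V : Set Ω))
      (show c ∈ centralizer (V : Set Ω) from fun v hv => hc.2 v (hV.1 hv))
  have hWmem : ∀ w ∈ W, ∃ v ∈ V, ∃ c ∈ C, v * c = w := fun w hw => by
    have : w ∈ ((V ⊔ C : Subgroup Ω) : Set Ω) := hw
    rw [coe_mul_of_right_le_normalizer_left _ _ hnorm] at this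
    obtain ⟨v, hv, c, hc, hvc⟩ := this
    exact ⟨v, hv, c, hc, hvc⟩
  have huW : ∀ u ∈ V₁, ∀ w ∈ W, u * w * u⁻¹ ∈ W ∧ w⁻¹ * (u * w * u⁻¹) ∈ V := by
    intro u hu w hw
    obtain ⟨v, hv, c, hc, rfl⟩ := hWmem w hw
    have huv : u * v * u⁻¹ ∈ V := (hu.2 v).1 hv
    have huc : u * c * u⁻¹ = c := by rw [hc.2 u hu.1]; group
    have e : u * (v * c) * u⁻¹ = (u * v * u⁻¹) * c := by
      calc u * (v * c) * u⁻¹ = (u * v * u⁻¹) * (u * c * u⁻¹) := by group
        _ = _ := by rw [huc]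
    rw [e]
    refine ⟨mul_mem (mem_sup_left huv) (mem_sup_right hc), ?_⟩
    have hz : v⁻¹ * (u * v * u⁻¹) ∈ V := V.mul_mem (V.inv_mem hv) huv
    rw [show (v * c)⁻¹ * (u * v * u⁻¹ * c) = c⁻¹ * ((v⁻¹ * (u * v * u⁻¹)) * c) by group,
      hc.2 _ (hV.1 hz), inv_mul_cancel_left]
    exact hz
  -- the `p`-group `M`
  let A := F.autGroup W
  let good : MulAut W → Prop := fun κ => (∀ w : W, (w : Ω)⁻¹ * ((κ w : W) : Ω) ∈ V) ∧
    ∃ u ∈ T, ∀ w : W, (w : Ω) ∈ V → ((κ w : W) : Ω) = u * w * u⁻¹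
  have hgV : ∀ κ, good κ → ∀ w : W, (w : Ω) ∈ V → ((κ w : W) : Ω) ∈ V := fun κ hκ w hw => by
    simpa using V.mul_mem hw (hκ.1 w)
  have hone : good 1 := ⟨fun w => by simp, 1, T.one_mem, fun w _ => by simp⟩
  have hmul : ∀ κ κ', good κ → good κ' → good (κ * κ') := by
    intro κ κ' hκ hκ'
    refine ⟨fun w => ?_, ?_⟩
    · rw [MulAut.mul_apply]
      simpa [mul_assoc] using V.mul_mem (hκ'.1 w) (hκ.1 (κ' w))
    · obtain ⟨u, hu, hux⟩ := hκ.2
      obtain ⟨u', hu', hu'x⟩ := hκ'.2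
      refine ⟨u * u', T.mul_mem hu hu', fun w hw => ?_⟩
      rw [MulAut.mul_apply, hux _ (hgV κ' hκ' w hw), hu'x w hw, mul_inv_rev]
      group
  let M : Subgroup A :=
    { carrier := {κ | good κ}
      one_mem' := hone
      mul_mem' := fun {κ κ'} => hmul κ κ'
      inv_mem' := fun {κ} hκ => by
        have hpow : ∀ i : ℕ, good ((κ : MulAut W) ^ i) := fun i => by
          induction i with
          | zero => exact hone
          | succ i ih => rw [pow_succ]; exact hmul _ _ ih hκ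
        have h := hpow (orderOf (κ : MulAut W) - 1)
        rwa [pow_sub _ (Nat.one_le_iff_ne_zero.2 (orderOf_pos _).ne'), pow_orderOf_eq_one,
          pow_one, one_mul] at h }
  obtain ⟨m, hm⟩ := IsPGroup.iff_card.1 hTp
  have hpowT : ∀ z ∈ T, z ^ p ^ m = 1 := fun z hz => by
    have := pow_card_eq_one' (x := (⟨z, hz⟩ : T))
    rw [hm] at this
    exact congrArg Subtype.val this
  have hMp : IsPGroup p M := by
    intro κ
    obtain ⟨u, hu, hux⟩ := κ.2.2
    have hfixV : ∀ (i : ℕ) (w : W), (w : Ω) ∈ V →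
        ((((κ.1 : MulAut W)) ^ i) w : Ω) = u ^ i * w * (u ^ i)⁻¹ ∧
        ((((κ.1 : MulAut W)) ^ i) w : Ω) ∈ V := by
      intro i w hw
      induction i with
      | zero => simpa using hw
      | succ i ih =>
        refine ⟨?_, ?_⟩
        · rw [pow_succ', MulAut.mul_apply, hux _ ih.2, ih.1, pow_succ']; group
        · rw [pow_succ', MulAut.mul_apply]; exact hgV _ κ.2 _ ih.2
    refine ⟨m + m, Subtype.ext (Subtype.ext (MulEquiv.ext fun w => Subtype.ext ?_))⟩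
    show ((((κ.1 : MulAut W)) ^ (p ^ (m + m))) w : Ω) = w
    set μ := (κ.1 : MulAut W) ^ p ^ m with hμ
    have hμV : ∀ w : W, (w : Ω) ∈ V → ((μ w : W) : Ω) = w := fun w hw => by
      rw [hμ, (hfixV _ w hw).1, hpowT u hu]; group
    have hμg : good μ := by
      have : κ.1 ^ p ^ m ∈ M := M.pow_mem κ.2 _
      exact this
    set η := (w : Ω)⁻¹ * ((μ w : W) : Ω) with hη
    have hηV : η ∈ V := hμg.1 w
    have hstep : ∀ i : ℕ, (((μ ^ i) w : W) : Ω) = w * η ^ i := by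
      intro i
      induction i with
      | zero => simp
      | succ i ih =>
        have e : (μ ^ i) w = w * ⟨η ^ i, hVW (V.pow_mem hηV i)⟩ := Subtype.ext ih
        rw [pow_succ', MulAut.mul_apply, e, map_mul, Subgroup.coe_mul,
          hμV ⟨η ^ i, hVW (V.pow_mem hηV i)⟩ (V.pow_mem hηV i), pow_succ', ← mul_assoc]
        congr 1
        simp [hη]
    rw [pow_add, pow_mul, ← hμ, hstep, hpowT η (hV.1 hηV), mul_one]
  -- a conjugate with `M` induced by `S`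
  obtain ⟨W', hW', hW'n⟩ := exists_fullyNormalized_conj F hWS
  obtain ⟨ψ₀, hψ₀, hψ₀i⟩ := isConj_iff.1 hW'
  subst hψ₀i
  haveI := finite_of_le hψ₀.img_le
  set Θ := MulAut.congr hψ₀.equivImg
  let K : Subgroup (MulAut (img W ψ₀)) := (M.map A.subtype).map Θ.toMonoidHom
  have hKp : IsPGroup p K := (hMp.map _).map _
  have hKF : K ≤ F.autGroup (img W ψ₀) := by
    rintro _ ⟨_, ⟨κ, -, rfl⟩, rfl⟩
    exact hψ₀.congr_mem_autGroup κ.2
  obtain ⟨γ, hγ, hγK⟩ :=
    exists_conj_le_autInducedBy (fullyAutomized_of_fullyNormalized hS hF hW'n) K hKp hKF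
  set γf := toFun ((img W ψ₀).subtype.comp γ.toMonoidHom) with hγfdef
  have hγm : IsMap F (img W ψ₀) γf := isMap_of_autGroup hW'n.1 hγ
  set ψ := fun x => γf (ψ₀ x) with hψdef
  have hψ : IsMap F W ψ := hψ₀.comp hγm fun x hx => hψ₀.apply_mem_img hx
  have hψi : img W ψ = img W ψ₀ := by
    rw [hψdef, img_comp_eq hψ₀ hγm fun x hx => hψ₀.apply_mem_img hx, hγfdef, img_toFun_aut]
  have hMS : ∀ κ : A, κ ∈ M → ∃ b ∈ S, ∀ w : W,
      ψ ((((κ : MulAut W)) w : W) : Ω) = b * ψ w * b⁻¹ := by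
    intro κ hκ
    obtain ⟨b, hb, hbx⟩ := mem_autInducedBy_iff.1
      (hγK (Θ (κ : MulAut W)) ⟨_, ⟨κ, hκ, rfl⟩, rfl⟩)
    refine ⟨b, hb, fun w => ?_⟩
    have h1 := hbx (γ (hψ₀.equivImg w))
    simp only [MulAut.mul_apply, MulAut.inv_apply_self] at h1
    show γf (ψ₀ _) = b * γf (ψ₀ w) * b⁻¹
    rw [hγfdef, ← IsMap.coe_equivImg hψ₀, ← IsMap.coe_equivImg hψ₀,
      toFun_aut_apply _ (Subtype.mem _), toFun_aut_apply _ (Subtype.mem _)]
    simp only [Subtype.coe_eta]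
    rw [← h1]
    congr 2
    show hψ₀.equivImg ((κ : MulAut W) w) = Θ (κ : MulAut W) (hψ₀.equivImg w)
    simp [Θ, MulAut.congr]
  -- `ψ` extends to `N_T(V) C`
  have hrec : F.IsReceptive (img W ψ₀) := receptive_of_fullyNormalized hS hF hW'n
  have hV₁W : V₁ ⊔ C ≤ normalizerIn S W := sup_le (fun u hu => ⟨hT hu.1, fun w =>
    ⟨fun hw => (huW u hu w hw).1, fun hw => by
      have := (huW u⁻¹ (inv_mem hu) _ hw).1
      simpa [mul_assoc] using this⟩⟩)
    ((le_sup_right : C ≤ W).trans (le_normalizerIn hWS))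
  obtain ⟨ψ', hψ', hψ'x⟩ := receptive_extend hrec hψ hψi (le_sup_left : W ≤ W ⊔ V₁) fun a ha => by
    refine (mem_extender_iff hψ hψ.toHom_apply).1 ((sup_le ?_ ?_ :
      W ⊔ V₁ ≤ extender S W hψ.toHom) ha)
    · exact fun x hx => sup_centralizerIn_le_extender hψ hψ.toHom_apply (mem_sup_left hx)
    · intro u hu
      have huN := hV₁W (mem_sup_left hu)
      have hκA : W.normalizerMonoidHom ⟨u, huN.2⟩ ∈ A :=
        autInducedBy_le_autGroup hWS (mem_autInducedBy_iff.2 ⟨u, huN.1, fun x => rfl⟩)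
      obtain ⟨b, hb, hbx⟩ := hMS ⟨_, hκA⟩ ⟨fun w => (huW u hu w w.2).2, u, hu.1, fun w _ => rfl⟩
      exact (mem_extender_iff hψ hψ.toHom_apply).2 ⟨huN.1, huN.2, b, hb, fun x hx => hbx ⟨x, hx⟩⟩
  set W₂ := img W ψ with hW₂
  have hψV : ∀ v ∈ V, ψ v ∈ T := fun v hv => StronglyClosed.apply_mem hsc hψ (hVW hv) (hV.1 hv)
  -- `δ` as an automorphism of `W`
  have hδi : img W δ = W := eq_of_le_of_card_le (fun y hy => by
    obtain ⟨x, hx, rfl⟩ := hδ.mem_img.1 hy
    exact hδW x hx) hδ.card_img.ge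
  set d : MulAut W := hδ.toAut hδi with hd
  have hdA : d ∈ A := hδ.toAut_mem hδi
  have hdx : ∀ w : W, ((d w : W) : Ω) = δ w := fun w => hδ.toAut_apply hδi w
  have hdV : ∀ w : W, (w : Ω) ∈ V → d⁻¹ w = w := fun w hw => by
    have e : d w = w := Subtype.ext ((hdx w).trans (hδV w hw))
    conv_lhs => rw [← e]
    rw [MulAut.inv_apply_self]
  have hconjM : ∀ κ : A, κ ∈ M → (⟨d, hdA⟩ : A) * κ * (⟨d, hdA⟩ : A)⁻¹ ∈ M := by
    intro κ hκ
    refine ⟨fun w => ?_, ?_⟩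
    · show (w : Ω)⁻¹ * ((d ((κ : MulAut W) (d⁻¹ w)) : W) : Ω) ∈ V
      set w₀ := d⁻¹ w
      have hv := hκ.1 w₀
      have e : (κ : MulAut W) w₀ = w₀ * ⟨_, hVW hv⟩ := Subtype.ext (by simp)
      rw [e, map_mul, MulAut.apply_inv_self, Subgroup.coe_mul, inv_mul_cancel_left, hdx,
        hδV _ hv]
      exact hv
    · obtain ⟨u, hu, hux⟩ := hκ.2
      refine ⟨u, hu, fun w hw => ?_⟩
      show ((d ((κ : MulAut W) (d⁻¹ w)) : W) : Ω) = _
      rw [hdV w hw, hdx, hδV _ (hgV _ hκ w hw), hux w hw]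
  -- the domain of the extension
  let N₀ : Subgroup Ω :=
    { carrier := {s | s ∈ S ∧ ∃ κ : A, κ ∈ M ∧ ∀ w : W, s * ψ w * s⁻¹ = ψ ((((κ : MulAut W)) w : W) : Ω)}
      one_mem' := ⟨one_mem _, 1, M.one_mem, fun w => by simp⟩
      mul_mem' := by
        rintro s t ⟨hs, κ, hκ, hκx⟩ ⟨ht, κ', hκ', hκ'x⟩
        refine ⟨mul_mem hs ht, κ * κ', M.mul_mem hκ hκ', fun w => ?_⟩
        rw [Subgroup.coe_mul, MulAut.mul_apply, ← hκx ((κ' : MulAut W) w), ← hκ'x w]
        group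
      inv_mem' := by
        rintro s ⟨hs, κ, hκ, hκx⟩
        refine ⟨inv_mem hs, κ⁻¹, M.inv_mem hκ, fun w => ?_⟩
        have h1 := hκx ((κ : MulAut W)⁻¹ w)
        rw [MulAut.apply_inv_self] at h1
        rw [Subgroup.coe_inv, ← h1]
        group }
  have hN₀n : ∀ a ∈ N₀, a ∈ normalizer (W₂ : Set Ω) := by
    intro a ha x
    obtain ⟨-, κ, -, hκx⟩ := ha
    constructor
    · intro hx
      obtain ⟨w, hw, rfl⟩ := hψ.mem_img.1 hx
      rw [SetLike.mem_coe, hκx ⟨w, hw⟩]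
      exact hψ.apply_mem_img (Subtype.mem _)
    · intro hx
      obtain ⟨w, hw, hwx⟩ := hψ.mem_img.1 hx
      have h1 := hκx ((κ : MulAut W)⁻¹ ⟨w, hw⟩)
      rw [MulAut.apply_inv_self] at h1
      have e : x = ψ (((κ : MulAut W)⁻¹ ⟨w, hw⟩ : W) : Ω) :=
        mul_left_cancel (mul_right_cancel (hwx.symm.trans h1.symm))
      rw [SetLike.mem_coe, e]
      exact hψ.apply_mem_img (Subtype.mem _)
  obtain ⟨k, hk, hkx, hky, -⟩ := hψ.exists_inv
  set δ' := fun y => ψ (δ (k y)) with hδ'def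
  have hδ' : IsMap F W₂ δ' :=
    (hk.comp hδ fun y hy => (hky y hy).1).comp hψ fun y hy => hδW _ (hky y hy).1
  have hδ'x : ∀ w ∈ W, δ' (ψ w) = ψ (δ w) := fun w hw => by
    show ψ (δ (k (ψ w))) = _
    rw [hkx w hw]
  have hδ'm : ∀ y ∈ W₂, δ' y ∈ W₂ := fun y hy => hψ.apply_mem_img (hδW _ (hky y hy).1)
  have hδ'i : img W₂ δ' = W₂ := by
    haveI := finite_of_le hψ.img_le
    refine eq_of_le_of_card_le (fun y hy => ?_) hδ'.card_img.ge
    obtain ⟨x, hx, rfl⟩ := hδ'.mem_img.1 hy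
    exact hδ'm x hx
  set N₁ := W₂ ⊔ N₀ with hN₁
  obtain ⟨g, hg, hgx⟩ := receptive_extend (hψi.symm ▸ hrec : F.IsReceptive W₂) hδ' hδ'i
    (le_sup_left : W₂ ≤ N₁) fun a ha => by
    refine (mem_extender_iff hδ' hδ'.toHom_apply).1 ((sup_le ?_ ?_ :
      N₁ ≤ extender S W₂ hδ'.toHom) ha)
    · exact fun x hx => sup_centralizerIn_le_extender hδ' hδ'.toHom_apply (mem_sup_left hx)
    · intro a ha
      refine (mem_extender_iff hδ' hδ'.toHom_apply).2 ⟨ha.1, hN₀n a ha, ?_⟩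
      obtain ⟨-, κ, hκ, hκx⟩ := ha
      obtain ⟨b, hb, hbx⟩ := hMS _ (hconjM κ hκ)
      refine ⟨b, hb, fun x hx => ?_⟩
      obtain ⟨w, hw, rfl⟩ := hψ.mem_img.1 hx
      rw [hκx ⟨w, hw⟩, hδ'x _ (Subtype.mem _), hδ'x w hw]
      have h1 := hbx (d ⟨w, hw⟩)
      change ψ ((d ((κ : MulAut W) (d⁻¹ (d ⟨w, hw⟩))) : W) : Ω) = _ at h1
      rw [MulAut.inv_apply_self, hdx, hdx] at h1
      exact h1
  have hgN₀ : ∀ a ∈ N₀, g a ∈ N₀ := by
    intro a ha
    have ha' := ha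
    obtain ⟨haS, κ, hκ, hκx⟩ := ha'
    refine ⟨hg.mem (mem_sup_right ha), _, hconjM κ hκ, fun w => ?_⟩
    show _ = ψ ((d ((κ : MulAut W) (d⁻¹ w)) : W) : Ω)
    set w₀ := d⁻¹ w
    have e : (w : Ω) = δ w₀ := by rw [← hdx, MulAut.apply_inv_self]
    rw [hdx, ← hδ'x _ (Subtype.mem _), ← hκx w₀, e, ← hδ'x _ w₀.2,
      ← hgx _ (hψ.apply_mem_img w₀.2), ← hgx _ (((hN₀n a ha) _).1 (hψ.apply_mem_img w₀.2)),
      hg.map_conj (mem_sup_right ha) (mem_sup_left (hψ.apply_mem_img w₀.2))]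
  have hgN₁ : ∀ x ∈ N₁, g x ∈ N₁ := fun x hx => by
    refine hg.img_sup_le le_sup_left le_sup_right ?_ ?_ (hg.apply_mem_img hx)
    · intro z hz
      obtain ⟨y, hy, rfl⟩ := (hg.mono le_sup_left).mem_img.1 hz
      rw [hgx y hy]
      exact mem_sup_left (hδ'm y hy)
    · intro z hz
      obtain ⟨y, hy, rfl⟩ := (hg.mono le_sup_right).mem_img.1 hz
      exact mem_sup_right (hgN₀ y hy)
  set α₂ : MulAut W₂ := hδ'.toAut hδ'i with hα₂
  have hord : (orderOf α₂).Coprime p := by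
    refine hn.coprime_dvd_left (orderOf_dvd_of_pow_eq_one (MulEquiv.ext fun y => Subtype.ext ?_))
    rw [toAut_pow_coe hδ' hδ'i]
    obtain ⟨w, hw, hwy⟩ := hψ.mem_img.1 y.2
    rw [← hwy]
    have hit : ∀ i : ℕ, δ'^[i] (ψ w) = ψ (δ^[i] w) := by
      intro i
      induction i with
      | zero => rfl
      | succ i ih =>
        rw [Function.iterate_succ_apply', ih, hδ'x _ (iterate_mem hδW i hw),
          Function.iterate_succ_apply']
    rw [hit, hper w hw, hwy]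
    rfl
  obtain ⟨e, n₁, hn₁, hex, heper⟩ := exists_coprime_power hg hgN₁ le_sup_left hord
    fun y => (hgx y y.2).trans (hδ'.toAut_apply hδ'i y).symm
  set g₁ := g^[e]
  have hg₁ : IsMap F N₁ g₁ := isMap_iterate hg hgN₁ e
  have hg₁W : ∀ w ∈ W, g₁ (ψ w) = ψ (δ w) := fun w hw => by
    rw [hex ⟨ψ w, hψ.apply_mem_img hw⟩, hα₂, IsMap.toAut_apply, hδ'x w hw]
  have hψ'W : ∀ w ∈ W, ψ' w = ψ w := hψ'x
  have hV₁' : V₁ ≤ W ⊔ V₁ := le_sup_right
  have hmemN₀ : ∀ u ∈ V₁, ψ' u ∈ N₀ := by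
    intro u hu
    have huN := hV₁W (mem_sup_left hu)
    have hκA : W.normalizerMonoidHom ⟨u, huN.2⟩ ∈ A :=
      autInducedBy_le_autGroup hWS (mem_autInducedBy_iff.2 ⟨u, huN.1, fun x => rfl⟩)
    refine ⟨hψ'.mem (hV₁' hu), ⟨_, hκA⟩, ⟨fun w => (huW u hu w w.2).2, u, hu.1, fun w _ => rfl⟩,
      fun w => ?_⟩
    show _ = ψ (u * w * u⁻¹)
    rw [← hψ'W _ w.2, ← hψ'W _ (huW u hu w w.2).1,
      hψ'.map_conj (hV₁' hu) (mem_sup_left w.2)]
  have hVimg : E.IsCentric (img V ψ) := centric_img_of_map hS hw (hψ.mono hVW) hV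
  have hg₁V : ∀ v ∈ V, g₁ (ψ v) = ψ v := fun v hv => by rw [hg₁W v (hVW hv), hδV v hv]
  have hfix : ∀ u ∈ V₁, g₁ (ψ' u) = ψ' u := by
    intro u hu
    set u' := ψ' u
    have hu'N : u' ∈ N₁ := mem_sup_right (hmemN₀ u hu)
    have hu'T : u' ∈ T := StronglyClosed.apply_mem hsc hψ' (hV₁' hu) hu.1
    set z := u'⁻¹ * g₁ u'
    have hzT : z ∈ T := T.mul_mem (T.inv_mem hu'T) (StronglyClosed.apply_mem hsc hg₁ hu'N hu'T)
    have hzV : z ∈ img V ψ := by
      refine hVimg.2 _ (isConj_refl hVimg.1) ⟨hzT, fun y hy => ?_⟩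
      obtain ⟨v, hv, rfl⟩ := (hψ.mono hVW).mem_img.1 hy
      have hvc : u * v * u⁻¹ ∈ V := (hu.2 v).1 hv
      have e1 : u' * ψ v * u'⁻¹ = ψ (u * v * u⁻¹) := by
        rw [← hψ'W v (hVW hv), ← hψ'W _ (hVW hvc), hψ'.map_conj (hV₁' hu) (mem_sup_left (hVW hv))]
      have e2 := hg₁.map_conj hu'N (mem_sup_left (hψ.apply_mem_img (hVW hv)) : ψ v ∈ N₁)
      rw [e1, hg₁V _ hvc, hg₁V v hv, ← e1] at e2
      have e3 : g₁ u' = u' * z := by simp [z]
      rw [e3, show u' * z * ψ v * (u' * z)⁻¹ = u' * (z * ψ v * z⁻¹) * u'⁻¹ by group,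
        mul_left_inj, mul_right_inj] at e2
      calc ψ v * z = z * ψ v * z⁻¹ * z := by rw [← e2]
        _ = z * ψ v := by group
    obtain ⟨v, hv, hvz⟩ := (hψ.mono hVW).mem_img.1 hzV
    have hstep : ∀ i : ℕ, g₁^[i] u' = u' * z ^ i := by
      intro i
      induction i with
      | zero => simp
      | succ i ih =>
        rw [Function.iterate_succ_apply', ih, ← hvz, ← (hψ.mono hVW).map_pow hv,
          hg₁.map_mul hu'N (mem_sup_left (hψ.apply_mem_img (hVW (V.pow_mem hv i)))),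
          hg₁V _ (V.pow_mem hv i), (hψ.mono hVW).map_pow hv, hvz, pow_succ', ← mul_assoc]
        congr 1
        simp [z]
    have hzn : z ^ n₁ = 1 := by
      have := heper u' hu'N
      rwa [hstep, mul_eq_left] at this
    obtain ⟨j, hj⟩ := IsPGroup.iff_orderOf.1 hTp ⟨z, hzT⟩
    rw [Subgroup.orderOf_mk] at hj
    have hz1 : z = 1 := orderOf_eq_one_iff.1 (Nat.eq_one_of_dvd_coprimes (hn₁.pow_right j)
      (orderOf_dvd_of_pow_eq_one hzn) (hj ▸ dvd_rfl))
    exact (inv_mul_eq_one.1 hz1).symm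
  -- back to `N_T(V) C`
  have hD : V₁ ⊔ C ≤ W ⊔ V₁ := sup_le hV₁' ((le_sup_right : C ≤ W).trans le_sup_left)
  have hW₁ : W ≤ V₁ ⊔ C := sup_le_sup_right hlt.le C
  have hm₁ := hψ'.mono hD
  obtain ⟨k', hk', hk'x, -, -⟩ := hm₁.exists_inv
  have hin : ∀ x ∈ V₁ ⊔ C, ψ' x ∈ N₁ := fun x hx => by
    refine hm₁.img_sup_le le_sup_left le_sup_right ?_ ?_ (hm₁.apply_mem_img hx)
    · intro z hz
      obtain ⟨u, hu, rfl⟩ := (hm₁.mono le_sup_left).mem_img.1 hz
      exact mem_sup_right (hmemN₀ u hu)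
    · intro z hz
      obtain ⟨c, hc, rfl⟩ := (hm₁.mono le_sup_right).mem_img.1 hz
      rw [hψ'W c (mem_sup_right hc)]
      exact mem_sup_left (hψ.apply_mem_img (mem_sup_right hc))
  have hcomp : IsMap F (V₁ ⊔ C) fun x => g₁ (ψ' x) := hm₁.comp hg₁ hin
  have hW₂val : ∀ w ∈ W, g₁ (ψ' w) = ψ' (δ w) := fun w hw => by
    rw [hψ'W w hw, hg₁W w hw, hψ'W _ (hδW w hw)]
  have hout : ∀ x ∈ V₁ ⊔ C, g₁ (ψ' x) ∈ img (V₁ ⊔ C) ψ' := fun x hx => by
    refine hcomp.img_sup_le le_sup_left le_sup_right ?_ ?_ (hcomp.apply_mem_img hx)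
    · intro z hz
      obtain ⟨u, hu, rfl⟩ := (hcomp.mono le_sup_left).mem_img.1 hz
      show g₁ (ψ' u) ∈ _
      rw [hfix u hu]
      exact hm₁.apply_mem_img (mem_sup_left hu)
    · intro z hz
      obtain ⟨c, hc, rfl⟩ := (hcomp.mono le_sup_right).mem_img.1 hz
      show g₁ (ψ' c) ∈ _
      rw [hW₂val c (mem_sup_right hc)]
      exact hm₁.apply_mem_img (hW₁ (hδW c (mem_sup_right hc)))
  set δ₁ := fun x => k' (g₁ (ψ' x)) with hδ₁def
  have hδ₁ : IsMap F (V₁ ⊔ C) δ₁ := hcomp.comp hk' hout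
  have hδ₁V : ∀ u ∈ V₁, δ₁ u = u := fun u hu => by
    show k' (g₁ (ψ' u)) = u
    rw [hfix u hu, hk'x u (mem_sup_left hu)]
  have hδ₁W : ∀ w ∈ W, δ₁ w = δ w := fun w hw => by
    show k' (g₁ (ψ' w)) = δ w
    rw [hW₂val w hw, hk'x _ (hW₁ (hδW w hw))]
  refine ⟨V₁, hlt, hV₁c, δ₁, hδ₁, hδ₁V, fun w hw => ?_, ⟨n, hn, fun w hw => ?_⟩,
    fun c hc => hδ₁W c (mem_sup_right hc)⟩
  · refine hδ₁.img_sup_le le_sup_left le_sup_right ?_ ?_ (hδ₁.apply_mem_img hw)
    · intro z hz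
      obtain ⟨u, hu, rfl⟩ := (hδ₁.mono le_sup_left).mem_img.1 hz
      rw [hδ₁V u hu]
      exact mem_sup_left hu
    · intro z hz
      obtain ⟨c, hc, rfl⟩ := (hδ₁.mono le_sup_right).mem_img.1 hz
      rw [hδ₁W c (mem_sup_right hc)]
      exact hW₁ (hδW c (mem_sup_right hc))
  · have hmemV : ∀ w ∈ V₁ ⊔ C, ∃ u ∈ V₁, ∃ c ∈ C, u * c = w := fun w hw => by
      have h1 : w ∈ ((V₁ ⊔ C : Subgroup Ω) : Set Ω) := hw
      rw [coe_mul_of_right_le_normalizer_left _ _ (show C ≤ normalizer (V₁ : Set Ω) from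
        fun c hc => Subgroup.centralizer_le_normalizer (s := (V₁ : Set Ω))
          (show c ∈ centralizer (V₁ : Set Ω) from fun v hv => hc.2 v hv.1))] at h1
      obtain ⟨u, hu, c, hc, hvc⟩ := h1
      exact ⟨u, hu, c, hc, hvc⟩
    obtain ⟨u, hu, c, hc, rfl⟩ := hmemV w hw
    have hit : ∀ i : ℕ, δ₁^[i] (u * c) = u * δ^[i] c := by
      intro i
      induction i with
      | zero => rfl
      | succ i ih =>
        have hdi : δ^[i] c ∈ W := iterate_mem hδW i (mem_sup_right hc)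
        rw [Function.iterate_succ_apply', ih, hδ₁.map_mul (mem_sup_left hu) (hW₁ hdi), hδ₁V u hu,
          hδ₁W _ hdi, Function.iterate_succ_apply']
    rw [hit, hper c (mem_sup_right hc)]

/-- A coprime map fixing a centric subgroup extends to one fixing `T`. -/
theorem climb (hV : E.IsCentric V) {δ : Ω → Ω}
    (hδ : IsMap F (V ⊔ centralizerIn S T) δ) (hδV : ∀ v ∈ V, δ v = v)
    (hδW : ∀ w ∈ V ⊔ centralizerIn S T, δ w ∈ V ⊔ centralizerIn S T) {n : ℕ} (hn : n.Coprime p)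
    (hper : ∀ w ∈ V ⊔ centralizerIn S T, δ^[n] w = w) :
    ∃ δ₁, IsMap F (T ⊔ centralizerIn S T) δ₁ ∧ (∀ t ∈ T, δ₁ t = t) ∧
      ∀ c ∈ centralizerIn S T, δ₁ c = δ c := by
  haveI := finite_base hS hw
  suffices key : ∀ m, ∀ V, E.IsCentric V → Nat.card T - Nat.card V = m → ∀ δ n,
      IsMap F (V ⊔ centralizerIn S T) δ → (∀ v ∈ V, δ v = v) →
      (∀ w ∈ V ⊔ centralizerIn S T, δ w ∈ V ⊔ centralizerIn S T) → n.Coprime p →
      (∀ w ∈ V ⊔ centralizerIn S T, δ^[n] w = w) →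
      ∃ δ₁, IsMap F (T ⊔ centralizerIn S T) δ₁ ∧ (∀ t ∈ T, δ₁ t = t) ∧
        ∀ c ∈ centralizerIn S T, δ₁ c = δ c from key _ V hV rfl δ n hδ hδV hδW hn hper
  intro m
  induction m using Nat.strong_induction_on with
  | _ m ih =>
  intro V hV hm δ n hδ hδV hδW hn hper
  by_cases hVT : V = T
  · subst hVT
    exact ⟨δ, hδ, hδV, fun _ _ => rfl⟩
  obtain ⟨V₁, hlt, hV₁, δ₁, hδ₁, hδ₁V, hδ₁W, ⟨n₁, hn₁, hper₁⟩, hδ₁c⟩ :=
    climb_step hS hw hV hVT hδ hδV hδW hn hper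
  haveI := finite_of_le hV₁.1
  have h1 : Nat.card V < Nat.card V₁ :=
    lt_of_not_ge fun h => hlt.ne (eq_of_le_of_card_le hlt.le h)
  have h2 := Subgroup.card_le_of_le hV₁.1
  obtain ⟨δ₂, h3, h4, h5⟩ := ih _ (by omega) V₁ hV₁ rfl δ₁ n₁ hδ₁ hδ₁V hδ₁W hn₁ hper₁
  exact ⟨δ₂, h3, h4, fun c hc => (h5 c hc).trans (hδ₁c c hc)⟩

end Basic

section Main

variable [Fact p.Prime] [Finite T]

/-- Isomorphisms transport index prime to `p`. -/
theorem hasPrimeToPIndex_transport {T' : Subgroup Ω} {E' : FusionSystem T'} {D : FusionSystem T}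
    {D' : FusionSystem T'} {j k : Ω → Ω} (hiso : IsIso E E' j k) (hD : IsIso D D' j k)
    (h : D.HasPrimeToPIndexIn E p) : D'.HasPrimeToPIndexIn E' p := by
  refine ⟨isSubsystemOf_transport hiso hD h.1, fun P hP => ?_⟩
  rw [Subgroup.map_le_iff_le_comap]
  refine (Subgroup.closure_le _).2 ?_
  rintro ⟨β, hβ⟩ ⟨i, hi⟩
  rw [Subgroup.orderOf_mk] at hi
  set P₀ := push k P with hP₀
  have hP₀T : P₀ ≤ T := hiso.symm.push_le hP
  have e : push j P₀ = P := hiso.symm.push_push hP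
  clear_value P₀
  subst e
  set β₀ := (MulAut.congr (hiso.equiv hP₀T)).symm β with hβ₀
  have hβ₀m : β₀ ∈ E.autGroup P₀ := (hiso.autCongr_mem hP₀T).1 (by
    rw [hβ₀, MulEquiv.apply_symm_apply]; exact hβ)
  have h1 : β₀ ∈ D.autGroup P₀ := h.2 P₀ hP₀T ⟨⟨β₀, hβ₀m⟩, Subgroup.subset_closure
    ⟨i, by rw [Subgroup.orderOf_mk, hβ₀, MulEquiv.orderOf_eq, hi]⟩, rfl⟩
  have h2 := (hD.autCongr_mem hP₀T).2 h1
  have e2 : MulAut.congr (hD.equiv hP₀T) β₀ = β := by
    have : hD.equiv hP₀T = hiso.equiv hP₀T := rfl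
    rw [this, hβ₀, MulEquiv.apply_symm_apply]
  rw [e2] at h2
  exact h2

/-- The `p'`-residual is invariant under automorphisms of the system. -/
theorem pPrimeResidual_invariant (hT : IsPGroup p T) (hE : E.IsSaturated p)
    {a c : Ω → Ω} (hiso : IsIso E E a c) :
    ∀ P f, IsMap (ppSys hT hE) P f → IsMap (ppSys hT hE) (push a P) fun y => a (f (c y)) := by
  intro P f hf
  have h0 : ∀ {A : Subgroup Ω}, A = T →
      (∃ D' : FusionSystem A, IsIso (ppSys hT hE) D' c a) →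
      ∃ D' : FusionSystem T, IsIso (ppSys hT hE) D' c a := by
    rintro _ rfl h
    exact h
  obtain ⟨D', hD'⟩ := h0 hiso.symm.push_top (exists_mapSys hiso.symm (ppSys hT hE) le_rfl)
  have hres := isPPrimeResidual_ppSys hT hE
  have h1 := le_iff_isMap.1 (hres.2.2 D' (hD'.isSaturated hres.1)
    (hasPrimeToPIndex_transport hiso.symm hD' hres.2.1)) P f hf
  exact hD'.map' P f h1

end Main

section Normal

variable [Fact p.Prime] [Finite S]

theorem mem_autInducedBy_of_pow [Finite T] (hT : IsPGroup p T) (hE : E.IsSaturated p)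
    {α : MulAut T} (hα : α ∈ E.autGroup T) {i : ℕ} (hi : orderOf α = p ^ i) :
    α ∈ autInducedBy T T := by
  have hK : IsPGroup p (Subgroup.zpowers α) := IsPGroup.of_card (n := i)
    (by rw [Nat.card_zpowers, hi])
  obtain ⟨γ, hγ, hγ'⟩ := exists_conj_le_autInducedBy
    (fullyAutomized_of_fullyNormalized hT hE (fullyNormalized_top E)) _ hK
    (Subgroup.zpowers_le.2 hα)
  obtain ⟨t, ht, htx⟩ := mem_autInducedBy_iff.1 (hγ' _ (Subgroup.mem_zpowers _))
  refine mem_autInducedBy_iff.2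
    ⟨((γ⁻¹ ⟨t, ht⟩ : T) : Ω), Subtype.mem _, fun x => ?_⟩
  have h1 := htx (γ x)
  rw [MulAut.mul_apply, MulAut.mul_apply, MulAut.inv_apply_self] at h1
  have h2 : γ (α x) = ⟨t, ht⟩ * γ x * (⟨t, ht⟩)⁻¹ := Subtype.ext h1
  have h3 : α x = γ⁻¹ ⟨t, ht⟩ * x * (γ⁻¹ ⟨t, ht⟩)⁻¹ := by
    rw [← MulAut.inv_apply_self _ γ (α x), h2, map_mul, map_mul, map_inv, MulAut.inv_apply_self]
  exact congrArg Subtype.val h3

/-- The automorphisms of `T` in `Aut⁰` lift. -/
theorem liftable_rigid (hS : IsPGroup p S) (hw : E.IsWeaklyNormalIn F p) {α : MulAut T}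
    (hα : α ∈ rigidAut E p) : Liftable F T T (autFun α) := by
  obtain ⟨hEsat, hF, hinv⟩ := id hw
  obtain ⟨hsub, hsc, -, -⟩ := id hinv
  have hTS := hsc.1
  haveI := finite_of_le hTS
  have hT : IsPGroup p T := hS.to_le hTS
  set C := centralizerIn S T with hC
  have hTc : E.IsCentric T := centric_top hT hEsat
  have hone : Liftable F T T (autFun (1 : MulAut T)) :=
    ⟨id, isMap_id F (sup_le hTS inf_le_left), fun x hx => (autFun_one hx).symm,
      fun c _ => by simp⟩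
  have hmul : ∀ a b : MulAut T, Liftable F T T (autFun a) → Liftable F T T (autFun b) →
      Liftable F T T (autFun (a * b)) := fun a b ha hb => by
    obtain ⟨h, hh, hhx, hhc⟩ := liftable_comp hS hw hTc hb ha fun x hx => autFun_mem b hx
    exact ⟨h, hh, fun x hx => by rw [hhx x hx, autFun_mul_apply a b hx], hhc⟩
  have hpowL : ∀ a : MulAut T, Liftable F T T (autFun a) → ∀ i : ℕ,
      Liftable F T T (autFun (a ^ i)) := fun a ha i => by
    induction i with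
    | zero => simpa using hone
    | succ i ih => rw [pow_succ]; exact hmul _ _ ih ha
  induction hα using Subgroup.closure_induction with
  | one => exact hone
  | mul a b _ _ ha hb => exact hmul a b ha hb
  | inv a _ ha =>
    have h := hpowL a ha (orderOf a - 1)
    rwa [pow_sub _ (Nat.one_le_iff_ne_zero.2 (orderOf_pos _).ne'), pow_orderOf_eq_one,
      pow_one, one_mul] at h
  | mem α hα =>
    obtain ⟨hαE, U, hU, hαU⟩ := hα
    -- powers of `α` agree with generated maps on `U`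
    have hpowU : ∀ i : ℕ, IsMap (genSys E p) U (autFun (α ^ i)) := fun i => by
      induction i with
      | zero =>
        rw [pow_zero]
        exact (isMap_id _ hU.1).congr fun x hx => (autFun_one (hU.1 hx)).symm
      | succ i ih =>
        obtain ⟨g, hg, hgx⟩ := genSys_transport hT hEsat hαE ih
        refine (hαU.comp hg fun x hx => ((isMap_autFun le_rfl hαE).mono hU.1).apply_mem_img hx
          ).congr fun x hx => ?_
        rw [hgx x hx, pow_succ', autFun_mul_apply _ _ (hU.1 hx)]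
    -- split `α`
    set N := orderOf α
    have hN : N ≠ 0 := (orderOf_pos α).ne'
    set a := N.factorization p
    set m := N / p ^ a
    have hcop : (p ^ a).Coprime m := (Nat.coprime_ordCompl (Fact.out : p.Prime) hN).pow_left a
    obtain ⟨e₁, he₁, he₁'⟩ := Nat.chineseRemainder hcop 0 1
    obtain ⟨e₂, he₂, he₂'⟩ := Nat.chineseRemainder hcop 1 0
    have hN' : p ^ a * m = N := Nat.ordProj_mul_ordCompl_eq_self N p
    have hsplit : α = α ^ e₂ * α ^ e₁ := by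
      rw [← pow_add]
      conv_lhs => rw [← pow_one α]
      rw [pow_eq_pow_iff_modEq]
      show 1 ≡ e₂ + e₁ [MOD N]
      rw [← hN', ← Nat.modEq_and_modEq_iff_modEq_mul hcop]
      exact ⟨(he₂.add he₁).symm, (he₂'.add he₁').symm⟩
    have hp₂ : α ^ e₂ ∈ autInducedBy T T := by
      have hd : orderOf (α ^ e₂) ∣ p ^ a := orderOf_dvd_of_pow_eq_one (by
        rw [← pow_mul]
        refine orderOf_dvd_iff_pow_eq_one.1 ?_
        show N ∣ e₂ * p ^ a
        rw [← hN', mul_comm e₂]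
        exact Nat.mul_dvd_mul_left _ (Nat.modEq_zero_iff_dvd.1 he₂'))
      obtain ⟨i, -, hi⟩ := (Nat.dvd_prime_pow Fact.out).1 hd
      exact mem_autInducedBy_of_pow hT hEsat (pow_mem hαE _) hi
    have hL₂ : Liftable F T T (autFun (α ^ e₂)) := by
      obtain ⟨t, ht, htx⟩ := mem_autInducedBy_iff.1 hp₂
      obtain ⟨h, hh, hhx, hhc⟩ := liftable_conj hS hw (le_refl T) ht
      exact ⟨h, hh, fun x hx => by rw [hhx x hx, autFun_apply _ hx]; exact (htx ⟨x, hx⟩).symm, hhc⟩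
    rw [hsplit]
    refine hmul _ _ hL₂ ?_
    set α₁ := α ^ e₁ with hα₁
    have hα₁E : α₁ ∈ E.autGroup T := pow_mem hαE _
    have hord : (orderOf α₁).Coprime p := by
      refine Nat.Coprime.coprime_dvd_left (orderOf_dvd_of_pow_eq_one ?_)
        (Nat.coprime_ordCompl (Fact.out : p.Prime) hN).symm
      rw [hα₁, ← pow_mul]
      refine orderOf_dvd_iff_pow_eq_one.1 ?_
      show N ∣ e₁ * m
      rw [← hN']
      exact Nat.mul_dvd_mul_right (Nat.modEq_zero_iff_dvd.1 he₁) _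
    -- an extension to `T C`
    have hfn : F.IsFullyNormalized T := ⟨hTS, fun Q hQ => by
      obtain ⟨f, hf, hi⟩ := isConj_iff.1 hQ
      rw [StronglyClosed.img_eq hsc hf le_rfl] at hi
      subst hi
      rfl⟩
    have hαF : α₁ ∈ F.autGroup T :=
      (autGroup_mem_iff hTS).2 (hsub T ((autGroup_mem_iff le_rfl).1 hα₁E))
    obtain ⟨β₀, hβ₀, hβ₀x⟩ := receptive_extend_centralizer
      (receptive_of_fullyNormalized hS hF hfn) (isMap_autFun hTS hαF) img_autFun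
    have hβ₀C : ∀ c ∈ C, β₀ c ∈ C := fun c hc => by
      have h := hβ₀.apply_mem_centralizerIn le_sup_left (mem_sup_right hc) hc.2
      rwa [StronglyClosed.img_eq hsc hβ₀ le_sup_left] at h
    have hβ₀W : ∀ x ∈ T ⊔ C, β₀ x ∈ T ⊔ C := fun x hx => by
      refine hβ₀.img_sup_le le_sup_left le_sup_right ?_ ?_ (hβ₀.apply_mem_img hx)
      · rw [StronglyClosed.img_eq hsc hβ₀ le_sup_left]; exact le_sup_left
      · intro z hz
        obtain ⟨c, hc, rfl⟩ := (hβ₀.mono le_sup_right).mem_img.1 hz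
        exact mem_sup_right (hβ₀C c hc)
    obtain ⟨i, n', hn', hix, hper⟩ := exists_coprime_power hβ₀ hβ₀W (le_sup_left : T ≤ T ⊔ C) hord
      fun x => (hβ₀x x x.2).trans (autFun_apply _ x.2)
    set β := β₀^[i]
    have hβ : IsMap F (T ⊔ C) β := isMap_iterate hβ₀ hβ₀W i
    have hβx : ∀ x ∈ T, β x = autFun α₁ x := fun x hx =>
      (hix ⟨x, hx⟩).trans (autFun_apply _ hx).symm
    have hβW : ∀ x ∈ T ⊔ C, β x ∈ T ⊔ C := fun x hx => iterate_mem hβ₀W i hx
    have hβC : ∀ c ∈ C, β c ∈ C := fun c hc => iterate_mem hβ₀C i hc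
    -- the difference on `α(U) C`
    obtain ⟨h, hh, hhx, hhc⟩ := liftable_of_genSys hS hw (hpowU e₁) hU
    obtain ⟨hhV, hhi⟩ := lift_mem hS hw hU hh hhx hhc
    set V := img U (autFun α₁) with hVdef
    have hαm : IsMap E U (autFun α₁) := le_iff_isMap.1 genSys_le _ _ (hpowU e₁)
    have hV : E.IsCentric V := centric_of_isConj hU hαm.isConj
    obtain ⟨k, hk, hkx, hky, -⟩ := hh.exists_inv
    rw [hhi] at hk hky
    set δ₀ := fun y => β (k y) with hδ₀def
    have hkW : ∀ y ∈ V ⊔ C, k y ∈ T ⊔ C := fun y hy => sup_le_sup_right hU.1 C (hky y hy).1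
    have hδ₀ : IsMap F (V ⊔ C) δ₀ := hk.comp hβ hkW
    have hδ₀V : ∀ v ∈ V, δ₀ v = v := fun v hv => by
      obtain ⟨u, hu, rfl⟩ := hαm.mem_img.1 hv
      show β (k (autFun α₁ u)) = _
      rw [← hhx u hu, hkx u (mem_sup_left hu), hhx u hu, hβx u (hU.1 hu)]
    have hδ₀C : ∀ c ∈ C, ∃ w ∈ V, δ₀ c = β c * w := fun c hc => by
      obtain ⟨u, hu, huz⟩ := hαm.mem_img.1 (hhV c hc)
      have e : k c = c * u⁻¹ := by
        have e1 : h (c * u⁻¹) = c := by
          rw [hh.map_mul (mem_sup_right hc) (mem_sup_left (U.inv_mem hu)),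
            hh.map_inv (mem_sup_left hu), hhx u hu, huz, mul_inv_rev, inv_inv, mul_inv_cancel_left]
        conv_lhs => rw [← e1]
        exact hkx _ (mul_mem (mem_sup_right hc) (mem_sup_left (U.inv_mem hu)))
      refine ⟨(autFun α₁ u)⁻¹, inv_mem (hαm.apply_mem_img hu), ?_⟩
      show β (k c) = _
      rw [e, hβ.map_mul (mem_sup_right hc) (mem_sup_left (T.inv_mem (hU.1 hu))),
        hβ.map_inv (mem_sup_left (hU.1 hu)), hβx u (hU.1 hu)]
    have hδ₀W : ∀ w ∈ V ⊔ C, δ₀ w ∈ V ⊔ C := fun w hw => by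
      refine hδ₀.img_sup_le le_sup_left le_sup_right ?_ ?_ (hδ₀.apply_mem_img hw)
      · intro z hz
        obtain ⟨v, hv, rfl⟩ := (hδ₀.mono le_sup_left).mem_img.1 hz
        rw [hδ₀V v hv]
        exact mem_sup_left hv
      · intro z hz
        obtain ⟨c, hc, rfl⟩ := (hδ₀.mono le_sup_right).mem_img.1 hz
        obtain ⟨v, hv, hvz⟩ := hδ₀C c hc
        rw [hvz]
        exact mul_mem (mem_sup_right (hβC c hc)) (mem_sup_left hv)
    -- modulo `T` it acts as `β`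
    have hcong : ∀ (i : ℕ), ∀ c ∈ C, ∃ t ∈ V, δ₀^[i] c = β^[i] c * t := by
      intro i c hc
      induction i with
      | zero => exact ⟨1, V.one_mem, by simp⟩
      | succ i ih =>
        obtain ⟨t, ht, htc⟩ := ih
        have hbc : β^[i] c ∈ C := iterate_mem hβC i hc
        obtain ⟨v, hv, hvz⟩ := hδ₀C _ hbc
        refine ⟨v * t, V.mul_mem hv ht, ?_⟩
        rw [Function.iterate_succ_apply', htc, hδ₀.map_mul (mem_sup_right hbc) (mem_sup_left ht),
          hδ₀V t ht, hvz, Function.iterate_succ_apply', mul_assoc]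
    haveI : Finite (V ⊔ C : Subgroup Ω) := finite_of_le hδ₀.le
    have hδ₀i : img (V ⊔ C) δ₀ = V ⊔ C := eq_of_le_of_card_le (fun y hy => by
      obtain ⟨x, hx, rfl⟩ := hδ₀.mem_img.1 hy
      exact hδ₀W x hx) hδ₀.card_img.ge
    set σ := hδ₀.toAut hδ₀i
    set M := orderOf σ
    have hM : M ≠ 0 := (orderOf_pos σ).ne'
    set b := M.factorization p
    have hcop' : (p ^ b).Coprime n' := (hn'.pow_right b).symm
    obtain ⟨e, he, he'⟩ := Nat.chineseRemainder hcop' 0 1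
    set δ := δ₀^[e] with hδdef
    have hδ : IsMap F (V ⊔ C) δ := isMap_iterate hδ₀ hδ₀W e
    have hδV : ∀ v ∈ V, δ v = v := fun v hv => Function.iterate_fixed (hδ₀V v hv) e
    have hδW : ∀ w ∈ V ⊔ C, δ w ∈ V ⊔ C := fun w hw => iterate_mem hδ₀W e hw
    have hδper : ∀ w ∈ V ⊔ C, δ^[M / p ^ b] w = w := fun w hw => by
      rw [hδdef, ← Function.iterate_mul, ← toAut_pow_coe hδ₀ hδ₀i _ ⟨w, hw⟩,
        orderOf_dvd_iff_pow_eq_one.1]
      · rfl
      · show M ∣ _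
        calc M = p ^ b * (M / p ^ b) := (Nat.ordProj_mul_ordCompl_eq_self M p).symm
          _ ∣ e * (M / p ^ b) := Nat.mul_dvd_mul_right (Nat.modEq_zero_iff_dvd.1 he) _
    have hβe : ∀ c ∈ C, β^[e] c = β c := by
      intro c hc
      have hq : ∀ q : ℕ, β^[n' * q] c = c := by
        intro q
        induction q with
        | zero => simp
        | succ q ih => rw [Nat.mul_succ, Function.iterate_add_apply, hper c (mem_sup_right hc), ih]
      rcases Nat.lt_or_ge n' 2 with h2 | h2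
      · have hn1 : n' = 1 := by
          rcases Nat.eq_zero_or_pos n' with h0 | h0
          · rw [h0, Nat.coprime_zero_left] at hn'
            exact absurd hn' (Fact.out : p.Prime).one_lt.ne'
          · omega
        have hb1 : β c = c := by simpa [hn1] using hper c (mem_sup_right hc)
        rw [Function.iterate_fixed hb1, hb1]
      · have hmod : e % n' = 1 := by rw [he', Nat.mod_eq_of_lt h2]
        have : e = n' * (e / n') + 1 := by rw [← hmod, Nat.div_add_mod]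
        rw [this, Function.iterate_succ_apply]
        have hbc : ∀ q : ℕ, β^[n' * q] (β c) = β c := by
          intro q
          rw [← Function.iterate_succ_apply, Function.iterate_succ_apply', hq]
        exact hbc _
    have hδC : ∀ c ∈ C, ∃ t ∈ V, δ c = β c * t := fun c hc => by
      obtain ⟨t, ht, htc⟩ := hcong e c hc
      exact ⟨t, ht, by rw [hδdef, htc, hβe c hc]⟩
    obtain ⟨δ₁, hδ₁, hδ₁T, hδ₁C⟩ := climb hS hw hV hδ hδV hδW
      (Nat.coprime_ordCompl (Fact.out : p.Prime) hM).symm hδper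
    -- the lift
    have hδ₁i : img (T ⊔ C) δ₁ = T ⊔ C := by
      haveI := finite_of_le hδ₁.le
      refine eq_of_le_of_card_le (fun y hy => hδ₁.img_sup_le le_sup_left le_sup_right
        (fun z hz => ?_) (fun z hz => ?_) hy) hδ₁.card_img.ge
      · obtain ⟨t, ht, rfl⟩ := (hδ₁.mono le_sup_left).mem_img.1 hz
        rw [hδ₁T t ht]
        exact mem_sup_left ht
      · obtain ⟨c, hc, rfl⟩ := (hδ₁.mono le_sup_right).mem_img.1 hz
        rw [hδ₁C c hc]
        exact sup_le_sup_right hV.1 C (hδW c (mem_sup_right hc))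
    obtain ⟨l, hl, hlx, -, -⟩ := hδ₁.exists_inv
    rw [hδ₁i] at hl
    refine ⟨fun x => l (β x), hβ.comp hl hβW, fun x hx => ?_, fun c hc => ?_⟩
    · show l (β x) = _
      rw [hβx x hx]
      have := hlx (autFun α₁ x) (mem_sup_left (autFun_mem _ hx))
      rwa [hδ₁T _ (autFun_mem _ hx)] at this
    · show c⁻¹ * l (β c) ∈ T
      obtain ⟨t, ht, htc⟩ := hδC c hc
      have e1 : δ₁ (c * t⁻¹) = β c := by
        rw [hδ₁.map_mul (mem_sup_right hc) (mem_sup_left (T.inv_mem (hV.1 ht))),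
          hδ₁T _ (T.inv_mem (hV.1 ht)), hδ₁C c hc, htc, mul_inv_cancel_right]
      rw [← e1, hlx _ (mul_mem (mem_sup_right hc) (mem_sup_left (T.inv_mem (hV.1 ht)))),
        inv_mul_cancel_left]
      exact T.inv_mem (hV.1 ht)

/-- The `p'`-residual of a weakly normal subsystem is normal. -/
theorem isNormalIn_ppSys [Finite T] (hS : IsPGroup p S) (hw : E.IsWeaklyNormalIn F p)
    (hT : IsPGroup p T) : (ppSys hT hw.1).IsNormalIn F p := by
  obtain ⟨hEsat, hF, hinv⟩ := id hw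
  obtain ⟨hsub, hsc, hconj, hfrat⟩ := isInvariantIn_iff.1 hinv
  have hTS := hsc.1
  set D := ppSys hT hw.1
  have hDsub : D.IsSubsystemOf F := fun P φ hφ => hsub P (ppSys_le hT hEsat P hφ)
  have hDinv : D.IsInvariantIn F := by
    refine isInvariantIn_iff.2 ⟨hDsub, hsc, fun a ha P f hf => ?_, fun P f hP hf => ?_⟩
    · obtain ⟨c, hiso⟩ := exists_iso_invariant hinv ha
      refine ⟨_, pPrimeResidual_invariant hT hEsat hiso P f hf, fun x hx => ?_⟩
      show a (f (c (a x))) = a (f x)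
      rw [hiso.left x (hf.le hx)]
    · obtain ⟨a, ha, e, he, hfx⟩ := hfrat P f hP hf
      obtain ⟨β, hβ, g, hg, hex⟩ := exists_frattini hT hEsat he
      refine ⟨fun x => a (autFun β x), ?_, g, isMap_of_genSys hT hEsat hg, fun x hx => ?_⟩
      · exact (isSubsystemOf_iff.1 hsub T _ (isMap_autFun le_rfl hβ)).comp ha
          fun x hx => autFun_mem β hx
      · rw [hfx x hx, hex x hx]
  refine isNormalIn_iff.2 ⟨⟨isSaturated_ppSys hT hEsat, hF, hDinv⟩, fun a ha => ?_⟩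
  obtain ⟨-, α, hα, g, hg, hax⟩ := (isMap_ppSys_iff hT hEsat).1 ha
  have hTc := centric_top hT hEsat
  obtain ⟨b, hb, hbx, hbc⟩ := liftable_comp hS hw hTc (liftable_of_genSys hS hw hg hTc)
    (liftable_rigid hS hw hα) fun x hx => hg.mem hx
  refine ⟨b, hb, fun x hx => (hbx x hx).trans (hax x hx).symm, fun c hc => ⟨hbc c hc, ?_⟩⟩
  have h1 := hb.apply_mem_centralizerIn le_sup_left (mem_sup_right hc) hc.2
  rw [StronglyClosed.img_eq hsc hb le_sup_left] at h1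
  exact (mul_mem (inv_mem hc) h1).2

end Normal

end CfsgLib.Comp.Fus
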