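import Cfsg.Agent.Lib.Comp.EBalLocal
import Cfsg.Agent.Lib.Comp.NormalMapLevel
import Cfsg.Agent.Lib.Comp.PrimeResidualNormal

/-!
The normal family of automorphism groups with trivial value, and the normal subsystem of the
normalizer system lying in the generalized Fitting subsystem.
-/

set_option autoImplicit false
set_option linter.unusedVariables false
set_option linter.unusedSectionVars false
set_option linter.style.haveILetI false

universe u

namespace CfsgLib.Comp.EBal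

open Cfsg Cfsg.FusionSystem Subgroup CfsgLib.Fusion CfsgLib.Comp.Fus CfsgLib.Comp.CProd NMap
open TopData

variable {Ω : Type u} [Group Ω] {S T X Q U V : Subgroup Ω} {F : FusionSystem S}
  {E : FusionSystem T} {p : ℕ} [Fact p.Prime] [Finite S]

theorem finite_mulAut {W : Subgroup Ω} (hW : W ≤ S) : Finite (MulAut W) :=
  haveI := finite_of_le hW
  Finite.of_injective _ MulEquiv.toEquiv_injective

/-- The automorphisms of `Q X` with trivial value. -/
noncomputable def lW (hc : Ctx F E p) (D : TopData F E p) (hW : Q ⊔ X ≤ S) :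
    Subgroup (MulAut (Q ⊔ X : Subgroup Ω)) where
  carrier := {γ | γ ∈ stW F X Q ∧ D.Th (Q ⊔ X) (autFun γ) 1}
  one_mem' := ⟨one_mem _, (th_id hc hW).congr hc fun x hx => (autFun_one hx).symm⟩
  mul_mem' := fun {a b} ha hb => ⟨mul_mem ha.1 hb.1, by
    have h := (hb.2.trans hc ha.2 fun x hx => autFun_mem b hx).congr hc
      fun x hx => (autFun_mul_apply a b hx).symm
    rwa [one_mul] at h⟩
  inv_mem' := fun {a} ha => ⟨Subgroup.inv_mem _ ha.1, by
    obtain ⟨k, hk, hkx⟩ := Th.exists_inv hc ha.2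
    rw [img_autFun, inv_one] at hk
    refine hk.congr hc fun y hy => ?_
    have h := hkx _ (autFun_mem a⁻¹ hy)
    rwa [autFun_apply_inv a hy] at h⟩

variable (hc : Ctx F E p) (D : TopData F E p)

/-- Restriction to `Q`. -/
noncomputable def resQ (hW : Q ⊔ X ≤ S) : lW hc D hW →* MulAut Q :=
  Meet.resHom (lW hc D hW).subtype le_sup_left fun γ x hx => (γ.2.1.2 x).1 hx

theorem resQ_apply (hW : Q ⊔ X ≤ S) (γ : lW hc D hW) (x : Q) :
    ((resQ hc D hW γ x : Q) : Ω) = autFun (γ : MulAut (Q ⊔ X : Subgroup Ω)) x :=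
  (autFun_apply _ (mem_sup_left x.2)).symm

open Classical in
/-- The family. -/
noncomputable def fam {N : FusionSystem (normalizerIn S X)} (hX : F.IsFullyNormalized X)
    (hN : F.IsNormalizerSystem X N) (Q : Subgroup Ω) : Subgroup (MulAut Q) :=
  if h : MCentric N (normalizerIn T X) Q then
    (resQ hc D (inC_sup hc hX hN h).1).range else N.autGroup Q

variable {N : FusionSystem (normalizerIn S X)} (hX : F.IsFullyNormalized X)
  (hN : F.IsNormalizerSystem X N)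

theorem fam_eq (h : MCentric N (normalizerIn T X) Q) :
    fam hc D hX hN Q = (resQ hc D (inC_sup hc hX hN h).1).range := dif_pos h

theorem fam_iff (h : MCentric N (normalizerIn T X) Q) {β : MulAut Q} :
    β ∈ fam hc D hX hN Q ↔ D.Lift X Q β := by
  have hW := (inC_sup hc hX hN h).1
  haveI := finite_of_le hW
  haveI := finite_of_le hX.1
  rw [fam_eq hc D hX hN h]
  constructor
  · rintro ⟨γ, rfl⟩
    have hm := isMap_autFun hW γ.2.1.1.1
    exact ⟨_, hm, img_eq_of_mapsTo (hm.mono le_sup_right) fun x hx =>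
        apply_mem_of_stY γ.2.1.1.2 (mem_sup_right hx) hx,
      fun x => (resQ_apply hc D hW γ x).symm, γ.2.2⟩
  · rintro ⟨g, hg, hgX, hgQ, hth⟩
    have hgQm : ∀ x ∈ Q, g x ∈ Q := fun x hx => by
      rw [hgQ ⟨x, hx⟩]
      exact Subtype.mem _
    have hgXm : ∀ x ∈ X, g x ∈ X := fun x hx =>
      hgX.le ((hg.mono le_sup_right).apply_mem_img hx)
    have hi : img (Q ⊔ X) g = Q ⊔ X := img_eq_of_mapsTo hg fun x hx =>
      hg.img_sup_le le_sup_left le_sup_right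
        (fun y hy => by
          obtain ⟨z, hz, rfl⟩ := (hg.mono le_sup_left).mem_img.1 hy
          exact mem_sup_left (hgQm z hz))
        (hgX.le.trans le_sup_right) (hg.apply_mem_img hx)
    have hev : ∀ x ∈ Q ⊔ X, autFun (hg.toAut hi) x = g x := fun x hx => by
      rw [autFun_apply _ hx, IsMap.toAut_apply]
    refine ⟨⟨hg.toAut hi, ⟨⟨⟨hg.toAut_mem hi, toAut_mem_stY hg hi le_sup_right hgXm⟩,
      toAut_mem_stY hg hi le_sup_left hgQm⟩, hth.congr hc fun x hx => (hev x hx).symm⟩⟩,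
      MulEquiv.ext fun x => Subtype.ext ?_⟩
    rw [resQ_apply hc D hW, hev _ (mem_sup_left x.2), hgQ x]

theorem fam_le (hQ : Q ≤ normalizerIn T X) : fam hc D hX hN Q ≤ N.autGroup Q := by
  intro β hβ
  have hQN : Q ≤ normalizerIn S X := hQ.trans (inf_le_inf_right _ hc.le)
  by_cases h : MCentric N (normalizerIn T X) Q
  · obtain ⟨g, hg, hgX, hgQ, -⟩ := (fam_iff hc D hX hN h).1 hβ
    refine (autGroup_iff_isMap hQN fun x => (hgQ x).symm).2
      ((isMap_normalizerSystem_iff hN).2 ⟨hQN, fun x hx => ?_, g, hg, fun _ _ => rfl, hgX⟩)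
    rw [hgQ ⟨x, hx⟩]
    exact hQN (Subtype.mem _)
  · rwa [fam, dif_neg h] at hβ

theorem inner_mem (hQ : Q ≤ normalizerIn T X) :
    autInducedBy (normalizerIn T X) Q ≤ fam hc D hX hN Q := by
  intro β hβ
  obtain ⟨a, ha, hax⟩ := mem_autInducedBy_iff.1 hβ
  have hQN : Q ≤ normalizerIn S X := hQ.trans (inf_le_inf_right _ hc.le)
  by_cases h : MCentric N (normalizerIn T X) Q
  · refine (fam_iff hc D hX hN h).2 ?_
    have hW := (inC_sup hc hX hN h).1
    have haS := hc.le ha.1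
    haveI := finite_of_le hX.1
    refine ⟨fun x => a * x * a⁻¹, isMap_conj F hW haS,
      img_eq_of_mapsTo (isMap_conj F hX.1 haS) fun x hx => (ha.2 x).1 hx, fun x => (hax x).symm, ?_⟩
    have h1 := th_conj (D := D) hc hW haS
    rwa [(bar_eq_one_iff hc haS).2 ha.1] at h1
  · rw [fam, dif_neg h]
    exact autInducedBy_le_autGroup hQN (mem_autInducedBy_iff.2
      ⟨a, ⟨hc.le ha.1, ha.2⟩, hax⟩)

theorem fam_congr (hU : U ≤ normalizerIn T X) {f : Ω → Ω} (hf : IsMap N U f) (hfV : img U f = V)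
    {β : MulAut U} (hβ : β ∈ fam hc D hX hN U) {β' : MulAut V}
    (h : ∀ (x : U) (h : f x ∈ V), ((β' ⟨f x, h⟩ : V) : Ω) = f ((β x : U) : Ω)) :
    β' ∈ fam hc D hX hN V := by
  subst hfV
  have hA := closed_inter hc hX hN
  have hUN : U ≤ normalizerIn S X := hU.trans (inf_le_inf_right _ hc.le)
  have hVA : img U f ≤ normalizerIn T X := fun y hy => by
    obtain ⟨x, hx, rfl⟩ := hf.mem_img.1 hy
    exact StronglyClosed.apply_mem hA hf hx (hU hx)
  by_cases hUc : MCentric N (normalizerIn T X) U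
  · have hVc : MCentric N (normalizerIn T X) (img U f) :=
      ⟨hVA, fun R hR => hUc.2 R (isConj_trans hf.isConj hR)⟩
    obtain ⟨g, hg, hgX, hgU, hth⟩ := (fam_iff hc D hX hN hUc).1 hβ
    refine (fam_iff hc D hX hN hVc).2 ?_
    obtain ⟨-, -, k, hk, hkf, hkX⟩ := (isMap_normalizerSystem_iff hN).1 hf
    obtain ⟨δ, hδ⟩ := (good (D := D) hc _ (inC_sup hc hX hN hUc)).1 k hk
    obtain ⟨j, hj, hjx⟩ := Th.exists_inv hc hδ
    have himg : img (U ⊔ X) k = img U f ⊔ X := by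
      rw [← img_congr hkf]
      refine le_antisymm (hk.img_sup_le le_sup_left le_sup_right le_sup_left
        (hkX.le.trans le_sup_right)) (sup_le (img_mono le_sup_left) ?_)
      exact hkX.ge.trans (img_mono le_sup_right)
    have hgmem : ∀ x ∈ U ⊔ X, g x ∈ U ⊔ X := fun x hx => hg.img_sup_le le_sup_left le_sup_right
      (fun y hy => by
        obtain ⟨z, hz, rfl⟩ := (hg.mono le_sup_left).mem_img.1 hy
        rw [hgU ⟨z, hz⟩]
        exact mem_sup_left (Subtype.mem _))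
      (hgX.le.trans le_sup_right) (hg.apply_mem_img hx)
    rw [himg] at hj
    have hjm : ∀ y ∈ img U f ⊔ X, j y ∈ U ⊔ X := fun y hy => by
      obtain ⟨x, hx, rfl⟩ := hk.mem_img.1 (himg.ge hy)
      rw [hjx x hx]
      exact hx
    have hth' := (hj.trans hc hth hjm).trans hc hδ fun y hy => hgmem _ (hjm y hy)
    rw [one_mul, mul_inv_cancel] at hth'
    have hm := Th.isMap hc hth'
    haveI := finite_of_le hX.1
    refine ⟨_, hm, img_eq_of_mapsTo (hm.mono le_sup_right) fun y hy => ?_, fun y => ?_, hth'⟩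
    · obtain ⟨x, hx, rfl⟩ := (hk.mono le_sup_right).mem_img.1 (hkX.ge hy)
      show k (g (j (k x))) ∈ X
      rw [hjx x (mem_sup_right hx)]
      exact hkX.le ((hk.mono le_sup_right).apply_mem_img
        (hgX.le ((hg.mono le_sup_right).apply_mem_img hx)))
    · obtain ⟨x, hx, e⟩ := hf.mem_img.1 y.2
      show k (g (j y)) = _
      rw [show y = ⟨f x, e ▸ y.2⟩ from Subtype.ext e.symm, h ⟨x, hx⟩]
      show k (g (j (f x))) = _
      rw [← hkf x hx, hjx x (mem_sup_left hx), hgU ⟨x, hx⟩, hkf _ (Subtype.mem _)]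
  · have hVc : ¬ MCentric N (normalizerIn T X) (img U f) := fun hv =>
      hUc ⟨hU, fun R hR => hv.2 R (isConj_trans (isConj_symm hf.isConj) hR)⟩
    rw [fam, dif_neg hVc]
    rw [fam, dif_neg hUc] at hβ
    suffices e : β' = MulAut.congr hf.equivImg β from e ▸ hf.congr_mem_autGroup hβ
    refine MulEquiv.ext fun y => Subtype.ext ?_
    obtain ⟨x, rfl⟩ := hf.equivImg.surjective y
    refine (h x (hf.apply_mem_img x.2)).trans ?_
    simp [MulAut.congr, IsMap.coe_equivImg]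

theorem fam_res {R : Subgroup Ω} (hU : MCentric N (normalizerIn T X) U) (hUR : U ≤ R)
    (hR : R ≤ normalizerIn T X) {β : MulAut R} (hβ : β ∈ fam hc D hX hN R) {γ : MulAut U}
    (h : ∀ x : U, ((γ x : U) : Ω) = autFun β x) : γ ∈ fam hc D hX hN U := by
  have hRc : MCentric N (normalizerIn T X) R := ⟨hR, fun P hP => by
    obtain ⟨f, hf, rfl⟩ := isConj_iff.1 hP
    exact (inf_le_inf_left _ (Subgroup.centralizer_le (img_mono hUR))).trans
      ((hU.2 _ (hf.mono hUR).isConj).trans (img_mono hUR))⟩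
  obtain ⟨g, hg, hgX, hgR, hth⟩ := (fam_iff hc D hX hN hRc).1 hβ
  refine (fam_iff hc D hX hN hU).2 ⟨g, hg.mono (sup_le_sup_right hUR X), hgX, fun x => ?_,
    Th.mono hc hth (sup_le_sup_right hUR X)⟩
  rw [hgR ⟨x, hUR x.2⟩, h x, autFun_apply β (hUR x.2)]

theorem conj_mem_lW (hW : Q ⊔ X ≤ S) (hWC : InC F T (Q ⊔ X))
    {g z : MulAut (Q ⊔ X : Subgroup Ω)} (hg : g ∈ stW F X Q) (hz : z ∈ lW hc D hW) :
    g * z * g⁻¹ ∈ lW hc D hW := by
  refine ⟨mul_mem (mul_mem hg hz.1) (Subgroup.inv_mem _ hg), ?_⟩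
  obtain ⟨δ, hδ⟩ := (good (D := D) hc _ hWC).1 _ (isMap_autFun hW hg.1.1)
  obtain ⟨j, hj, hjx⟩ := Th.exists_inv hc hδ
  rw [img_autFun] at hj
  have hj' : D.Th (Q ⊔ X) (autFun g⁻¹) δ⁻¹ := hj.congr hc fun y hy => by
    have h := hjx _ (autFun_mem g⁻¹ hy)
    rwa [autFun_apply_inv g hy] at h
  have h := ((hj'.trans hc hz.2 fun x hx => autFun_mem _ hx).trans hc hδ
    fun x hx => autFun_mem _ (autFun_mem _ hx)).congr hc fun x hx =>
      (show autFun g (autFun z (autFun g⁻¹ x)) = autFun (g * z * g⁻¹) x by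
        rw [autFun_mul_apply _ _ hx, autFun_mul_apply _ _ (autFun_mem _ hx)])
  rwa [one_mul, mul_inv_cancel] at h

theorem conj_mem_sup {l : Ω} (hlQ : l ∈ normalizer (Q : Set Ω))
    (hlX : l ∈ normalizer (X : Set Ω)) {x : Ω} (hx : x ∈ Q ⊔ X) : l * x * l⁻¹ ∈ Q ⊔ X :=
  (sup_le (fun y hy => mem_sup_left ((hlQ y).1 hy)) (fun y hy => mem_sup_right ((hlX y).1 hy)) :
    Q ⊔ X ≤ (Q ⊔ X).comap (MulAut.conj l).toMonoidHom) hx

theorem fam_syl (hQ : MCentric N (normalizerIn T X) Q) (hQn : N.IsFullyNormalized Q) :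
    fam hc D hX hN Q ⊓ autInducedBy (normalizerIn S X) Q ≤
      autInducedBy (normalizerIn T X) Q := by
  have hW := (inC_sup hc hX hN hQ).1
  haveI := finite_mulAut hW
  haveI := finite_mulAut (le_sup_left.trans hW : Q ≤ S)
  haveI : Finite (normalizerIn S X) := finite_normalizerIn
  have hS1 : IsPGroup p (normalizerIn S X) := hc.pS.to_le inf_le_left
  obtain ⟨P, hP⟩ := exists_sylow_stW hc hX hN hQn
  have hPp : IsPGroup p (autInducedBy (normalizerIn (normalizerIn S X) Q) (Q ⊔ X)) :=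
    isPGroup_autInducedBy (hS1.to_le inf_le_left) _
  obtain ⟨P', hP'⟩ := exists_sylow_sub (K := lW hc D hW) hPp P hP (fun γ hγ => hγ.1)
    fun g hg z hz _ => conj_mem_lW hc D hW (inC_sup hc hX hN hQ) hg hz
  let P'' := P'.mapSurjective (resQ hc D hW).rangeRestrict_surjective
  have h1 : (P'' : Subgroup (resQ hc D hW).range) ≤
      (autInducedBy (normalizerIn T X) Q).subgroupOf _ := by
    rintro _ ⟨γ, hγ, rfl⟩
    rw [hP'] at hγ
    obtain ⟨s, hs, hγs⟩ := mem_autInducedBy_iff.1 hγ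
    have hth : D.Th (Q ⊔ X) (fun x => s * x * s⁻¹) 1 :=
      γ.2.2.congr hc fun x hx => (autFun_apply _ hx).trans (hγs ⟨x, hx⟩)
    obtain ⟨a, ha, hax⟩ := mem_inter_of_th (D := D) hc hX hN hQ hQn hs.1 hth
    refine mem_autInducedBy_iff.2 ⟨a, ha, fun x => ?_⟩
    rw [hax x (mem_sup_left x.2)]
    exact (resQ_apply hc D hW γ x).trans ((autFun_apply _ (mem_sup_left x.2)).trans (hγs _))
  have h2 : IsPGroup p ((autInducedBy (normalizerIn S X) Q).subgroupOf (resQ hc D hW).range) :=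
    (isPGroup_autInducedBy hS1 Q).comap_of_injective (resQ hc D hW).range.subtype
      (resQ hc D hW).range.subtype_injective
  have h3 : (autInducedBy (normalizerIn T X) Q).subgroupOf (resQ hc D hW).range ≤
      (autInducedBy (normalizerIn S X) Q).subgroupOf _ := by
    intro β hβ
    obtain ⟨a, ha, hax⟩ := mem_autInducedBy_iff.1 hβ
    exact mem_autInducedBy_iff.2 ⟨a, ⟨hc.le ha.1, ha.2⟩, hax⟩
  have h4 := P''.is_maximal' h2 (h1.trans h3)
  rintro β ⟨hβ, hβ'⟩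
  rw [fam_eq hc D hX hN hQ] at hβ
  exact h1 (h4.le (show (⟨β, hβ⟩ : (resQ hc D hW).range) ∈
    (autInducedBy (normalizerIn S X) Q).subgroupOf _ from hβ'))

variable {L : Subgroup Ω}

/-- Conjugations by `L` on `Q X` have trivial value. -/
theorem conj_mem_lW_of_inter (hW : Q ⊔ X ≤ S) (hQn : N.IsFullyNormalized Q)
    (hLN : L ≤ normalizerIn (normalizerIn T X) Q) (hX : F.IsFullyNormalized X)
    (hN : F.IsNormalizerSystem X N) :
    autInducedBy L (Q ⊔ X) ≤ lW hc D hW := by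
  intro γ hγ
  obtain ⟨l, hl, hγl⟩ := mem_autInducedBy_iff.1 hγ
  have hlS : l ∈ S := hc.le (hLN hl).1.1
  refine ⟨conj_mem_stW hc hX hN hQn (mem_autInducedBy_iff.2
    ⟨l, ⟨⟨hlS, (hLN hl).1.2⟩, (hLN hl).2⟩, hγl⟩), ?_⟩
  have h1 := (th_conj (D := D) hc hW hlS).congr hc fun x hx =>
    ((autFun_apply γ hx).trans (hγl ⟨x, hx⟩)).symm
  rwa [(bar_eq_one_iff hc hlS).2 (hLN hl).1.1] at h1

/-- The elements with trivial value restricting to conjugations by `L`. -/
noncomputable def preL (hW : Q ⊔ X ≤ S) (L : Subgroup Ω) :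
    Subgroup (MulAut (Q ⊔ X : Subgroup Ω)) :=
  ((autInducedBy L Q).comap (resQ hc D hW)).map (lW hc D hW).subtype

/-- The kernel of the restriction to `Q`. -/
noncomputable def kerQ (hW : Q ⊔ X ≤ S) : Subgroup (MulAut (Q ⊔ X : Subgroup Ω)) :=
  (resQ hc D hW).ker.map (lW hc D hW).subtype

theorem exists_sylow_ker (hQ : MCentric N (normalizerIn T X) Q) (hQn : N.IsFullyNormalized Q)
    (hLN : L ≤ normalizerIn (normalizerIn T X) Q)
    (hCL : centralizerIn (normalizerIn T X) Q ≤ L) :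
    ∃ P₁ : Sylow p (kerQ hc D (inC_sup hc hX hN hQ).1),
      (P₁ : Subgroup (kerQ hc D (inC_sup hc hX hN hQ).1)) =
        (autInducedBy L (Q ⊔ X)).subgroupOf _ := by
  have hW := (inC_sup hc hX hN hQ).1
  haveI := finite_mulAut hW
  haveI : Finite (normalizerIn S X) := finite_normalizerIn
  have hS1 : IsPGroup p (normalizerIn S X) := hc.pS.to_le inf_le_left
  obtain ⟨P, hP⟩ := exists_sylow_stW hc hX hN hQn
  have hPp : IsPGroup p (autInducedBy (normalizerIn (normalizerIn S X) Q) (Q ⊔ X)) :=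
    isPGroup_autInducedBy (hS1.to_le inf_le_left) _
  obtain ⟨P₁, hP₁⟩ := exists_sylow_sub (K := kerQ hc D hW) hPp P hP
    (fun γ ⟨δ, _, e⟩ => e ▸ δ.2.1) fun g hg z hz _ => by
      obtain ⟨δ, hδ, rfl⟩ := hz
      have hgz := conj_mem_lW hc D hW (inC_sup hc hX hN hQ) hg δ.2
      refine ⟨⟨_, hgz⟩, MonoidHom.mem_ker.2 (MulEquiv.ext fun x => Subtype.ext ?_), rfl⟩
      rw [resQ_apply hc D hW, autFun_mul_apply _ _ (mem_sup_left x.2),
        autFun_mul_apply _ _ (autFun_mem _ (mem_sup_left x.2))]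
      have h1 : autFun g⁻¹ (x : Ω) ∈ Q :=
        apply_mem_of_stY (Subgroup.inv_mem _ hg).2 (mem_sup_left x.2) x.2
      show autFun g (autFun (δ : MulAut (Q ⊔ X : Subgroup Ω)) (autFun g⁻¹ (x : Ω))) = _
      rw [← resQ_apply hc D hW δ ⟨_, h1⟩, MonoidHom.mem_ker.1 hδ]
      show autFun g (autFun g⁻¹ (x : Ω)) = _
      rw [autFun_apply_inv g (mem_sup_left x.2)]
      rfl
  refine ⟨P₁, le_antisymm ?_ ?_⟩
  · intro γ hγ
    rw [hP₁] at hγ
    obtain ⟨δ, hδ, e⟩ := γ.2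
    obtain ⟨s, hs, hγs⟩ := mem_autInducedBy_iff.1 hγ
    replace e : (δ : MulAut (Q ⊔ X : Subgroup Ω)) = γ := e
    replace hγs : ∀ x : (Q ⊔ X : Subgroup Ω),
        (((γ : MulAut (Q ⊔ X : Subgroup Ω)) x : (Q ⊔ X : Subgroup Ω)) : Ω) = s * x * s⁻¹ := hγs
    have hth : D.Th (Q ⊔ X) (fun x => s * x * s⁻¹) 1 := δ.2.2.congr hc fun x hx => by
      rw [autFun_apply _ hx]
      have h := hγs ⟨x, hx⟩
      rw [← e] at h
      exact h
    obtain ⟨a, ha, hax⟩ := mem_inter_of_th (D := D) hc hX hN hQ hQn hs.1 hth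
    refine mem_autInducedBy_iff.2 ⟨a, hCL ⟨ha, fun q hq => ?_⟩, fun x => ?_⟩
    · have h1 : a * q * a⁻¹ = q := by
        rw [hax q (mem_sup_left hq), ← hγs ⟨q, mem_sup_left hq⟩]
        have h2 : ((resQ hc D hW δ ⟨q, hq⟩ : Q) : Ω) = q := by
          rw [MonoidHom.mem_ker.1 hδ]; rfl
        rw [resQ_apply hc D hW, autFun_apply _ (mem_sup_left hq)] at h2
        rw [← e]
        exact h2
      exact (mul_inv_eq_iff_eq_mul.1 h1).symm
    · rw [hax x x.2]
      exact hγs x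
  · intro γ hγ
    rw [hP₁]
    obtain ⟨l, hl, hγl⟩ := mem_autInducedBy_iff.1 (Subgroup.mem_subgroupOf.1 hγ)
    exact mem_autInducedBy_iff.2 ⟨l, ⟨⟨hc.le (hLN hl).1.1, (hLN hl).1.2⟩, (hLN hl).2⟩, hγl⟩

theorem exists_sylow_preL (hQ : MCentric N (normalizerIn T X) Q) (hQn : N.IsFullyNormalized Q)
    (hLN : L ≤ normalizerIn (normalizerIn T X) Q)
    (hCL : centralizerIn (normalizerIn T X) Q ≤ L) :
    autInducedBy L (Q ⊔ X) ≤ preL hc D (inC_sup hc hX hN hQ).1 L ∧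
    ∃ P₂ : Sylow p (preL hc D (inC_sup hc hX hN hQ).1 L),
      (P₂ : Subgroup (preL hc D (inC_sup hc hX hN hQ).1 L)) =
        (autInducedBy L (Q ⊔ X)).subgroupOf _ := by
  have hW := (inC_sup hc hX hN hQ).1
  haveI := finite_of_le hW
  haveI := finite_mulAut hW
  have hLS : L ≤ S := fun l hl => hc.le (hLN hl).1.1
  have hALlW := conj_mem_lW_of_inter hc D hW hQn hLN hX hN
  have hALM : autInducedBy L (Q ⊔ X) ≤ preL hc D hW L := fun γ hγ => by
    refine ⟨⟨γ, hALlW hγ⟩, ?_, rfl⟩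
    obtain ⟨l, hl, hγl⟩ := mem_autInducedBy_iff.1 hγ
    exact mem_autInducedBy_iff.2 ⟨l, hl, fun x => (resQ_apply hc D hW _ x).trans
      ((autFun_apply _ (mem_sup_left x.2)).trans (hγl _))⟩
  refine ⟨hALM, ?_⟩
  have hALp : IsPGroup p (autInducedBy L (Q ⊔ X)) := isPGroup_autInducedBy (hc.pS.to_le hLS) _
  obtain ⟨P₁, hP₁⟩ := exists_sylow_ker hc D hX hN hQ hQn hLN hCL
  obtain ⟨P₂, hP₂⟩ := (hALp.comap_of_injective (preL hc D hW L).subtype
    (preL hc D hW L).subtype_injective).exists_le_sylow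
  refine ⟨P₂, le_antisymm (fun q hq => ?_) hP₂⟩
  obtain ⟨δ, hδ, hδe⟩ := q.2
  obtain ⟨l, hl, hδl⟩ := mem_autInducedBy_iff.1 hδ
  have hcm := isMap_conj F hW (hLS hl)
  have hci := img_eq_of_mapsTo hcm fun x hx => conj_mem_sup (hLN hl).2 (hLN hl).1.2 hx
  have hcAL : hcm.toAut hci ∈ autInducedBy L (Q ⊔ X) :=
    mem_autInducedBy_iff.2 ⟨l, hl, fun x => hcm.toAut_apply hci x⟩
  have hzZ : (hcm.toAut hci)⁻¹ * (q : MulAut (Q ⊔ X : Subgroup Ω)) ∈ kerQ hc D hW := by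
    refine ⟨(⟨_, hALlW hcAL⟩ : lW hc D hW)⁻¹ * δ, ?_, ?_⟩
    · refine MonoidHom.mem_ker.2 ?_
      rw [map_mul, map_inv, inv_mul_eq_one]
      refine MulEquiv.ext fun x => Subtype.ext ?_
      rw [resQ_apply hc D hW, hδl x, autFun_apply _ (mem_sup_left x.2), IsMap.toAut_apply]
    · rw [← hδe]
      rfl
  have hzP : (⟨_, hzZ⟩ : kerQ hc D hW) ∈ (P₁ : Subgroup (kerQ hc D hW)) := by
    have hp : IsPGroup p (((P₂ : Subgroup (preL hc D hW L)).map
        (preL hc D hW L).subtype).subgroupOf (kerQ hc D hW)) :=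
      (P₂.isPGroup'.map _).comap_of_injective (kerQ hc D hW).subtype
        (kerQ hc D hW).subtype_injective
    have hle : (P₁ : Subgroup (kerQ hc D hW)) ≤ ((P₂ : Subgroup (preL hc D hW L)).map
        (preL hc D hW L).subtype).subgroupOf (kerQ hc D hW) := by
      rw [hP₁]
      intro z hz
      exact ⟨⟨z, hALM (Subgroup.mem_subgroupOf.1 hz)⟩, hP₂ (Subgroup.mem_subgroupOf.1 hz), rfl⟩
    rw [← P₁.is_maximal' hp hle]
    refine Subgroup.mem_subgroupOf.2 (mul_mem ?_ ⟨q, hq, rfl⟩)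
    exact Subgroup.inv_mem _ ⟨⟨_, hALM hcAL⟩, hP₂ hcAL, rfl⟩
  rw [hP₁] at hzP
  have h := mul_mem hcAL (Subgroup.mem_subgroupOf.1 hzP)
  rwa [mul_inv_cancel_left] at h

/-- An element with trivial value normalizing the conjugations by `L`. -/
theorem exists_normalizing (hQ : MCentric N (normalizerIn T X) Q) (hQn : N.IsFullyNormalized Q)
    (hLN : L ≤ normalizerIn (normalizerIn T X) Q)
    (hCL : centralizerIn (normalizerIn T X) Q ≤ L) {ν : MulAut Q}
    (hν : ν ∈ fam hc D hX hN Q)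
    (hνL : ∀ κ ∈ autInducedBy L Q, ν * κ * ν⁻¹ ∈ autInducedBy L Q) :
    ∃ g₁ : lW hc D (inC_sup hc hX hN hQ).1,
      resQ hc D (inC_sup hc hX hN hQ).1 g₁ = ν ∧
      (g₁ : MulAut (Q ⊔ X : Subgroup Ω)) ∈
        normalizer (autInducedBy L (Q ⊔ X) : Set (MulAut (Q ⊔ X : Subgroup Ω))) := by
  have hW := (inC_sup hc hX hN hQ).1
  haveI := finite_of_le hW
  haveI := finite_mulAut hW
  have hLS : L ≤ S := fun l hl => hc.le (hLN hl).1.1
  have hALlW := conj_mem_lW_of_inter hc D hW hQn hLN hX hN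
  obtain ⟨hALM, P₂, hP₂⟩ := exists_sylow_preL hc D hX hN hQ hQn hLN hCL
  rw [fam_eq hc D hX hN hQ] at hν
  obtain ⟨γ, rfl⟩ := hν
  have hnorm : (γ : MulAut (Q ⊔ X : Subgroup Ω)) ∈
      normalizer (preL hc D hW L : Set (MulAut (Q ⊔ X : Subgroup Ω))) :=
    mem_normalizer_of_conj_le fun z hz => by
      obtain ⟨δ, hδ, rfl⟩ := hz
      exact ⟨γ * δ * γ⁻¹, show resQ hc D hW (γ * δ * γ⁻¹) ∈ autInducedBy L Q by
        rw [map_mul, map_mul, map_inv]; exact hνL _ hδ, rfl⟩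
  obtain ⟨m, hm, hmn⟩ := EBal.frattini (isPGroup_autInducedBy (hc.pS.to_le hLS) _) P₂ hP₂ hnorm
  rw [inf_eq_left.2 hALM] at hmn
  obtain ⟨μ, hμ, rfl⟩ := hm
  obtain ⟨l₀, hl₀, hμl⟩ := mem_autInducedBy_iff.1 hμ
  have hcm := isMap_conj F hW (hLS hl₀)
  have hci := img_eq_of_mapsTo hcm fun x hx => conj_mem_sup (hLN hl₀).2 (hLN hl₀).1.2 hx
  have hcAL : hcm.toAut hci ∈ autInducedBy L (Q ⊔ X) :=
    mem_autInducedBy_iff.2 ⟨l₀, hl₀, fun x => hcm.toAut_apply hci x⟩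
  refine ⟨(⟨_, hALlW hcAL⟩ : lW hc D hW)⁻¹ * (μ * γ), ?_, ?_⟩
  · rw [map_mul, map_mul, map_inv]
    have e : resQ hc D hW (⟨_, hALlW hcAL⟩ : lW hc D hW) = resQ hc D hW μ :=
      MulEquiv.ext fun x => Subtype.ext (by
        rw [resQ_apply hc D hW, hμl x, autFun_apply _ (mem_sup_left x.2), IsMap.toAut_apply])
    rw [e, inv_mul_cancel_left]
  · rw [Subgroup.coe_mul, Subgroup.coe_inv, Subgroup.coe_mul]
    exact mul_mem (Subgroup.inv_mem _ ((autInducedBy L (Q ⊔ X)).le_normalizer hcAL)) hmn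

theorem fam_ext (hQ : MCentric N (normalizerIn T X) Q)
    (hQn : N.IsFullyNormalized Q) (hQL : Q ≤ L) (hLN : L ≤ normalizerIn (normalizerIn T X) Q)
    (hCL : centralizerIn (normalizerIn T X) Q ≤ L) {ν : MulAut Q} (hν : ν ∈ fam hc D hX hN Q)
    (hνL : ∀ κ ∈ autInducedBy L Q, ν * κ * ν⁻¹ ∈ autInducedBy L Q) :
    ∃ a ∈ fam hc D hX hN L, ∀ x : Q, autFun a x = ((ν x : Q) : Ω) := by
  have hS := hc.pS
  have hW := (inC_sup hc hX hN hQ).1
  haveI := finite_of_le hW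
  have hLT : L ≤ normalizerIn T X := hLN.trans inf_le_left
  have hLS : L ≤ S := fun l hl => hc.le (hLT hl).1
  obtain ⟨g₁, hg₁res, hg₁n⟩ := exists_normalizing hc D hX hN hQ hQn hLN hCL hν hνL
  -- extend
  have hg := isMap_autFun hW g₁.2.1.1.1
  have hgX : ∀ x ∈ X, autFun (g₁ : MulAut (Q ⊔ X : Subgroup Ω)) x ∈ X := fun x hx =>
    apply_mem_of_stY g₁.2.1.1.2 (mem_sup_right hx) hx
  have hconjW : ∀ l ∈ L, l ∈ normalizer ((Q ⊔ X : Subgroup Ω) : Set Ω) := fun l hl =>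
    mem_normalizer_of_conj_le fun x hx => conj_mem_sup (hLN hl).2 (hLT hl).2 hx
  have hLim : ∀ l (hl : l ∈ L), ∃ l' ∈ L, ∀ x ∈ Q ⊔ X,
      autFun (g₁ : MulAut (Q ⊔ X : Subgroup Ω)) (l * x * l⁻¹) =
        l' * autFun (g₁ : MulAut (Q ⊔ X : Subgroup Ω)) x * l'⁻¹ := by
    intro l hl
    have hcl := isMap_conj F hW (hLS hl)
    have hcli := img_eq_of_mapsTo hcl fun x hx => ((hconjW l hl) x).1 hx
    have hclAL : hcl.toAut hcli ∈ autInducedBy L (Q ⊔ X) :=
      mem_autInducedBy_iff.2 ⟨l, hl, fun x => hcl.toAut_apply hcli x⟩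
    obtain ⟨l', hl', hx'⟩ := mem_autInducedBy_iff.1 ((hg₁n _).1 hclAL)
    refine ⟨l', hl', fun x hx => ?_⟩
    have h := hx' ((g₁ : MulAut (Q ⊔ X : Subgroup Ω)) ⟨x, hx⟩)
    rw [MulAut.mul_apply, MulAut.mul_apply, MulAut.inv_apply_self] at h
    rw [autFun_apply _ (((hconjW l hl) x).1 hx), autFun_apply _ hx]
    rw [show (hcl.toAut hcli) ⟨x, hx⟩ = ⟨l * x * l⁻¹, ((hconjW l hl) x).1 hx⟩ from
      Subtype.ext (hcl.toAut_apply hcli ⟨x, hx⟩)] at h
    exact h
  have hrec := receptive_of_fullyCentralized hS hc.sat (fullyCentralized_sup hc hX hN hQn)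
  obtain ⟨ψ, hψ, hψx⟩ := hrec.2 (Q ⊔ X) hg.toHom hg.toHom_mem (hg.range_toHom.trans img_autFun)
  have hdom : L ⊔ X ≤ extender S (Q ⊔ X) hg.toHom := by
    refine sup_le (fun l hl => (mem_extender_iff hg hg.toHom_apply).2 ?_) fun x hx =>
      (mem_extender_iff hg hg.toHom_apply).2 ?_
    · obtain ⟨l', hl', hx'⟩ := hLim l hl
      exact ⟨hLS hl, hconjW l hl, l', hLS hl', hx'⟩
    · have hxW : x ∈ Q ⊔ X := mem_sup_right hx
      exact ⟨hW hxW, (Q ⊔ X).le_normalizer hxW, _, hg.mem hxW, fun y hy => hg.map_conj hxW hy⟩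
  have hLX : Q ⊔ X ≤ L ⊔ X := sup_le_sup_right hQL X
  have he : IsMap F (L ⊔ X) (toFun ψ) := (isMap_of_hom hψ).mono hdom
  have hex : ∀ x ∈ Q ⊔ X, toFun ψ x = autFun (g₁ : MulAut (Q ⊔ X : Subgroup Ω)) x := fun x hx => by
    rw [toFun_of_mem _ (hdom (hLX hx)), hψx x hx (hdom (hLX hx))]
    rfl
  have hLc : MCentric N (normalizerIn T X) L := ⟨hLT, fun R hR => by
    obtain ⟨f, hf, rfl⟩ := isConj_iff.1 hR
    exact (inf_le_inf_left _ (Subgroup.centralizer_le (img_mono hQL))).trans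
      ((hQ.2 _ (hf.mono hQL).isConj).trans (img_mono hQL))⟩
  obtain ⟨γ₀, hγ₀⟩ := (good (D := D) hc _ (inC_sup hc hX hN hLc)).1 _ he
  obtain ⟨j, hj, hjx⟩ := Th.exists_inv hc g₁.2.2
  rw [img_autFun, inv_one] at hj
  have hid : D.Th (Q ⊔ X) id (1 * γ₀) :=
    (((Th.mono hc hγ₀ hLX).congr hc hex).trans hc hj fun x hx => autFun_mem _ hx).congr hc
      fun x hx => hjx x hx
  rw [one_mul] at hid
  obtain ⟨c, hcC, hce⟩ :=
    (good hc _ (inC_sup hc hX hN hQ)).2 (fullyCentralized_sup hc hX hN hQn) _ hid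
  have hth := hγ₀.trans hc (th_conj (D := D) hc le_rfl (S.inv_mem hcC.1)) fun x hx => he.mem hx
  rw [bar_inv hc hcC.1, hce, inv_mul_cancel] at hth
  simp only [inv_inv] at hth
  have he₂ := Th.isMap hc hth
  have he₂W : ∀ x ∈ Q ⊔ X, c⁻¹ * toFun ψ x * c =
      autFun (g₁ : MulAut (Q ⊔ X : Subgroup Ω)) x := fun x hx => by
    rw [hex x hx, mul_assoc, hcC.2 _ (autFun_mem _ hx), inv_mul_cancel_left]
  haveI := finite_of_le hX.1
  haveI := finite_of_le hLS
  have he₂X : img X (fun x => c⁻¹ * toFun ψ x * c) = X :=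
    img_eq_of_mapsTo (he₂.mono le_sup_right) fun x hx => by
      show c⁻¹ * toFun ψ x * c ∈ X
      rw [he₂W x (mem_sup_right hx)]
      exact hgX x hx
  have he₂Q : ∀ x : Q, c⁻¹ * toFun ψ x * c = ((ν x : Q) : Ω) := fun x => by
    rw [he₂W x (mem_sup_left x.2), ← hg₁res]
    exact (resQ_apply hc D hW g₁ x).symm
  have he₂L : ∀ l ∈ L, c⁻¹ * toFun ψ l * c ∈ L := by
    intro l hl
    have hlA : c⁻¹ * toFun ψ l * c ∈ normalizerIn T X := by
      refine ⟨StronglyClosed.apply_mem hc.closed he₂ (mem_sup_left hl) (hLT hl).1, ?_⟩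
      have h := he₂.apply_mem_normalizerIn le_sup_right (mem_sup_left hl) (hLT hl).2
      rw [he₂X] at h
      exact h.2
    obtain ⟨l', hl', hx'⟩ := hLim l hl
    have hdiff : l'⁻¹ * (c⁻¹ * toFun ψ l * c) ∈ centralizerIn (normalizerIn T X) Q := by
      refine ⟨mul_mem (Subgroup.inv_mem _ (hLT hl')) hlA, fun q hq => ?_⟩
      obtain ⟨x, hx⟩ := ν.surjective ⟨q, hq⟩
      have hxq : c⁻¹ * toFun ψ x * c = q := by rw [he₂Q x, hx]
      have hlx : l * (x : Ω) * l⁻¹ ∈ Q := ((hLN hl).2 x).1 x.2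
      have h1 := hx' x (mem_sup_left x.2)
      rw [← he₂W _ (mem_sup_left hlx), ← he₂W _ (mem_sup_left x.2)] at h1
      have h2 := he₂.map_conj (mem_sup_left hl) (mem_sup_left (hQL x.2))
      beta_reduce at h2
      rw [h1, hxq] at h2
      have h2' : c⁻¹ * toFun ψ l * c * q * (c⁻¹ * toFun ψ l * c)⁻¹ = l' * q * l'⁻¹ := h2.symm
      calc q * (l'⁻¹ * (c⁻¹ * toFun ψ l * c))
          = l'⁻¹ * (l' * q * l'⁻¹) * (c⁻¹ * toFun ψ l * c) := by group
        _ = l'⁻¹ * (c⁻¹ * toFun ψ l * c * q * (c⁻¹ * toFun ψ l * c)⁻¹) *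
              (c⁻¹ * toFun ψ l * c) := by rw [h2']
        _ = _ := by group
    have h := L.mul_mem hl' (hCL hdiff)
    rwa [mul_inv_cancel_left] at h
  have hi := img_eq_of_mapsTo (he₂.mono le_sup_left) he₂L
  refine ⟨(he₂.mono le_sup_left).toAut hi, (fam_iff hc D hX hN hLc).2
    ⟨_, he₂, he₂X, fun x => ((he₂.mono le_sup_left).toAut_apply hi x).symm, hth⟩, fun x => ?_⟩
  rw [autFun_apply _ (hQL x.2), IsMap.toAut_apply]
  exact he₂Q x

theorem datum : Datum N (normalizerIn T X) p (fam hc D hX hN) where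
  closed := closed_inter hc hX hN
  le_aut U hU := fam_le hc D hX hN hU
  congr U V f hU hf hfV β hβ β' h := fam_congr hc D hX hN hU hf hfV hβ h
  inner U hU := inner_mem hc D hX hN hU
  res U R hU hUR hR β hβ γ h := fam_res hc D hX hN hU hUR hR hβ h
  syl Q hQ hQn := fam_syl hc D hX hN hQ hQn
  ext Q L hQ hQn hQL hLN hCL ν hν _ hνL := fam_ext hc D hX hN hQ hQn hQL hLN hCL hν hνL

include hc hX hN in
/-- A normal subsystem of `N` over `N_T(X)` lying in `E`. -/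
theorem exists_normal_inter : ∃ M : FusionSystem (normalizerIn T X),
    M.IsNormalIn N p ∧ M.IsSubsystemOf E := by
  obtain ⟨D⟩ := exists_topData hc
  haveI : Finite (normalizerIn S X) := finite_normalizerIn
  have hS1 : IsPGroup p (normalizerIn S X) := hc.pS.to_le inf_le_left
  have hd := datum hc D hX hN
  haveI : Finite (normalizerIn T X) := finite_of_le hd.closed.1
  have hA : IsPGroup p (normalizerIn T X) := hS1.to_le hd.closed.1
  have hw := isWeaklyNormalIn_sys hd hS1 (sat_norm hc hX hN) Nat.card_pos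
  refine ⟨ppSys hA hw.1, isNormalIn_ppSys hS1 hw hA, CfsgLib.Comp.Fus.isSubsystemOf_iff.2
    fun P f hf => ?_⟩
  have h := (isMap_sys_iff hd Nat.card_pos).1 ((isMap_ppSys_iff hA hw.1).1 hf).1
  clear hf
  induction h with
  | @res P R β f hR hlt hβ hPR hf =>
    obtain ⟨g, hg, hgX, hgR, hth⟩ := (fam_iff hc D hX hN hR).1 hβ
    obtain ⟨e, he, hex⟩ := Th.inv_E hc hth 1 (QuotientGroup.mk_one _)
    have hP : P ≤ (R ⊔ X) ⊓ T := le_inf (hPR.trans le_sup_left) (hPR.trans (hR.1.trans inf_le_left))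
    refine (he.mono hP).congr fun x hx => ?_
    obtain ⟨h1, h2, h3⟩ := hex x (hP hx)
    rw [one_mul, inv_one, mul_one] at h3
    rw [hf x hx, autFun_apply β (hPR hx), ← hgR ⟨x, hPR hx⟩]
    exact (congrArg Subtype.val (D.M.inj h3)).symm
  | comp h₁ hmem h₂ hh ih₁ ih₂ => exact (ih₁.comp ih₂ hmem).congr fun x hx => (hh x hx).symm

end CfsgLib.Comp.EBal
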