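import Cfsg.Agent.Lib.Fusion.ConstrainedTransport
import Cfsg.Agent.Lib.Fusion.InvariantTransport
import Cfsg.Agent.Lib.Fusion.FactorSystem
import Cfsg.Agent.Lib.Fusion.Center
import Cfsg.Agent.Lib.Fusion.HyperFocal

/-!
Transport of invariant, normal, subnormal, simple and quasisimple systems along isomorphisms of
fusion systems.
-/

set_option autoImplicit false
set_option linter.unusedVariables false
set_option linter.unusedSectionVars false
set_option linter.style.haveILetI false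

namespace CfsgLib.Comp.Fus

open Cfsg Cfsg.FusionSystem Subgroup CfsgLib.Fusion

variable {Ω : Type*} [Group Ω] {S T U : Subgroup Ω} {F : FusionSystem S} {E : FusionSystem T}
  {Ω' : Type*} [Group Ω'] {S' T' U' : Subgroup Ω'} {F' : FusionSystem S'} {E' : FusionSystem T'}
  {j : Ω → Ω'} {k : Ω' → Ω} {P : Subgroup Ω} {p : ℕ}

/-- A system given by its maps read as functions. -/
theorem fusionSystem_ext {F₁ F₂ : FusionSystem S}
    (h : ∀ (P : Subgroup Ω) (f : Ω → Ω), IsMap F₁ P f ↔ IsMap F₂ P f) : F₁ = F₂ := by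
  have e : F₁.Hom = F₂.Hom := funext fun P => Set.ext fun φ =>
    ⟨fun hφ => ((h P _).1 (isMap_of_hom hφ)).mem_hom fun x => (toFun_apply φ x).symm,
     fun hφ => ((h P _).2 (isMap_of_hom hφ)).mem_hom fun x => (toFun_apply φ x).symm⟩
  cases F₁
  cases F₂
  simp only [FusionSystem.mk.injEq]
  exact e

theorem isSubsystemOf_iff : E.IsSubsystemOf F ↔ ∀ P f, IsMap E P f → IsMap F P f :=
  ⟨fun h P _ ⟨φ, hφ, hφx⟩ => ⟨φ, h P hφ, hφx⟩,
   fun h P φ hφ => (h P _ (isMap_of_hom hφ)).mem_hom fun x => (toFun_apply φ x).symm⟩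

theorem le_of_isSubsystemOf (h : E.IsSubsystemOf F) : T ≤ S :=
  (isSubsystemOf_iff.1 h T id (isMap_id E le_rfl)).le

theorem img_autFun {α : MulAut T} : img T (autFun α) = T := img_toFun_aut α

theorem map_subgroupOf_eq_img {α : MulAut T} (hα : α ∈ F.autGroup T) (hT : T ≤ S) (hP : P ≤ T) :
    (P.subgroupOf T).map (T.subtype.comp α.toMonoidHom) = img P (autFun α) := by
  ext y
  rw [mem_img_autFun (isMap_autFun hT hα) hP]
  constructor
  · rintro ⟨s, hs, rfl⟩
    exact ⟨s, hs, autFun_apply α s.2⟩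
  · rintro ⟨x, hx, rfl⟩
    exact ⟨⟨x, hP hx⟩, hx, (autFun_apply α (hP hx)).symm⟩

/-- Invariance in terms of maps. -/
theorem isInvariantIn_iff [Finite S] : E.IsInvariantIn F ↔
    E.IsSubsystemOf F ∧ F.StronglyClosed T ∧
      (∀ a, IsMap F T a → ∀ P f, IsMap E P f →
        ∃ g, IsMap E (img P a) g ∧ ∀ x ∈ P, g (a x) = a (f x)) ∧
      ∀ P f, P ≤ T → IsMap F P f →
        ∃ a, IsMap F T a ∧ ∃ g, IsMap E P g ∧ ∀ x ∈ P, f x = a (g x) := by
  constructor
  · intro h
    obtain ⟨hsub, hsc, -, hfrat⟩ := id h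
    refine ⟨hsub, hsc, fun a ha P f hf => ?_, fun P f hP hf => ?_⟩
    · haveI := finite_of_le hsc.1
      have hi : img T a = T := StronglyClosed.img_eq hsc ha le_rfl
      have hax : ∀ x ∈ T, autFun (ha.toAut hi) x = a x := fun x hx => by
        rw [autFun_apply _ hx, IsMap.toAut_apply]
      obtain ⟨g, hg, hgx⟩ := IsInvariantIn.transport h (ha.toAut_mem hi) hf
      refine ⟨g, img_congr (fun x hx => hax x (hf.le hx)) ▸ hg, fun x hx => ?_⟩
      rw [← hax x (hf.le hx), hgx x hx, hax _ (hf.mem hx)]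
    · obtain ⟨α, hα, φ, hφ, hx⟩ := hfrat P hP hf.toHom hf.toHom_mem
      refine ⟨autFun α, isMap_autFun hsc.1 hα, toFun φ, isMap_of_hom hφ, fun x hxP => ?_⟩
      have hm : φ ⟨x, hxP⟩ ∈ T := (E.le_of_mem hφ).2 _
      rw [toFun_of_mem φ hxP, autFun_apply α hm]
      exact hx ⟨x, hxP⟩ hm
  · rintro ⟨hsub, hsc, hinv, hfrat⟩
    haveI := finite_of_le hsc.1
    refine ⟨hsub, hsc, fun P hPT φ hφ α hα => ?_, fun P hP φ hφ => ?_⟩
    · obtain ⟨g, hg, hgx⟩ := hinv _ (isMap_autFun hsc.1 hα) P _ (isMap_of_hom hφ)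
      rw [← map_subgroupOf_eq_img hα hsc.1 hPT] at hg
      refine ⟨hg.toHom, hg.toHom_mem, fun x hφx hαx => ?_⟩
      show g _ = _
      have h1 := hgx x x.2
      rwa [autFun_apply α (hPT x.2), toFun_apply φ x, autFun_apply α hφx] at h1
    · obtain ⟨a, ha, g, hg, hfx⟩ := hfrat P _ hP (isMap_of_hom hφ)
      have hi : img T a = T := StronglyClosed.img_eq hsc ha le_rfl
      refine ⟨ha.toAut hi, ha.toAut_mem hi, hg.toHom, hg.toHom_mem, fun x hx => ?_⟩
      rw [IsMap.toAut_apply]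
      show φ x = a (g x)
      rw [← toFun_apply φ x]
      exact hfx x x.2

/-- Normality in terms of maps. -/
theorem isNormalIn_iff [Finite S] : E.IsNormalIn F p ↔
    E.IsWeaklyNormalIn F p ∧ ∀ a, IsMap E T a → ∃ b, IsMap F (T ⊔ centralizerIn S T) b ∧
      (∀ x ∈ T, b x = a x) ∧
      ∀ c ∈ centralizerIn S T, c⁻¹ * b c ∈ T ⊓ centralizer (T : Set Ω) := by
  refine and_congr_right fun hw => ?_
  have hT : T ≤ S := hw.2.2.2.1.1
  haveI := finite_of_le hT
  have hTC : T ⊔ centralizerIn S T ≤ S := sup_le hT inf_le_left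
  haveI := finite_of_le hTC
  constructor
  · intro h a ha
    have hi : img T a = T := eq_of_le_of_card_le ha.img_le ha.card_img.ge
    obtain ⟨β, hβ, hβx, hβc⟩ := h (ha.toAut hi) (ha.toAut_mem hi)
    refine ⟨_, isMap_of_autGroup hTC hβ, fun x hx => ?_, fun c hc => ?_⟩
    · rw [toFun_aut_apply _ (mem_sup_left hx), ← ha.toAut_apply hi ⟨x, hx⟩]
      exact hβx ⟨x, hx⟩
    · rw [toFun_aut_apply _ (mem_sup_right hc)]
      exact hβc ⟨c, mem_sup_right hc⟩ hc
  · intro h α hα
    have ha : IsMap E T (autFun α) := isMap_of_autGroup le_rfl hα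
    obtain ⟨b, hb, hbx, hbc⟩ := h _ ha
    have hi : img (T ⊔ centralizerIn S T) b = T ⊔ centralizerIn S T := by
      refine eq_of_le_of_card_le (fun y hy => hb.img_sup_le le_sup_left le_sup_right
        (fun z hz => ?_) (fun z hz => ?_) hy) hb.card_img.ge
      · obtain ⟨x, hx, rfl⟩ := (hb.mono le_sup_left).mem_img.1 hz
        exact mem_sup_left (hbx x hx ▸ ha.mem hx)
      · obtain ⟨x, hx, rfl⟩ := (hb.mono le_sup_right).mem_img.1 hz
        have := mul_mem (mem_sup_right (S := T) hx) (mem_sup_left (T := centralizerIn S T) (hbc x hx).1)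
        rwa [mul_inv_cancel_left] at this
    refine ⟨hb.toAut hi, hb.toAut_mem hi, fun x => ?_, fun c hc => ?_⟩
    · rw [IsMap.toAut_apply, ← autFun_apply α x.2]
      exact hbx x x.2
    · rw [IsMap.toAut_apply]
      exact hbc c hc

/-! ### Isomorphisms -/

theorem isIso_congr (h : IsIso F F' j k) {j' : Ω → Ω'} {k' : Ω' → Ω} (hj : ∀ x ∈ S, j x = j' x)
    (hk : ∀ y ∈ S', k y = k' y) : IsIso F F' j' k' := by
  have hp : ∀ P ≤ S, push j P = push j' P := fun P hP => by
    unfold push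
    congr 1
    exact Set.image_congr fun x hx => hj x (hP hx)
  have hq : ∀ P ≤ S', push k P = push k' P := fun P hP => by
    unfold push
    congr 1
    exact Set.image_congr fun x hx => hk x (hP hx)
  refine ⟨fun x hx => hj x hx ▸ h.mem x hx, fun y hy => hk y hy ▸ h.mem' y hy,
    fun x hx => by rw [← hj x hx, ← hk _ (h.mem x hx), h.left x hx],
    fun y hy => by rw [← hk y hy, ← hj _ (h.mem' y hy), h.right y hy],
    fun x hx y hy => by rw [← hj x hx, ← hj y hy, ← hj _ (S.mul_mem hx hy), h.mul x hx y hy],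
    fun P f hf => ?_, fun P f hf => ?_⟩
  · rw [← hp P hf.le]
    refine (h.map P f hf).congr fun y hy => ?_
    obtain ⟨x, hx, rfl⟩ := (h.mem_push hf.le).1 hy
    rw [← hk _ (h.mem x (hf.le hx)), h.left x (hf.le hx), hj _ (hf.mem hx)]
  · rw [← hq P hf.le]
    refine (h.map' P f hf).congr fun x hx => ?_
    obtain ⟨y, hy, rfl⟩ := (h.symm.mem_push hf.le).1 hx
    rw [← hj _ (h.mem' y (hf.le hy)), h.right y (hf.le hy), hk _ (hf.mem hy)]

theorem isIso_trans {Ω'' : Type*} [Group Ω''] {S'' : Subgroup Ω''} {F'' : FusionSystem S''}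
    {j' : Ω' → Ω''} {k' : Ω'' → Ω'} (h : IsIso F F' j k) (h' : IsIso F' F'' j' k') :
    IsIso F F'' (fun x => j' (j x)) fun z => k (k' z) := by
  have hp : ∀ P ≤ S, push (fun x => j' (j x)) P = push j' (push j P) := fun P hP => by
    ext z
    constructor
    · intro hz
      refine ((Subgroup.closure_le _).2 ?_) hz
      rintro _ ⟨x, hx, rfl⟩
      exact h'.apply_mem (h.apply_mem hx)
    · intro hz
      obtain ⟨y, hy, rfl⟩ := (h'.mem_push (h.push_le hP)).1 hz
      obtain ⟨x, hx, rfl⟩ := (h.mem_push hP).1 hy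
      exact Subgroup.subset_closure ⟨x, hx, rfl⟩
  have hq : ∀ P ≤ S'', push (fun z => k (k' z)) P = push k (push k' P) := fun P hP => by
    ext z
    constructor
    · intro hz
      refine ((Subgroup.closure_le _).2 ?_) hz
      rintro _ ⟨x, hx, rfl⟩
      exact h.symm.apply_mem (h'.symm.apply_mem hx)
    · intro hz
      obtain ⟨y, hy, rfl⟩ := (h.symm.mem_push (h'.symm.push_le hP)).1 hz
      obtain ⟨x, hx, rfl⟩ := (h'.symm.mem_push hP).1 hy
      exact Subgroup.subset_closure ⟨x, hx, rfl⟩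
  exact ⟨fun x hx => h'.mem _ (h.mem x hx), fun z hz => h.mem' _ (h'.mem' z hz),
    fun x hx => by rw [h'.left _ (h.mem x hx), h.left x hx],
    fun z hz => by rw [h.right _ (h'.mem' z hz), h'.right z hz],
    fun x hx y hy => by rw [h.mul x hx y hy, h'.mul _ (h.mem x hx) _ (h.mem y hy)],
    fun P f hf => hp P hf.le ▸ h'.map _ _ (h.map P f hf),
    fun P f hf => hq P hf.le ▸ h.map' _ _ (h'.map' P f hf)⟩

/-- Two systems isomorphic to the same system by the same maps are equal. -/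
theorem eq_of_isIso {F₂ : FusionSystem S'} (h : IsIso F F' j k) (h₂ : IsIso F F₂ j k) :
    F' = F₂ := by
  suffices key : ∀ {A B : FusionSystem S'}, IsIso F A j k → IsIso F B j k →
      ∀ P f, IsMap A P f → IsMap B P f from
    fusionSystem_ext fun P f => ⟨key h h₂ P f, key h₂ h P f⟩
  intro A B hA hB P f hf
  have h1 := hB.map _ _ (hA.map' P f hf)
  rw [hA.symm.push_push hf.le] at h1
  refine h1.congr fun y hy => ?_
  show j (k (f (j (k y)))) = f y
  rw [hA.right y (hf.le hy), hA.right _ (hf.mem hy)]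

theorem preimage_eq_push {θ : T →* Ω'} (hmem : ∀ x ∈ T, j x ∈ T') (hmem' : ∀ y ∈ T', k y ∈ T)
    (hleft : ∀ x ∈ T, k (j x) = x) (hright : ∀ y ∈ T', j (k y) = y)
    (hθ : ∀ x : T, θ x = j x) {P' : Subgroup Ω'} (hP' : P' ≤ T') :
    preimageAlong θ P' = push k P' := by
  refine le_antisymm (fun x hx => ?_) ((Subgroup.closure_le _).2 ?_)
  · obtain ⟨hxT, hxP⟩ := mem_preimageAlong.1 hx
    rw [hθ] at hxP
    exact Subgroup.subset_closure ⟨j x, hxP, hleft x hxT⟩
  · rintro _ ⟨y, hy, rfl⟩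
    refine mem_preimageAlong.2 ⟨hmem' y (hP' hy), ?_⟩
    rw [hθ]
    show j (k y) ∈ P'
    rw [hright y (hP' hy)]
    exact hy

/-- A factor system modulo the trivial subgroup is an isomorphic copy. -/
theorem isIso_of_factor_bot {θ : T →* Ω'} (hmem : ∀ x ∈ T, j x ∈ T') (hmem' : ∀ y ∈ T', k y ∈ T)
    (hleft : ∀ x ∈ T, k (j x) = x) (hright : ∀ y ∈ T', j (k y) = y)
    (hθ : ∀ x : T, θ x = j x)
    (hE : ∀ (P' : Subgroup Ω') (φ' : P' →* Ω'),
      φ' ∈ E'.Hom P' ↔ P' ≤ T' ∧ ∃ φ ∈ E.Hom (preimageAlong θ P'), InducedAlong θ φ φ') :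
    IsIso E E' j k := by
  have hrange : θ.range = T' := by
    ext y
    constructor
    · rintro ⟨x, rfl⟩
      rw [hθ]
      exact hmem x x.2
    · intro hy
      exact ⟨⟨k y, hmem' y hy⟩, (hθ _).trans (hright y hy)⟩
  have hiff := fun P' f' => isMap_induced_iff (P' := P') (f' := f') hE hrange
  have hmul : ∀ x ∈ T, ∀ y ∈ T, j (x * y) = j x * j y := fun x hx y hy => by
    rw [← hθ ⟨x, hx⟩, ← hθ ⟨y, hy⟩, ← map_mul, hθ]
    rfl
  have hpushle : ∀ P ≤ T, push j P ≤ T' := fun P hP => (Subgroup.closure_le _).2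
    (by rintro _ ⟨x, hx, rfl⟩; exact hmem x (hP hx))
  have hpre : ∀ P ≤ T, preimageAlong θ (push j P) = P := fun P hP => by
    refine le_antisymm (fun x hx => ?_) fun x hx => mem_preimageAlong.2
      ⟨hP hx, by rw [hθ]; exact Subgroup.subset_closure ⟨x, hx, rfl⟩⟩
    obtain ⟨hxT, hxP⟩ := mem_preimageAlong.1 hx
    have hle : push j P ≤ (P.subgroupOf T).map θ := (Subgroup.closure_le _).2
      (by rintro _ ⟨z, hz, rfl⟩; exact ⟨⟨z, hP hz⟩, hz, hθ _⟩)
    obtain ⟨z, hz, hzx⟩ := hle hxP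
    rw [hθ, hθ] at hzx
    have e : (z : Ω) = x := by rw [← hleft z z.2, hzx, hleft x hxT]
    exact e ▸ hz
  refine ⟨hmem, hmem', hleft, hright, hmul, fun P f hf => ?_, fun P' f' hf' => ?_⟩
  · have hg : IsMap E (preimageAlong θ (push j P)) f := (hpre P hf.le).symm ▸ hf
    refine (hiff _ _).2 ⟨hpushle P hf.le, f, hg, fun x hx => ?_⟩
    rw [hθ, hθ]
    show j (f (k (j x))) = j (f x)
    rw [hleft x (preimageAlong_le hx)]
  · obtain ⟨hP', g, hg, hgx⟩ := (hiff _ _).1 hf'
    have e := preimage_eq_push hmem hmem' hleft hright hθ hP'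
    refine (e ▸ hg).congr fun x hx => ?_
    rw [← e] at hx
    have h1 := hgx x hx
    rw [hθ, hθ] at h1
    show g x = k (f' (j x))
    rw [h1, hleft _ (hg.mem hx)]

/-- The image of a subsystem under an isomorphism. -/
theorem exists_mapSys [Finite S] (h : IsIso F F' j k) (E : FusionSystem T) (hT : T ≤ S) :
    ∃ E' : FusionSystem (push j T), IsIso E E' j k := by
  haveI := finite_of_le hT
  let θ : T →* Ω' := MonoidHom.mk' (fun x => j x) fun a b => h.mul a (hT a.2) b (hT b.2)
  have hθr : θ.range = push j T := by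
    ext y
    rw [h.mem_push hT]
    exact ⟨fun ⟨x, hx⟩ => ⟨x, x.2, hx⟩, fun ⟨x, hx, hy⟩ => ⟨⟨x, hx⟩, hy⟩⟩
  have hbot : E.StronglyClosed ⊥ := stronglyClosed_iff.2 ⟨bot_le, fun R f hR hf x hx => by
    rw [Subgroup.mem_bot.1 (hR hx), hf.map_one]
    exact Subgroup.one_mem _⟩
  have hker : ∀ x : T, θ x = 1 ↔ (x : Ω) ∈ (⊥ : Subgroup Ω) := fun x => by
    rw [Subgroup.mem_bot]
    exact ⟨fun hx => h.injOn (hT x.2) S.one_mem ((hx : j x = 1).trans h.map_one.symm),
      fun hx => by show j x = 1; rw [hx, h.map_one]⟩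
  refine ⟨castSys hθr (factorSys E hbot θ hker),
    isIso_of_factor_bot (θ := θ) (fun x hx => h.apply_mem hx)
      (fun y hy => ?_) (fun x hx => h.left x (hT hx)) (fun y hy => h.right y (h.push_le hT hy))
      (fun x => rfl) fun P' φ' => ?_⟩
  · obtain ⟨x, hx, rfl⟩ := (h.mem_push hT).1 hy
    rwa [h.left x (hT hx)]
  · rw [castSys_hom, ← hθr]
    rfl

/-! ### Transport of invariance and normality -/

section Transport

variable [Finite S] [Fact p.Prime] (h : IsIso F F' j k) (hE : IsIso E E' j k)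

include h hE

theorem finite_target : Finite S' :=
  Finite.of_surjective (fun x : S => (⟨j x, h.mem x x.2⟩ : S')) fun y =>
    ⟨⟨k y, h.mem' y y.2⟩, Subtype.ext (h.right y y.2)⟩

theorem isSubsystemOf_transport (hsub : E.IsSubsystemOf F) : E'.IsSubsystemOf F' := by
  refine isSubsystemOf_iff.2 fun P f hf => ?_
  have h1 := h.map _ _ (isSubsystemOf_iff.1 hsub _ _ (hE.map' P f hf))
  have hT' : T' ≤ S' := hE.push_top ▸ h.push_le (le_of_isSubsystemOf hsub)
  rw [h.symm.push_push (hf.le.trans hT')] at h1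
  refine h1.congr fun y hy => ?_
  show j (k (f (j (k y)))) = f y
  rw [hE.right y (hf.le hy), hE.right _ (hf.mem hy)]

theorem isInvariantIn_transport (hinv : E.IsInvariantIn F) : E'.IsInvariantIn F' := by
  haveI := finite_target h hE
  obtain ⟨hsub, hsc, hconj, hfrat⟩ := isInvariantIn_iff.1 hinv
  have hTS := hsc.1
  have hT' : T' ≤ S' := hE.push_top ▸ h.push_le hTS
  have hkT : push k T' = T := hE.symm.push_top
  refine isInvariantIn_iff.2 ⟨isSubsystemOf_transport h hE hsub,
    stronglyClosed_iff.2 ⟨hT', fun R f hR hf x hx => ?_⟩, fun a ha P f hf => ?_,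
    fun P f hP hf => ?_⟩
  · have h1 := StronglyClosed.apply_mem hsc (h.map' R f hf) (h.symm.apply_mem hx)
      (hE.mem' x (hR hx))
    have e : j (k (f (j (k x)))) = f x := by
      rw [h.right x (hT' (hR hx)), h.right _ (hf.mem hx)]
    exact e ▸ hE.mem _ h1
  · have ha' := h.map' T' a ha
    rw [hkT] at ha'
    have hPT : P ≤ T' := hf.le
    obtain ⟨g, hg, hgx⟩ := hconj _ ha' (push k P) _ (hE.map' P f hf)
    have h1 := hE.map _ _ hg
    have h2 := h.symm.push_map (ha.mono hPT)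
    rw [h2, h.symm.push_push (ha.mono hPT).img_le] at h1
    · refine ⟨_, h1, fun x hx => ?_⟩
      have h3 := hgx (k x) (h.symm.apply_mem hx)
      show j (g (k (a x))) = a (f x)
      have e1 : j (k x) = x := h.right x (hT' (hPT hx))
      have e2 : j (k (f x)) = f x := hE.right _ (hf.mem hx)
      simp only [e1] at h3
      rw [h3, e2, h.right _ (ha.mem (hf.mem hx))]
  · have hf' := h.map' P f hf
    obtain ⟨a, ha, g, hg, hfx⟩ := hfrat (push k P) _
      (hkT ▸ Subgroup.closure_mono (Set.image_mono hP)) hf'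
    have ha' := h.map T a ha
    rw [hE.push_top] at ha'
    have hg' := hE.map _ _ hg
    rw [hE.symm.push_push hP] at hg'
    refine ⟨_, ha', _, hg', fun y hy => ?_⟩
    have h3 := hfx (k y) (h.symm.apply_mem hy)
    show f y = j (a (k (j (g (k y)))))
    simp only [h.right y (hT' (hP hy))] at h3
    rw [hE.left _ (hg.mem (h.symm.apply_mem hy)), ← h3, h.right _ (hf.mem hy)]

theorem isWeaklyNormalIn_transport (hw : E.IsWeaklyNormalIn F p) : E'.IsWeaklyNormalIn F' p := by
  haveI := finite_of_le hw.2.2.2.1.1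
  exact ⟨hE.isSaturated hw.1, h.isSaturated hw.2.1, isInvariantIn_transport h hE hw.2.2⟩

theorem isNormalIn_transport (hn : E.IsNormalIn F p) : E'.IsNormalIn F' p := by
  haveI := finite_target h hE
  obtain ⟨hw, hext⟩ := isNormalIn_iff.1 hn
  have hTS : T ≤ S := hw.2.2.2.1.1
  have hT' : T' ≤ S' := hE.push_top ▸ h.push_le hTS
  refine isNormalIn_iff.2 ⟨isWeaklyNormalIn_transport h hE hw, fun a ha => ?_⟩
  have ha' := hE.map' T' a ha
  rw [hE.symm.push_top] at ha'
  obtain ⟨b, hb, hbx, hbc⟩ := hext _ ha'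
  have hb' := h.map _ b hb
  have hcent : ∀ c ∈ centralizerIn S' T', k c ∈ centralizerIn S T := fun c hc => by
    refine ⟨h.mem' c hc.1, fun t ht => ?_⟩
    rw [← h.left t (hTS ht), ← h.symm.mul _ (h.mem t (hTS ht)) _ hc.1,
      ← h.symm.mul _ hc.1 _ (h.mem t (hTS ht)), hc.2 _ (hE.mem t ht)]
  have hle : T' ⊔ centralizerIn S' T' ≤ push j (T ⊔ centralizerIn S T) := by
    refine sup_le (fun y hy => ?_) fun y hy => ?_
    · rw [← hE.right y hy]
      exact h.apply_mem (mem_sup_left (hE.mem' y hy))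
    · rw [← h.right y hy.1]
      exact h.apply_mem (mem_sup_right (hcent y hy))
  refine ⟨_, hb'.mono hle, fun y hy => ?_, fun c hc => ?_⟩
  · show j (b (k y)) = a y
    rw [hbx _ (hE.mem' y hy)]
    show j (k (a (j (k y)))) = a y
    rw [hE.right y hy, hE.right _ (ha.mem hy)]
  · obtain ⟨h1, h2⟩ := hbc (k c) (hcent c hc)
    show c⁻¹ * j (b (k c)) ∈ _
    have hbS : b (k c) ∈ S := hb.mem (mem_sup_right (hcent c hc))
    have e : c⁻¹ * j (b (k c)) = j ((k c)⁻¹ * b (k c)) := by
      rw [h.mul _ (S.inv_mem (h.mem' c hc.1)) _ hbS, h.map_inv (h.mem' c hc.1), h.right c hc.1]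
    rw [e]
    refine ⟨hE.mem _ h1, fun t ht => ?_⟩
    rw [← hE.right t ht, ← hE.mul _ (hE.mem' t ht) _ h1, ← hE.mul _ h1 _ (hE.mem' t ht),
      h2 _ (hE.mem' t ht)]

end Transport

theorem le_of_subnormal (hsn : E.IsSubnormalIn F p) : T ≤ S := by
  induction hsn with
  | refl => exact le_rfl
  | step _ hn ih => exact ih.trans hn.1.2.2.2.1.1

theorem isSubnormalIn_transport [Finite S] [Fact p.Prime] (hsn : E.IsSubnormalIn F p)
    (h : IsIso F F' j k) :
    ∃ (T' : Subgroup Ω') (E' : FusionSystem T'), IsIso E E' j k ∧ E'.IsSubnormalIn F' p := by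
  suffices key : ∀ {T S : Subgroup Ω} {E : FusionSystem T} {F : FusionSystem S} {p : ℕ},
      E.IsSubnormalIn F p → Fact p.Prime → Finite S → ∀ {S' : Subgroup Ω'} (F' : FusionSystem S'),
      IsIso F F' j k →
      ∃ (T' : Subgroup Ω') (E' : FusionSystem T'), IsIso E E' j k ∧ E'.IsSubnormalIn F' p from
    key hsn inferInstance inferInstance F' h
  clear h hsn
  intro T S E F p hsn
  induction hsn with
  | refl => exact fun _ _ S' F' h => ⟨S', F', h, IsSubnormalIn.refl _ _⟩
  | step hsn hn ih =>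
    intro hp hfin S' F' h
    have hUS := hn.1.2.2.2.1.1
    obtain ⟨D', hD'⟩ := exists_mapSys h _ hUS
    obtain ⟨T', E', hE', hE'n⟩ := ih hp (finite_of_le hUS) D' hD'
    exact ⟨T', E', hE', hE'n.step (isNormalIn_transport h hD' hn)⟩

/-- A map defined on all of `S` is an automorphism of the system. -/
theorem exists_iso_self [Finite S] {g : Ω → Ω} (hg : IsMap F S g) :
    ∃ k : Ω → Ω, IsIso F F g k := by
  have hi : img S g = S := eq_of_le_of_card_le hg.img_le hg.card_img.ge
  obtain ⟨k, hk, hkx, hky, hki⟩ := hg.exists_inv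
  rw [hi] at hk hky
  refine ⟨k, fun x hx => hg.mem hx, fun y hy => (hky y hy).1, fun x hx => hkx x hx,
    fun y hy => (hky y hy).2, fun x hx y hy => hg.map_mul hx hy, fun P f hf => ?_,
    fun P f hf => ?_⟩
  · have hP := hf.le
    refine ((hk.mono ?_).comp hf fun y hy => ?_).comp hg fun y hy => ?_
    · exact (Subgroup.closure_mono (Set.image_mono hP)).trans hi.le
    · obtain ⟨x, hx, rfl⟩ := (hg.mono hP).mem_img.1 hy
      rwa [hkx x (hP hx)]
    · obtain ⟨x, hx, rfl⟩ := (hg.mono hP).mem_img.1 hy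
      rw [hkx x (hP hx)]
      exact hf.mem hx
  · have hP := hf.le
    refine ((hg.mono ?_).comp hf fun y hy => ?_).comp hk fun y hy => ?_
    · exact fun y hy => (hk.mono hP).img_le hy
    · obtain ⟨x, hx, rfl⟩ := (hk.mono hP).mem_img.1 hy
      rwa [(hky x (hP hx)).2]
    · obtain ⟨x, hx, rfl⟩ := (hk.mono hP).mem_img.1 hy
      rw [(hky x (hP hx)).2]
      exact hf.mem hx

/-- A map of `F` on the subgroup of an invariant subsystem is an automorphism of it. -/
theorem exists_iso_invariant [Finite S] (hinv : E.IsInvariantIn F) {a : Ω → Ω}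
    (ha : IsMap F T a) : ∃ c : Ω → Ω, IsIso E E a c := by
  obtain ⟨-, hsc, hconj, -⟩ := isInvariantIn_iff.1 hinv
  haveI := finite_of_le hsc.1
  have hi : img T a = T := StronglyClosed.img_eq hsc ha le_rfl
  obtain ⟨c, hc, hcx, hcy, -⟩ := ha.exists_inv
  rw [hi] at hc hcy
  refine ⟨c, fun x hx => hi.le (ha.apply_mem_img hx), fun y hy => (hcy y hy).1, hcx,
    fun y hy => (hcy y hy).2, fun x hx y hy => ha.map_mul hx hy, fun P f hf => ?_,
    fun P f hf => ?_⟩
  · obtain ⟨f', hf', hfx'⟩ := hconj a ha P f hf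
    refine hf'.congr fun y hy => ?_
    obtain ⟨x, hx, rfl⟩ := (ha.mono hf.le).mem_img.1 hy
    rw [hfx' x hx, hcx x (hf.le hx)]
  · obtain ⟨f', hf', hfx'⟩ := hconj c hc P f hf
    refine hf'.congr fun y hy => ?_
    obtain ⟨x, hx, rfl⟩ := (hc.mono hf.le).mem_img.1 hy
    rw [hfx' x hx, (hcy x (hf.le hx)).2]

/-- The image of a subnormal subsystem under a map of the system is subnormal. -/
theorem exists_subnormal_image [Finite S] [Fact p.Prime] (hsn : E.IsSubnormalIn F p)
    {g : Ω → Ω} (hg : IsMap F T g) :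
    ∃ (T₂ : Subgroup Ω) (E₂ : FusionSystem T₂) (k : Ω → Ω),
      IsIso E E₂ g k ∧ E₂.IsSubnormalIn F p := by
  suffices key : ∀ {T S : Subgroup Ω} {E : FusionSystem T} {F : FusionSystem S} {p : ℕ},
      E.IsSubnormalIn F p → Fact p.Prime → Finite S → ∀ g, IsMap F T g →
      ∃ (T₂ : Subgroup Ω) (E₂ : FusionSystem T₂) (k : Ω → Ω),
        IsIso E E₂ g k ∧ E₂.IsSubnormalIn F p from key hsn inferInstance inferInstance g hg
  clear hsn hg g
  intro T S E F p hsn
  induction hsn with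
  | refl =>
    intro _ _ g hg
    obtain ⟨k, hk⟩ := exists_iso_self hg
    exact ⟨_, _, k, hk, IsSubnormalIn.refl _ _⟩
  | step hsn hn ih =>
    intro hp hfin g hg
    obtain ⟨-, hsc, -, hfrat⟩ := isInvariantIn_iff.1 hn.1.2.2
    obtain ⟨a, ha, g₀, hg₀, hgx⟩ := hfrat _ g (le_of_subnormal hsn) hg
    obtain ⟨T₁, E₁, k₁, hE₁, hE₁n⟩ := ih hp (finite_of_le hsc.1) g₀ hg₀
    obtain ⟨c, hiso⟩ := exists_iso_invariant hn.1.2.2 ha
    haveI := finite_of_le hsc.1
    obtain ⟨T₂, E₂, hE₂, hE₂n⟩ := isSubnormalIn_transport hE₁n hiso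
    exact ⟨T₂, E₂, _, isIso_congr (isIso_trans hE₁ hE₂) (fun x hx => (hgx x hx).symm)
      (fun _ _ => rfl), hE₂n.step hn⟩

/-! ### Hyperfocal subgroup, centre, simple and quasisimple systems -/

section Quasisimple

variable [Finite S] [Fact p.Prime]

theorem push_hyperfocal_le (h : IsIso F F' j k) :
    push j (F.hyperfocalSubgroup p) ≤ F'.hyperfocalSubgroup p := by
  refine (Subgroup.closure_le _).2 ?_
  rintro _ ⟨z, hz, rfl⟩
  suffices key : z ∈ S ∧ j z ∈ F'.hyperfocalSubgroup p from key.2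
  induction hz using Subgroup.closure_induction with
  | mem z hz =>
    obtain ⟨P, α, x, hP, hα, rfl⟩ := hz
    haveI := finite_of_le hP
    refine ⟨S.mul_mem (S.inv_mem (hP x.2)) (hP (Subtype.mem _)), ?_⟩
    let e : F.autGroup P →* F'.autGroup (push j P) :=
      ((MulAut.congr (h.equiv hP)).toMonoidHom.comp (F.autGroup P).subtype).codRestrict _
        fun β => (h.autCongr_mem hP).2 β.2
    have he : Function.Injective e := fun β γ hbg =>
      Subtype.ext ((MulAut.congr (h.equiv hP)).injective (congrArg Subtype.val hbg))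
    have hres : pResidual p (F.autGroup P) ≤ (pResidual p (F'.autGroup (push j P))).comap e :=
      (Subgroup.closure_le _).2 fun β hβ => Subgroup.subset_closure
        (show (orderOf (e β)).Coprime p by rw [orderOf_injective e he]; exact hβ)
    refine Subgroup.subset_closure
      ⟨push j P, e α, h.equiv hP x, h.push_le hP, hres hα, ?_⟩
    show j _ = (j x)⁻¹ * j (((α : MulAut P) ((h.equiv hP).symm (h.equiv hP x)) : P) : Ω)
    rw [MulEquiv.symm_apply_apply, h.mul _ (S.inv_mem (hP x.2)) _ (hP (Subtype.mem _)),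
      h.map_inv (hP x.2)]
  | one => exact ⟨S.one_mem, by rw [h.map_one]; exact one_mem _⟩
  | mul a c _ _ ha hc =>
    exact ⟨S.mul_mem ha.1 hc.1, by rw [h.mul a ha.1 c hc.1]; exact mul_mem ha.2 hc.2⟩
  | inv a _ ha => exact ⟨S.inv_mem ha.1, by rw [h.map_inv ha.1]; exact inv_mem ha.2⟩

theorem isCentral_transport (h : IsIso F F' j k) {Q : Subgroup Ω} (hQ : F.IsCentral Q) :
    F'.IsCentral (push j Q) := by
  obtain ⟨hQS, hext⟩ := isCentral_iff.1 hQ
  refine isCentral_iff.2 ⟨h.push_le hQS, fun P' f hf => ?_⟩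
  obtain ⟨g, hg, hgx, hgQ⟩ := hext _ _ (h.map' P' f hf)
  have h2 := h.map _ g hg
  rw [h.push_sup (h.symm.push_le hf.le) hQS, h.symm.push_push hf.le] at h2
  refine ⟨_, h2, fun y hy => ?_, fun y hy => ?_⟩
  · show j (g (k y)) = f y
    rw [hgx _ (h.symm.apply_mem hy)]
    show j (k (f (j (k y)))) = f y
    rw [h.right y (hf.le hy), h.right _ (hf.mem hy)]
  · obtain ⟨x, hx, rfl⟩ := (h.mem_push hQS).1 hy
    show j (g (k (j x))) = j x
    rw [h.left x (hQS hx), hgQ x hx]

theorem push_center (h : IsIso F F' j k) : push j F.center = F'.center := by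
  refine le_antisymm (IsCentral.le_center (isCentral_transport h center_isCentral)) ?_
  haveI : Finite S' := finite_target h h
  have h1 : push k F'.center ≤ F.center :=
    IsCentral.le_center (isCentral_transport h.symm center_isCentral)
  intro y hy
  rw [← h.right y (center_le F' hy)]
  exact h.apply_mem (h1 (h.symm.apply_mem hy))

theorem isSimple_transport (h : IsIso F F' j k) (hs : F.IsSimple p) : F'.IsSimple p := by
  haveI : Finite S' := finite_target h h
  obtain ⟨hsat, hne, hsimp⟩ := hs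
  refine ⟨h.isSaturated hsat, fun e => hne ((Subgroup.eq_bot_iff_forall _).2 fun x hx =>
    h.injOn hx S.one_mem (by rw [h.map_one]; exact Subgroup.mem_bot.1 (e ▸ h.mem x hx))),
    fun T₁ E₁ hE₁ => ?_⟩
  have hT₁ : T₁ ≤ S' := hE₁.1.2.2.2.1.1
  obtain ⟨E₀, hE₀⟩ := exists_mapSys h.symm E₁ hT₁
  rcases hsimp _ E₀ (isNormalIn_transport h.symm hE₀ hE₁) with e | ⟨e, hhom⟩
  · refine Or.inl ((Subgroup.eq_bot_iff_forall _).2 fun y hy => ?_)
    have h0 := h.symm.apply_mem hy
    rw [e] at h0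
    rw [← h.right y (hT₁ hy), Subgroup.mem_bot.1 h0, h.map_one]
  · have hTS : T₁ = S' := by rw [← h.symm.push_push hT₁, e, h.push_top]
    refine Or.inr ⟨hTS, fun P => ?_⟩
    subst hTS
    have hiff : ∀ Q g, IsMap E₀ Q g ↔ IsMap F Q g := fun Q g => by
      unfold IsMap
      rw [hhom]
    refine congrArg (fun D : FusionSystem T₁ => D.Hom P) (fusionSystem_ext fun Q f => ⟨fun hf =>
      isSubsystemOf_iff.1 hE₁.1.2.2.1 Q f hf, fun hf => ?_⟩)
    have h1 := hE₀.map' _ _ ((hiff _ _).2 (h.map' Q f hf))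
    rw [h.symm.push_push hf.le] at h1
    refine h1.congr fun y hy => ?_
    show j (k (f (j (k y)))) = f y
    rw [h.right y (hf.le hy), h.right _ (hf.mem hy)]

theorem isQuasisimple_transport (hS : IsPGroup p S) (h : IsIso F F' j k)
    (hq : F.Quasisimple p) : F'.Quasisimple p := by
  haveI : Finite S' := finite_target h h
  obtain ⟨hsat, hhyp, hfac⟩ := hq
  refine ⟨h.isSaturated hsat, le_antisymm (hyperfocal_le F' p) ?_, fun X hX => ?_⟩
  · have h1 := push_hyperfocal_le (p := p) h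
    rwa [hhyp, h.push_top] at h1
  set Z := F.center
  set Z' := F'.center
  have hZS : Z ≤ S := center_le F
  have hZsc : F.StronglyClosed Z := stronglyClosed_iff.2 ⟨hZS, fun R f hR hf x hx => by
    rw [IsCentral.apply_eq center_isCentral hf (hR hx) hx]
    exact hR hx⟩
  have hker : ∀ s : S, QuotientGroup.mk' (Z.subgroupOf S) s = 1 ↔ (s : Ω) ∈ Z := fun s => by
    rw [QuotientGroup.mk'_apply, QuotientGroup.eq_one_iff]
    exact Subgroup.mem_subgroupOf
  have hr : (QuotientGroup.mk' (Z.subgroupOf S)).range = ⊤ :=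
    MonoidHom.range_eq_top.2 (QuotientGroup.mk'_surjective _)
  set X₀ := castSys hr (factorSys F hZsc (QuotientGroup.mk' (Z.subgroupOf S)) hker) with hX₀
  have hX₀f : F.IsFactorSystem Z (QuotientGroup.mk' (Z.subgroupOf S)) X₀ :=
    ⟨hZS, hker, hr, fun P' φ' => by rw [hX₀, castSys_hom, ← hr]; rfl⟩
  have hsimp := hfac X₀ hX₀f
  haveI : Finite (S ⧸ Z.subgroupOf S) := inferInstance
  -- the isomorphism of the quotients
  let eS : S ≃* S' := (h.equiv le_rfl).trans (MulEquiv.subgroupCongr h.push_top)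
  have heS : ∀ x : S, (eS x : Ω') = j x := fun x => rfl
  have hZ' : (Z.subgroupOf S).map eS.toMonoidHom = Z'.subgroupOf S' := by
    ext y
    constructor
    · rintro ⟨x, hx, rfl⟩
      show j x ∈ F'.center
      rw [← push_center h]
      exact h.apply_mem hx
    · intro hy
      have hy' : (y : Ω') ∈ push j Z := (push_center h).symm ▸ (hy : (y : Ω') ∈ Z')
      obtain ⟨x, hx, hxy⟩ := (h.mem_push hZS).1 hy'
      exact ⟨⟨x, hZS hx⟩, hx, Subtype.ext hxy⟩
  let eq' : S ⧸ Z.subgroupOf S ≃* S' ⧸ Z'.subgroupOf S' := QuotientGroup.congr _ _ eS hZ'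
  have heq : ∀ x : S, eq' (QuotientGroup.mk' (Z.subgroupOf S) x) =
      QuotientGroup.mk' (Z'.subgroupOf S') (eS x) := fun x => rfl
  have hpush : ∀ (A : Subgroup (S ⧸ Z.subgroupOf S)) (y : S' ⧸ Z'.subgroupOf S'),
      y ∈ push eq' A ↔ eq'.symm y ∈ A := by
    intro A y
    have e : push eq' A = A.comap eq'.symm.toMonoidHom := by
      refine le_antisymm ((Subgroup.closure_le _).2 ?_) fun z hz =>
        Subgroup.subset_closure ⟨_, hz, eq'.apply_symm_apply z⟩
      rintro _ ⟨z, hz, rfl⟩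
      show eq'.symm (eq' z) ∈ A
      rwa [MulEquiv.symm_apply_apply]
    rw [e]
    rfl
  have hiso : IsIso X₀ X eq' eq'.symm := by
    obtain ⟨-, hker', hr', hX'⟩ := hX
    have hiff := fun P' f' => isMap_induced_iff (P' := P') (f' := f') hX' hr'
    have hiff₀ := fun P' f' => isMap_induced_iff (P' := P') (f' := f') hX₀f.2.2.2 hr
    refine ⟨fun _ _ => Subgroup.mem_top _, fun _ _ => Subgroup.mem_top _,
      fun x _ => eq'.symm_apply_apply x, fun y _ => eq'.apply_symm_apply y,
      fun x _ y _ => map_mul eq' x y, fun A f hf => ?_, fun A' f' hf' => ?_⟩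
    · obtain ⟨hA, g, hg, hgx⟩ := (hiff₀ _ _).1 hf
      have hpre : preimageAlong (QuotientGroup.mk' (Z'.subgroupOf S')) (push eq' A) =
          push j (preimageAlong (QuotientGroup.mk' (Z.subgroupOf S)) A) := by
        ext y
        rw [mem_preimageAlong, h.mem_push preimageAlong_le]
        constructor
        · rintro ⟨hy, hyA⟩
          refine ⟨k y, mem_preimageAlong.2 ⟨h.mem' y hy, ?_⟩, h.right y hy⟩
          rw [hpush] at hyA
          have e : (⟨y, hy⟩ : S') = eS ⟨k y, h.mem' y hy⟩ := Subtype.ext (h.right y hy).symm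
          rwa [e, ← heq, MulEquiv.symm_apply_apply] at hyA
        · rintro ⟨x, hx, rfl⟩
          obtain ⟨hxS, hxA⟩ := mem_preimageAlong.1 hx
          refine ⟨h.mem x hxS, ?_⟩
          rw [hpush, show (⟨j x, h.mem x hxS⟩ : S') = eS ⟨x, hxS⟩ from rfl, ← heq,
            MulEquiv.symm_apply_apply]
          exact hxA
      have hm := h.map _ g hg
      rw [← hpre] at hm
      refine (hiff _ _).2 ⟨le_top, _, hm, fun y hy => ?_⟩
      obtain ⟨x, hx, rfl⟩ := (h.mem_push preimageAlong_le).1 (hpre ▸ hy)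
      have hxS := preimageAlong_le hx
      have h1 := hgx x hx
      rw [show (⟨j x, _⟩ : S') = eS ⟨x, hxS⟩ from rfl, ← heq]
      show eq' (f (eq'.symm (eq' _))) = _
      rw [MulEquiv.symm_apply_apply, h1, heq]
      congr 1
      refine Subtype.ext ?_
      show j (g x) = j (g (k (j x)))
      rw [h.left x hxS]
    · obtain ⟨hA, g, hg, hgx⟩ := (hiff _ _).1 hf'
      have hpre : preimageAlong (QuotientGroup.mk' (Z.subgroupOf S)) (push eq'.symm A') =
          push k (preimageAlong (QuotientGroup.mk' (Z'.subgroupOf S')) A') := by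
        have hmemA : ∀ z, z ∈ push eq'.symm A' ↔ eq' z ∈ A' := by
          intro z
          have e : push eq'.symm A' = A'.comap eq'.toMonoidHom := by
            refine le_antisymm ((Subgroup.closure_le _).2 ?_) fun w hw =>
              Subgroup.subset_closure ⟨_, hw, eq'.symm_apply_apply w⟩
            rintro _ ⟨w, hw, rfl⟩
            show eq' (eq'.symm w) ∈ A'
            rwa [MulEquiv.apply_symm_apply]
          rw [e]
          rfl
        ext x
        rw [mem_preimageAlong, h.symm.mem_push preimageAlong_le]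
        constructor
        · rintro ⟨hx, hxA⟩
          refine ⟨j x, mem_preimageAlong.2 ⟨h.mem x hx, ?_⟩, h.left x hx⟩
          rw [hmemA, heq] at hxA
          exact hxA
        · rintro ⟨y, hy, rfl⟩
          obtain ⟨hyS, hyA⟩ := mem_preimageAlong.1 hy
          refine ⟨h.mem' y hyS, ?_⟩
          rw [hmemA, heq, show eS ⟨k y, h.mem' y hyS⟩ = ⟨y, hyS⟩ from
            Subtype.ext (h.right y hyS)]
          exact hyA
      have hm := h.map' _ g hg
      rw [← hpre] at hm
      refine (hiff₀ _ _).2 ⟨le_top, _, hm, fun x hx => ?_⟩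
      obtain ⟨y, hy, rfl⟩ := (h.symm.mem_push preimageAlong_le).1 (hpre ▸ hx)
      have hyS := preimageAlong_le hy
      show eq'.symm (f' (eq' (QuotientGroup.mk' (Z.subgroupOf S) ⟨k y, h.mem' y hyS⟩))) = _
      rw [heq, show eS ⟨k y, h.mem' y hyS⟩ = ⟨y, hyS⟩ from Subtype.ext (h.right y hyS),
        hgx y hy, MulEquiv.symm_apply_eq, heq]
      congr 1
      refine Subtype.ext ?_
      show g y = j (k (g (j (k y))))
      rw [h.right y hyS, h.right _ (hg.mem hy)]
  haveI : Finite (⊤ : Subgroup (S ⧸ Z.subgroupOf S)) := inferInstance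
  exact isSimple_transport hiso hsimp

end Quasisimple

/-- An isomorphic copy of a component given by a map of the system is a component. -/
theorem isComponentIn_image [Finite S] [Fact p.Prime] (hS : IsPGroup p S)
    (hC : E.IsComponentIn F p) {γ : T →* Ω} (hγ : γ ∈ F.Hom T) {E₁ : FusionSystem γ.range}
    (hE : E.IsFactorSystem ⊥ γ E₁) : E₁.IsComponentIn F p := by
  obtain ⟨hsn, hqs⟩ := hC
  obtain ⟨T₂, E₂, k, hiso, hE₂n⟩ := exists_subnormal_image hsn (isMap_of_hom hγ)
  have hT₂ : T₂ = γ.range := by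
    rw [← hiso.push_top]
    refine le_antisymm ((Subgroup.closure_le _).2 ?_) ?_
    · rintro _ ⟨x, hx, rfl⟩
      exact ⟨⟨x, hx⟩, (toFun_of_mem γ hx).symm⟩
    · rintro _ ⟨x, rfl⟩
      rw [← toFun_apply γ x]
      exact Subgroup.subset_closure ⟨x, x.2, rfl⟩
  subst hT₂
  have e : E₂ = E₁ := eq_of_isIso hiso (isIso_of_factor_bot (θ := γ) hiso.mem hiso.mem'
    hiso.left hiso.right (fun x => (toFun_apply γ x).symm) hE.2.2.2)
  haveI : Finite T := finite_of_le (le_of_subnormal hsn)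
  exact e ▸ ⟨hE₂n, isQuasisimple_transport (hS.to_le (le_of_subnormal hsn)) hiso hqs⟩

end CfsgLib.Comp.Fus
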