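import Cfsg.Agent.Lib.Comp.NormalMapClass
import Cfsg.Agent.Lib.Comp.SystemTransport
import Cfsg.Agent.Lib.Fusion.SubsystemCentric
import Cfsg.Agent.Lib.Fusion.LocalSaturationNorm

/-!
The maps generated by a normal family of automorphism groups on the centric subgroups of a strongly
closed subgroup: definition and the Frattini property.
-/

set_option autoImplicit false
set_option linter.unusedVariables false
set_option linter.unusedSectionVars false
set_option linter.style.haveILetI false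

namespace CfsgLib.Comp.NMap

open Cfsg Cfsg.FusionSystem Subgroup CfsgLib.Fusion

variable {Ω : Type*} [Group Ω] {S A : Subgroup Ω} {F : FusionSystem S}
  {K : ∀ U : Subgroup Ω, Subgroup (MulAut U)} {p c c' : ℕ} {P Q R U V : Subgroup Ω} {f g : Ω → Ω}

/-- Every conjugate of `U` contains its centralizer in `A`. -/
def MCentric (F : FusionSystem S) (A U : Subgroup Ω) : Prop :=
  U ≤ A ∧ ∀ R, F.IsConj U R → centralizerIn A R ≤ R

/-- A normal family of automorphism groups on the centric subgroups of `A`. -/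
structure Datum (F : FusionSystem S) (A : Subgroup Ω) (p : ℕ)
    (K : ∀ U : Subgroup Ω, Subgroup (MulAut U)) : Prop where
  closed : F.StronglyClosed A
  le_aut : ∀ U ≤ A, K U ≤ F.autGroup U
  congr : ∀ (U V : Subgroup Ω) (f : Ω → Ω), U ≤ A → IsMap F U f → img U f = V →
    ∀ β ∈ K U, ∀ β' : MulAut V, (∀ (x : U) (h : f x ∈ V),
      ((β' ⟨f x, h⟩ : V) : Ω) = f ((β x : U) : Ω)) → β' ∈ K V
  inner : ∀ U ≤ A, autInducedBy A U ≤ K U
  res : ∀ U R : Subgroup Ω, MCentric F A U → U ≤ R → R ≤ A → ∀ β ∈ K R, ∀ γ : MulAut U,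
    (∀ x : U, ((γ x : U) : Ω) = autFun β x) → γ ∈ K U
  syl : ∀ Q : Subgroup Ω, MCentric F A Q → F.IsFullyNormalized Q →
    K Q ⊓ autInducedBy S Q ≤ autInducedBy A Q
  ext : ∀ Q L : Subgroup Ω, MCentric F A Q → F.IsFullyNormalized Q → Q ≤ L →
    L ≤ normalizerIn A Q → centralizerIn A Q ≤ L → ∀ ν ∈ K Q, (orderOf ν).Coprime p →
    (∀ κ ∈ autInducedBy L Q, ν * κ * ν⁻¹ ∈ autInducedBy L Q) →
    ∃ a ∈ K L, ∀ x : Q, autFun a x = ((ν x : Q) : Ω)

/-- Compositions of restrictions of the given automorphisms of centric subgroups of order more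
than `c`. -/
inductive KMap (F : FusionSystem S) (A : Subgroup Ω) (K : ∀ U : Subgroup Ω, Subgroup (MulAut U))
    (c : ℕ) : Subgroup Ω → (Ω → Ω) → Prop
  | res {P R : Subgroup Ω} {β : MulAut R} {f : Ω → Ω} (hR : MCentric F A R)
      (hc : c < Nat.card R) (hβ : β ∈ K R) (hPR : P ≤ R) (hf : ∀ x ∈ P, f x = autFun β x) :
      KMap F A K c P f
  | comp {P Q : Subgroup Ω} {f g h : Ω → Ω} (h₁ : KMap F A K c P f) (hmem : ∀ x ∈ P, f x ∈ Q)
      (h₂ : KMap F A K c Q g) (hh : ∀ x ∈ P, h x = g (f x)) : KMap F A K c P h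

section Basic

variable [Fact p.Prime] [Finite S] (hd : Datum F A p K)

include hd

theorem mcentric_conj (hU : MCentric F A U) (h : F.IsConj U V) : MCentric F A V := by
  obtain ⟨f, hf, rfl⟩ := isConj_iff.1 h
  refine ⟨fun y hy => ?_, fun R hR => hU.2 R (isConj_trans h hR)⟩
  obtain ⟨x, hx, rfl⟩ := hf.mem_img.1 hy
  exact StronglyClosed.apply_mem hd.closed hf hx (hU.1 hx)

theorem mcentric_mono (hU : MCentric F A U) (hUV : U ≤ V) (hVA : V ≤ A) : MCentric F A V := by
  refine ⟨hVA, fun R hR => ?_⟩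
  obtain ⟨f, hf, rfl⟩ := isConj_iff.1 hR
  exact (inf_le_inf_left A (Subgroup.centralizer_le (img_mono hUV))).trans
    ((hU.2 _ (hf.mono hUV).isConj).trans (img_mono hUV))

theorem mcentric_self : MCentric F A A := by
  refine ⟨le_rfl, fun R hR => ?_⟩
  obtain ⟨f, hf, rfl⟩ := isConj_iff.1 hR
  haveI := finite_of_le hd.closed.1
  rw [StronglyClosed.img_eq hd.closed hf le_rfl]
  exact inf_le_left

theorem KMap.isMap (h : KMap F A K c P f) : P ≤ A ∧ IsMap F P f ∧ ∀ x ∈ P, f x ∈ A := by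
  induction h with
  | @res P R β f hR hc hβ hPR hf =>
    refine ⟨hPR.trans hR.1, ((isMap_autFun (hR.1.trans hd.closed.1) (hd.le_aut R hR.1 hβ)).mono
      hPR).congr fun x hx => (hf x hx).symm, fun x hx => hf x hx ▸ hR.1 (autFun_mem β (hPR hx))⟩
  | @comp P Q f g h h₁ hmem h₂ hh ih₁ ih₂ =>
    exact ⟨ih₁.1, (ih₁.2.1.comp ih₂.2.1 hmem).congr fun x hx => (hh x hx).symm,
      fun x hx => hh x hx ▸ ih₂.2.2 _ (hmem x hx)⟩

omit hd in
theorem KMap.mono {P' : Subgroup Ω} (h : KMap F A K c P f) (hP : P' ≤ P) :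
    KMap F A K c P' f := by
  induction h generalizing P' with
  | res hR hc hβ hPR hf => exact .res hR hc hβ (hP.trans hPR) fun x hx => hf x (hP hx)
  | comp h₁ hmem h₂ hh ih₁ _ =>
    exact .comp (ih₁ hP) (fun x hx => hmem x (hP hx)) h₂ fun x hx => hh x (hP hx)

omit hd in
theorem KMap.congr (h : KMap F A K c P f) (hfg : ∀ x ∈ P, f x = g x) : KMap F A K c P g := by
  cases h with
  | res hR hc hβ hPR hf => exact .res hR hc hβ hPR fun x hx => (hfg x hx).symm.trans (hf x hx)
  | comp h₁ hmem h₂ hh => exact .comp h₁ hmem h₂ fun x hx => (hfg x hx).symm.trans (hh x hx)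

/-- Only automorphism groups of subgroups at least as large as the source occur. -/
theorem KMap.raise (h : KMap F A K c P f) {P' : Subgroup Ω} (hP : P' ≤ P)
    (hc : c' < Nat.card P') : KMap F A K c' P' f := by
  induction h generalizing P' with
  | @res P R β f hR hcR hβ hPR hf =>
    haveI := finite_of_le (hR.1.trans hd.closed.1)
    exact .res hR (hc.trans_le (Subgroup.card_le_of_le (hP.trans hPR))) hβ (hP.trans hPR)
      fun x hx => hf x (hP hx)
  | @comp P Q f g h h₁ hmem h₂ hh ih₁ ih₂ =>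
    have hf := (h₁.isMap hd).2.1.mono hP
    have hle : img P' f ≤ Q := fun y hy => by
      obtain ⟨x, hx, rfl⟩ := hf.mem_img.1 hy
      exact hmem x (hP hx)
    exact .comp (ih₁ hP hc) (fun x hx => hf.apply_mem_img hx)
      (ih₂ hle (by rwa [hf.card_img])) fun x hx => hh x (hP hx)

omit hd in
/-- Maps allowed over a bound are allowed over a smaller bound. -/
theorem KMap.lower (h : KMap F A K c P f) (hc : c' ≤ c) : KMap F A K c' P f := by
  induction h with
  | res hR hcR hβ hPR hf => exact .res hR (by omega) hβ hPR hf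
  | comp _ hmem _ hh ih₁ ih₂ => exact .comp ih₁ hmem ih₂ hh

theorem kmap_id (hc : c < Nat.card A) (hP : P ≤ A) : KMap F A K c P id :=
  .res (mcentric_self hd) hc (one_mem _) hP fun x hx => (autFun_one (hP hx)).symm

theorem kmap_conj (hc : c < Nat.card A) (hP : P ≤ A) {a : Ω} (ha : a ∈ A) :
    KMap F A K c P fun x => a * x * a⁻¹ := by
  refine .res (β := A.normalizerMonoidHom ⟨a, A.le_normalizer ha⟩) (mcentric_self hd) hc
    (hd.inner A le_rfl (mem_autInducedBy_iff.2 ⟨a, ha, fun x => rfl⟩)) hP fun x hx => ?_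
  rw [autFun_apply _ (hP hx)]
  rfl

theorem KMap.exists_inv (h : KMap F A K c P f) :
    ∃ k, KMap F A K c (img P f) k ∧ ∀ x ∈ P, k (f x) = x := by
  induction h with
  | @res P R β f hR hc hβ hPR hf =>
    refine ⟨autFun β⁻¹, .res hR hc ((K R).inv_mem hβ) ?_ (fun _ _ => rfl), fun x hx => ?_⟩
    · intro y hy
      have hm := ((isMap_autFun (hR.1.trans hd.closed.1) (hd.le_aut R hR.1 hβ)).mono hPR).congr
        fun x hx => (hf x hx).symm
      obtain ⟨x, hx, rfl⟩ := hm.mem_img.1 hy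
      rw [hf x hx]
      exact autFun_mem β (hPR hx)
    · rw [hf x hx, autFun_inv_apply β (hPR hx)]
  | @comp P Q f g h h₁ hmem h₂ hh ih₁ ih₂ =>
    obtain ⟨k₁, hk₁, hk₁x⟩ := ih₁
    obtain ⟨k₂, hk₂, hk₂x⟩ := ih₂
    have hm : IsMap F P h := (KMap.comp h₁ hmem h₂ hh).isMap hd |>.2.1
    have hle : img P h ≤ img Q g := fun y hy => by
      obtain ⟨x, hx, rfl⟩ := hm.mem_img.1 hy
      rw [hh x hx]
      exact (h₂.isMap hd).2.1.apply_mem_img (hmem x hx)
    refine ⟨fun y => k₁ (k₂ y), .comp (hk₂.mono hle) (fun y hy => ?_) hk₁ (fun _ _ => rfl),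
      fun x hx => ?_⟩
    · obtain ⟨x, hx, rfl⟩ := hm.mem_img.1 hy
      rw [hh x hx, hk₂x _ (hmem x hx)]
      exact (h₁.isMap hd).2.1.apply_mem_img hx
    · show k₁ (k₂ (h x)) = x
      rw [hh x hx, hk₂x _ (hmem x hx), hk₁x x hx]

/-- The maps are permuted by the automorphisms of `A`. -/
theorem KMap.transport {a : Ω → Ω} (ha : IsMap F A a) (h : KMap F A K c P f) :
    ∃ g, KMap F A K c (img P a) g ∧ ∀ x ∈ P, g (a x) = a (f x) := by
  induction h with
  | @res P R β f hR hc hβ hPR hf =>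
    have haR := ha.mono hR.1
    set β' := MulAut.congr haR.equivImg β
    have hval : ∀ (x : R) (h : a x ∈ img R a), ((β' ⟨a x, h⟩ : img R a) : Ω) = a ((β x : R) : Ω) := by
      intro x h
      rw [show (⟨a x, h⟩ : img R a) = haR.equivImg x from Subtype.ext (haR.coe_equivImg x).symm]
      show ((haR.equivImg (β (haR.equivImg.symm (haR.equivImg x))) : img R a) : Ω) = _
      rw [MulEquiv.symm_apply_apply, IsMap.coe_equivImg]
    refine ⟨autFun β', .res (mcentric_conj hd hR haR.isConj) (by rwa [haR.card_img])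
      (hd.congr R _ a hR.1 haR rfl β hβ β' hval) (img_mono hPR) (fun _ _ => rfl), fun x hx => ?_⟩
    rw [autFun_apply β' (haR.apply_mem_img (hPR hx)), hval ⟨x, hPR hx⟩, hf x hx,
      autFun_apply β (hPR hx)]
  | @comp P Q f g h h₁ hmem h₂ hh ih₁ ih₂ =>
    obtain ⟨f', hf', hf'x⟩ := ih₁
    obtain ⟨g', hg', hg'x⟩ := ih₂
    have haP := ha.mono (h₁.isMap hd).1
    have haQ := ha.mono (h₂.isMap hd).1
    refine ⟨fun y => g' (f' y), .comp hf' (fun y hy => ?_) hg' (fun _ _ => rfl), fun x hx => ?_⟩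
    · obtain ⟨x, hx, rfl⟩ := haP.mem_img.1 hy
      rw [hf'x x hx]
      exact haQ.apply_mem_img (hmem x hx)
    · show g' (f' (a x)) = a (h x)
      rw [hf'x x hx, hg'x _ (hmem x hx), hh x hx]

/-- The system of these maps. -/
noncomputable def sys (hc : c < Nat.card A) : FusionSystem A where
  Hom P := {φ | KMap F A K c P (toFun φ)}
  le_of_mem {P φ} h := ⟨(h.isMap hd).1, fun x => toFun_apply φ x ▸ (h.isMap hd).2.2 x x.2⟩
  injective_of_mem {P φ} h := fun x y hxy => Subtype.ext ((h.isMap hd).2.1.inj x.2 y.2 (by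
    rw [toFun_apply, toFun_apply, hxy]))
  conj_mem {P a} hP ha := (kmap_conj hd hc hP ha).congr
    fun x hx => by rw [toFun_of_mem _ hx]; rfl
  comp_mem {P P' φ ψ} hφ hψ h := KMap.comp hφ
    (fun x hx => by rw [toFun_of_mem φ hx]; exact h _) hψ fun x hx => by
      rw [toFun_of_mem φ hx, toFun_of_mem (ψ.comp _) hx, toFun_of_mem ψ (h _)]
      rfl
  inv_mem {P φ} hφ := by
    obtain ⟨k, hk, hkx⟩ := hφ.exists_inv hd
    have hm := (hk.isMap hd).2.1
    have e : img P (toFun φ) = φ.range := by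
      rw [← (hφ.isMap hd).2.1.range_toHom]
      congr 1
      ext x
      rw [IsMap.toHom_apply, toFun_apply]
    rw [e] at hk hm
    refine ⟨hm.toHom, hk.congr fun y hy => ?_, fun x => ?_⟩
    · rw [toFun_of_mem _ hy]
      rfl
    · rw [IsMap.toHom_apply]
      show k (φ x) = x
      rw [← toFun_apply φ x]
      exact hkx x x.2

theorem isMap_sys_iff (hc : c < Nat.card A) :
    IsMap (sys hd hc) P f ↔ KMap F A K c P f := by
  constructor
  · rintro ⟨φ, hφ, hφx⟩
    exact (show KMap F A K c P (toFun φ) from hφ).congr fun x hx => by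
      rw [toFun_of_mem φ hx]; exact hφx ⟨x, hx⟩
  · intro h
    let φ : P →* Ω := (h.isMap hd).2.1.toHom
    exact ⟨φ, h.congr fun x hx => by rw [toFun_of_mem φ hx]; rfl, fun _ => rfl⟩

theorem sys_le (hc : c < Nat.card A) : (sys hd hc).IsSubsystemOf F :=
  CfsgLib.Comp.Fus.isSubsystemOf_iff.2 fun P f h => (((isMap_sys_iff hd hc).1 h).isMap hd).2.1

theorem isConj_sys (hc : c < Nat.card A) (h : (sys hd hc).IsConj P Q) : F.IsConj P Q :=
  isConj_of_subsystem (sys_le hd hc) h

theorem gen_sys (hc : c < Nat.card A) (E : FusionSystem A)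
    (hE : ∀ R ∈ {R | MCentric F A R ∧ c < Nat.card R}, (sys hd hc).Hom R ⊆ E.Hom R) :
    sys hd hc ≤ E := by
  have key : ∀ P f, KMap F A K c P f → IsMap E P f := by
    intro P f h
    induction h with
    | @res P R β f hR hcR hβ hPR hf =>
      obtain ⟨φ, hφ, hφx⟩ := (isMap_sys_iff hd hc).2
        (KMap.res hR hcR hβ le_rfl fun x hx => rfl : KMap F A K c R (autFun β))
      have hm : IsMap E R (autFun β) := ⟨φ, hE R ⟨hR, hcR⟩ hφ, hφx⟩
      exact (hm.mono hPR).congr
        fun x hx => (hf x hx).symm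
    | comp h₁ hmem h₂ hh ih₁ ih₂ => exact (ih₁.comp ih₂ hmem).congr fun x hx => (hh x hx).symm
  exact fun P φ hφ => (key P _ hφ).mem_hom fun x => (toFun_apply φ x).symm

/-- `f` is an automorphism of `A` after one of these maps. -/
def Frat (F : FusionSystem S) (A : Subgroup Ω) (K : ∀ U : Subgroup Ω, Subgroup (MulAut U))
    (c : ℕ) (P : Subgroup Ω) (f : Ω → Ω) : Prop :=
  ∃ a j, IsMap F A a ∧ KMap F A K c P j ∧ ∀ x ∈ P, f x = a (j x)

omit hd in
theorem Frat.mono {P' : Subgroup Ω} (h : Frat F A K c P f) (hP : P' ≤ P) :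
    Frat F A K c P' f := by
  obtain ⟨a, j, ha, hj, hx⟩ := h
  exact ⟨a, j, ha, hj.mono hP, fun x hx' => hx x (hP hx')⟩

theorem auto_img {a : Ω → Ω} (ha : IsMap F A a) : img A a = A := by
  haveI := finite_of_le hd.closed.1
  exact StronglyClosed.img_eq hd.closed ha le_rfl

theorem Frat.comp (h₁ : Frat F A K c P f) (h₂ : Frat F A K c Q g) (hmem : ∀ x ∈ P, f x ∈ Q) :
    Frat F A K c P fun x => g (f x) := by
  obtain ⟨a, j, ha, hj, hx⟩ := h₁
  obtain ⟨a', j', ha', hj', hx'⟩ := h₂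
  obtain ⟨b, hb, hbx, hby, -⟩ := ha.exists_inv
  rw [auto_img hd ha] at hb hby
  obtain ⟨i, hi, hix⟩ := hj'.transport hd hb
  have hQA := (hj'.isMap hd).1
  have hjA := (hj.isMap hd).2.2
  have hbj : ∀ x ∈ P, b (f x) = j x := fun x h => by rw [hx x h, hbx _ (hjA x h)]
  refine ⟨fun y => a' (a y), fun x => i (j x), ha.comp ha' fun y hy => ?_,
    .comp hj (fun x h => ?_) hi (fun _ _ => rfl), fun x h => ?_⟩
  · exact (auto_img hd ha).le (ha.apply_mem_img hy)
  · rw [← hbj x h]
    exact (hb.mono hQA).apply_mem_img (hmem x h)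
  · show g (f x) = a' (a (i (j x)))
    rw [← hbj x h, hix _ (hmem x h), (hby _ ((hj'.isMap hd).2.2 _ (hmem x h))).2,
      hx' _ (hmem x h)]

theorem Frat.inv (h : Frat F A K c P f) (hf : IsMap F P f) {k : Ω → Ω}
    (hk : ∀ x ∈ P, k (f x) = x) : Frat F A K c (img P f) k := by
  obtain ⟨a, j, ha, hj, hx⟩ := h
  obtain ⟨b, hb, hbx, hby, -⟩ := ha.exists_inv
  rw [auto_img hd ha] at hb hby
  obtain ⟨j', hj', hj'x⟩ := hj.exists_inv hd
  obtain ⟨i, hi, hix⟩ := hj'.transport hd ha
  have hjm := (hj.isMap hd).2.1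
  have hle : img P f ≤ img (img P j) a := fun y hy => by
    obtain ⟨x, h, rfl⟩ := hf.mem_img.1 hy
    rw [hx x h]
    exact (ha.mono (hj'.isMap hd).1).apply_mem_img (hjm.apply_mem_img h)
  refine ⟨b, i, hb, hi.mono hle, fun y hy => ?_⟩
  obtain ⟨x, h, rfl⟩ := hf.mem_img.1 hy
  rw [hk x h, hx x h, hix _ (hjm.apply_mem_img h), hj'x x h, hbx _ ((hj.isMap hd).1 h)]

variable (hS : IsPGroup p S) (hF : F.IsSaturated p)

include hS hF

/-- Every map between subgroups of `A` is an automorphism of `A` after one of these maps. -/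
theorem frattini : ∀ P : Subgroup Ω, P ≤ A → ∀ c, c < Nat.card P → ∀ f, IsMap F P f →
    Frat F A K c P f := by
  have hAS := hd.closed.1
  haveI := finite_of_le hAS
  suffices key : ∀ n, ∀ P : Subgroup Ω, P ≤ A → Nat.card A - Nat.card P = n → ∀ c,
      c < Nat.card P → ∀ f, IsMap F P f → Frat F A K c P f from
    fun P hP => key _ P hP rfl
  intro n
  induction n using Nat.strong_induction_on with
  | _ n ih =>
  intro P hPA hn c hc f hf
  rcases eq_or_lt_of_le hPA with rfl | hlt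
  · exact ⟨f, id, hf, kmap_id hd hc le_rfl, fun x _ => rfl⟩
  have hPS := hPA.trans hAS
  haveI := finite_of_le hPS
  have hlarge : ∀ L, L ≤ A → P ≤ L → P ≠ L → Nat.card P < Nat.card L := fun L hL hPL hne => by
    haveI := finite_of_le (hL.trans hAS)
    exact lt_of_not_ge fun h => hne (eq_of_le_of_card_le hPL h)
  obtain ⟨Q, hPQ, hQn⟩ := exists_fullyNormalized_conj F hPS
  -- maps onto `Q` on normalizers
  have hside : ∀ U : Subgroup Ω, F.IsConj P U → U ≤ A → ∃ ψ, IsMap F U ψ ∧ img U ψ = Q ∧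
      Frat F A K c U ψ := by
    intro U hU hUA
    obtain ⟨ψ, hψ, hψi, -⟩ := exists_map_normalizerIn_of_fullyNormalized hS hF hQn
      (isConj_trans (isConj_symm hU) hPQ)
    have hUS := hUA.trans hAS
    refine ⟨ψ, hψ.mono (le_normalizerIn hUS), hψi, ?_⟩
    haveI := finite_of_le hUS
    have hUlt : U < A := lt_of_le_of_ne hUA fun e => hlt.ne (eq_of_le_of_card_le hPA (by
      rw [← isConj_card hU, e]))
    set L := normalizerIn A U
    have hUL : U < L := lt_normalizerIn (hS.to_le hAS) hUlt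
    have hLA : L ≤ A := inf_le_left
    haveI := finite_of_le (hLA.trans hAS)
    have hcard : Nat.card U < Nat.card L :=
      lt_of_not_ge fun h => hUL.ne (eq_of_le_of_card_le hUL.le h)
    have hLle : Nat.card L ≤ Nat.card A := Subgroup.card_le_of_le hLA
    have hPU := isConj_card hU
    exact (ih _ (by omega) L hLA rfl c (by omega) ψ
      (hψ.mono (inf_le_inf_right _ hAS))).mono hUL.le
  have hQA : Q ≤ A := by
    obtain ⟨g, hg, rfl⟩ := isConj_iff.1 hPQ
    intro y hy
    obtain ⟨x, hx, rfl⟩ := hg.mem_img.1 hy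
    exact StronglyClosed.apply_mem hd.closed hg hx (hPA hx)
  haveI := finite_of_le hQn.1
  have hcQ : c < Nat.card Q := by rw [isConj_card hPQ]; exact hc
  have hQlt : Q < A := lt_of_le_of_ne hQA fun e => hlt.ne (eq_of_le_of_card_le hPA (by
    rw [← isConj_card hPQ, e]))
  have hrec := receptive_of_fullyNormalized hS hF hQn
  -- automorphisms of `Q`
  have haut : ∀ θ : MulAut Q, θ ∈ F.autGroup Q → Frat F A K c Q (autFun θ) := by
    intro θ hθ
    have hlift : ∀ (L : Subgroup Ω) (g : Ω → Ω), L ≤ A → Q < L → IsMap F L g →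
        Frat F A K c Q g := by
      intro L g hLA hQL hg
      haveI := finite_of_le (hLA.trans hAS)
      have hcard : Nat.card Q < Nat.card L :=
        lt_of_not_ge fun h => hQL.ne (eq_of_le_of_card_le hQL.le h)
      have hLle : Nat.card L ≤ Nat.card A := Subgroup.card_le_of_le hLA
      have hPQ' := isConj_card hPQ
      exact (ih _ (by omega) L hLA rfl c (by omega) g hg).mono hQL.le
    by_cases hCQ : centralizerIn A Q ≤ Q
    · have hQm : MCentric F A Q := by
        refine ⟨hQA, fun R hR => ?_⟩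
        obtain ⟨ψ, hψ, hψi, -⟩ :=
          exists_map_normalizerIn_of_fullyNormalized hS hF hQn (isConj_symm hR)
        intro x hx
        have hRS := isConj_le_right hR
        have hxN : x ∈ normalizerIn S R := centralizerIn_le_normalizerIn ⟨hAS hx.1, hx.2⟩
        have hRN : R ≤ normalizerIn S R := le_normalizerIn hRS
        have h := hψ.apply_mem_centralizerIn hRN hxN hx.2
        rw [hψi] at h
        have h2 : ψ x ∈ Q := hCQ ⟨StronglyClosed.apply_mem hd.closed hψ hxN hx.1, h.2⟩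
        rw [← hψi] at h2
        obtain ⟨r, hr, hrx⟩ := (hψ.mono hRN).mem_img.1 h2
        exact hψ.inj (hRN hr) hxN hrx ▸ hr
      set G := F.autGroup Q
      haveI : ((K Q).subgroupOf G).Normal := ⟨fun b hb t => by
        have hm := isMap_autFun hQn.1 t.2
        refine hd.congr Q Q _ hQA hm CfsgLib.Comp.Fus.img_autFun (b : MulAut Q) hb _ fun x hx => ?_
        show ((((t : MulAut Q) * (b : MulAut Q) * (t : MulAut Q)⁻¹) ⟨autFun (t : MulAut Q) x, hx⟩ :
          Q) : Ω) = _
        rw [MulAut.mul_apply,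
          MulAut.mul_apply, show (⟨autFun (t : MulAut Q) x, hx⟩ : Q) = (t : MulAut Q) x from
            Subtype.ext (autFun_apply _ x.2), MulAut.inv_apply_self, autFun_apply _ (Subtype.mem _)]⟩
      obtain ⟨Sy, hSy⟩ := (fullyAutomized_of_fullyNormalized hS hF hQn).2
      obtain ⟨d, hd', hdn⟩ := exists_frattini_conj Sy ((K Q).subgroupOf G) ⟨θ, hθ⟩
      set n' : G := d * ⟨θ, hθ⟩
      obtain ⟨g, hg, hgx⟩ := exists_extend hrec n'.2 (le_inf hQA Q.le_normalizer :
          Q ≤ normalizerIn A Q) (inf_le_inf_right _ hAS) fun κ hκ => by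
        have hκA : κ ∈ autInducedBy A Q := autInducedBy_mono inf_le_left hκ
        have hκS : κ ∈ autInducedBy S Q := autInducedBy_mono hAS hκA
        have h := (hdn ⟨κ, hd.le_aut Q hQA (hd.inner Q hQA hκA)⟩
          ⟨hSy.ge hκS, hd.inner Q hQA hκA⟩).1
        rw [hSy] at h
        exact h
      have h₁ := hlift _ g inf_le_left (lt_normalizerIn (hS.to_le hAS) hQlt) hg
      have h₂ : Frat F A K c Q (autFun (d : MulAut Q)⁻¹) := by
        obtain ⟨b, hb, hbid⟩ : ∃ b, IsMap F A b ∧ ∀ x ∈ A, b x = x :=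
          ⟨id, isMap_id F hAS, fun x _ => rfl⟩
        exact ⟨b, _, hb, KMap.res hQm hcQ ((K Q).inv_mem hd') le_rfl (fun _ _ => rfl),
          fun x hx => (hbid _ (hQA (autFun_mem _ hx))).symm⟩
      obtain ⟨a, j, ha, hj, hx⟩ := h₁.comp hd h₂ fun x hx => by
        rw [hgx x hx]; exact autFun_mem _ hx
      refine ⟨a, j, ha, hj, fun x hx' => ?_⟩
      rw [← hx x hx']
      show _ = autFun (d : MulAut Q)⁻¹ (g x)
      rw [hgx x hx', ← autFun_mul_apply _ _ hx',
        show (n' : MulAut Q) = (d : MulAut Q) * θ from rfl, inv_mul_cancel_left]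
    · have hm := isMap_autFun hQn.1 hθ
      obtain ⟨g, hg, hgx⟩ := receptive_extend_centralizer hrec hm CfsgLib.Comp.Fus.img_autFun
      have hle : Q ⊔ centralizerIn A Q ≤ Q ⊔ centralizerIn S Q :=
        sup_le_sup_left (inf_le_inf_right _ hAS) Q
      have hlt' : Q < Q ⊔ centralizerIn A Q :=
        lt_of_le_of_ne le_sup_left fun e =>
          hCQ ((le_sup_right : centralizerIn A Q ≤ Q ⊔ centralizerIn A Q).trans e.ge)
      obtain ⟨a, j, ha, hj, hx⟩ :=
        hlift _ g (sup_le hQA inf_le_left) hlt' (hg.mono hle)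
      exact ⟨a, j, ha, hj, fun x hx' => (hgx x hx').symm.trans (hx x hx')⟩
  -- assemble
  have hfA : img P f ≤ A := fun y hy => by
    obtain ⟨x, hx, rfl⟩ := hf.mem_img.1 hy
    exact StronglyClosed.apply_mem hd.closed hf hx (hPA hx)
  obtain ⟨ψ, hψ, hψi, hψF⟩ := hside P (isConj_refl hPS) hPA
  obtain ⟨ψ', hψ', hψ'i, hψ'F⟩ := hside _ hf.isConj hfA
  obtain ⟨k, hk, hkx, hky, hki⟩ := hψ.exists_inv
  obtain ⟨k', hk', hk'x, -, -⟩ := hψ'.exists_inv
  rw [hψi] at hk hky hki
  have hfk : IsMap F Q (fun y => f (k y)) := hk.comp hf fun y hy => (hky y hy).1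
  have hcomp : IsMap F Q (fun y => ψ' (f (k y))) :=
    hfk.comp hψ' fun y hy => hf.apply_mem_img (hky y hy).1
  have hci : img Q (fun y => ψ' (f (k y))) = Q := by
    refine eq_of_le_of_card_le (fun z hz => ?_) hcomp.card_img.ge
    obtain ⟨y, hy, rfl⟩ := hcomp.mem_img.1 hz
    exact hψ'i.le (hψ'.apply_mem_img (hf.apply_mem_img (hky y hy).1))
  set θ := hcomp.toAut hci
  have hθF := haut θ (hcomp.toAut_mem hci)
  have h12 := hψF.comp hd hθF fun x hx => hψi.le (hψ.apply_mem_img hx)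
  have hk'F := hψ'F.inv hd hψ' hk'x
  rw [hψ'i] at hk'F
  obtain ⟨a, j, ha, hj, hx⟩ := h12.comp hd hk'F fun x hx => autFun_mem _
    (hψi.le (hψ.apply_mem_img hx))
  refine ⟨a, j, ha, hj, fun x hx' => ?_⟩
  rw [← hx x hx']
  show f x = k' (autFun θ (ψ x))
  rw [autFun_apply θ (hψi.le (hψ.apply_mem_img hx')), IsMap.toAut_apply]
  show f x = k' (ψ' (f (k (ψ x))))
  rw [hkx x hx', hk'x _ (hf.apply_mem_img hx')]

/-- The system of these maps is invariant. -/
theorem isInvariantIn_sys (hc : 0 < Nat.card A) : (sys hd hc).IsInvariantIn F := by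
  refine CfsgLib.Comp.Fus.isInvariantIn_iff.2 ⟨sys_le hd hc, hd.closed, fun a ha P f hf => ?_,
    fun P f hP hf => ?_⟩
  · obtain ⟨g, hg, hgx⟩ := ((isMap_sys_iff hd hc).1 hf).transport hd ha
    exact ⟨g, (isMap_sys_iff hd hc).2 hg, hgx⟩
  · haveI := finite_of_le (hP.trans hd.closed.1)
    obtain ⟨a, j, ha, hj, hx⟩ := frattini hd hS hF P hP 0 Nat.card_pos f hf
    exact ⟨a, ha, j, (isMap_sys_iff hd hc).2 hj, hx⟩

end Basic

end CfsgLib.Comp.NMap
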