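import Cfsg.Agent.Lib.Comp.EBalMainThm
import Cfsg.Agent.Lib.Comp.NormalMap

/-!
The automorphism groups with trivial value in the normalizer system of a fully normalized
subgroup: the sylow property and the extension property.
-/

set_option autoImplicit false
set_option linter.unusedVariables false
set_option linter.unusedSectionVars false
set_option linter.style.haveILetI false

universe u

namespace CfsgLib.Comp.EBal.TopData

open Cfsg Cfsg.FusionSystem Subgroup CfsgLib.Fusion CfsgLib.Comp.Fus CfsgLib.Comp.CProd NMap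

variable {Ω : Type u} [Group Ω] {S T X Q U V L : Subgroup Ω} {F : FusionSystem S}
  {E : FusionSystem T} {p : ℕ}

/-- `β` extends to a map of `Q X` stabilizing `X` with trivial value. -/
def Lift (D : TopData F E p) (X Q : Subgroup Ω) (β : MulAut Q) : Prop :=
  ∃ g, IsMap F (Q ⊔ X) g ∧ img X g = X ∧ (∀ x : Q, g x = ((β x : Q) : Ω)) ∧ D.Th (Q ⊔ X) g 1

variable [Fact p.Prime] [Finite S] (hc : Ctx F E p) {N : FusionSystem (normalizerIn S X)}
  (hX : F.IsFullyNormalized X) (hN : F.IsNormalizerSystem X N) {D : TopData F E p}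

include hc hX hN

theorem sat_norm : N.IsSaturated p := isSaturated_normalizerSystem hc.pS hc.sat hX hN

theorem closed_inter : N.StronglyClosed (normalizerIn T X) := by
  refine stronglyClosed_iff.2 ⟨inf_le_inf_right _ hc.le, fun R f hR hf x hx => ?_⟩
  obtain ⟨hRN, hfN, g, hg, hgx, -⟩ := (isMap_normalizerSystem_iff hN).1 hf
  refine ⟨?_, (hfN x hx).2⟩
  rw [← hgx x hx]
  exact StronglyClosed.apply_mem hc.closed hg (mem_sup_left hx) (hR hx).1

theorem inC_sup (hQ : MCentric N (normalizerIn T X) Q) : InC F T (Q ⊔ X) := by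
  have hQN : Q ≤ normalizerIn S X := hQ.1.trans (inf_le_inf_right _ hc.le)
  have hW : Q ⊔ X ≤ normalizerIn S X := sup_le hQN (le_normalizerIn hX.1)
  refine ⟨hW.trans inf_le_left, fun R hR => ?_⟩
  obtain ⟨f, hf, rfl⟩ := isConj_iff.1 hR
  have hfX := hf.mono (le_sup_right : X ≤ Q ⊔ X)
  obtain ⟨φ, hφ, hφi, hφN⟩ := exists_map_normalizerIn_of_fullyNormalized hc.pS hc.sat hX
    (isConj_symm hfX.isConj)
  have hfN : ∀ x ∈ Q ⊔ X, f x ∈ normalizerIn S (img X f) := fun x hx =>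
    hf.apply_mem_normalizerIn le_sup_right hx (hW hx).2
  have hcomp := hf.comp hφ hfN
  have hcX : img X (fun x => φ (f x)) = X := by
    rw [img_comp_eq hfX (hφ.mono (le_normalizerIn hfX.img_le)) fun x hx => hfX.apply_mem_img hx,
      hφi]
  have hcN : IsMap N Q fun x => φ (f x) := (isMap_normalizerSystem_iff hN).2
    ⟨hQN, fun x hx => hφN _ (hfN x (mem_sup_left hx)), _, hcomp, fun _ _ => rfl, hcX⟩
  intro t ht
  have htN : t ∈ normalizerIn S (img X f) := centralizerIn_le_normalizerIn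
    (⟨hc.le ht.1, Subgroup.centralizer_le (img_mono le_sup_right) ht.2⟩ :
      t ∈ centralizerIn S (img X f))
  have h1 : φ t ∈ centralizerIn (normalizerIn T X) (img Q fun x => φ (f x)) := by
    refine ⟨⟨StronglyClosed.apply_mem hc.closed hφ htN ht.1, (hφN t htN).2⟩, fun y hy => ?_⟩
    obtain ⟨x, hx, rfl⟩ := hcN.mem_img.1 hy
    have hfx := hfN x (mem_sup_left hx)
    show φ (f x) * φ t = φ t * φ (f x)
    rw [← hφ.map_mul hfx htN, ← hφ.map_mul htN hfx]
    exact congrArg φ (ht.2 _ (hf.apply_mem_img (mem_sup_left hx)))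
  obtain ⟨x, hx, e⟩ := hcN.mem_img.1 (hQ.2 _ hcN.isConj h1)
  exact hφ.inj (hfN x (mem_sup_left hx)) htN e ▸ hf.apply_mem_img (mem_sup_left hx)

theorem fullyCentralized_sup (hQn : N.IsFullyNormalized Q) :
    F.IsFullyCentralized (Q ⊔ X) := by
  have hS := hc.pS
  have hQN := hQn.1
  have hNS : normalizerIn S X ≤ S := inf_le_left
  haveI : Finite (normalizerIn S X) := finite_normalizerIn
  have hNp : IsPGroup p (normalizerIn S X) := hS.to_le hNS
  have hW : Q ⊔ X ≤ normalizerIn S X := sup_le hQN (le_normalizerIn hX.1)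
  refine ⟨hW.trans hNS, fun R hR => ?_⟩
  obtain ⟨f, hf, rfl⟩ := isConj_iff.1 hR
  have hfX := hf.mono (le_sup_right : X ≤ Q ⊔ X)
  obtain ⟨φ, hφ, hφi, hφN⟩ := exists_map_normalizerIn_of_fullyNormalized hS hc.sat hX
    (isConj_symm hfX.isConj)
  have hfN : ∀ x ∈ Q ⊔ X, f x ∈ normalizerIn S (img X f) := fun x hx =>
    hf.apply_mem_normalizerIn le_sup_right hx (hW hx).2
  have hcomp := hf.comp hφ hfN
  have hcX : img X (fun x => φ (f x)) = X := by
    rw [img_comp_eq hfX (hφ.mono (le_normalizerIn hfX.img_le)) fun x hx => hfX.apply_mem_img hx,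
      hφi]
  have hcN : IsMap N Q fun x => φ (f x) := (isMap_normalizerSystem_iff hN).2
    ⟨hQN, fun x hx => hφN _ (hfN x (mem_sup_left hx)), _, hcomp, fun _ _ => rfl, hcX⟩
  obtain ⟨ψ, hψ, hψi, hψN⟩ := exists_map_normalizerIn_of_fullyNormalized hNp (sat_norm hc hX hN)
    hQn (isConj_symm hcN.isConj)
  obtain ⟨-, -, k, hk, hkψ, hkX⟩ := (isMap_normalizerSystem_iff hN).1 hψ
  have hC : centralizerIn S (img (Q ⊔ X) f) ≤ normalizerIn S (img X f) := fun c hcc =>
    centralizerIn_le_normalizerIn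
      (⟨hcc.1, Subgroup.centralizer_le (img_mono le_sup_right) hcc.2⟩ :
        c ∈ centralizerIn S (img X f))
  have hQc : ∀ x ∈ Q, φ (f x) ∈ normalizerIn (normalizerIn S X) (img Q fun x => φ (f x)) :=
    fun x hx => le_normalizerIn hcN.img_le (hcN.apply_mem_img hx)
  have hd : ∀ x ∈ Q ⊔ X, φ (f x) ∈
      normalizerIn (normalizerIn S X) (img Q fun x => φ (f x)) ⊔ X := fun x hx => by
    refine hcomp.img_sup_le le_sup_left le_sup_right ?_ (hcX.le.trans le_sup_right)
      (hcomp.apply_mem_img hx)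
    intro y hy
    obtain ⟨z, hz, rfl⟩ := hcN.mem_img.1 hy
    exact mem_sup_left (hQc z hz)
  have hall := hcomp.comp hk hd
  have hkc : ∀ x ∈ Q ⊔ X, k (φ (f x)) ∈ Q ⊔ X := fun x hx => by
    refine hall.img_sup_le le_sup_left le_sup_right ?_ ?_ (hall.apply_mem_img hx)
    · intro y hy
      obtain ⟨z, hz, rfl⟩ := (hall.mono le_sup_left).mem_img.1 hy
      show k (φ (f z)) ∈ Q ⊔ X
      rw [hkψ _ (hQc z hz)]
      exact mem_sup_left (hψi.le ((hψ.mono (le_normalizerIn hcN.img_le)).apply_mem_img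
        (hcN.apply_mem_img hz)))
    · intro y hy
      obtain ⟨z, hz, rfl⟩ := (hall.mono le_sup_right).mem_img.1 hy
      exact mem_sup_right (hkX.le ((hk.mono le_sup_right).apply_mem_img
        (hcX.le ((hcomp.mono le_sup_right).apply_mem_img hz))))
  haveI := finite_of_le (hW.trans hNS)
  have hWimg : img (Q ⊔ X) (fun x => k (φ (f x))) = Q ⊔ X := img_eq_of_mapsTo hall hkc
  have hCimg : ∀ c ∈ centralizerIn S (img (Q ⊔ X) f),
      φ c ∈ normalizerIn (normalizerIn S X) (img Q fun x => φ (f x)) ∧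
        k (φ c) ∈ centralizerIn S (Q ⊔ X) := by
    intro c hcc
    have h1 : φ c ∈ centralizerIn (normalizerIn S X) (img Q fun x => φ (f x)) :=
      ⟨hφN c (hC hcc), fun y hy => by
        obtain ⟨x, hx, rfl⟩ := hcN.mem_img.1 hy
        have hfx := hfN x (mem_sup_left hx)
        show φ (f x) * φ c = φ c * φ (f x)
        rw [← hφ.map_mul hfx (hC hcc), ← hφ.map_mul (hC hcc) hfx]
        exact congrArg φ (hcc.2 _ (hf.apply_mem_img (mem_sup_left hx)))⟩
    have h2 := centralizerIn_le_normalizerIn h1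
    refine ⟨h2, hk.mem (mem_sup_left h2), fun y hy => ?_⟩
    obtain ⟨x, hx, rfl⟩ := hall.mem_img.1 (hWimg.ge hy)
    show k (φ (f x)) * k (φ c) = k (φ c) * k (φ (f x))
    rw [← hk.map_mul (hd x hx) (mem_sup_left h2), ← hk.map_mul (mem_sup_left h2) (hd x hx)]
    congr 1
    rw [← hφ.map_mul (hfN x hx) (hC hcc), ← hφ.map_mul (hC hcc) (hfN x hx)]
    exact congrArg φ (hcc.2 _ (hf.apply_mem_img hx))
  have hCm := (hφ.mono hC).comp hk fun c hcc => mem_sup_left (hCimg c hcc).1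
  haveI : Finite (centralizerIn S (Q ⊔ X)) := finite_centralizerIn
  rw [← hCm.card_img]
  refine Subgroup.card_le_of_le fun y hy => ?_
  obtain ⟨c, hcc, rfl⟩ := hCm.mem_img.1 hy
  exact (hCimg c hcc).2

/-- An element of `N_S(X)` whose conjugation has trivial value acts as an element of `T`. -/
theorem mem_inter_of_th (hQ : MCentric N (normalizerIn T X) Q) (hQn : N.IsFullyNormalized Q)
    {s : Ω} (hs : s ∈ normalizerIn S X)
    (hv : D.Th (Q ⊔ X) (fun x => s * x * s⁻¹) 1) :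
    ∃ a ∈ normalizerIn T X, ∀ x ∈ Q ⊔ X, a * x * a⁻¹ = s * x * s⁻¹ := by
  have hWC := inC_sup hc hX hN hQ
  obtain ⟨k, hk, hkx⟩ := Th.exists_inv hc (th_conj (D := D) hc hWC.1 hs.1)
  have hm := isMap_conj F hWC.1 hs.1
  have hid : D.Th (Q ⊔ X) id ((D.bar s)⁻¹ * 1) :=
    (hv.trans hc hk fun x hx => hm.apply_mem_img hx).congr hc fun x hx => hkx x hx
  obtain ⟨c, hcC, e⟩ := (good hc _ hWC).2 (fullyCentralized_sup hc hX hN hQn) _ hid
  refine ⟨s * c, ⟨?_, ?_⟩, fun x hx => ?_⟩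
  · refine (bar_eq_one_iff (D := D) hc (S.mul_mem hs.1 hcC.1)).1 ?_
    rw [bar_mul hc hs.1 hcC.1, e, mul_one, mul_inv_cancel]
  · exact mul_mem hs.2 (centralizer_le_normalizer _ (Subgroup.centralizer_le
      (fun _ h => mem_sup_right h) hcC.2))
  · rw [show s * c * x * (s * c)⁻¹ = s * (c * x * c⁻¹) * s⁻¹ by group, ← hcC.2 x hx,
      mul_inv_cancel_right]

end CfsgLib.Comp.EBal.TopData

namespace CfsgLib.Comp.EBal

open Cfsg Cfsg.FusionSystem Subgroup CfsgLib.Fusion CfsgLib.Comp.Fus CfsgLib.Comp.CProd NMap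

variable {Ω : Type u} [Group Ω] {S T X Q W Y : Subgroup Ω} {F : FusionSystem S}
  {E : FusionSystem T} {p : ℕ}

/-- The automorphisms of `W` stabilizing `Y`. -/
def stY (W Y : Subgroup Ω) : Subgroup (MulAut W) where
  carrier := {γ | ∀ x : W, (x : Ω) ∈ Y ↔ ((γ x : W) : Ω) ∈ Y}
  one_mem' := fun x => Iff.rfl
  mul_mem' := fun {a b} ha hb x => (hb x).trans (ha (b x))
  inv_mem' := fun {a} ha x => by
    have h := (ha (a⁻¹ x)).symm
    rwa [MulAut.apply_inv_self] at h

/-- The automorphisms of `Q X` in `F` stabilizing `Q` and `X`. -/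
noncomputable def stW (F : FusionSystem S) (X Q : Subgroup Ω) :
    Subgroup (MulAut (Q ⊔ X : Subgroup Ω)) :=
  F.autGroup (Q ⊔ X) ⊓ stY _ X ⊓ stY _ Q

theorem apply_mem_of_stY {γ : MulAut W} (h : γ ∈ stY W Y) {x : Ω} (hx : x ∈ W) (hxY : x ∈ Y) :
    autFun γ x ∈ Y := by
  rw [autFun_apply γ hx]
  exact (h ⟨x, hx⟩).1 hxY

variable [Fact p.Prime] [Finite S]

theorem toAut_mem_stY {g : Ω → Ω} (hg : IsMap F W g) (hi : img W g = W) (hYW : Y ≤ W)
    (hY : ∀ x ∈ Y, g x ∈ Y) : hg.toAut hi ∈ stY W Y := fun x => by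
  rw [IsMap.toAut_apply]
  refine ⟨hY x, fun h => ?_⟩
  haveI := finite_of_le (hYW.trans hg.le)
  obtain ⟨y, hy, e⟩ := (hg.mono hYW).mem_img.1 ((img_eq_of_mapsTo (hg.mono hYW) hY).ge h)
  exact hg.inj (hYW hy) x.2 e ▸ hy

variable (hc : Ctx F E p) {N : FusionSystem (normalizerIn S X)}
  (hX : F.IsFullyNormalized X) (hN : F.IsNormalizerSystem X N)

include hc hX hN

theorem conj_mem_stW (hQn : N.IsFullyNormalized Q) :
    autInducedBy (normalizerIn (normalizerIn S X) Q) (Q ⊔ X) ≤ stW F X Q := by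
  intro γ hγ
  obtain ⟨s, hs, hγs⟩ := mem_autInducedBy_iff.1 hγ
  have hWS : Q ⊔ X ≤ S := sup_le (hQn.1.trans inf_le_left) hX.1
  refine ⟨⟨(autGroup_iff_isMap hWS hγs).2 (isMap_conj F hWS hs.1.1), fun x => ?_⟩, fun x => ?_⟩
  · rw [hγs x]
    exact hs.1.2 x
  · rw [hγs x]
    exact hs.2 x

/-- If `Q` is fully normalized in `N`, conjugations form a Sylow subgroup of the stabilizer. -/
theorem exists_sylow_stW (hQn : N.IsFullyNormalized Q) :
    ∃ P : Sylow p (stW F X Q), (P : Subgroup (stW F X Q)) =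
      (autInducedBy (normalizerIn (normalizerIn S X) Q) (Q ⊔ X)).subgroupOf (stW F X Q) := by
  have hS := hc.pS
  have hF := hc.sat
  have hNS : normalizerIn S X ≤ S := inf_le_left
  haveI : Finite (normalizerIn S X) := finite_normalizerIn
  have hNp : IsPGroup p (normalizerIn S X) := hS.to_le hNS
  have hQN := hQn.1
  have hW : Q ⊔ X ≤ normalizerIn S X := sup_le hQN (le_normalizerIn hX.1)
  have hWS := hW.trans hNS
  haveI := finite_of_le hWS
  haveI := finite_of_le hX.1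
  haveI := finite_of_le (hQN.trans hNS)
  haveI : Finite (MulAut (Q ⊔ X : Subgroup Ω)) :=
    Finite.of_injective _ MulEquiv.toEquiv_injective
  have hPp : IsPGroup p (autInducedBy (normalizerIn (normalizerIn S X) Q) (Q ⊔ X)) :=
    isPGroup_autInducedBy (hS.to_le (inf_le_left.trans hNS)) _
  obtain ⟨P, hP⟩ := (hPp.comap_of_injective (stW F X Q).subtype
    (stW F X Q).subtype_injective).exists_le_sylow
  refine ⟨P, (eq_of_le_of_card_le hP ?_).symm⟩
  have hR : IsPGroup p ((P : Subgroup (stW F X Q)).map (stW F X Q).subtype) := P.isPGroup'.map _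
  -- into a fully normalized conjugate
  obtain ⟨W', hconj, hW'n⟩ := exists_fullyNormalized_conj F hWS
  obtain ⟨f, hf, rfl⟩ := isConj_iff.1 hconj
  obtain ⟨β, hβ, hβk⟩ := exists_conj_le_autInducedBy
    (fullyAutomized_of_fullyNormalized hS hF hW'n)
    (((P : Subgroup (stW F X Q)).map (stW F X Q).subtype).map
      (MulAut.congr hf.equivImg).toMonoidHom) (hR.map _) (by
      rintro _ ⟨_, ⟨γ, -, rfl⟩, rfl⟩
      exact hf.congr_mem_autGroup γ.2.1.1)
  obtain ⟨g, hg, hgdef⟩ : ∃ g, IsMap F (Q ⊔ X) g ∧ ∀ x, g x = autFun β (f x) :=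
    ⟨_, hf.comp (isMap_autFun hW'n.1 hβ) fun x hx => hf.apply_mem_img hx, fun _ => rfl⟩
  have hact : ∀ r : stW F X Q, r ∈ (P : Subgroup (stW F X Q)) →
      ∃ u ∈ S, ∀ x (hx : x ∈ Q ⊔ X),
        g ((r : MulAut (Q ⊔ X : Subgroup Ω)) ⟨x, hx⟩ : Ω) = u * g x * u⁻¹ := by
    intro r hr
    obtain ⟨u, hu, hux⟩ := mem_autInducedBy_iff.1
      (hβk _ ⟨_, ⟨r, hr, rfl⟩, rfl⟩)
    refine ⟨u, hu, fun x hx => ?_⟩
    have h := hux (β (hf.equivImg ⟨x, hx⟩))
    rw [hgdef, hgdef, autFun_apply β (hf.apply_mem_img hx), autFun_apply β (hf.apply_mem_img (Subtype.mem _))]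
    simp only [MulAut.mul_apply, MulEquiv.coe_toMonoidHom, MulAut.congr,
      MulEquiv.coe_mk, Equiv.coe_fn_mk, MulEquiv.trans_apply, MulAut.inv_apply_self,
      MulEquiv.symm_apply_apply] at h
    exact h
  have hgX := hg.mono (le_sup_right : X ≤ Q ⊔ X)
  -- back to `N_S(X)`
  obtain ⟨φ, hφ, hφi, hφN⟩ :=
    exists_map_normalizerIn_of_fullyNormalized hS hF hX (isConj_symm hgX.isConj)
  have hgN : ∀ x ∈ Q ⊔ X, g x ∈ normalizerIn S (img X g) := fun x hx =>
    hg.apply_mem_normalizerIn le_sup_right hx (hW hx).2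
  have hcomp := hg.comp hφ hgN
  have hcX : img X (fun x => φ (g x)) = X := by
    rw [img_comp_eq hgX (hφ.mono (le_normalizerIn hgX.img_le)) fun x hx => hgX.apply_mem_img hx,
      hφi]
  have hcN : IsMap N Q fun x => φ (g x) := (isMap_normalizerSystem_iff hN).2
    ⟨hQN, fun x hx => hφN _ (hgN x (mem_sup_left hx)), _, hcomp, fun _ _ => rfl, hcX⟩
  obtain ⟨ψ, hψ, hψi, hψN⟩ := exists_map_normalizerIn_of_fullyNormalized hNp
    (isSaturated_normalizerSystem hS hF hX hN) hQn (isConj_symm hcN.isConj)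
  obtain ⟨-, -, k, hk, hkψ, hkX⟩ := (isMap_normalizerSystem_iff hN).1 hψ
  set Q' := img Q fun x => φ (g x) with hQ'
  have hd : ∀ x ∈ Q ⊔ X, φ (g x) ∈ normalizerIn (normalizerIn S X) Q' ⊔ X := fun x hx => by
    refine hcomp.img_sup_le le_sup_left le_sup_right ?_ (hcX.le.trans le_sup_right)
      (hcomp.apply_mem_img hx)
    intro y hy
    exact mem_sup_left (le_normalizerIn hcN.img_le hy)
  have hall := hcomp.comp hk hd
  have hhX : ∀ x ∈ X, k (φ (g x)) ∈ X := fun x hx =>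
    hkX.le ((hk.mono le_sup_right).apply_mem_img
      (hcX.le ((hcomp.mono le_sup_right).apply_mem_img hx)))
  have hhQ : ∀ x ∈ Q, k (φ (g x)) ∈ Q := fun x hx => by
    rw [hkψ _ (le_normalizerIn hcN.img_le (hcN.apply_mem_img hx))]
    exact hψi.le ((hψ.mono (le_normalizerIn hcN.img_le)).apply_mem_img (hcN.apply_mem_img hx))
  have hi : img (Q ⊔ X) (fun x => k (φ (g x))) = Q ⊔ X :=
    img_eq_of_mapsTo hall fun x hx => hall.img_sup_le le_sup_left le_sup_right
      (fun y hy => by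
        obtain ⟨z, hz, rfl⟩ := (hall.mono le_sup_left).mem_img.1 hy
        exact mem_sup_left (hhQ z hz))
      (fun y hy => by
        obtain ⟨z, hz, rfl⟩ := (hall.mono le_sup_right).mem_img.1 hy
        exact mem_sup_right (hhX z hz)) (hall.apply_mem_img hx)
  set h := hall.toAut hi with hh
  have key : ∀ r ∈ (P : Subgroup (stW F X Q)),
      h * r * h⁻¹ ∈ autInducedBy (normalizerIn (normalizerIn S X) Q) (Q ⊔ X) := by
    intro r hr
    obtain ⟨u, hu, hur⟩ := hact r hr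
    have hrst : ∀ {Y : Subgroup Ω}, Y ≤ Q ⊔ X → (r : MulAut _) ∈ stY (Q ⊔ X) Y →
        ∀ y ∈ img Y g, u * y * u⁻¹ ∈ img Y g := by
      intro Y hY hr y hy
      obtain ⟨x, hx, rfl⟩ := (hg.mono hY).mem_img.1 hy
      rw [← hur x (hY hx)]
      exact (hg.mono hY).apply_mem_img ((hr ⟨x, hY hx⟩).1 hx)
    haveI := finite_of_le hgX.img_le
    have huN : u ∈ normalizerIn S (img X g) :=
      ⟨hu, mem_normalizer_of_conj_le (hrst le_sup_right r.2.1.2)⟩
    have hconjφ : ∀ y ∈ Q ⊔ X, φ (u * g y * u⁻¹) = φ u * φ (g y) * (φ u)⁻¹ := fun y hy =>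
      hφ.map_conj huN (hgN y hy)
    haveI := finite_of_le hcN.img_le
    have huQ : φ u ∈ normalizerIn (normalizerIn S X) Q' := by
      refine ⟨hφN u huN, mem_normalizer_of_conj_le fun y hy => ?_⟩
      obtain ⟨x, hx, rfl⟩ := hcN.mem_img.1 hy
      rw [← hconjφ x (mem_sup_left hx), ← hur x (mem_sup_left hx)]
      exact hcN.apply_mem_img ((r.2.2 ⟨x, mem_sup_left hx⟩).1 hx)
    have hv : k (φ u) ∈ normalizerIn (normalizerIn S X) Q := by
      rw [hkψ _ huQ]
      exact hψN _ huQ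
    refine mem_autInducedBy_iff.2 ⟨k (φ u), hv, fun z => ?_⟩
    obtain ⟨x, hx, e⟩ := hall.mem_img.1 (hi.ge z.2)
    have ez : h⁻¹ z = ⟨x, hx⟩ := by
      rw [show z = h ⟨x, hx⟩ from Subtype.ext (by rw [hh, IsMap.toAut_apply]; exact e.symm),
        MulAut.inv_apply_self]
    rw [MulAut.mul_apply, MulAut.mul_apply, ez, hh, IsMap.toAut_apply]
    show k (φ (g _)) = _
    rw [show g ((r : MulAut (Q ⊔ X : Subgroup Ω)) ⟨x, hx⟩ : Ω) = u * g x * u⁻¹ from hur x hx,
      hconjφ x hx, hk.map_conj (mem_sup_left huQ) (hd x hx)]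
    rw [← e]
  have hhst : h ∈ stW F X Q :=
    ⟨⟨hall.toAut_mem hi, toAut_mem_stY hall hi le_sup_right hhX⟩,
      toAut_mem_stY hall hi le_sup_left hhQ⟩
  refine Nat.card_le_card_of_injective (fun r : (P : Subgroup (stW F X Q)) =>
    (⟨⟨h * (r : stW F X Q) * h⁻¹, mul_mem (mul_mem hhst (r : stW F X Q).2)
      (Subgroup.inv_mem _ hhst)⟩, key r r.2⟩ :
      (autInducedBy (normalizerIn (normalizerIn S X) Q) (Q ⊔ X)).subgroupOf (stW F X Q)))
    fun a b hab => Subtype.ext (Subtype.ext ?_)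
  have h1 := congrArg (fun z : (autInducedBy (normalizerIn (normalizerIn S X) Q)
    (Q ⊔ X)).subgroupOf (stW F X Q) => ((z : stW F X Q) : MulAut (Q ⊔ X : Subgroup Ω))) hab
  exact mul_left_cancel (mul_right_cancel h1)

end CfsgLib.Comp.EBal
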