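import Cfsg.Agent.Lib.Comp.EBalDatum
import Cfsg.Agent.Lib.Comp.FixClosed

/-!
The layer of a normalizer system lies in the layer.
-/

set_option autoImplicit false
set_option linter.unusedVariables false
set_option linter.unusedSectionVars false
set_option linter.style.haveILetI false

universe u

namespace CfsgLib.Comp.EBal

open Cfsg Cfsg.FusionSystem Subgroup CfsgLib.Fusion CfsgLib.Comp.Fus CfsgLib.Comp.CProd NMap

variable {Ω : Type u} [Group Ω] {S T X R : Subgroup Ω} {F : FusionSystem S}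
  {E : FusionSystem T} {p : ℕ} [Fact p.Prime] [Finite S]

theorem mcentric_top {A : Subgroup Ω} {N : FusionSystem S} (hA : N.StronglyClosed A) :
    MCentric N A A := by
  refine ⟨le_rfl, fun Q hQ => ?_⟩
  obtain ⟨f, hf, rfl⟩ := isConj_iff.1 hQ
  haveI := finite_of_le hA.1
  rw [StronglyClosed.img_eq hA hf le_rfl]
  exact inf_le_left

variable (hc : Ctx F E p) {N : FusionSystem (normalizerIn S X)}
  (hX : F.IsFullyNormalized X) (hN : F.IsNormalizerSystem X N)

include hc hX hN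

theorem closed_interX : N.StronglyClosed (normalizerIn T X ⊔ X) := by
  have hA := TopData.closed_inter hc hX hN
  have hXn := Dich.isNormal_normalizerSystem hX.1 hN
  refine stronglyClosed_iff.2 ⟨sup_le hA.1 (le_normalizerIn hX.1), fun P f hP hf x hx => ?_⟩
  obtain ⟨g, hg, hgx, hgX⟩ := (isNormal_iff.1 hXn).2 P f hf
  have hxs : x ∈ ((normalizerIn T X ⊔ X : Subgroup Ω) : Set Ω) := hP hx
  rw [Subgroup.coe_mul_of_left_le_normalizer_right (normalizerIn T X) X inf_le_right,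
    Set.mem_mul] at hxs
  obtain ⟨a, ha, b, hb, rfl⟩ := hxs
  have haP : a ∈ P ⊔ X := by
    have h := mul_mem (mem_sup_left hx : a * b ∈ P ⊔ X) (Subgroup.inv_mem _ (mem_sup_right hb))
    rwa [mul_inv_cancel_right] at h
  rw [← hgx _ hx, hg.map_mul haP (mem_sup_right hb)]
  exact Subgroup.mul_mem_sup (StronglyClosed.apply_mem hA hg haP ha)
    (hgX.le ((hg.mono le_sup_right).apply_mem_img hb))

/-- A normal subsystem of `N` commuting with `N_T(X) X` has its hyperfocal subgroup in `T`. -/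
theorem hyperfocal_le {L : FusionSystem R} (hL : L.IsNormalIn N p) (hz : Lay.ZFix L)
    (hR : R ≤ centralizerIn (normalizerIn S X) (normalizerIn T X ⊔ X)) :
    L.hyperfocalSubgroup p ≤ T := by
  obtain ⟨D⟩ := exists_topData hc
  have hS1 : IsPGroup p (normalizerIn S X) := hc.pS.to_le inf_le_left
  haveI : Finite (normalizerIn S X) := finite_normalizerIn
  have hNs : N.IsSaturated p := TopData.sat_norm hc hX hN
  have hY := closed_interX hc hX hN
  have hRS : R ≤ normalizerIn S X := hR.trans inf_le_left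
  have hYR : normalizerIn T X ⊔ X ≤ centralizerIn (normalizerIn S X) R := fun y hy =>
    ⟨hY.1 hy, fun r hr => ((hR hr).2 y hy).symm⟩
  have hfix : ∀ (P : Subgroup Ω) (f : Ω → Ω), IsMap L P f → ∀ z ∈ P,
      z ∈ normalizerIn T X ⊔ X → f z = z := by
    intro P f hf z hzP hzY
    have hZ : L.StronglyClosed (R ⊓ (normalizerIn T X ⊔ X)) :=
      stronglyClosed_iff.2 ⟨inf_le_left, fun P f hP hf x hx => ⟨hf.mem hx,
        StronglyClosed.apply_mem hY (CfsgLib.Comp.Fus.isSubsystemOf_iff.1 hL.1.2.2.1 _ _ hf) hx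
          (hP hx).2⟩⟩
    exact hz _ hZ (fun w hw t ht => ((hR ht).2 w hw.2).symm) P f hf z hzP ⟨hf.le hzP, hzY⟩
  have hle := le_fixSys_of_closed hS1 hNs hL hY hYR hfix hRS hR
  refine hyperfocal_le_of _ fun P hP α hα hcop => ?_
  obtain ⟨φ, hφ, hφx⟩ := le_iff_isMap.1 hle P _ (isMap_autFun hP hα)
  obtain ⟨-, -, g, hg, hgx, hgY⟩ := (isMap_centralizerSystem_iff
    (isCentralizerSystem_centralizerSys N _ hY.1)).1 (⟨φ, hφ.2, hφx⟩ : IsMap _ P (autFun α))
  obtain ⟨-, -, g', hg', hg'x, -⟩ := (isMap_normalizerSystem_iff hN).1 hg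
  have hgF := (hg'.mono le_sup_left).congr hg'x
  have hA := TopData.closed_inter hc hX hN
  have hAX := TopData.inC_sup hc hX hN (mcentric_top hA)
  obtain ⟨γ, hγ⟩ :=
    (TopData.good (D := D) hc _ (hAX.mono le_sup_right hgF.le)).1 g hgF
  obtain ⟨c, hcC, hce⟩ := (TopData.good hc _ hAX).2
    (TopData.fullyCentralized_sup hc hX hN (CfsgLib.Comp.SQ.fullyNormalized_of_closed hA)) γ
    (((TopData.Th.mono hc hγ le_sup_right).congr hc hgY))
  have hPS : P ≤ S := (hP.trans hRS).trans inf_le_left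
  haveI := finite_of_le hPS
  have hcS : c ∈ S := hcC.1
  have hn : ∀ {s t : Ω}, s ∈ S → t ∈ T → s * t * s⁻¹ ∈ T := fun hs ht =>
    StronglyClosed.conj_mem hc.closed hs ht
  have step : ∀ y : P, (c * (y : Ω) * c⁻¹)⁻¹ * ((α y : P) : Ω) ∈ T := by
    intro y
    have hyS := hPS y.2
    have hcy : c * (y : Ω) * c⁻¹ ∈ S := S.mul_mem (S.mul_mem hcS hyS) (S.inv_mem hcS)
    refine (TopData.bar_eq_one_iff (D := D) hc
      (S.mul_mem (S.inv_mem hcy) (hPS (α y).2))).1 ?_
    have h := TopData.Th.bar_apply hc hγ y (mem_sup_left y.2)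
    rw [hgx y y.2, autFun_apply α y.2, ← hce] at h
    rw [TopData.bar_mul hc (S.inv_mem hcy) (hPS (α y).2), TopData.bar_inv hc hcy, h,
      TopData.bar_mul hc (S.mul_mem hcS hyS) (S.inv_mem hcS), TopData.bar_mul hc hcS hyS,
      TopData.bar_inv hc hcS, inv_mul_cancel]
  have hpow : ∀ (m : ℕ) (y : P),
      (c ^ m * (y : Ω) * (c ^ m)⁻¹)⁻¹ * (((α ^ m) y : P) : Ω) ∈ T := by
    intro m
    induction m with
    | zero => intro y; simp
    | succ m ih =>
      intro y
      set z := (α ^ m) y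
      rw [show (α ^ (m + 1)) y = α z by rw [pow_succ', MulAut.mul_apply]]
      rw [show (c ^ (m + 1) * (y : Ω) * (c ^ (m + 1))⁻¹)⁻¹ * ((α z : P) : Ω) =
        (c * ((c ^ m * (y : Ω) * (c ^ m)⁻¹)⁻¹ * (z : Ω)) * c⁻¹) *
          ((c * (z : Ω) * c⁻¹)⁻¹ * ((α z : P) : Ω)) by rw [pow_succ']; group]
      exact T.mul_mem (hn hcS (ih y)) (step z)
  obtain ⟨k, hk⟩ := hc.pS ⟨c, hcS⟩
  have hk' : c ^ p ^ k = 1 := congrArg Subtype.val hk
  obtain ⟨m, hm0, hm1⟩ := Nat.chineseRemainder (hcop.pow_right k).symm 0 1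
  intro x
  obtain ⟨d, rfl⟩ := Nat.modEq_zero_iff_dvd.1 hm0
  have h := hpow (p ^ k * d) x
  rw [pow_mul c, hk', one_pow, pow_eq_pow_iff_modEq.2 hm1, pow_one] at h
  simpa using h

end CfsgLib.Comp.EBal

namespace CfsgLib.Comp.EBal

open Cfsg Cfsg.FusionSystem Subgroup CfsgLib.Fusion CfsgLib.Comp.Fus CfsgLib.Comp.CProd NMap
open CfsgLib.Comp.Lay (Sys sys_ext sub_trans sub_of_subnormal)

variable {Ω : Type u} [Group Ω] {S T X U : Subgroup Ω} {F : FusionSystem S} {E : FusionSystem T}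
  {N : FusionSystem (normalizerIn S X)} {EN : FusionSystem U} {p : ℕ} [Fact p.Prime] [Finite S]

/-- `E`-balance. -/
theorem layer_normalizer_le (hS : IsPGroup p S) (hF : F.IsSaturated p)
    (hX : F.IsFullyNormalized X) (hN : F.IsNormalizerSystem X N) (hEN : EN.IsLayerOf N p)
    (hE : E.IsLayerOf F p) : EN.IsSubsystemOf E := by
  have hc := ctx_of_layer hS hF hE
  have hSet := GFit.setup_core_layer hS hF hE
  obtain ⟨M, hM, hMP⟩ := exists_normal_inter hc hX hN
  haveI : Finite (normalizerIn S X) := finite_normalizerIn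
  have hS1 : IsPGroup p (normalizerIn S X) := hS.to_le inf_le_left
  have hNs : N.IsSaturated p := TopData.sat_norm hc hX hN
  have hA := TopData.closed_inter hc hX hN
  have hXc : X ≤ N.core := IsNormal.le_core (Dich.isNormal_normalizerSystem hX.1 hN)
  have hUc : U ≤ centralizerIn (normalizerIn S X) N.core := fun t ht =>
    (CfsgLib.Comp.Fus.isSubsystemOf_iff.1 (CoreCent.layer_le_centralizerSys hS1 hNs hEN) U _
      (isMap_id EN le_rfl)).le ht
  have hin : ∀ {W : Subgroup Ω} {C : FusionSystem W}, C.IsComponentIn N p →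
      W ≤ normalizerIn (F.core ⊔ T) X := by
    intro W C hC
    by_contra hWA
    have hcomm : ∀ {W' : Subgroup Ω} {C' : FusionSystem W'}, C'.IsComponentIn N p →
        ¬ W' ≤ normalizerIn (F.core ⊔ T) X →
        ∀ a ∈ normalizerIn (F.core ⊔ T) X, ∀ x ∈ W', a * x = x * a := fun hC' hne =>
      (Lay.dichotomy hS1 hC' hM).resolve_left fun h => hne (le_of_subnormal h)
    have hWU : W ≤ U := le_of_isSubsystemOf (hEN.2.1 W C hC)
    obtain ⟨R, L, hL, hz, hCL, hR⟩ : ∃ (R : Subgroup Ω) (L : FusionSystem R),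
        L.IsNormalIn N p ∧ Lay.ZFix L ∧ C.IsSubsystemOf L ∧
          R ≤ centralizerIn (normalizerIn S X) (normalizerIn (F.core ⊔ T) X ⊔ X) := by
      suffices h : ∃ (R : Subgroup Ω) (L : FusionSystem R),
          L.IsNormalIn N p ∧ Lay.ZFix L ∧ C.IsSubsystemOf L ∧ R ≤ U ∧
            ∀ a ∈ normalizerIn (F.core ⊔ T) X, ∀ x ∈ R, a * x = x * a by
        obtain ⟨R, L, h1, h2, h3, h4, h5⟩ := h
        refine ⟨R, L, h1, h2, h3, fun r hr => ⟨(hUc (h4 hr)).1, ?_⟩⟩
        have hle : normalizerIn (F.core ⊔ T) X ⊔ X ≤ centralizer {r} := sup_le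
          (fun a ha => Subgroup.mem_centralizer_singleton_iff.2 (h5 a ha r hr))
          fun a ha => Subgroup.mem_centralizer_singleton_iff.2 ((hUc (h4 hr)).2 a (hXc ha))
        exact fun y hy => Subgroup.mem_centralizer_singleton_iff.1 (hle hy)
      by_cases hNC : N.IsSubsystemOf C
      · cases sys_ext (sub_of_subnormal hC.1) hNC
        exact ⟨_, _, Lay.isNormalIn_self hS1 hNs, Lay.zfix_component hS1 hC,
          CfsgLib.Comp.Fus.isSubsystemOf_iff.2 fun _ _ h => h, hWU, hcomm hC hWA⟩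
      obtain ⟨R, L, hL, -, -⟩ := Lay.exists_closure hS1 hNs hC hNC fun {T'} L' hL' _ => by
        haveI := finite_of_le hL'.1.2.2.2.1.1
        exact Lay.main_aux _ L' (hS1.to_le hL'.1.2.2.2.1.1) hL'.1.1 le_rfl
      have hRU : R ≤ U := le_of_isSubsystemOf (hL.gen.2.2 U EN hEN.1 fun Y hY => by
        rw [show Y = ⟨W, C⟩ from hY]; exact hEN.2.1 W C hC)
      have hWR : W ≤ R := le_of_isSubsystemOf (hL.gen.2.1 ⟨W, C⟩ rfl)
      refine ⟨R, L, hL.gen.1, hL.zfix, hL.gen.2.1 ⟨W, C⟩ rfl, hRU, fun a ha x hx => ?_⟩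
      refine hL.spanned (centralizer (normalizerIn (F.core ⊔ T) X : Set Ω)) ?_ hx a ha
      intro Y hY y hy b hb
      refine hcomm hY.1 (fun hle => hWA fun w hw => ?_) b hb y hy
      obtain ⟨-, f, k, hf, hiso⟩ := id hY
      obtain ⟨j, hj, hjx, -, -⟩ := (hf.mono hWR).exists_inv
      rw [← hjx w hw]
      exact StronglyClosed.apply_mem hA hj ((hf.mono hWR).apply_mem_img hw) (hle (hiso.mem w hw))
    have hW : W ≤ F.core ⊔ T := hC.2.2.1.ge.trans ((Lay.hyperfocal_mono hCL).trans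
      (hyperfocal_le hc hX hN hL hz hR))
    exact hWA fun w hw => ⟨hW hw, (hUc (hWU hw)).1.2⟩
  have hENM : EN.IsSubsystemOf M := hEN.2.2 _ M hM fun W C hC => Lay.sub_of_le hS1 hC hM (hin hC)
  have hUT : U ≤ T := by
    have hcomp : ∀ {W : Subgroup Ω} {C : FusionSystem W}, C.IsComponentIn N p → W ≤ T :=
      fun {W C} hC => hC.2.2.1.ge.trans ((Lay.hyperfocal_mono
        (sub_trans (Lay.sub_of_le hS1 hC hM (hin hC)) hMP)).trans (hyperfocal_prod_le hS hF hE))
    by_cases hne : ∃ Y : Sys Ω, Y.2.IsComponentIn N p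
    · obtain ⟨Y₀, hY₀⟩ := hne
      have hUsc : N.StronglyClosed U := hEN.1.1.2.2.2.1
      haveI := finite_of_le hUsc.1
      have hUp : IsPGroup p U := hS1.to_le hUsc.1
      have hle : ∀ {W : Subgroup Ω} {C : FusionSystem W}, C.IsComponentIn N p → W ≤ U :=
        fun h => le_of_isSubsystemOf (hEN.2.1 _ _ h)
      let O : Sys Ω → Prop := fun Y => Y.2.IsComponentIn N p ∧ Y.1 ≤ U
      have hO : ∀ Y, O Y → Y.2.IsComponentIn EN p := fun Y hY =>
        ⟨Lay.subnormal_of_le hS1 hY.1 hEN.1 hY.2, hY.1.2⟩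
      have hgenO : Lay.IsGen N p O EN := ⟨hEN.1, fun Y hY => sub_of_subnormal (hO Y hY).1,
        fun R D hD h => hEN.2.2 R D hD fun W D' hD' => h ⟨W, D'⟩ ⟨hD', hle hD'⟩⟩
      obtain ⟨U', E', hE'⟩ := Lay.exists_gen hUp hEN.1.1.1 hO
      have hsubE := Lay.gen_self hS1 (fun Y hY => hY.1) hgenO
        (Lay.invariant_components hS1 hUsc) hE'
      obtain ⟨R, Q, hQ, -, hQsub, hQgen, -⟩ := Lay.exists_product_set (F := EN) hUp (O := O)
        ⟨Y₀, hY₀, hle hY₀⟩
        (fun Y hY => ⟨(Lay.component_normal_layer hS1 hNs hEN hY.1), Lay.zfix_component hS1 hY.1⟩)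
        (fun Y Z hY hZ hne' => Lay.components_commute hS1 hNs hY.1 hZ.1 hne')
      have hsub := sub_trans hsubE (hE'.2.2 R Q hQ hQsub)
      exact (le_of_isSubsystemOf hsub).trans (hQgen T fun Y hY => hcomp hY.1)
    · refine (le_of_isSubsystemOf (hEN.2.2 _ (innerFusionSystem (⊥ : Subgroup Ω))
        (CoreCent.isNormalIn_innerFusionSystem hS1 hNs isNormal_bot)
        fun W C hC => absurd ⟨⟨W, C⟩, hC⟩ hne)).trans bot_le
  exact CfsgLib.Comp.Fus.isSubsystemOf_iff.2 fun P f hf => Lay.prod_res₂ hSet (hf.le.trans hUT)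
    (CfsgLib.Comp.Fus.isSubsystemOf_iff.1 (sub_trans hENM hMP) P f hf)

end CfsgLib.Comp.EBal
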