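import Cfsg.Agent.Lib.Comp.EBalCaseTwo
import Cfsg.Agent.Lib.Fusion.SubsystemCentric

/-!
The functor exists on all subgroups of the class.
-/

set_option autoImplicit false
set_option linter.unusedVariables false
set_option linter.unusedSectionVars false
set_option linter.style.haveILetI false

universe u

namespace CfsgLib.Comp.EBal.TopData

open Cfsg Cfsg.FusionSystem Subgroup CfsgLib.Fusion CfsgLib.Comp.Fus CfsgLib.Comp.CProd

variable {Ω : Type u} [Group Ω] {S T P : Subgroup Ω} {F : FusionSystem S}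
  {E : FusionSystem T} {p : ℕ}

/-- A member of each class is fully normalized with fully normalized intersection with `T`. -/
theorem exists_rep [Fact p.Prime] [Finite S] (hc : Ctx F E p) (hP : P ≤ S) :
    ∃ W, F.IsConj P W ∧ F.IsFullyNormalized W ∧ F.IsFullyNormalized (W ⊓ T) := by
  obtain ⟨W₀, hW₀, hW₀n⟩ := exists_fullyNormalized_conj F hP
  have hW₀S := hW₀n.1
  obtain ⟨V, hV, hVn⟩ := exists_fullyNormalized_conj F (inf_le_left.trans hW₀S : W₀ ⊓ T ≤ S)
  obtain ⟨ψ, hψ, hψi, -⟩ :=
    exists_map_normalizerIn_of_fullyNormalized hc.pS hc.sat hVn hV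
  have hN : normalizerIn S W₀ ≤ normalizerIn S (W₀ ⊓ T) := fun s hs =>
    ⟨hs.1, CfsgLib.Comp.le_normalizer_inf (M := normalizerIn S W₀) inf_le_right
      (fun a ha => StronglyClosed.le_normalizer hc.closed ha.1) hs⟩
  have hW₀N : W₀ ≤ normalizerIn S (W₀ ⊓ T) := (le_normalizerIn hW₀S).trans hN
  have hψW := hψ.mono hW₀N
  refine ⟨img W₀ ψ, isConj_trans hW₀ hψW.isConj, ⟨hψW.img_le, fun Q hQ => ?_⟩, ?_⟩
  · refine (hW₀n.2 Q (isConj_trans hψW.isConj hQ)).trans ?_
    rw [← (hψ.mono hN).card_img]
    haveI : Finite (normalizerIn S (img W₀ ψ)) := finite_normalizerIn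
    refine Subgroup.card_le_of_le fun y hy => ?_
    obtain ⟨x, hx, rfl⟩ := (hψ.mono hN).mem_img.1 hy
    exact hψ.apply_mem_normalizerIn hW₀N (hN hx) hx.2
  · suffices e : img W₀ ψ ⊓ T = V by rw [e]; exact hVn
    rw [← hψi]
    refine le_antisymm (fun y hy => ?_) fun y hy => ?_
    · obtain ⟨x, hx, rfl⟩ := hψW.mem_img.1 hy.1
      obtain ⟨k, hk, hkx, -, -⟩ := hψW.exists_inv
      have h1 := StronglyClosed.apply_mem hc.closed hk (hψW.apply_mem_img hx) hy.2
      rw [hkx x hx] at h1
      exact (hψW.mono inf_le_left).apply_mem_img ⟨hx, h1⟩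
    · obtain ⟨x, hx, rfl⟩ := (hψW.mono inf_le_left).mem_img.1 hy
      exact ⟨hψW.apply_mem_img hx.1, StronglyClosed.apply_mem hc.closed hψW hx.1 hx.2⟩

/-- Every map of the class has a value, and the values of the identity come from centralizers. -/
theorem good {D : TopData F E p} [Fact p.Prime] [Finite S] (hc : Ctx F E p) :
    ∀ P, InC F T P → D.Good P := by
  suffices key : ∀ n, ∀ P, InC F T P → Nat.card S - Nat.card P = n → D.Good P from
    fun P hP => key _ P hP rfl
  intro n
  induction n using Nat.strong_induction_on with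
  | _ n ih =>
    intro P hP hn
    by_cases hTP : T ≤ P
    · exact good_of_le hc hP.1 hTP
    obtain ⟨W, hPW, hWn, hVn⟩ := exists_rep hc hP.1
    have hW := hP.conj hPW
    have hTW : ¬ T ≤ W := fun h => hTP (by
      obtain ⟨f, hf, rfl⟩ := isConj_iff.1 (isConj_symm hPW)
      exact (StronglyClosed.img_eq hc.closed hf h).ge.trans (img_mono h))
    have IH : ∀ R, InC F T R → Nat.card W < Nat.card R → D.Good R := fun R hR hlt => by
      have h1 : Nat.card R ≤ Nat.card S := Subgroup.card_le_of_le hR.1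
      have h2 := isConj_card hPW
      exact ih _ (by omega) R hR rfl
    obtain ⟨hEsat, -, -, hEF, -⟩ := hc.normal.1
    haveI := finite_of_le hc.le
    by_cases h0 : centralizerIn T (W ⊓ T) ≤ W ⊓ T
    · have hEn := fullyNormalized_subsystem hc.pS hc.sat hc.closed
        hc.normal.1.2.2.1 inf_le_right hVn
      have hVc : E.IsCentric (W ⊓ T) := centric_of_fullyCentralized (hc.pS.to_le hc.le) hEsat
        (fullyCentralized_of_fullyNormalized (hc.pS.to_le hc.le) hEsat hEn) h0
      obtain ⟨Val, hV⟩ := exists_loc_two (D := D) hc hW hWn hTW IH hVn hVc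
      exact step hc hW hWn hTW IH hV P (isConj_symm hPW)
    · obtain ⟨Val, hV⟩ := exists_loc_one (D := D) hc hW hWn hTW IH h0
      exact step hc hW hWn hTW IH hV P (isConj_symm hPW)

end CfsgLib.Comp.EBal.TopData
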