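import Cfsg.Agent.Lib.Comp.PrimeResidualLeast

/-!
The automorphism groups of the intersection of two normal subsystems.
-/

set_option autoImplicit false
set_option linter.unusedVariables false
set_option linter.unusedSectionVars false
set_option linter.style.haveILetI false

namespace CfsgLib.Comp.Meet

open Cfsg Cfsg.FusionSystem Subgroup CfsgLib.Fusion CfsgLib.Comp.Fus

variable {Ω : Type*} [Group Ω] {S T₁ T₂ : Subgroup Ω} {F : FusionSystem S}
  {E₁ : FusionSystem T₁} {E₂ : FusionSystem T₂} {p : ℕ}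

/-- `β` becomes conjugation by an element of `A` after moving `U` by a map of the system. -/
def IsInnerShift (F : FusionSystem S) (A U : Subgroup Ω) (β : MulAut U) : Prop :=
  ∃ f, IsMap F U f ∧ ∃ a ∈ A, a ∈ normalizer (img U f : Set Ω) ∧
    ∀ x : U, f ((β x : U) : Ω) = a * f x * a⁻¹

/-- The automorphisms of `U` generated by conjugates of `Aut_A` and by the common automorphisms
of order prime to `p`, where `A = T₁ ∩ T₂`. -/
def meetAut (F : FusionSystem S) (E₁ : FusionSystem T₁) (E₂ : FusionSystem T₂) (p : ℕ)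
    (U : Subgroup Ω) : Subgroup (MulAut U) :=
  Subgroup.closure ({β | IsInnerShift F (T₁ ⊓ T₂) U β} ∪
    {β | β ∈ E₁.autGroup U ⊓ E₂.autGroup U ∧ (orderOf β).Coprime p})

theorem coe_congr_equivImg {U : Subgroup Ω} {f : Ω → Ω} (hf : IsMap F U f) (β : MulAut U)
    (x : U) :
    ((MulAut.congr hf.equivImg β (hf.equivImg x) : img U f) : Ω) = f ((β x : U) : Ω) := by
  show ((hf.equivImg (β (hf.equivImg.symm (hf.equivImg x))) : img U f) : Ω) = _
  rw [MulEquiv.symm_apply_apply, IsMap.coe_equivImg]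

theorem autInducedBy_le_meetAut {U : Subgroup Ω} (hU : U ≤ S) :
    autInducedBy (T₁ ⊓ T₂) U ≤ meetAut F E₁ E₂ p U := by
  refine (Subgroup.closure_le _).2 ?_
  rintro β ⟨a, ha, hax⟩
  refine Subgroup.subset_closure (Or.inl ⟨id, isMap_id F hU, a, ha, ?_, hax⟩)
  rw [show img U id = U by rw [img]; simp]
  exact mem_normalizer_of_aut hax

section

variable [Fact p.Prime] [Finite S] (h₁ : E₁.IsInvariantIn F) (h₂ : E₂.IsInvariantIn F)

include h₁ h₂

theorem stronglyClosed_inf : F.StronglyClosed (T₁ ⊓ T₂) := by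
  refine stronglyClosed_iff.2 ⟨inf_le_left.trans h₁.2.1.1, fun P f hP hf x hx => ?_⟩
  exact ⟨StronglyClosed.apply_mem h₁.2.1 hf hx (hP hx).1, StronglyClosed.apply_mem h₂.2.1 hf hx (hP hx).2⟩

theorem autGroup_of_innerShift {U : Subgroup Ω} (hU : U ≤ T₁ ⊓ T₂) {β : MulAut U}
    (hβ : IsInnerShift F (T₁ ⊓ T₂) U β) : β ∈ E₁.autGroup U := by
  obtain ⟨f, hf, a, ha, han, hax⟩ := hβ
  have hR : img U f ≤ T₁ := fun y hy => by
    obtain ⟨x, hx, rfl⟩ := hf.mem_img.1 hy
    exact StronglyClosed.apply_mem h₁.2.1 hf hx (hU hx).1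
  haveI := finite_of_le hf.le
  obtain ⟨k, hk, hkx, hky, hki⟩ := hf.exists_inv
  have hm : IsMap E₁ (img U f) (fun y => a * y * a⁻¹) := isMap_conj E₁ hR ha.1
  have h := conj_map_of_map h₁ hk hR (k := f) (fun y hy => (hky y hy).2) hm
    fun y hy => (han y).1 hy
  rw [hki] at h
  refine (autGroup_iff_isMap h.le fun x => ?_).2 h
  show _ = k (a * f x * a⁻¹)
  rw [← hax x, hkx _ (β x).2]

theorem meetAut_le {U : Subgroup Ω} (hU : U ≤ T₁ ⊓ T₂) :
    meetAut F E₁ E₂ p U ≤ E₁.autGroup U ⊓ E₂.autGroup U := by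
  refine (Subgroup.closure_le _).2 ?_
  rintro β (hβ | ⟨hβ, -⟩)
  · refine ⟨autGroup_of_innerShift h₁ h₂ hU hβ, autGroup_of_innerShift h₂ h₁
      (inf_comm T₁ T₂ ▸ hU) ?_⟩
    rwa [inf_comm T₂ T₁]
  · exact hβ

theorem meetAut_congr {U : Subgroup Ω} (hU : U ≤ T₁ ⊓ T₂) {f : Ω → Ω} (hf : IsMap F U f)
    {β : MulAut U} (hβ : β ∈ meetAut F E₁ E₂ p U) :
    MulAut.congr hf.equivImg β ∈ meetAut F E₁ E₂ p (img U f) := by
  suffices h : meetAut F E₁ E₂ p U ≤ (meetAut F E₁ E₂ p (img U f)).comap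
      (MulAut.congr hf.equivImg).toMonoidHom from h hβ
  refine (Subgroup.closure_le _).2 ?_
  rintro δ (⟨g, hg, a, ha, han, hax⟩ | ⟨hδ, hord⟩)
  · refine Subgroup.subset_closure (Or.inl ?_)
    obtain ⟨k, hk, hkx, hky, hki⟩ := hf.exists_inv
    have hkm : ∀ y ∈ img U f, k y ∈ U := fun y hy => (hky y hy).1
    have hgk : IsMap F (img U f) (fun y => g (k y)) := hk.comp hg hkm
    have hi : img (img U f) (fun y => g (k y)) = img U g := by
      rw [img_comp_eq hk hg hkm, hki]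
    refine ⟨_, hgk, a, ha, by rwa [hi], fun y => ?_⟩
    obtain ⟨x, rfl⟩ := hf.equivImg.surjective y
    show g (k ((MulAut.congr hf.equivImg δ (hf.equivImg x) : img U f) : Ω)) =
      a * g (k ((hf.equivImg x : img U f) : Ω)) * a⁻¹
    rw [coe_congr_equivImg, IsMap.coe_equivImg, hkx _ (δ x).2, hkx _ x.2]
    exact hax x
  · refine Subgroup.subset_closure (Or.inr ⟨⟨congr_mem_of_invariant h₁ hf
      (hU.trans inf_le_left) hδ.1, congr_mem_of_invariant h₂ hf (hU.trans inf_le_right) hδ.2⟩, ?_⟩)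
    show (orderOf ((MulAut.congr hf.equivImg).toMonoidHom δ)).Coprime p
    rwa [orderOf_injective _ (MulAut.congr hf.equivImg).injective]

end

end CfsgLib.Comp.Meet
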