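import Cfsg.Agent.Lib.Comp.MeetLift
import Cfsg.Agent.Lib.Comp.MeetAut
import Cfsg.Agent.Lib.Comp.TransferCut
import Cfsg.Agent.Lib.Fusion.ModelMain
import Cfsg.Agent.Lib.Fusion.ModelBasic
import Cfsg.Agent.Lib.Transfer.Frobenius

/-!
In a local model at a fully normalized subgroup `Q` of `A = T₁ ∩ T₂` containing `C_A(Q)`, the
automorphisms shared by two normal subsystems have `Aut_A(Q)` as their part in `Aut_S(Q)`.
-/

set_option autoImplicit false
set_option linter.unusedVariables false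
set_option linter.unusedSectionVars false
set_option linter.style.haveILetI false

universe u

namespace CfsgLib.Comp.Meet

open Cfsg Cfsg.FusionSystem Subgroup CfsgLib.Fusion CfsgLib.Comp.Fus

variable {Ω : Type u} [Group Ω] {S T A Q : Subgroup Ω} {F : FusionSystem S}
  {E : FusionSystem T} {p : ℕ}

theorem normalizerIn_le_sup_centralizerIn (hsc : F.StronglyClosed T) :
    normalizerIn S Q ≤ normalizer ((Q ⊔ centralizerIn T Q : Subgroup Ω) : Set Ω) :=
  CfsgLib.Comp.le_normalizer_sup inf_le_right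
    (CfsgLib.Comp.le_normalizer_inf (inf_le_left.trans (StronglyClosed.le_normalizer hsc))
      (inf_le_right.trans (CfsgLib.Comp.normalizer_le_normalizer_centralizer Q)))

theorem mem_sup_centralizerIn_of_mem (hQT : Q ≤ T) {w : Ω} (hw : w ∈ Q ⊔ centralizerIn S Q)
    (hwT : w ∈ T) : w ∈ Q ⊔ centralizerIn T Q := by
  have h : w ∈ ((Q ⊔ centralizerIn S Q : Subgroup Ω) : Set Ω) := hw
  rw [Subgroup.coe_mul_of_right_le_normalizer_left Q (centralizerIn S Q)
    (inf_le_right.trans (Subgroup.centralizer_le_normalizer (s := (Q : Set Ω)))), Set.mem_mul] at h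
  obtain ⟨q, hq, c, hc, rfl⟩ := h
  refine Subgroup.mul_mem _ (mem_sup_left hq) (mem_sup_right ⟨?_, hc.2⟩)
  simpa using T.mul_mem (T.inv_mem (hQT hq)) hwT

section

variable [Fact p.Prime] [Finite S] (hS : IsPGroup p S) (hE : E.IsNormalIn F p)

include hS hE

theorem autInducedBy_inf_le {V : Subgroup Ω} (hVT : V ≤ T) (hV : F.IsFullyNormalized V) :
    autInducedBy S V ⊓ E.autGroup V ≤ autInducedBy T V := by
  obtain ⟨⟨hEsat, hF, hinv⟩, -⟩ := id hE
  have hsc : F.StronglyClosed T := hinv.2.1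
  haveI := finite_of_le hsc.1
  haveI := finite_of_le hV.1
  have hTp : IsPGroup p T := hS.to_le hsc.1
  obtain ⟨P, hP⟩ := (fullyAutomized_of_fullyNormalized hTp hEsat
    (fullyNormalized_subsystem hS hF hsc hinv.1 hVT hV)).2
  intro β hβ
  have hK : IsPGroup p ((autInducedBy S V).subgroupOf (E.autGroup V)) :=
    (isPGroup_autInducedBy hS V).comap_of_injective _ (E.autGroup V).subtype_injective
  have hle : (P : Subgroup (E.autGroup V)) ≤ (autInducedBy S V).subgroupOf (E.autGroup V) := by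
    intro δ hδ
    rw [hP] at hδ
    obtain ⟨t, ht, htx⟩ := mem_autInducedBy_iff.1 hδ
    exact mem_autInducedBy_iff.2 ⟨t, hsc.1 ht, htx⟩
  have h : (⟨β, hβ.2⟩ : E.autGroup V) ∈ (P : Subgroup (E.autGroup V)) := by
    rw [← P.is_maximal' hK hle]
    exact hβ.1
  rw [hP] at h
  exact h

/-- The part over `T` of `Q C_S(Q)`. -/
theorem side_setup (hA : F.StronglyClosed A) (hAT : A ≤ T) (hQA : Q ≤ A)
    (hQ : F.IsFullyNormalized Q) (hCA : centralizerIn A Q ≤ Q) :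
    F.IsFullyNormalized (Q ⊔ centralizerIn T Q) ∧ E.IsCentric (Q ⊔ centralizerIn T Q) ∧
      ∀ v ∈ Q ⊔ centralizerIn T Q, v ∈ A → v ∈ Q := by
  obtain ⟨⟨hEsat, hF, hinv⟩, -⟩ := id hE
  have hsc : F.StronglyClosed T := hinv.2.1
  have hTS := hsc.1
  haveI := finite_of_le hTS
  have hTp : IsPGroup p T := hS.to_le hTS
  set V := Q ⊔ centralizerIn T Q with hVdef
  have hQV : Q ≤ V := le_sup_left
  have hVT : V ≤ T := sup_le (hQA.trans hAT) inf_le_left
  have hVA : ∀ v ∈ V, v ∈ A → v ∈ Q := fun v hv hvA => by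
    have h : v ∈ ((Q ⊔ centralizerIn T Q : Subgroup Ω) : Set Ω) := hv
    rw [Subgroup.coe_mul_of_right_le_normalizer_left Q (centralizerIn T Q)
      (inf_le_right.trans (Subgroup.centralizer_le_normalizer (s := (Q : Set Ω)))),
      Set.mem_mul] at h
    obtain ⟨q, hq, c, hc, rfl⟩ := h
    have hcA : c ∈ A := by simpa using A.mul_mem (A.inv_mem (hQA hq)) hvA
    exact Q.mul_mem hq (hCA ⟨hcA, hc.2⟩)
  have hVn : F.IsFullyNormalized V := by
    refine ⟨hVT.trans hTS, fun R hR => ?_⟩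
    obtain ⟨f, hf, hfi⟩ := isConj_iff.1 hR
    have h1 : normalizerIn S R ≤ normalizerIn S (img Q f) := by
      intro u hu
      have e : img Q f = R ⊓ A := by
        rw [← hfi]
        ext y
        constructor
        · intro hy
          refine ⟨img_mono hQV hy, ?_⟩
          obtain ⟨x, hx, rfl⟩ := (hf.mono hQV).mem_img.1 hy
          exact StronglyClosed.apply_mem hA hf (hQV hx) (hQA hx)
        · rintro ⟨hy, hyA⟩
          obtain ⟨x, hx, rfl⟩ := hf.mem_img.1 hy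
          obtain ⟨k, hk, hkx, -, -⟩ := hf.exists_inv
          have hxA := StronglyClosed.apply_mem hA hk hy hyA
          rw [hkx x hx] at hxA
          exact (hf.mono hQV).apply_mem_img (hVA x hx hxA)
      refine ⟨hu.1, ?_⟩
      rw [e]
      exact CfsgLib.Comp.le_normalizer_inf (M := normalizerIn S R) inf_le_right
        (inf_le_left.trans (StronglyClosed.le_normalizer hA)) hu
    haveI : Finite (normalizerIn S (img Q f)) := finite_normalizerIn
    haveI : Finite (normalizerIn S V) := finite_normalizerIn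
    exact (Subgroup.card_le_of_le h1).trans ((hQ.2 _ (hf.mono hQV).isConj).trans
      (Subgroup.card_le_of_le (le_inf inf_le_left (normalizerIn_le_sup_centralizerIn hsc))))
  refine ⟨hVn, ?_, hVA⟩
  exact centric_of_fullyCentralized hTp hEsat (fullyCentralized_of_fullyNormalized hTp hEsat
    (fullyNormalized_subsystem hS hF hsc hinv.1 hVT hVn))
    fun x hx => mem_sup_right ⟨hx.1, Subgroup.centralizer_le hQV hx.2⟩

/-- Automorphisms of `Q` of order prime to `p` in the subsystem extend to `Q C_S(Q)`, trivially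
modulo `T`, by the subsystem on the part over `T`. -/
theorem exists_ext_coprime (hA : F.StronglyClosed A) (hAT : A ≤ T) (hQA : Q ≤ A)
    (hQ : F.IsFullyNormalized Q) (hCA : centralizerIn A Q ≤ Q) {α : MulAut Q}
    (hα : α ∈ E.autGroup Q) (hcop : (orderOf α).Coprime p) :
    ∃ g, IsMap F (Q ⊔ centralizerIn S Q) g ∧ (∀ x : Q, g x = ((α x : Q) : Ω)) ∧
      (∀ w ∈ Q ⊔ centralizerIn S Q, w⁻¹ * g w ∈ T) ∧
      ∃ a ∈ E.autGroup (Q ⊔ centralizerIn T Q),
        ∀ x : (Q ⊔ centralizerIn T Q : Subgroup Ω),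
          g x = ((a x : (Q ⊔ centralizerIn T Q : Subgroup Ω)) : Ω) := by
  obtain ⟨⟨hEsat, hF, hinv⟩, -⟩ := id hE
  have hsc : F.StronglyClosed T := hinv.2.1
  have hTS := hsc.1
  haveI := finite_of_le hTS
  have hTp : IsPGroup p T := hS.to_le hTS
  have hQT : Q ≤ T := hQA.trans hAT
  obtain ⟨hVn, hVc, hVA⟩ := side_setup hS hE hA hAT hQA hQ hCA
  set V := Q ⊔ centralizerIn T Q with hVdef
  have hQV : Q ≤ V := le_sup_left
  have hVT : V ≤ T := hVc.1
  have hVS : V ≤ S := hVT.trans hTS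
  haveI := finite_of_le hVS
  haveI := finite_of_le hQ.1
  -- extension to `V`
  obtain ⟨g₀, hg₀, hg₀x⟩ := receptive_extend_centralizer (receptive_of_fullyNormalized hTp hEsat
    (fullyNormalized_subsystem hS hF hsc hinv.1 hQT hQ)) (isMap_autFun hQT hα) img_autFun
  have hg₀Q : img Q g₀ = Q := (img_congr hg₀x).trans img_autFun
  have hg₀V : ∀ x ∈ V, g₀ x ∈ V := fun x hx => by
    refine hg₀.img_sup_le le_sup_left le_sup_right ?_ ?_ (hg₀.apply_mem_img hx)
    · rw [hg₀Q]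
      exact hQV
    · intro y hy
      obtain ⟨c, hc, rfl⟩ := (hg₀.mono le_sup_right).mem_img.1 hy
      have h := hg₀.apply_mem_centralizerIn le_sup_left (mem_sup_right hc) hc.2
      rw [hg₀Q] at h
      exact mem_sup_right h
  have hg₀i : img V g₀ = V := eq_of_le_of_card_le (fun y hy => by
    obtain ⟨x, hx, rfl⟩ := hg₀.mem_img.1 hy
    exact hg₀V x hx) hg₀.card_img.ge
  set a₀ := hg₀.toAut hg₀i with ha₀def
  have ha₀ : a₀ ∈ E.autGroup V := hg₀.toAut_mem hg₀i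
  have ha₀x : ∀ x : Q, ((a₀ (Subgroup.inclusion hQV x) : V) : Ω) = ((α x : Q) : Ω) := fun x => by
    rw [ha₀def, IsMap.toAut_apply]
    exact (hg₀x x x.2).trans (autFun_apply α x.2)
  -- the automorphisms fixing `Q` and their Sylow subgroup
  have hstab : ∀ δ : F.autGroup V, ∀ x : V, (x : Ω) ∈ Q →
      (((δ : MulAut V) x : V) : Ω) ∈ Q := fun δ x hx => by
    refine hVA _ (Subtype.mem _) ?_
    have h := StronglyClosed.apply_mem hA (isMap_autFun hVS δ.2) x.2 (hQA hx)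
    rwa [autFun_apply _ x.2] at h
  let Kf : Subgroup (F.autGroup V) :=
    { carrier := {δ | ∀ x : V, (x : Ω) ∈ Q → (δ : MulAut V) x = x}
      one_mem' := fun _ _ => rfl
      mul_mem' := fun {a b} ha hb x hx => by
        rw [Subgroup.coe_mul, MulAut.mul_apply, hb x hx, ha x hx]
      inv_mem' := fun {a} ha x hx => by
        rw [Subgroup.coe_inv]
        conv_lhs => rw [← ha x hx]
        exact MulAut.inv_apply_self _ (a : MulAut V) x }
  haveI : Kf.Normal := ⟨fun d hd b x hx => by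
    have h := hd _ (hstab b⁻¹ x hx)
    rw [Subgroup.coe_inv] at h
    rw [Subgroup.coe_mul, Subgroup.coe_mul, Subgroup.coe_inv, MulAut.mul_apply, MulAut.mul_apply,
      h, MulAut.apply_inv_self]⟩
  obtain ⟨Sy, hSy⟩ := (fullyAutomized_of_fullyNormalized hS hF hVn).2
  obtain ⟨R, hR⟩ := CfsgLib.Transfer.exists_sylow_eq_subgroupOf Sy Kf
  set Rb : Subgroup (F.autGroup V) := (Sy : Subgroup (F.autGroup V)) ⊓ Kf with hRb
  let EN : Subgroup (F.autGroup V) := (E.autGroup V).subgroupOf (F.autGroup V)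
  haveI : EN.Normal := ⟨fun d hd b => autGroup_conj_mem hinv hVT b.2 hd⟩
  have hEF : E.autGroup V ≤ F.autGroup V := fun δ hδ =>
    (autGroup_mem_iff hVS).2 (hinv.1 V ((autGroup_mem_iff hVT).1 hδ))
  set a₁ : F.autGroup V := ⟨a₀, hEF ha₀⟩ with ha₁
  set D : Subgroup (F.autGroup V) := EN ⊓ Kf with hD
  set DR := D ⊔ Rb with hDR
  have hDRK : DR ≤ Kf := sup_le inf_le_right inf_le_right
  have hRbp : IsPGroup p Rb := Sy.isPGroup'.to_le inf_le_left
  have hRmax : ∀ K : Subgroup (F.autGroup V), IsPGroup p K → Rb ≤ K → K ≤ Kf → K ≤ Rb := by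
    intro K hK hRK hKK
    have h1 : IsPGroup p (K.subgroupOf Kf) := hK.comap_of_injective _ Kf.subtype_injective
    have h2 : (R : Subgroup Kf) ≤ K.subgroupOf Kf := by
      rw [hR]
      exact fun x hx => hRK ⟨hx, x.2⟩
    intro x hx
    have h3 : (⟨x, hKK hx⟩ : Kf) ∈ (R : Subgroup Kf) := by
      rw [← R.is_maximal' h1 h2]
      exact hx
    rw [hR] at h3
    exact ⟨h3, hKK hx⟩
  let Rs : Sylow p DR :=
    { toSubgroup := Rb.subgroupOf DR
      isPGroup' := hRbp.comap_of_injective _ DR.subtype_injective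
      is_maximal' := fun {K} hK hRK => by
        refine le_antisymm (fun x hx => ?_) hRK
        have h := hRmax (K.map DR.subtype) (hK.map _)
          (fun y hy => ⟨⟨y, mem_sup_right hy⟩, hRK hy, rfl⟩)
          (fun y hy => by
            obtain ⟨z, -, rfl⟩ := hy
            exact hDRK z.2)
        exact h ⟨x, hx, rfl⟩ }
  have hconjD : ∀ r ∈ Rb, a₁ * r * a₁⁻¹ ∈ DR := by
    intro r hr
    rw [show a₁ * r * a₁⁻¹ = (a₁ * (r * a₁⁻¹ * r⁻¹)) * r by group]
    refine DR.mul_mem (mem_sup_left ⟨?_, ?_⟩) (mem_sup_right hr)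
    · exact EN.mul_mem ha₀ ((inferInstance : EN.Normal).conj_mem _ (EN.inv_mem ha₀) r)
    · rw [show a₁ * (r * a₁⁻¹ * r⁻¹) = (a₁ * r * a₁⁻¹) * r⁻¹ by group]
      exact Kf.mul_mem ((inferInstance : Kf.Normal).conj_mem _ hr.2 a₁) (Kf.inv_mem hr.2)
  set R' : Subgroup DR := (Rb.map (MulAut.conj a₁).toMonoidHom).subgroupOf DR with hR'
  obtain ⟨Q', hQ'⟩ := ((hRbp.map (MulAut.conj a₁).toMonoidHom).comap_of_injective DR.subtype
    DR.subtype_injective : IsPGroup p R').exists_le_sylow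
  obtain ⟨u, hu⟩ := MulAction.exists_smul_eq DR Q' Rs
  have huR : ∀ r ∈ Rb, (u : F.autGroup V) * (a₁ * r * a₁⁻¹) * (u : F.autGroup V)⁻¹ ∈ Rb := by
    intro r hr
    have h : (MulAut.conj u).toMonoidHom ⟨_, hconjD r hr⟩ ∈ (Rs : Subgroup DR) := by
      rw [← hu, Sylow.coe_subgroup_smul]
      exact ⟨_, hQ' (Subgroup.mem_subgroupOf.2 ⟨r, hr, rfl⟩), rfl⟩
    exact h
  obtain ⟨r₀, hr₀, d, hd, hu'⟩ : ∃ r ∈ Rb, ∃ d ∈ D, r * d = (u : F.autGroup V) := by
    have h : (u : F.autGroup V) ∈ ((Rb ⊔ D : Subgroup (F.autGroup V)) : Set (F.autGroup V)) := by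
      have h0 : (u : F.autGroup V) ∈ D ⊔ Rb := u.2
      rwa [sup_comm] at h0
    rwa [Subgroup.mul_normal Rb D, Set.mem_mul] at h
  set x₀ := d * a₁ with hx₀
  have hx₀N : x₀ ∈ EN := EN.mul_mem hd.1 ha₀
  have hx₀R : ∀ r ∈ Rb, x₀ * r * x₀⁻¹ ∈ Rb := fun r hr => by
    have h := Rb.mul_mem (Rb.mul_mem (Rb.inv_mem hr₀) (huR r hr)) hr₀
    convert h using 1
    rw [hx₀, ← hu']
    group
  have hx₀Q : ∀ x : Q, (((x₀ : MulAut V) (Subgroup.inclusion hQV x) : V) : Ω) = ((α x : Q) : Ω) :=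
    fun x => by
      have hm : ((a₀ (Subgroup.inclusion hQV x) : V) : Ω) ∈ Q := ha₀x x ▸ (α x).2
      rw [hx₀, Subgroup.coe_mul, MulAut.mul_apply, ha₁, hd.2 _ hm]
      exact ha₀x x
  -- its part of order prime to `p`
  obtain ⟨i, j, hij, ⟨k, hk⟩, hj⟩ := exists_powers_pPart (p := p) x₀
  have hpow : ∀ m : ℕ, ∀ x : Q,
      ((((x₀ ^ m : F.autGroup V) : MulAut V) (Subgroup.inclusion hQV x) : V) : Ω) =
        (((α ^ m) x : Q) : Ω) := by
    intro m
    induction m with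
    | zero => intro x; simp
    | succ m ih =>
      intro x
      rw [pow_succ', pow_succ', Subgroup.coe_mul, MulAut.mul_apply, MulAut.mul_apply, ← hx₀Q]
      congr 2
      exact Subtype.ext (ih x)
  have hαi : α ^ i = 1 := by
    have h1 : (α ^ i) ^ p ^ k = 1 := MulEquiv.ext fun x => Subtype.ext (by
      rw [← pow_mul, ← hpow, pow_mul, ← hk, pow_orderOf_eq_one]
      rfl)
    exact orderOf_eq_one_iff.1 (Nat.eq_one_of_dvd_coprimes (hcop.pow_right k)
      (orderOf_pow_dvd i) (orderOf_dvd_of_pow_eq_one h1))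
  have hαj : α ^ j = α := MulEquiv.ext fun x => Subtype.ext (by
    have h : ∀ y : Q, (α ^ i * α ^ j) y = α y := fun y => Subtype.ext (by
      rw [← pow_add, ← hpow, pow_add, hij, hx₀Q])
    rw [hαi, one_mul] at h
    rw [h x])
  set x₁ : F.autGroup V := x₀ ^ j with hx₁
  have hx₁N : (x₁ : MulAut V) ∈ E.autGroup V := (EN.pow_mem hx₀N j : _)
  have hx₁R : ∀ r ∈ Rb, x₁ * r * x₁⁻¹ ∈ Rb := by
    intro r hr
    rw [hx₁]
    suffices h : ∀ m : ℕ, ∀ r ∈ Rb, x₀ ^ m * r * (x₀ ^ m)⁻¹ ∈ Rb from h j r hr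
    intro m
    induction m with
    | zero => intro r hr; simpa using hr
    | succ m ih =>
      intro r hr
      rw [show x₀ ^ (m + 1) * r * (x₀ ^ (m + 1))⁻¹ = x₀ ^ m * (x₀ * r * x₀⁻¹) * (x₀ ^ m)⁻¹ by
        rw [pow_succ]; group]
      exact ih _ (hx₀R r hr)
  set a : MulAut V := (x₁ : MulAut V) with hadef
  have han : a ^ orderOf (x₀ ^ j) = 1 := by
    rw [hadef, ← Subgroup.coe_pow, hx₁, pow_orderOf_eq_one, Subgroup.coe_one]
  have hC : centralizerIn S Q ≤ normalizer (V : Set Ω) := fun c hc =>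
    normalizerIn_le_sup_centralizerIn hsc (centralizerIn_le_normalizerIn hc)
  obtain ⟨g, hg, hgx, hgc⟩ := exists_ext_centralizer hS hE hQV hVT
    (hVc.2 V (isConj_refl hVT)) hVn hC
    (exists_lift hS hE hVc (fullyCentralized_of_fullyNormalized hS hF hVn) hx₁N) hj han
    fun c hc => by
      set κ : MulAut V := V.normalizerMonoidHom ⟨c, hC hc⟩ with hκ
      have hκS : κ ∈ autInducedBy S V := mem_autInducedBy_iff.2 ⟨c, hc.1, fun x => rfl⟩
      have hκF : κ ∈ F.autGroup V := autInducedBy_le_autGroup hVS hκS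
      set κ₁ : F.autGroup V := ⟨κ, hκF⟩ with hκ₁
      have hκR : κ₁ ∈ Rb := by
        refine ⟨?_, fun x hx => Subtype.ext ?_⟩
        · show κ₁ ∈ (Sy : Subgroup (F.autGroup V))
          rw [hSy]
          exact hκS
        · show c * (x : Ω) * c⁻¹ = x
          rw [← hc.2 _ hx, mul_inv_cancel_right]
      have h1 := Rb.mul_mem (Rb.inv_mem hκR) (hx₁R _ hκR)
      set γ := κ₁⁻¹ * (x₁ * κ₁ * x₁⁻¹) with hγ
      have hγS : (γ : MulAut V) ∈ autInducedBy S V := by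
        have h2 : γ ∈ (Sy : Subgroup (F.autGroup V)) := h1.1
        rw [hSy] at h2
        exact h2
      have hγE : (γ : MulAut V) ∈ E.autGroup V := by
        have h2 : γ ∈ EN := by
          rw [hγ, show κ₁⁻¹ * (x₁ * κ₁ * x₁⁻¹) = (κ₁⁻¹ * x₁ * κ₁⁻¹⁻¹) * x₁⁻¹ by group]
          exact EN.mul_mem ((inferInstance : EN.Normal).conj_mem _ hx₁N _) (EN.inv_mem hx₁N)
        exact h2
      obtain ⟨z, hz, hzx⟩ :=
        mem_autInducedBy_iff.1 (autInducedBy_inf_le hS hE hVT hVn ⟨hγS, hγE⟩)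
      have hzC : z ∈ centralizerIn T Q := by
        refine ⟨hz, fun q hq => ?_⟩
        have h2 := hzx ⟨q, hQV hq⟩
        rw [h1.2 _ hq] at h2
        exact (mul_inv_eq_iff_eq_mul.1 h2.symm).symm
      refine ⟨z, mem_sup_right hzC, fun x => ?_⟩
      have h2 := hzx (a x)
      have e : (γ : MulAut V) (a x) = κ⁻¹ (a (κ x)) := by
        show (κ⁻¹ * (a * κ * a⁻¹)) (a x) = _
        rw [MulAut.mul_apply, MulAut.mul_apply, MulAut.mul_apply, MulAut.inv_apply_self]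
      rw [e, hκ, ← map_inv] at h2
      change c⁻¹ * _ * c⁻¹⁻¹ = _ at h2
      calc ((a (κ x) : V) : Ω) = c * (c⁻¹ * ((a (κ x) : V) : Ω) * c⁻¹⁻¹) * c⁻¹ := by group
        _ = c * (z * ((a x : V) : Ω) * z⁻¹) * c⁻¹ := by rw [← h2]
        _ = _ := by group
  refine ⟨g, hg.mono (sup_le_sup_right hQV _), fun x => ?_, fun w hw => ?_,
    a, hx₁N, fun x => hgx x⟩
  · refine (hgx (Subgroup.inclusion hQV x)).trans ?_
    rw [hadef, hx₁, hpow, hαj]
  · have h : w ∈ ((Q ⊔ centralizerIn S Q : Subgroup Ω) : Set Ω) := hw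
    rw [Subgroup.coe_mul_of_right_le_normalizer_left Q (centralizerIn S Q)
      (inf_le_right.trans (Subgroup.centralizer_le_normalizer (s := (Q : Set Ω)))),
      Set.mem_mul] at h
    obtain ⟨q, hq, c, hc, rfl⟩ := h
    rw [hg.map_mul (mem_sup_left (hQV hq)) (mem_sup_right hc),
      show (q * c)⁻¹ * (g q * g c) = (c⁻¹ * (q⁻¹ * g q) * c⁻¹⁻¹) * (c⁻¹ * g c) by group]
    have hgq : g q ∈ T := StronglyClosed.apply_mem hsc hg (mem_sup_left (hQV hq)) (hQT hq)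
    exact T.mul_mem (StronglyClosed.conj_mem hsc (S.inv_mem hc.1)
      (T.mul_mem (T.inv_mem (hQT hq)) hgq)) (hgc c hc)

end

/-- Restriction of an action to an invariant subgroup. -/
def resHom {G : Type*} [Group G] {W X : Subgroup Ω} (ρ : G →* MulAut W) (hX : X ≤ W)
    (hst : ∀ (g : G) (x : W), (x : Ω) ∈ X → ((ρ g x : W) : Ω) ∈ X) : G →* MulAut X where
  toFun g :=
    { toFun := fun x => ⟨_, hst g (Subgroup.inclusion hX x) x.2⟩
      invFun := fun x => ⟨_, hst g⁻¹ (Subgroup.inclusion hX x) x.2⟩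
      left_inv := fun x => Subtype.ext (by
        show ((ρ g⁻¹ (ρ g (Subgroup.inclusion hX x)) : W) : Ω) = x
        rw [map_inv, MulAut.inv_apply_self]
        rfl)
      right_inv := fun x => Subtype.ext (by
        show ((ρ g (ρ g⁻¹ (Subgroup.inclusion hX x)) : W) : Ω) = x
        rw [map_inv, MulAut.apply_inv_self]
        rfl)
      map_mul' := fun x y => Subtype.ext (by
        show ((ρ g (Subgroup.inclusion hX (x * y)) : W) : Ω) = _
        rw [map_mul, map_mul]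
        rfl) }
  map_one' := MulEquiv.ext fun x => Subtype.ext (by
    show ((ρ 1 (Subgroup.inclusion hX x) : W) : Ω) = x
    rw [map_one]
    rfl)
  map_mul' g h := MulEquiv.ext fun x => Subtype.ext (by
    show ((ρ (g * h) (Subgroup.inclusion hX x) : W) : Ω) = _
    rw [map_mul]
    rfl)

theorem resHom_apply {G : Type*} [Group G] {W X : Subgroup Ω} (ρ : G →* MulAut W) (hX : X ≤ W)
    (hst : ∀ (g : G) (x : W), (x : Ω) ∈ X → ((ρ g x : W) : Ω) ∈ X) (g : G) (x : X) :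
    ((resHom ρ hX hst g x : X) : Ω) = ((ρ g (Subgroup.inclusion hX x) : W) : Ω) := rfl

/-- A model of the normalizer of `Q C_S(Q)` in terms of its action. -/
structure LocalModel (F : FusionSystem S) (p : ℕ) (Q : Subgroup Ω) : Type (u + 1) where
  G : Type u
  grp : Group G
  fin : Finite G
  ι : normalizerIn S Q →* G
  inj : Function.Injective ι
  P : Sylow p G
  range_eq : (P : Subgroup G) = ι.range
  ρ : G →* MulAut (Q ⊔ centralizerIn S Q : Subgroup Ω)
  mem_aut : ∀ g, ρ g ∈ F.autGroup (Q ⊔ centralizerIn S Q)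
  surj : ∀ α ∈ F.autGroup (Q ⊔ centralizerIn S Q), ∃ g, ρ g = α
  ρ_ι : ∀ (n : normalizerIn S Q) (w : (Q ⊔ centralizerIn S Q : Subgroup Ω)),
    ((ρ (ι n) w : (Q ⊔ centralizerIn S Q : Subgroup Ω)) : Ω) = n * (w : Ω) * (n : Ω)⁻¹
  ι_ρ : ∀ (g : G) (w : (Q ⊔ centralizerIn S Q : Subgroup Ω)) (h : (w : Ω) ∈ normalizerIn S Q)
    (h' : ((ρ g w : (Q ⊔ centralizerIn S Q : Subgroup Ω)) : Ω) ∈ normalizerIn S Q),
    ι ⟨_, h'⟩ = g * ι ⟨w, h⟩ * g⁻¹
  fuse : ∀ (g : G) (t b : normalizerIn S Q), g * ι t * g⁻¹ = ι b →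
    ∃ f, IsMap F (zpowers (t : Ω)) f ∧ f t = b

attribute [instance] LocalModel.grp LocalModel.fin

section

variable [Fact p.Prime] [Finite S] (hS : IsPGroup p S)

include hS

theorem exists_localModel (hF : F.IsSaturated p)
    (hWn : F.IsFullyNormalized (Q ⊔ centralizerIn S Q))
    (hWC : centralizerIn S (Q ⊔ centralizerIn S Q) ≤ Q ⊔ centralizerIn S Q)
    (hN : normalizerIn S (Q ⊔ centralizerIn S Q) = normalizerIn S Q) :
    Nonempty (LocalModel F p Q) := by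
  set W := Q ⊔ centralizerIn S Q with hW
  have hWS : W ≤ S := hWn.1
  haveI := finite_of_le hWS
  have hWc : F.IsCentric W :=
    centric_of_fullyCentralized hS hF (fullyCentralized_of_fullyNormalized hS hF hWn) hWC
  have hE := isNormalizerSystem_normalizerSys F W hWS
  obtain ⟨G, _, ι₀, hfin, hreal, ⟨P, hP⟩, hWGn, -⟩ :=
    Model.exists_model_normalizer F hS hF hWc hWn hE
  let eN : normalizerIn S Q ≃* normalizerIn S W := (MulEquiv.subgroupCongr hN).symm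
  let ι : normalizerIn S Q →* G := ι₀.comp eN.toMonoidHom
  have hinj : Function.Injective ι := hreal.1.comp eN.injective
  have hWN : W ≤ normalizerIn S W := le_normalizerIn hWS
  set jW : W →* G := ι₀.comp (Subgroup.inclusion hWN) with hjW
  have hjWi : Function.Injective jW := hreal.1.comp (Subgroup.inclusion_injective hWN)
  have hrange : (W.subgroupOf (normalizerIn S W)).map ι₀ = jW.range := by
    ext g
    constructor
    · rintro ⟨x, hx, rfl⟩
      exact ⟨⟨x, hx⟩, rfl⟩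
    · rintro ⟨w, rfl⟩
      exact ⟨⟨w, hWN w.2⟩, w.2, rfl⟩
  rw [hrange] at hWGn
  haveI := hWGn
  set e := MonoidHom.ofInjective hjWi
  let ρ : G →* MulAut W := (MulAut.congr e.symm).toMonoidHom.comp MulAut.conjNormal
  have hρ : ∀ (g : G) (w : W), jW (ρ g w) = g * jW w * g⁻¹ := by
    intro g w
    have h1 : e (ρ g w) = MulAut.conjNormal g (e w) := by simp [ρ, MulAut.congr]
    exact (congrArg (fun u : jW.range => (u : G)) h1).trans (MulAut.conjNormal_apply g (e w))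
  have hmap : ∀ {P' : Subgroup Ω} {f : Ω → Ω}, IsMap (normalizerSys F W hWS) P' f →
      IsMap F P' f := fun h => by
    obtain ⟨-, -, k, hk, hkx, -⟩ := (isMap_normalizerSystem_iff hE).1 h
    exact (hk.mono le_sup_left).congr hkx
  have hval : ∀ (n : normalizerIn S Q) (h : (n : Ω) ∈ normalizerIn S W),
      ι n = ι₀ ⟨n, h⟩ := fun n h => rfl
  refine ⟨⟨G, inferInstance, hfin, ι, hinj, P, ?_, ρ, fun g => ?_, fun α hα => ?_, fun n w => ?_,
    fun g w h h' => ?_, fun g t b hgb => ?_⟩⟩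
  · rw [hP]
    ext x
    constructor
    · rintro ⟨y, rfl⟩
      exact ⟨eN.symm y, by show ι₀ (eN (eN.symm y)) = _; rw [MulEquiv.apply_symm_apply]⟩
    · rintro ⟨y, rfl⟩
      exact ⟨eN y, rfl⟩
  · obtain ⟨f, hf, hfx⟩ := realized_exists_map hreal hWN g fun x hx => by
      obtain ⟨w, hw⟩ := hWGn.conj_mem (jW ⟨x, hx⟩) ⟨_, rfl⟩ g
      exact ⟨⟨w, hWN w.2⟩, hw⟩
    refine (autGroup_iff_isMap hWS fun w => ?_).2 (hmap hf)
    obtain ⟨hfw, e'⟩ := hfx w w.2
    have h2 : ι₀ ⟨f w, hfw⟩ = ι₀ ⟨((ρ g w : W) : Ω), hWN (ρ g w).2⟩ := e'.trans (hρ g w).symm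
    exact (congrArg Subtype.val (hreal.1 h2)).symm
  · have hm := isMap_autFun hWS hα
    have hm' : IsMap (normalizerSys F W hWS) W (autFun α) := (isMap_normalizerSystem_iff hE).2
      ⟨hWN, fun x hx => hWN (autFun_mem α hx), autFun α, by rwa [sup_idem], fun _ _ => rfl,
        img_autFun⟩
    obtain ⟨g, hg⟩ := realized_exists_elem hreal hm'
    refine ⟨g, MulEquiv.ext fun w => hjWi ?_⟩
    rw [hρ]
    refine (hg w w.2 (hWN w.2) (hWN (autFun_mem α w.2))).symm.trans ?_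
    exact congrArg ι₀ (Subtype.ext (autFun_apply α w.2))
  · have hn : (n : Ω) ∈ normalizerIn S W := hN.symm ▸ n.2
    have h1 : jW (ρ (ι n) w) = jW ⟨(n : Ω) * w * (n : Ω)⁻¹, (hn.2 w).1 w.2⟩ := by
      rw [hρ, hval n hn, hjW, MonoidHom.comp_apply, MonoidHom.comp_apply, ← map_inv, ← map_mul,
        ← map_mul]
      rfl
    exact congrArg Subtype.val (hjWi h1)
  · exact hρ g w
  · have hzle : zpowers (t : Ω) ≤ normalizerIn S W := by
      rw [hN]
      exact zpowers_le.2 t.2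
    obtain ⟨f, hf, hfx⟩ := realized_exists_map hreal hzle g fun y hy => by
      obtain ⟨i, rfl⟩ := mem_zpowers_iff.1 hy
      refine ⟨eN (b ^ i), ?_⟩
      show ι (b ^ i) = _
      rw [map_zpow, ← hgb, conj_zpow, ← map_zpow]
      rfl
    refine ⟨f, hmap hf, ?_⟩
    obtain ⟨hft, e'⟩ := hfx _ (mem_zpowers _)
    have h2 : ι₀ ⟨f t, hft⟩ = ι₀ (eN b) := e'.trans hgb
    exact congrArg Subtype.val (hreal.1 h2)

variable (hE : E.IsNormalIn F p)

include hE

/-- The normal subgroup of the local model belonging to one of the subsystems. -/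
theorem exists_side (hA : F.StronglyClosed A) (hAT : A ≤ T) (hQA : Q ≤ A)
    (hQ : F.IsFullyNormalized Q) (hCA : centralizerIn A Q ≤ Q) (D : LocalModel F p Q) :
    ∃ H : Subgroup D.G, H.Normal ∧ (∀ n : normalizerIn S Q, (n : Ω) ∈ T → D.ι n ∈ H) ∧
      (∀ n : normalizerIn S Q, D.ι n ∈ H → (n : Ω) ∈ T) ∧
      ∀ α ∈ E.autGroup Q, (orderOf α).Coprime p → ∃ h ∈ H, ∀ x : Q,
        ((D.ρ h (Subgroup.inclusion le_sup_left x) :
          (Q ⊔ centralizerIn S Q : Subgroup Ω)) : Ω) = ((α x : Q) : Ω) := by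
  obtain ⟨⟨hEsat, hF, hinv⟩, -⟩ := id hE
  have hsc : F.StronglyClosed T := hinv.2.1
  have hTS := hsc.1
  haveI := finite_of_le hTS
  have hQT : Q ≤ T := hQA.trans hAT
  obtain ⟨hVn, hVc, hVA⟩ := side_setup hS hE hA hAT hQA hQ hCA
  set W := Q ⊔ centralizerIn S Q with hW
  set V := Q ⊔ centralizerIn T Q with hV
  set N := normalizerIn S Q with hN
  have hWS : W ≤ S := sup_le hQ.1 inf_le_left
  have hVT : V ≤ T := hVc.1
  have hVW : V ≤ W := sup_le_sup_left (inf_le_inf_right _ hTS) Q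
  have hWT : ∀ w ∈ W, w ∈ T → w ∈ V := fun w hw hwT => mem_sup_centralizerIn_of_mem hQT hw hwT
  have hst : ∀ (g : D.G) (x : W), (x : Ω) ∈ V → ((D.ρ g x : W) : Ω) ∈ V := fun g x hx => by
    refine hWT _ (D.ρ g x).2 ?_
    have h := StronglyClosed.apply_mem hsc (isMap_autFun hWS (D.mem_aut g)) x.2 (hVT hx)
    rwa [autFun_apply _ x.2] at h
  set ρV := resHom D.ρ hVW hst with hρV
  have hρVF : ∀ g, ρV g ∈ F.autGroup V := fun g => by
    refine (autGroup_iff_isMap (hVT.trans hTS) fun x => ?_).2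
      ((isMap_autFun hWS (D.mem_aut g)).mono hVW)
    rw [hρV, resHom_apply]
    exact (autFun_apply _ (hVW x.2)).symm
  have hTn : ∀ s ∈ S, ∀ t ∈ T, s * t * s⁻¹ ∈ T := fun s hs t ht =>
    StronglyClosed.conj_mem hsc hs ht
  -- automorphisms trivial modulo `T`
  let Tr : Subgroup D.G :=
    { carrier := {g | ∀ w : W, (w : Ω)⁻¹ * ((D.ρ g w : W) : Ω) ∈ T}
      one_mem' := fun w => by rw [map_one]; simp
      mul_mem' := fun {a b} ha hb w => by
        have h := T.mul_mem (hb w) (ha (D.ρ b w))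
        rw [mul_assoc, mul_inv_cancel_left] at h
        rw [map_mul, MulAut.mul_apply]
        exact h
      inv_mem' := fun {a} ha w => by
        have h := T.inv_mem (ha (D.ρ a⁻¹ w))
        rw [map_inv, MulAut.apply_inv_self, mul_inv_rev, inv_inv] at h
        rw [map_inv]
        exact h }
  haveI : Tr.Normal := ⟨fun d hd g w => by
    obtain ⟨y, hy⟩ := (D.ρ g).surjective w
    have h : ((D.ρ g (y⁻¹ * D.ρ d y) : W) : Ω) ∈ T := by
      have h := StronglyClosed.apply_mem hsc (isMap_autFun hWS (D.mem_aut g))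
        (y⁻¹ * D.ρ d y : W).2 (by rw [Subgroup.coe_mul, Subgroup.coe_inv]; exact hd y)
      rwa [autFun_apply _ (y⁻¹ * D.ρ d y : W).2] at h
    rw [map_mul, map_inv, hy] at h
    rw [map_mul, map_mul, map_inv, MulAut.mul_apply, MulAut.mul_apply, ← hy,
      MulAut.inv_apply_self, hy]
    exact h⟩
  haveI : ((E.autGroup V).comap ρV).Normal := ⟨fun d hd g => by
    show ρV (g * d * g⁻¹) ∈ E.autGroup V
    rw [map_mul, map_mul, map_inv]
    exact autGroup_conj_mem hinv hVT (hρVF g) hd⟩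
  set M : Subgroup D.G := (E.autGroup V).comap ρV ⊓ Tr with hM
  haveI hMn : M.Normal := inferInstance
  have hNV : N ≤ normalizer (V : Set Ω) := normalizerIn_le_sup_centralizerIn hsc
  have hρι : ∀ (n : N) (x : V), ((ρV (D.ι n) x : V) : Ω) = n * (x : Ω) * (n : Ω)⁻¹ := fun n x => by
    rw [hρV, resHom_apply]
    exact D.ρ_ι n _
  set TG : Subgroup D.G := (T.subgroupOf N).map D.ι with hTG
  have hmemTG : ∀ n : N, D.ι n ∈ TG ↔ (n : Ω) ∈ T := fun n =>
    ⟨fun ⟨t, ht, e⟩ => D.inj e ▸ ht, fun h => ⟨n, h, rfl⟩⟩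
  have hTM : TG ≤ M := by
    rintro _ ⟨t, ht, rfl⟩
    refine Subgroup.mem_inf.2 ⟨?_, fun w => ?_⟩
    · show ρV (D.ι t) ∈ E.autGroup V
      exact autInducedBy_le_autGroup hVT (mem_autInducedBy_iff.2 ⟨t, ht, hρι t⟩)
    · rw [D.ρ_ι, show (w : Ω)⁻¹ * ((t : Ω) * w * (t : Ω)⁻¹) =
        ((w : Ω)⁻¹ * t * (w : Ω)⁻¹⁻¹) * (t : Ω)⁻¹ by group]
      exact T.mul_mem (hTn _ (S.inv_mem (hWS w.2)) _ ht) (T.inv_mem ht)
  have hTP : TG ≤ (D.P : Subgroup D.G) := by
    rw [D.range_eq]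
    rintro _ ⟨t, -, rfl⟩
    exact ⟨t, rfl⟩
  obtain ⟨H, hTH, hHM, hHn, hHP, -, hHcop⟩ := CfsgLib.Comp.exists_transfer_cut D.P hMn hTP hTM
    (fun g x hx hgx => by
      obtain ⟨t, ht, rfl⟩ := hx
      rw [D.range_eq] at hgx
      obtain ⟨b, hb⟩ := hgx
      rw [← hb, hmemTG]
      obtain ⟨f, hf, hft⟩ := D.fuse g t b hb.symm
      rw [← hft]
      exact StronglyClosed.apply_mem hsc hf (mem_zpowers _) ht)
    (fun s hs hsM => by
      rw [D.range_eq] at hs
      obtain ⟨n, rfl⟩ := hs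
      have hγ : ρV (D.ι n) ∈ autInducedBy S V ⊓ E.autGroup V :=
        ⟨mem_autInducedBy_iff.2 ⟨n, n.2.1, hρι n⟩, (Subgroup.mem_inf.1 hsM).1⟩
      obtain ⟨t, ht, htx⟩ := mem_autInducedBy_iff.1 (autInducedBy_inf_le hS hE hVT hVn hγ)
      have htV : t ∈ normalizer (V : Set Ω) := mem_normalizer_of_aut htx
      have hQV : Q ≤ V := le_sup_left
      have htQ : t ∈ normalizer (Q : Set Ω) := by
        have e : V ⊓ A = Q := le_antisymm (fun x hx => hVA x hx.1 hx.2) (le_inf hQV hQA)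
        rw [← e]
        exact CfsgLib.Comp.le_normalizer_inf (M := normalizerIn S V) inf_le_right
          (inf_le_left.trans (StronglyClosed.le_normalizer hA)) ⟨hTS ht, htV⟩
      set t' : N := ⟨t, hTS ht, htQ⟩ with ht'
      refine ⟨D.ι t', (hmemTG t').2 ht, fun m hm => ?_⟩
      set k : N := t'⁻¹ * n with hk
      have hkW : (k : Ω) ∈ W := by
        refine mem_sup_right ⟨k.2.1, fun x hx => ?_⟩
        have h1 := htx ⟨x, hQV hx⟩
        rw [hρι] at h1
        show x * ((t : Ω)⁻¹ * n) = (t : Ω)⁻¹ * n * x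
        calc x * ((t : Ω)⁻¹ * n) = (t : Ω)⁻¹ * (t * x * (t : Ω)⁻¹) * n := by group
          _ = (t : Ω)⁻¹ * ((n : Ω) * x * (n : Ω)⁻¹) * n := by rw [h1]
          _ = _ := by group
      have hek : (D.ι t')⁻¹ * D.ι n = D.ι k := by rw [hk, map_mul, map_inv]
      rw [hek]
      set w : W := ⟨k, hkW⟩
      have hw' : ((D.ρ m w : W) : Ω) ∈ N :=
        (sup_le (le_normalizerIn hQ.1) centralizerIn_le_normalizerIn : W ≤ N) (D.ρ m w).2
      have e : D.ι ⟨_, hw'⟩ = m * D.ι k * m⁻¹ := D.ι_ρ m w k.2 hw'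
      rw [← e, ← map_inv, ← map_mul, hmemTG]
      exact (Subgroup.mem_inf.1 hm).2 w)
  refine ⟨H, hHn, fun n hn => hTH ((hmemTG n).2 hn), fun n hn => ?_, fun α hα hcop => ?_⟩
  · exact (hmemTG n).1 (hHP _ (by rw [D.range_eq]; exact ⟨n, rfl⟩) hn)
  obtain ⟨g, hg, hgx, hgT, a, ha, hgax⟩ := exists_ext_coprime hS hE hA hAT hQA hQ hCA hα hcop
  haveI := finite_of_le hWS
  have hgi : img W g = W := eq_of_le_of_card_le (fun y hy => by
    obtain ⟨x, hx, rfl⟩ := hg.mem_img.1 hy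
    refine hg.img_sup_le le_sup_left le_sup_right ?_ ?_ (hg.apply_mem_img hx)
    · intro z hz
      obtain ⟨q, hq, rfl⟩ := (hg.mono le_sup_left).mem_img.1 hz
      exact mem_sup_left (hgx ⟨q, hq⟩ ▸ (α _).2)
    · intro z hz
      obtain ⟨c, hc, rfl⟩ := (hg.mono le_sup_right).mem_img.1 hz
      exact mem_sup_right (lift_apply_centralizer hg hgx hc)) hg.card_img.ge
  obtain ⟨m, hm⟩ := D.surj _ (hg.toAut_mem hgi)
  have hmM : m ∈ M := by
    refine Subgroup.mem_inf.2 ⟨?_, fun w => ?_⟩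
    · show ρV m ∈ E.autGroup V
      have e : ρV m = a := MulEquiv.ext fun x => Subtype.ext (by
        rw [hρV, resHom_apply, hm, IsMap.toAut_apply]
        exact hgax x)
      rw [e]
      exact ha
    · rw [hm, IsMap.toAut_apply]
      exact hgT w w.2
  have hQW : Q ≤ W := le_sup_left
  have hres : ∀ (i : ℕ) (x : Q),
      ((D.ρ (m ^ i) (Subgroup.inclusion hQW x) : W) : Ω) = (((α ^ i) x : Q) : Ω) := by
    intro i
    induction i with
    | zero => intro x; rw [pow_zero, map_one, pow_zero]; rfl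
    | succ i ih =>
      intro x
      have e : D.ρ (m ^ i) (Subgroup.inclusion hQW x) =
          Subgroup.inclusion hQW ((α ^ i) x) := Subtype.ext (ih x)
      rw [pow_succ', pow_succ', map_mul, MulAut.mul_apply, MulAut.mul_apply, e, hm,
        IsMap.toAut_apply]
      exact hgx _
  obtain ⟨i, j, hij, ⟨k, hk⟩, hj⟩ := exists_powers_pPart (p := p) m
  refine ⟨m ^ j, hHcop _ (M.pow_mem hmM j) hj, fun x => ?_⟩
  have hαi : α ^ i = 1 := by
    have h1 : (α ^ i) ^ p ^ k = 1 := MulEquiv.ext fun y => Subtype.ext (by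
      rw [← pow_mul, ← hres, pow_mul, ← hk, pow_orderOf_eq_one, map_one]
      rfl)
    exact orderOf_eq_one_iff.1 (Nat.eq_one_of_dvd_coprimes (hcop.pow_right k)
      (orderOf_pow_dvd i) (orderOf_dvd_of_pow_eq_one h1))
  have h2 : ∀ y : Q, ((α y : Q) : Ω) = (((α ^ i * α ^ j) y : Q) : Ω) := fun y => by
    rw [← pow_add, ← hres, pow_add, hij]
    have h := hres 1 y
    rw [pow_one, pow_one] at h
    exact h.symm
  rw [hres j x, h2 x, hαi, one_mul]

end

section Pair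

variable {T₁ T₂ : Subgroup Ω} {E₁ : FusionSystem T₁} {E₂ : FusionSystem T₂}
  [Fact p.Prime] [Finite S] (hS : IsPGroup p S) (h₁ : E₁.IsNormalIn F p)
  (h₂ : E₂.IsNormalIn F p)

include hS h₁ h₂

/-- The shared automorphisms induced by `S` are induced by `T₁ ∩ T₂`. -/
theorem meetAut_inf_le (hQA : Q ≤ T₁ ⊓ T₂) (hQ : F.IsFullyNormalized Q)
    (hCA : centralizerIn (T₁ ⊓ T₂) Q ≤ Q) :
    meetAut F E₁ E₂ p Q ⊓ autInducedBy S Q ≤ autInducedBy (T₁ ⊓ T₂) Q := by
  have hF : F.IsSaturated p := h₁.1.2.1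
  have hA : F.StronglyClosed (T₁ ⊓ T₂) := stronglyClosed_inf h₁.1.2.2 h₂.1.2.2
  set A := T₁ ⊓ T₂ with hAdef
  obtain ⟨hWn, hWA, hWC, hNW⟩ := fullyNormalized_sup hA hQA hCA hQ
  obtain ⟨D⟩ := exists_localModel hS hF hWn hWC hNW
  obtain ⟨H₁, hH₁n, hH₁T, hH₁i, hH₁c⟩ := exists_side hS h₁ hA inf_le_left hQA hQ hCA D
  obtain ⟨H₂, hH₂n, hH₂T, hH₂i, hH₂c⟩ := exists_side hS h₂ hA inf_le_right hQA hQ hCA D
  haveI := hH₁n
  haveI := hH₂n
  set W := Q ⊔ centralizerIn S Q with hW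
  have hWS : W ≤ S := hWn.1
  have hQW : Q ≤ W := le_sup_left
  haveI := finite_of_le hQ.1
  have hst : ∀ (g : D.G) (x : W), (x : Ω) ∈ Q → ((D.ρ g x : W) : Ω) ∈ Q := fun g x hx => by
    refine hWA _ (D.ρ g x).2 ?_
    have h := StronglyClosed.apply_mem hA (isMap_autFun hWS (D.mem_aut g)) x.2 (hQA hx)
    rwa [autFun_apply _ x.2] at h
  set ρ := resHom D.ρ hQW hst with hρ
  have hρι : ∀ (n : normalizerIn S Q) (x : Q),
      ((ρ (D.ι n) x : Q) : Ω) = n * (x : Ω) * (n : Ω)⁻¹ := fun n x => by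
    rw [hρ, resHom_apply]
    exact D.ρ_ι n _
  have hsurj : ∀ β ∈ F.autGroup Q, ∃ g, ρ g = β := fun β hβ => by
    obtain ⟨g, hg, hgx⟩ := receptive_extend_centralizer (receptive_of_fullyNormalized hS hF hQ)
      (isMap_autFun hQ.1 hβ) img_autFun
    haveI := finite_of_le hWS
    have hgx' : ∀ x : Q, g x = ((β x : Q) : Ω) := fun x => (hgx x x.2).trans (autFun_apply β x.2)
    have hgi : img W g = W := eq_of_le_of_card_le (fun y hy => by
      obtain ⟨x, hx, rfl⟩ := hg.mem_img.1 hy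
      exact lift_maps_into hg hgx' hx) hg.card_img.ge
    obtain ⟨m, hm⟩ := D.surj _ (hg.toAut_mem hgi)
    refine ⟨m, MulEquiv.ext fun x => Subtype.ext ?_⟩
    rw [hρ, resHom_apply, hm, IsMap.toAut_apply]
    exact hgx' x
  set H₁₂ := H₁ ⊓ H₂ with hH₁₂
  haveI : H₁₂.Normal := inferInstance
  set Γ₀ := H₁₂.map ρ with hΓ₀
  set Γ₁ := H₁.map ρ ⊓ H₂.map ρ with hΓ₁
  have hle : Γ₀ ≤ Γ₁ := le_inf (Subgroup.map_mono inf_le_left) (Subgroup.map_mono inf_le_right)
  have hcomm : ∀ a ∈ Γ₁, ∀ b ∈ Γ₁, a * b * a⁻¹ * b⁻¹ ∈ Γ₀ := by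
    rintro a ⟨⟨x, hx, rfl⟩, -⟩ b ⟨-, y, hy, rfl⟩
    refine ⟨x * y * x⁻¹ * y⁻¹, ⟨?_, ?_⟩, by simp only [map_mul, map_inv]⟩
    · rw [show x * y * x⁻¹ * y⁻¹ = x * (y * x⁻¹ * y⁻¹) by group]
      exact H₁.mul_mem hx (hH₁n.conj_mem _ (H₁.inv_mem hx) y)
    · exact H₂.mul_mem (hH₂n.conj_mem _ hy x) (H₂.inv_mem hy)
  have hnorm : ∀ a ∈ Γ₁, ∀ b ∈ Γ₀, a * b * a⁻¹ ∈ Γ₀ := by
    rintro a ⟨⟨x, hx, rfl⟩, -⟩ b ⟨y, hy, rfl⟩
    exact ⟨x * y * x⁻¹, (inferInstance : H₁₂.Normal).conj_mem y hy x,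
      by simp only [map_mul, map_inv]⟩
  haveI : (Γ₀.subgroupOf Γ₁).Normal := ⟨fun b hb a => hnorm a a.2 b hb⟩
  have hcq : ∀ a b : Γ₁ ⧸ Γ₀.subgroupOf Γ₁, Commute a b := by
    intro a b
    induction a using QuotientGroup.induction_on with
    | _ a =>
    induction b using QuotientGroup.induction_on with
    | _ b =>
    show _ = _
    rw [← QuotientGroup.mk_mul, ← QuotientGroup.mk_mul, eq_comm, QuotientGroup.eq]
    have h := hcomm (a : MulAut Q)⁻¹ (Γ₁.inv_mem a.2) (b : MulAut Q)⁻¹ (Γ₁.inv_mem b.2)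
    rw [inv_inv, inv_inv] at h
    rw [Subgroup.mem_subgroupOf]
    push_cast
    convert h using 1
    group
  let Γ : Subgroup (MulAut Q) :=
    { carrier := {γ | ∃ h : γ ∈ Γ₁, ∃ n : ℕ, n.Coprime p ∧
        (QuotientGroup.mk' (Γ₀.subgroupOf Γ₁) ⟨γ, h⟩) ^ n = 1}
      one_mem' := ⟨Γ₁.one_mem, 1, Nat.coprime_one_left p, by
        rw [pow_one]; exact map_one _⟩
      mul_mem' := by
        rintro a b ⟨ha, n, hn, ha'⟩ ⟨hb, m, hm, hb'⟩
        refine ⟨Γ₁.mul_mem ha hb, n * m, hn.mul_left hm, ?_⟩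
        rw [show (⟨a * b, Γ₁.mul_mem ha hb⟩ : Γ₁) = ⟨a, ha⟩ * ⟨b, hb⟩ from rfl, map_mul,
          (hcq _ _).mul_pow, pow_mul, ha', one_pow, one_mul, mul_comm n m, pow_mul, hb', one_pow]
      inv_mem' := by
        rintro a ⟨ha, n, hn, ha'⟩
        refine ⟨Γ₁.inv_mem ha, n, hn, ?_⟩
        rw [show (⟨a⁻¹, Γ₁.inv_mem ha⟩ : Γ₁) = ⟨a, ha⟩⁻¹ from rfl, map_inv, inv_pow, ha', inv_one] }
  have hΓ₀Γ : ∀ γ ∈ Γ₀, γ ∈ Γ := fun γ hγ => ⟨hle hγ, 1, Nat.coprime_one_left p, by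
    rw [pow_one]; exact (QuotientGroup.eq_one_iff _).2 hγ⟩
  have hAΓ₀ : ∀ (n : normalizerIn S Q), (n : Ω) ∈ A → ρ (D.ι n) ∈ Γ₀ := fun n hn =>
    ⟨_, ⟨hH₁T n hn.1, hH₂T n hn.2⟩, rfl⟩
  have hK : meetAut F E₁ E₂ p Q ≤ Γ := by
    refine (Subgroup.closure_le _).2 ?_
    rintro β (⟨f, hf, a, ha, han, hax⟩ | ⟨⟨hβ₁, hβ₂⟩, hord⟩)
    · refine hΓ₀Γ β ?_
      set R := img Q f with hR
      obtain ⟨ψ, hψ, hψi, hψN⟩ :=
        exists_map_normalizerIn_of_fullyNormalized hS hF hQ (isConj_symm hf.isConj)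
      have hRS : R ≤ S := hf.img_le
      have hRN : R ≤ normalizerIn S R := le_normalizerIn hRS
      have haN : a ∈ normalizerIn S R := ⟨hA.1 ha, han⟩
      have hcomp : IsMap F Q (fun x => ψ (f x)) :=
        hf.comp (hψ.mono hRN) fun x hx => hf.apply_mem_img hx
      have hci : img Q (fun x => ψ (f x)) = Q := by
        rw [img_comp_eq hf (hψ.mono hRN) fun x hx => hf.apply_mem_img hx]
        exact hψi
      obtain ⟨m, hm⟩ := hsurj _ (hcomp.toAut_mem hci)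
      set n : normalizerIn S Q := ⟨ψ a, hψN a haN⟩
      have hnA : (n : Ω) ∈ A := StronglyClosed.apply_mem hA hψ haN ha
      obtain ⟨h, hh, hhn⟩ := hAΓ₀ n hnA
      refine ⟨m⁻¹ * h * m⁻¹⁻¹, (inferInstance : H₁₂.Normal).conj_mem h hh m⁻¹, ?_⟩
      rw [map_mul, map_mul, inv_inv, map_inv, hhn, hm]
      refine MulEquiv.ext fun x => ?_
      rw [MulAut.mul_apply, MulAut.mul_apply]
      apply (hcomp.toAut hci).injective
      rw [MulAut.apply_inv_self]
      refine Subtype.ext ?_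
      rw [hρι, IsMap.toAut_apply, IsMap.toAut_apply]
      show ψ a * ψ (f x) * (ψ a)⁻¹ = ψ (f ((β x : Q) : Ω))
      rw [hax x, hψ.map_conj haN (hRN (hf.apply_mem_img x.2))]
    · obtain ⟨x₁, hx₁, hx₁β⟩ := hH₁c β hβ₁ hord
      obtain ⟨x₂, hx₂, hx₂β⟩ := hH₂c β hβ₂ hord
      refine ⟨⟨⟨x₁, hx₁, MulEquiv.ext fun x => Subtype.ext (hx₁β x)⟩,
        ⟨x₂, hx₂, MulEquiv.ext fun x => Subtype.ext (hx₂β x)⟩⟩, orderOf β, hord, ?_⟩
      rw [← map_pow]
      refine (QuotientGroup.eq_one_iff _).2 ?_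
      rw [Subgroup.mem_subgroupOf]
      push_cast
      rw [pow_orderOf_eq_one]
      exact Γ₀.one_mem
  -- Sylow subgroups of `Γ₀`
  obtain ⟨R₀, hR₀⟩ := CfsgLib.Transfer.exists_sylow_eq_subgroupOf D.P H₁₂
  let ρ₀ : H₁₂ →* Γ₀ := (ρ.comp H₁₂.subtype).codRestrict Γ₀ fun h => ⟨h, h.2, rfl⟩
  have hρ₀ : Function.Surjective ρ₀ := by
    rintro ⟨_, x, hx, rfl⟩
    exact ⟨⟨x, hx⟩, rfl⟩
  set P₀ : Sylow p Γ₀ := R₀.mapSurjective hρ₀ with hP₀
  have hP₀le : ∀ γ ∈ (P₀ : Subgroup Γ₀), ∃ n : normalizerIn S Q, (n : Ω) ∈ A ∧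
      ρ (D.ι n) = (γ : MulAut Q) := by
    intro γ hγ
    rw [hP₀, Sylow.coe_mapSurjective] at hγ
    obtain ⟨x, hx, rfl⟩ := hγ
    rw [hR₀] at hx
    have hx' : (x : D.G) ∈ (D.P : Subgroup D.G) := hx
    rw [D.range_eq] at hx'
    obtain ⟨n, hn⟩ := hx'
    exact ⟨n, ⟨hH₁i n (hn ▸ x.2.1), hH₂i n (hn ▸ x.2.2)⟩, by rw [hn]; rfl⟩
  rintro γ ⟨hγK, hγS⟩
  obtain ⟨hγ₁, n, hn, hγn⟩ := hK hγK
  obtain ⟨k, hk⟩ := isPGroup_autInducedBy hS Q ⟨γ, hγS⟩
  have hk' : γ ^ p ^ k = 1 := congrArg Subtype.val hk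
  have hγ₀ : γ ∈ Γ₀ := by
    obtain ⟨i, hi⟩ := exists_pow_eq_self_of_coprime
      (n := n) (x := γ) ((hn.pow_right k).coprime_dvd_right (orderOf_dvd_of_pow_eq_one hk'))
    have h : γ ^ n ∈ Γ₀ := by
      have h1 := (QuotientGroup.eq_one_iff _).1 ((map_pow _ _ _).trans hγn)
      rw [Subgroup.mem_subgroupOf] at h1
      simpa using h1
    rw [← hi]
    exact Γ₀.pow_mem h i
  have hple : (P₀ : Subgroup Γ₀) ≤ (autInducedBy S Q).subgroupOf Γ₀ := fun δ hδ => by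
    obtain ⟨n, hnA, hnδ⟩ := hP₀le δ hδ
    rw [Subgroup.mem_subgroupOf, ← hnδ]
    exact mem_autInducedBy_iff.2 ⟨n, n.2.1, hρι n⟩
  have hmax := P₀.is_maximal'
    ((isPGroup_autInducedBy hS Q).comap_of_injective _ Γ₀.subtype_injective) hple
  obtain ⟨n, hnA, hnγ⟩ := hP₀le ⟨γ, hγ₀⟩ (hmax ▸ hγS)
  exact mem_autInducedBy_iff.2 ⟨n, hnA, fun x => by
    show ((γ x : Q) : Ω) = _
    rw [← show ρ (D.ι n) = γ from hnγ]
    exact hρι n x⟩

end Pair

end CfsgLib.Comp.Meet
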