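import Cfsg.Agent.Lib.Comp.EBalNil
import Cfsg.Agent.Lib.Comp.MeetLocal
import Cfsg.Agent.Lib.Comp.Dichotomy

/-!
Models of the normalizer systems of fully normalized subgroups of the class, with their normal
subgroup belonging to the generalized Fitting subsystem.
-/

set_option autoImplicit false
set_option linter.unusedVariables false
set_option linter.unusedSectionVars false
set_option linter.style.haveILetI false

universe u

namespace CfsgLib.Comp.EBal

open Cfsg Cfsg.FusionSystem Subgroup CfsgLib.Fusion CfsgLib.Comp.Fus CfsgLib.Comp.CProd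

variable {Ω : Type u} [Group Ω] {S T W P R : Subgroup Ω} {F : FusionSystem S}
  {E : FusionSystem T} {p : ℕ}

/-- A group realizing the maps between subgroups of `N_S(W)` extending to automorphisms of `W`. -/
structure WModel (F : FusionSystem S) (p : ℕ) (W : Subgroup Ω) : Type (u + 1) where
  G : Type u
  grp : Group G
  fin : Finite G
  ι : normalizerIn S W →* G
  inj : Function.Injective ι
  P : Sylow p G
  range_eq : (P : Subgroup G) = ι.range
  le : W ≤ normalizerIn S W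
  elem : ∀ (Y : Subgroup Ω) (g : Ω → Ω), Y ≤ normalizerIn S W →
    (∀ x ∈ Y, g x ∈ normalizerIn S W) → IsMap F (Y ⊔ W) g → img W g = W →
    ∃ m : G, ∀ (x : Ω) (hx : x ∈ normalizerIn S W) (hgx : g x ∈ normalizerIn S W), x ∈ Y ⊔ W →
      ι ⟨g x, hgx⟩ = m * ι ⟨x, hx⟩ * m⁻¹
  map : ∀ (Y : Subgroup Ω) (hY : Y ≤ normalizerIn S W) (m : G),
    (∀ (x : Ω) (hx : x ∈ Y), m * ι ⟨x, hY hx⟩ * m⁻¹ ∈ ι.range) →
    ∃ g, IsMap F (Y ⊔ W) g ∧ img W g = W ∧ ∀ (x : Ω) (hx : x ∈ normalizerIn S W), x ∈ Y ⊔ W →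
      ∃ hgx : g x ∈ normalizerIn S W, ι ⟨g x, hgx⟩ = m * ι ⟨x, hx⟩ * m⁻¹
  wnormal : ∀ (m : G) (w : Ω) (hw : w ∈ W), ∃ (w' : Ω) (hw' : w' ∈ W),
    ι ⟨w', le hw'⟩ = m * ι ⟨w, le hw⟩ * m⁻¹
  cent : ∀ m : G, (∀ (w : Ω) (hw : w ∈ W), m * ι ⟨w, le hw⟩ = ι ⟨w, le hw⟩ * m) →
    ∃ (c : Ω) (hc : c ∈ centralizerIn S W), ι ⟨c, centralizerIn_le_normalizerIn hc⟩ = m

attribute [instance] WModel.grp WModel.fin

section

variable [Fact p.Prime] [Finite S] (hc : Ctx F E p)

include hc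

theorem sup_centralizer_le_centricRadical (hW : InC F T W) (hWn : F.IsFullyNormalized W)
    {N : FusionSystem (normalizerIn S W)} (hN : F.IsNormalizerSystem W N) {P : Subgroup Ω}
    (hPc : N.IsCentric P) (hPr : N.IsRadical p P) : W ⊔ centralizerIn S W ≤ P := by
  have hS := hc.pS
  have hNS : normalizerIn S W ≤ S := inf_le_left
  haveI : Finite (normalizerIn S W) := finite_normalizerIn
  have hWP : W ≤ P := IsNormal.le_centricRadical (hS.to_le hNS)
    (Dich.isNormal_normalizerSystem hWn.1 hN) hPc hPr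
  have hCN : centralizerIn S W ≤ normalizerIn S W := centralizerIn_le_normalizerIn
  have hPN : P ≤ normalizerIn S W := hPc.1
  refine sup_le hWP (le_of_normalizer_inf_le (hS.to_le hNS) hPN hCN (fun a ha => ?_) fun a ha han => ?_)
  · exact (CfsgLib.Comp.le_normalizer_inf (M := normalizerIn S W)
      (inf_le_left.trans Subgroup.le_normalizer)
      (inf_le_right.trans (CfsgLib.Comp.normalizer_le_normalizer_centralizer W))) (hPN ha)
  haveI := finite_of_le hPN
  have hfix : ∀ γ ∈ N.autGroup P, ∀ x : P, (x : Ω) ∈ W → ((γ x : P) : Ω) ∈ W := fun γ hγ x hx => by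
    have := StronglyClosed.apply_mem (IsNormal.stronglyClosed (Dich.isNormal_normalizerSystem hWn.1 hN))
      (isMap_of_autGroup hPN hγ) x.2 hx
    rwa [toFun_aut_apply _ x.2] at this
  let K : Subgroup (N.autGroup P) :=
    { carrier := {γ | ∀ x : P, (x : Ω) ∈ W → (γ : MulAut P) x = x}
      one_mem' := fun _ _ => rfl
      mul_mem' := fun {a b} ha hb x hx => by
        rw [Subgroup.coe_mul, MulAut.mul_apply, hb x hx, ha x hx]
      inv_mem' := fun {a} ha x hx => by
        rw [Subgroup.coe_inv]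
        conv_lhs => rw [← ha x hx]
        exact MulAut.inv_apply_self _ (a : MulAut P) x }
  haveI : K.Normal := ⟨fun d hd b x hx => by
    have h := hd _ (hfix _ (inv_mem b.2) x hx)
    rw [Subgroup.coe_mul, Subgroup.coe_mul, Subgroup.coe_inv, MulAut.mul_apply, MulAut.mul_apply,
      h, MulAut.apply_inv_self]⟩
  have hK : IsPGroup p K := isPGroup_of_coprime_eq_one fun γ hγ => by
    obtain ⟨-, -, g, hg, hgx, -⟩ :=
      (isMap_normalizerSystem_iff hN).1 (isMap_of_autGroup hPN (γ : N.autGroup P).2)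
    have hF : (((γ : N.autGroup P)) : MulAut P) ∈ F.autGroup P :=
      (autGroup_iff_isMap (hPN.trans hNS) fun x => (toFun_aut_apply _ x.2).symm).2
        ((hg.mono le_sup_left).congr hgx)
    refine Subtype.ext (Subtype.ext ?_)
    exact rigid hc hW P hWP hPN _ hF
      (by rwa [Subgroup.orderOf_coe, Subgroup.orderOf_coe]) γ.2
  refine mem_of_aut_mem_pGroup hPc hPr K hK ⟨hCN ha, han⟩ fun α hα x hx => ?_
  rw [hα]
  refine Subtype.ext ?_
  show a * (x : Ω) * a⁻¹ = x
  rw [← ha.2 _ hx, mul_inv_cancel_right]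

theorem exists_wModel (hW : InC F T W) (hWn : F.IsFullyNormalized W) :
    Nonempty (WModel F p W) := by
  have hS := hc.pS
  have hF := hc.sat
  have hWS := hW.1
  have hNsys := isNormalizerSystem_normalizerSys F W hWS
  set N := normalizerSys F W hWS with hNdef
  have hNS : normalizerIn S W ≤ S := inf_le_left
  haveI : Finite (normalizerIn S W) := finite_normalizerIn
  have hNp : IsPGroup p (normalizerIn S W) := hS.to_le hNS
  have hNs : N.IsSaturated p := isSaturated_normalizerSystem hS hF hWn hNsys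
  have hWle : W ≤ normalizerIn S W := le_normalizerIn hWS
  have hCle : centralizerIn S W ≤ normalizerIn S W := centralizerIn_le_normalizerIn
  have hR : W ⊔ centralizerIn S W ≤ normalizerIn S W := sup_le hWle hCle
  have hcl : N.StronglyClosed (W ⊔ centralizerIn S W) := by
    refine stronglyClosed_iff.2 ⟨hR, fun Y f hY hf x hx => ?_⟩
    obtain ⟨-, -, g, hg, hgx, hgW⟩ := (isMap_normalizerSystem_iff hNsys).1 hf
    obtain ⟨c, hcc, w, hw, e⟩ : ∃ c ∈ centralizerIn S W, ∃ w ∈ W, c * w = x :=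
      exists_split (fun a ha b hb => (ha.2 b hb).symm) ((sup_comm W _).le (hY hx))
    have hcY : c ∈ Y ⊔ W := by
      have h := mul_mem (mem_sup_left hx : x ∈ Y ⊔ W) (Subgroup.inv_mem _ (mem_sup_right hw))
      rwa [← e, mul_inv_cancel_right] at h
    have h1 := hg.apply_mem_centralizerIn le_sup_right hcY hcc.2
    rw [hgW] at h1
    rw [← hgx x hx, ← e, hg.map_mul hcY (mem_sup_right hw)]
    exact mul_mem (mem_sup_right h1) (mem_sup_left (hgW.le ((hg.mono le_sup_right).apply_mem_img hw)))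
  have hRn : N.IsNormal (W ⊔ centralizerIn S W) :=
    isNormal_of_le_centricRadical hNp hNs hcl fun P hPc hPr =>
      sup_centralizer_le_centricRadical hc hW hWn hNsys hPc hPr
  have hRc : N.IsCentric (W ⊔ centralizerIn S W) := (IsNormal.centric_iff hRn).2 fun x hx =>
    mem_sup_right ⟨hx.1.1, Subgroup.centralizer_le (fun _ h => mem_sup_left h) hx.2⟩
  have heq := IsNormal.normalizerIn_eq hRn
  obtain ⟨G, _, ι₀, hfin, hreal, ⟨Q, hQ⟩, hRG, hcent⟩ :=
    Model.exists_model_normalizer N hNp hNs hRc (IsNormal.fullyNormalized hRn)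
      (isNormalizerSystem_normalizerSys N _ hR)
  set ι : normalizerIn S W →* G := ι₀.comp (MulEquiv.subgroupCongr heq).symm.toMonoidHom
  have hι : ∀ (x : Ω) (h : x ∈ normalizerIn S W)
      (h' : x ∈ normalizerIn (normalizerIn S W) (W ⊔ centralizerIn S W)),
      ι ⟨x, h⟩ = ι₀ ⟨x, h'⟩ := fun x h h' => rfl
  have hinj : Function.Injective ι := hreal.1.comp (MulEquiv.subgroupCongr heq).symm.injective
  have hrange : ι.range = ι₀.range := by
    ext z
    constructor
    · rintro ⟨y, rfl⟩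
      exact ⟨_, rfl⟩
    · rintro ⟨⟨y, hy⟩, rfl⟩
      exact ⟨⟨y, heq.le hy⟩, hι y _ hy⟩
  have hmap : ∀ (Y : Subgroup Ω) (hY : Y ≤ normalizerIn S W) (m : G),
      (∀ (x : Ω) (hx : x ∈ Y), m * ι ⟨x, hY hx⟩ * m⁻¹ ∈ ι.range) →
      ∃ f, IsMap N Y f ∧ ∀ (x : Ω) (hx : x ∈ Y), ∃ hfx : f x ∈ normalizerIn S W,
        ι ⟨f x, hfx⟩ = m * ι ⟨x, hY hx⟩ * m⁻¹ := by
    intro Y hY m hm
    obtain ⟨f, hf, hfx⟩ := realized_exists_map hreal (hY.trans heq.ge) m fun x hx => hrange ▸ hm x hx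
    refine ⟨f, ?_, fun x hx => ?_⟩
    · obtain ⟨-, -, g, hg, hgx, -⟩ :=
        (isMap_normalizerSystem_iff (isNormalizerSystem_normalizerSys N _ hR)).1 hf
      exact (hg.mono le_sup_left).congr hgx
    · obtain ⟨h1, h2⟩ := hfx x hx
      exact ⟨heq.le h1, (hι _ _ h1).trans h2⟩
  have hRimg : ∀ (m : G) (x : Ω) (hx : x ∈ W ⊔ centralizerIn S W),
      m * ι ⟨x, hR hx⟩ * m⁻¹ ∈ ι.range := fun m x hx => by
    have h0 : (⟨x, heq.ge (hR hx)⟩ : normalizerIn (normalizerIn S W) _) ∈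
        (W ⊔ centralizerIn S W).subgroupOf _ := hx
    obtain ⟨y, -, hy⟩ := hRG.conj_mem _ (Subgroup.mem_map_of_mem ι₀ h0) m
    rw [hrange]
    exact ⟨y, hy⟩
  have hWn' : ∀ (m : G) (w : Ω) (hw : w ∈ W), ∃ (w' : Ω) (hw' : w' ∈ W),
      ι ⟨w', hWle hw'⟩ = m * ι ⟨w, hWle hw⟩ * m⁻¹ := fun m w hw => by
    obtain ⟨f, hf, hfx⟩ := hmap _ hR m (hRimg m)
    obtain ⟨h1, h2⟩ := hfx w (mem_sup_left hw)
    exact ⟨f w, StronglyClosed.apply_mem
      (IsNormal.stronglyClosed (Dich.isNormal_normalizerSystem hWS hNsys)) hf (mem_sup_left hw) hw, h2⟩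
  have hmapW : ∀ (Y : Subgroup Ω) (hY : Y ≤ normalizerIn S W) (m : G),
      (∀ (x : Ω) (hx : x ∈ Y), m * ι ⟨x, hY hx⟩ * m⁻¹ ∈ ι.range) →
      ∃ g, IsMap F (Y ⊔ W) g ∧ img W g = W ∧ ∀ (x : Ω) (hx : x ∈ normalizerIn S W), x ∈ Y ⊔ W →
        ∃ hgx : g x ∈ normalizerIn S W, ι ⟨g x, hgx⟩ = m * ι ⟨x, hx⟩ * m⁻¹ := by
    intro Y hY m hm
    have hYW : Y ⊔ W ≤ normalizerIn S W := sup_le hY hWle
    have hsup : Y ⊔ W ≤ ((ι.range.comap (MulAut.conj m).toMonoidHom).comap ι).map
        (normalizerIn S W).subtype := by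
      refine sup_le (fun y hy => ⟨⟨y, hY hy⟩, hm y hy, rfl⟩) fun w hw => ?_
      obtain ⟨w', hw', e⟩ := hWn' m w hw
      exact ⟨⟨w, hWle hw⟩, ⟨⟨w', hWle hw'⟩, e⟩, rfl⟩
    obtain ⟨f, hf, hfx⟩ := hmap _ hYW m fun x hx => by
      obtain ⟨z, hz, e⟩ := hsup hx
      have e' : z = ⟨x, hYW hx⟩ := Subtype.ext e
      subst e'
      exact hz
    obtain ⟨-, -, g, hg, hgx, hgW⟩ := (isMap_normalizerSystem_iff hNsys).1 hf
    refine ⟨f, (hg.mono le_sup_left).congr hgx, ?_, fun x hx hxY => ?_⟩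
    · rw [← img_congr fun w hw => hgx w (mem_sup_right hw), hgW]
    · exact hfx x hxY
  refine ⟨⟨G, inferInstance, hfin, ι, hinj, Q, hQ.trans hrange.symm, hWle,
    fun Y g hY hgY hg hgW => ?_, hmapW, hWn', fun m hm => ?_⟩⟩
  · have hYW : Y ⊔ W ≤ normalizerIn S W := sup_le hY hWle
    have hgR : ∀ x ∈ Y ⊔ W, g x ∈ normalizerIn S W := fun x hx => by
      refine hg.img_sup_le le_sup_left le_sup_right ?_ (hgW.le.trans hWle) (hg.apply_mem_img hx)
      intro z hz
      obtain ⟨y, hy, rfl⟩ := (hg.mono le_sup_left).mem_img.1 hz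
      exact hgY y hy
    have hfN : IsMap N (Y ⊔ W) g := (isMap_normalizerSystem_iff hNsys).2
      ⟨hYW, hgR, g, by rwa [sup_assoc, sup_idem], fun _ _ => rfl, hgW⟩
    obtain ⟨g', hg', hg'x, hg'R⟩ := (isNormal_iff.1 hRn).2 _ _ hfN
    have hgN2 : IsMap (normalizerSys N _ hR) (Y ⊔ W) g :=
      (isMap_normalizerSystem_iff (isNormalizerSystem_normalizerSys N _ hR)).2
        ⟨hYW.trans heq.ge, fun x hx => heq.ge (hgR x hx), g', hg', hg'x, hg'R⟩
    obtain ⟨m, hm⟩ := realized_exists_elem hreal hgN2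
    refine ⟨m, fun x hx hgx hxY => ?_⟩
    rw [hι x hx (heq.ge hx), hι (g x) hgx (heq.ge hgx)]
    exact hm x hxY _ _
  · -- the centralizer of `W`
    let M : Subgroup G :=
      { carrier := {k | ∀ (w : Ω) (hw : w ∈ W), k * ι ⟨w, hWle hw⟩ = ι ⟨w, hWle hw⟩ * k}
        one_mem' := fun w hw => by simp
        mul_mem' := fun {a b} ha hb w hw => by rw [mul_assoc, hb w hw, ← mul_assoc, ha w hw, mul_assoc]
        inv_mem' := fun {a} ha w hw => by
          rw [inv_mul_eq_iff_eq_mul, ← mul_assoc, ha w hw, mul_inv_cancel_right] }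
    have hMn : M.Normal := ⟨fun d hd g w hw => by
      obtain ⟨w', hw', e⟩ := hWn' g⁻¹ w hw
      have h := hd w' hw'
      rw [e, inv_inv] at h
      calc g * d * g⁻¹ * ι ⟨w, hWle hw⟩
          = g * (d * (g⁻¹ * ι ⟨w, hWle hw⟩ * g)) * g⁻¹ := by group
        _ = g * (g⁻¹ * ι ⟨w, hWle hw⟩ * g * d) * g⁻¹ := by rw [h]
        _ = _ := by group⟩
    have hMp : IsPGroup p M := isPGroup_of_coprime_eq_one fun ⟨k, hk⟩ hco => by
      rw [Subgroup.orderOf_mk] at hco
      obtain ⟨g, hg, hgW, hgx⟩ := hmapW _ hR k (hRimg k)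
      have hle : (W ⊔ centralizerIn S W) ⊔ W = W ⊔ centralizerIn S W := sup_eq_left.2 le_sup_left
      rw [hle] at hg hgx
      haveI := finite_of_le hg.le
      have hgA : ∀ x ∈ (W ⊔ centralizerIn S W), g x ∈ (W ⊔ centralizerIn S W) := fun x hx => by
        obtain ⟨h1, h2⟩ := hgx x (hR hx) hx
        have h0 : (⟨x, heq.ge (hR hx)⟩ : normalizerIn (normalizerIn S W) (W ⊔ centralizerIn S W)) ∈ (W ⊔ centralizerIn S W).subgroupOf _ := hx
        obtain ⟨y, hy, e⟩ := hRG.conj_mem _ (Subgroup.mem_map_of_mem ι₀ h0) k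
        rw [← hι x (hR hx), ← h2, hι (g x) h1 (heq.ge h1)] at e
        have e' : (y : Ω) = g x := congrArg Subtype.val (hreal.1 e)
        exact e' ▸ (hy : (y : Ω) ∈ _)
      have hgi : img (W ⊔ centralizerIn S W) g = (W ⊔ centralizerIn S W) := eq_of_le_of_card_le (fun y hy => by
        obtain ⟨x, hx, rfl⟩ := hg.mem_img.1 hy
        exact hgA x hx) hg.card_img.ge
      have hpow : ∀ (i : ℕ) (x : Ω) (hx : x ∈ (W ⊔ centralizerIn S W)) (h : g^[i] x ∈ normalizerIn S W),
          ι ⟨g^[i] x, h⟩ = k ^ i * ι ⟨x, hR hx⟩ * (k ^ i)⁻¹ := by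
        intro i
        induction i with
        | zero => intro x hx h; simp
        | succ i ih =>
          intro x hx h
          have hin := iterate_mem hgA i hx
          obtain ⟨h1, h2⟩ := hgx _ (hR hin) hin
          simp only [Function.iterate_succ_apply'] at h ⊢
          rw [h2, ih x hx (hR hin), pow_succ']
          group
      have hcop : (orderOf (hg.toAut hgi)).Coprime p := by
        refine hco.coprime_dvd_left (orderOf_dvd_of_pow_eq_one (MulEquiv.ext fun x => Subtype.ext ?_))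
        rw [toAut_pow_coe hg hgi]
        have h := hpow (orderOf k) x x.2 (hR (iterate_mem hgA _ x.2))
        rw [pow_orderOf_eq_one] at h
        simpa using congrArg Subtype.val (hinj (h.trans (by simp : _ = ι ⟨x, hR x.2⟩)))
      have hone := rigid hc hW (W ⊔ centralizerIn S W) le_sup_left hR _ (hg.toAut_mem hgi) hcop fun x hx => Subtype.ext (by
        rw [IsMap.toAut_apply]
        obtain ⟨h1, h2⟩ := hgx x (hR x.2) x.2
        have e := hk x hx
        rw [mul_inv_eq_iff_eq_mul.2 e] at h2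
        exact congrArg Subtype.val (hinj h2))
      have hkR : k ∈ Subgroup.centralizer
          (((W ⊔ centralizerIn S W).subgroupOf (normalizerIn (normalizerIn S W) (W ⊔ centralizerIn S W))).map ι₀ : Set G) := by
        rintro _ ⟨⟨y, hy'⟩, hy, rfl⟩
        obtain ⟨h1, h2⟩ := hgx y (hR hy) hy
        have e : g y = y := by
          have h3 := IsMap.toAut_apply hg hgi ⟨y, hy⟩
          rw [hone, MulAut.one_apply] at h3
          exact h3.symm
        simp only [e] at h2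
        rw [hι y _ hy'] at h2
        exact eq_mul_inv_iff_mul_eq.1 h2
      obtain ⟨y, -, hy⟩ := hcent hkR
      obtain ⟨s, hs⟩ := Q.isPGroup' ⟨k, by rw [hQ]; exact ⟨y, hy⟩⟩
      have hs' : k ^ p ^ s = 1 := congrArg Subtype.val hs
      exact Subtype.ext (orderOf_eq_one_iff.1 (Nat.eq_one_of_dvd_coprimes (hco.pow_right s)
        dvd_rfl (orderOf_dvd_of_pow_eq_one hs')))
    have hmQ : m ∈ (Q : Subgroup G) := by
      haveI := hMn
      exact hMp.le_sylow_of_normal Q hm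
    rw [hQ, ← hrange] at hmQ
    obtain ⟨⟨c, hcN⟩, rfl⟩ := hmQ
    refine ⟨c, ⟨hcN.1, fun w hw => ?_⟩, rfl⟩
    have h := hm w hw
    rw [← map_mul, ← map_mul] at h
    exact (congrArg Subtype.val (hinj h)).symm

end

end CfsgLib.Comp.EBal
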