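import Cfsg.Agent.Lib.Comp.EBalSide

/-!
Working inside the model of a normalizer system: realised maps, stabilizers and their Sylow
subgroups.
-/

set_option autoImplicit false
set_option linter.unusedVariables false
set_option linter.unusedSectionVars false
set_option linter.style.haveILetI false

universe u

namespace CfsgLib.Comp.EBal

open Cfsg Cfsg.FusionSystem Subgroup CfsgLib.Fusion CfsgLib.Comp.Fus CfsgLib.Comp.CProd

variable {Ω : Type u} [Group Ω] {S T V W Y Z : Subgroup Ω} {F : FusionSystem S}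
  {E : FusionSystem T} {p : ℕ} {f g : Ω → Ω}

/-- A set normalizing `Y` maps it onto itself. -/
theorem mem_normalizer_of_conj_le [Finite Y] {a : Ω} (h : ∀ y ∈ Y, a * y * a⁻¹ ∈ Y) :
    a ∈ normalizer (Y : Set Ω) := by
  haveI : Finite (Y : Set Ω) := ‹Finite Y›
  exact Subgroup.mem_normalizer_fintype h

/-- A map carrying a finite subgroup into itself carries it onto itself. -/
theorem img_eq_of_mapsTo {P : Subgroup Ω} [Finite P] (hf : IsMap F P f) (h : ∀ x ∈ P, f x ∈ P) :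
    img P f = P :=
  eq_of_le_of_card_le (fun y hy => by
    obtain ⟨x, hx, rfl⟩ := hf.mem_img.1 hy
    exact h x hx) hf.card_img.ge

namespace WModel

variable (M : WModel F p V)

/-- The image in the model of a subgroup. -/
def isub (Y : Subgroup Ω) : Subgroup M.G := (Y.subgroupOf (normalizerIn S V)).map M.ι

theorem mem_isub {x : Ω} (hx : x ∈ normalizerIn S V) : M.ι ⟨x, hx⟩ ∈ M.isub Y ↔ x ∈ Y :=
  ⟨fun ⟨y, hy, e⟩ => by
    have e' : (y : Ω) = x := congrArg Subtype.val (M.inj e)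
    exact e' ▸ (hy : (y : Ω) ∈ Y), fun h => ⟨⟨x, hx⟩, h, rfl⟩⟩

theorem exists_of_mem_isub {z : M.G} (hz : z ∈ M.isub Y) :
    ∃ (x : Ω) (hx : x ∈ normalizerIn S V), x ∈ Y ∧ M.ι ⟨x, hx⟩ = z := by
  obtain ⟨⟨x, hx⟩, hy, rfl⟩ := hz
  exact ⟨x, hx, hy, rfl⟩

theorem isub_mono (h : Y ≤ Z) : M.isub Y ≤ M.isub Z :=
  Subgroup.map_mono fun x hx => h hx

theorem isub_le_range : M.isub Y ≤ M.ι.range := fun _ ⟨y, _, e⟩ => ⟨y, e⟩

/-- The stabilizer of `Y` in the model. -/
def stab (Y : Subgroup Ω) : Subgroup M.G := normalizer (M.isub Y : Set M.G)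

theorem ι_mem_stab_iff (hY : Y ≤ normalizerIn S V) {n : Ω} (hn : n ∈ normalizerIn S V) :
    M.ι ⟨n, hn⟩ ∈ M.stab Y ↔ n ∈ normalizer (Y : Set Ω) := by
  have hc : ∀ y (hy : y ∈ normalizerIn S V),
      M.ι ⟨n, hn⟩ * M.ι ⟨y, hy⟩ * (M.ι ⟨n, hn⟩)⁻¹ =
        M.ι ⟨n * y * n⁻¹, mul_mem (mul_mem hn hy) (Subgroup.inv_mem _ hn)⟩ := fun y hy => by
    rw [← map_inv, ← map_mul, ← map_mul]
    rfl
  constructor
  · intro h y
    constructor
    · intro hy
      have h1 := (h _).1 ((M.mem_isub (hY hy)).2 hy)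
      rwa [hc, SetLike.mem_coe, mem_isub] at h1
    · intro hy
      have hyN : y ∈ normalizerIn S V := by
        have := mul_mem (mul_mem (Subgroup.inv_mem _ hn) (hY hy)) hn
        rwa [show n⁻¹ * (n * y * n⁻¹) * n = y by group] at this
      refine (M.mem_isub hyN).1 ((h _).2 ?_)
      rw [hc y hyN]
      exact (M.mem_isub _).2 hy
  · intro h z
    constructor
    · intro hz
      obtain ⟨x, hx, hxY, rfl⟩ := M.exists_of_mem_isub hz
      rw [hc]
      exact (M.mem_isub _).2 ((h x).1 hxY)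
    · intro hz
      obtain ⟨x, hx, hxY, e⟩ := M.exists_of_mem_isub hz
      have hx' : n⁻¹ * x * n ∈ normalizerIn S V := mul_mem (mul_mem (Subgroup.inv_mem _ hn) hx) hn
      have e' : z = M.ι ⟨n⁻¹ * x * n, hx'⟩ := by
        rw [show (⟨n⁻¹ * x * n, hx'⟩ : normalizerIn S V) = ⟨n, hn⟩⁻¹ * ⟨x, hx⟩ * ⟨n, hn⟩ from rfl,
          map_mul, map_mul, map_inv, e]
        group
      rw [e', SetLike.mem_coe, mem_isub]
      exact (Subgroup.mem_normalizer_iff''.1 h x).1 hxY

theorem stab_self : M.stab V = ⊤ := by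
  refine eq_top_iff.2 fun m _ z => ⟨fun hz => ?_, fun hz => ?_⟩
  · obtain ⟨x, hx, hxV, rfl⟩ := M.exists_of_mem_isub hz
    obtain ⟨w, hw, e⟩ := M.wnormal m x hxV
    exact ⟨⟨w, M.le hw⟩, hw, e⟩
  · obtain ⟨x, hx, hxV, e⟩ := M.exists_of_mem_isub hz
    obtain ⟨w, hw, e'⟩ := M.wnormal m⁻¹ x hxV
    refine ⟨⟨w, M.le hw⟩, hw, ?_⟩
    rw [e', e]
    group

/-- `m` induces `g` on `Y`. -/
def Real (Y : Subgroup Ω) (g : Ω → Ω) (m : M.G) : Prop :=
  ∀ x ∈ Y, ∃ (hx : x ∈ normalizerIn S V) (hgx : g x ∈ normalizerIn S V),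
    M.ι ⟨g x, hgx⟩ = m * M.ι ⟨x, hx⟩ * m⁻¹

variable {M} {m m' : M.G}

theorem Real.le (h : M.Real Y g m) : Y ≤ normalizerIn S V := fun x hx => (h x hx).1

theorem Real.mem (h : M.Real Y g m) {x : Ω} (hx : x ∈ Y) : g x ∈ normalizerIn S V :=
  (h x hx).2.1

theorem Real.eq (h : M.Real Y g m) {x : Ω} (hx : x ∈ Y) :
    M.ι ⟨g x, h.mem hx⟩ = m * M.ι ⟨x, h.le hx⟩ * m⁻¹ := (h x hx).2.2

theorem Real.mono (h : M.Real Y g m) (hZ : Z ≤ Y) : M.Real Z g m := fun x hx => h x (hZ hx)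

theorem Real.congr (h : M.Real Y g m) (hfg : ∀ x ∈ Y, g x = f x) : M.Real Y f m := fun x hx => by
  obtain ⟨h1, h2, h3⟩ := h x hx
  have e : (⟨f x, hfg x hx ▸ h2⟩ : normalizerIn S V) = ⟨g x, h2⟩ := Subtype.ext (hfg x hx).symm
  exact ⟨h1, hfg x hx ▸ h2, e ▸ h3⟩

theorem Real.unique (h : M.Real Y g m) (h' : M.Real Y f m) {x : Ω} (hx : x ∈ Y) : g x = f x :=
  congrArg Subtype.val (M.inj ((h.eq hx).trans (h'.eq hx).symm))

theorem real_one (hY : Y ≤ normalizerIn S V) : M.Real Y id 1 := fun x hx =>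
  ⟨hY hx, hY hx, by simp⟩

theorem real_conj (hY : Y ≤ normalizerIn S V) {n : Ω} (hn : n ∈ normalizerIn S V) :
    M.Real Y (fun x => n * x * n⁻¹) (M.ι ⟨n, hn⟩) := fun x hx =>
  ⟨hY hx, mul_mem (mul_mem hn (hY hx)) (Subgroup.inv_mem _ hn), by
    rw [← map_inv, ← map_mul, ← map_mul]; rfl⟩

theorem Real.comp (hg : M.Real Y g m) (hf : M.Real Z f m') (hmem : ∀ x ∈ Y, g x ∈ Z) :
    M.Real Y (fun x => f (g x)) (m' * m) := fun x hx =>
  ⟨hg.le hx, hf.mem (hmem x hx), by rw [hf.eq (hmem x hx), hg.eq hx]; group⟩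

theorem Real.iterate (h : M.Real Y g m) (hst : ∀ x ∈ Y, g x ∈ Y) :
    ∀ i : ℕ, M.Real Y (g^[i]) (m ^ i)
  | 0 => by simpa using real_one (M := M) h.le
  | i + 1 => by
    have h' := (Real.iterate h hst i).comp h fun x hx => iterate_mem hst i hx
    rw [← pow_succ'] at h'
    exact h'.congr fun x _ => (Function.iterate_succ_apply' g i x).symm

theorem Real.mem_stab [Finite S] (h : M.Real Y g m) (hst : ∀ x ∈ Y, g x ∈ Y) : m ∈ M.stab Y := by
  refine mem_normalizer_of_conj_le fun z hz => ?_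
  obtain ⟨x, hx, hxY, rfl⟩ := M.exists_of_mem_isub hz
  rw [← h.eq hxY]
  exact (M.mem_isub _).2 (hst x hxY)

theorem exists_map_of_stab [Finite S] (hY : Y ≤ normalizerIn S V) (hm : m ∈ M.stab Y) :
    ∃ g, IsMap F (Y ⊔ V) g ∧ M.Real (Y ⊔ V) g m ∧ img V g = V ∧ ∀ x ∈ Y, g x ∈ Y := by
  have hm' : ∀ (x : Ω) (hx : x ∈ Y), m * M.ι ⟨x, hY hx⟩ * m⁻¹ ∈ M.isub Y := fun x hx =>
    (hm _).1 ((M.mem_isub (hY hx)).2 hx)
  obtain ⟨g, hg, hgV, hgx⟩ := M.map Y hY m fun x hx => M.isub_le_range (hm' x hx)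
  refine ⟨g, hg, fun x hx => ?_, hgV, fun x hx => ?_⟩
  · have hxN : x ∈ normalizerIn S V := (sup_le hY M.le) hx
    obtain ⟨h1, h2⟩ := hgx x hxN hx
    exact ⟨hxN, h1, h2⟩
  · obtain ⟨h1, h2⟩ := hgx x (hY hx) (mem_sup_left hx)
    exact (M.mem_isub h1).1 (h2 ▸ hm' x hx)

theorem exists_real (hY : Y ≤ normalizerIn S V) (hVY : V ≤ Y) (hg : IsMap F Y g)
    (hgN : ∀ x ∈ Y, g x ∈ normalizerIn S V) (hgV : img V g = V) : ∃ m : M.G, M.Real Y g m := by
  have e : Y ⊔ V = Y := sup_eq_left.2 hVY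
  obtain ⟨m, hm⟩ := M.elem Y g hY hgN (by rwa [e]) hgV
  exact ⟨m, fun x hx => ⟨hY hx, hgN x hx, hm x (hY hx) (hgN x hx) (e.symm ▸ hx)⟩⟩

/-- An element inducing the identity on `Y` comes from a centralizer. -/
theorem Real.exists_centralizer (h : M.Real Y id m) (hVY : V ≤ Y) :
    ∃ (c : Ω) (hc : c ∈ normalizerIn S V), c ∈ centralizerIn S Y ∧ M.ι ⟨c, hc⟩ = m := by
  obtain ⟨c, hcC, hcm⟩ := M.cent m fun w hw => by
    have h1 := h.eq (hVY hw)
    exact (eq_mul_inv_iff_mul_eq.1 h1).symm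
  refine ⟨c, centralizerIn_le_normalizerIn hcC, ⟨hcC.1, fun y hy => ?_⟩, hcm⟩
  have h1 : M.ι ⟨y, h.le hy⟩ * m = m * M.ι ⟨y, h.le hy⟩ := eq_mul_inv_iff_mul_eq.1 (h.eq hy)
  subst hcm
  rw [← map_mul, ← map_mul] at h1
  exact congrArg Subtype.val (M.inj h1)

/-- An element inducing an automorphism of order prime to `p` has a power of such order doing the
same. -/
theorem Real.exists_coprime [Fact p.Prime] (h : M.Real Y g m) (hst : ∀ x ∈ Y, g x ∈ Y) {n : ℕ}
    (hn : n.Coprime p) (hper : ∀ x ∈ Y, g^[n] x = x) :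
    ∃ j : ℕ, (orderOf (m ^ j)).Coprime p ∧ M.Real Y g (m ^ j) := by
  obtain ⟨i, j, hij, ⟨k, hk⟩, hj⟩ := exists_powers_pPart (p := p) m
  refine ⟨j, hj, (h.iterate hst j).congr fun x hx => ?_⟩
  have hi : ∀ y ∈ Y, g^[i] y = y := fun y hy => by
    have hpk : ∀ z ∈ Y, (g^[i])^[p ^ k] z = z := fun z hz => by
      rw [← Function.iterate_mul]
      have h1 := h.iterate hst (i * p ^ k)
      rw [pow_mul m, show (m ^ i) ^ p ^ k = 1 by rw [← hk, pow_orderOf_eq_one]] at h1
      exact h1.unique (real_one h.le) hz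
    have hn' : ∀ z ∈ Y, (g^[i])^[n] z = z := fun z hz => by
      rw [← Function.iterate_mul, mul_comm, Function.iterate_mul]
      exact Function.iterate_fixed (hper z hz) i
    obtain ⟨a, ha0, ha1⟩ := Nat.chineseRemainder (hn.pow_right k) 0 1
    obtain ⟨q, rfl⟩ := Nat.modEq_zero_iff_dvd.1 ha0
    rcases Nat.lt_or_ge (p ^ k) 2 with h2 | h2
    · have h3 : p ^ k = 1 := by
        have := pow_pos (Fact.out : p.Prime).pos k
        omega
      simpa [h3] using hpk y hy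
    · have hmod : (n * q) % p ^ k = 1 := by rw [ha1, Nat.mod_eq_of_lt h2]
      have e : n * q = p ^ k * (n * q / p ^ k) + 1 := by rw [← hmod, Nat.div_add_mod]
      have h4 : (g^[i])^[n * q] y = y := by
        rw [Function.iterate_mul]
        exact Function.iterate_fixed (hn' y hy) q
      rw [e, Function.iterate_succ_apply, Function.iterate_mul] at h4
      have hy' : g^[i] y ∈ Y := iterate_mem hst i hy
      rw [Function.iterate_fixed (hpk _ hy')] at h4
      exact h4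
  have h1 := (h.iterate hst (i + j))
  rw [pow_add, hij] at h1
  rw [h.unique h1 hx, Function.iterate_add_apply, hi _ (iterate_mem hst j hx)]

theorem Real.coprime_toAut (h : M.Real Y g m) (hg : IsMap F Y g) (hi : img Y g = Y)
    (hm : (orderOf m).Coprime p) [Finite Y] : (orderOf (hg.toAut hi)).Coprime p := by
  refine hm.coprime_dvd_left (orderOf_dvd_of_pow_eq_one (MulEquiv.ext fun x => Subtype.ext ?_))
  rw [toAut_pow_coe hg hi]
  have h1 := h.iterate (fun y hy => hi.le (hg.apply_mem_img hy)) (orderOf m)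
  rw [pow_orderOf_eq_one] at h1
  exact h1.unique (real_one h.le) x.2

end WModel

section

variable [Fact p.Prime] [Finite S]

/-- The elements of `N_S(V)` in a stabilizer form a Sylow subgroup of it. -/
theorem exists_sylow_stab (hS : IsPGroup p S) (hF : F.IsSaturated p) (M : WModel F p V)
    {R : Subgroup Ω} (hVW : V ≤ W) (hWR : W ≤ R) (hRW : R ≤ normalizerIn S W)
    (hR : R ≤ normalizerIn S V) (hWn : F.IsFullyNormalized W)
    (hNV : normalizerIn S W ≤ normalizerIn S V)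
    (hRn : (normalizerSys F W hWn.1).IsFullyNormalized R) :
    ∃ Q : Sylow p ↥(M.stab W ⊓ M.stab R),
      (Q : Subgroup ↥(M.stab W ⊓ M.stab R)) = M.ι.range.subgroupOf _ := by
  set L := M.stab W ⊓ M.stab R with hL
  have hWN : W ≤ normalizerIn S V := hWR.trans hR
  have hP : IsPGroup p M.ι.range := M.range_eq ▸ M.P.isPGroup'
  obtain ⟨Q, hQ⟩ :=
    (hP.comap_of_injective L.subtype L.subtype_injective).exists_le_sylow
  refine ⟨Q, le_antisymm ?_ hQ⟩
  set Q' : Subgroup M.G := (Q : Subgroup L).map L.subtype with hQ'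
  obtain ⟨Q₁, hQ₁⟩ := (Q.isPGroup'.map L.subtype : IsPGroup p Q').exists_le_sylow
  obtain ⟨g, hg⟩ := MulAction.exists_smul_eq M.G Q₁ M.P
  have hconj : ∀ z ∈ Q', g * z * g⁻¹ ∈ M.ι.range := fun z hz => by
    rw [← M.range_eq, ← hg, Sylow.coe_subgroup_smul]
    exact ⟨z, hQ₁ hz, rfl⟩
  have hRQ : ∀ (x : Ω) (hx : x ∈ R), M.ι ⟨x, hR hx⟩ ∈ Q' := fun x hx => by
    have h1 : M.ι ⟨x, hR hx⟩ ∈ L :=
      ⟨(M.ι_mem_stab_iff hWN _).2 (hRW hx).2, (M.ι_mem_stab_iff hR _).2 (R.le_normalizer hx)⟩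
    exact ⟨⟨_, h1⟩, hQ (Subgroup.mem_subgroupOf.2 ⟨_, rfl⟩), rfl⟩
  obtain ⟨f, hf, hfV, hfx⟩ := M.map R hR g fun x hx => hconj _ (hRQ x hx)
  rw [sup_eq_left.2 (hVW.trans hWR)] at hf hfx
  have hfW := hf.mono hWR
  obtain ⟨φ, hφ, hφi, hφN⟩ := exists_map_normalizerIn_of_fullyNormalized hS hF hWn
    (isConj_symm hfW.isConj)
  set W'' := img W f with hW''
  set R'' := img R f with hR''
  have hR''N : R'' ≤ normalizerIn S W'' := fun y hy => by
    obtain ⟨x, hx, rfl⟩ := hf.mem_img.1 hy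
    exact hf.apply_mem_normalizerIn hWR hx (hRW hx).2
  set U := normalizerIn (normalizerIn S W'') R'' with hU
  have hUle : U ≤ normalizerIn S W'' := inf_le_left
  have hcardQ : Nat.card Q' ≤ Nat.card U := by
    haveI : Finite U := finite_of_le (hUle.trans inf_le_left)
    have key : ∀ z ∈ Q', ∃ u : U, ∃ h : (u : Ω) ∈ normalizerIn S V,
        M.ι ⟨u, h⟩ = g * z * g⁻¹ := by
      intro z hz
      obtain ⟨⟨u, hu⟩, e⟩ := hconj z hz
      obtain ⟨l, hl, rfl⟩ := hz
      have hst : ∀ {Y : Subgroup Ω}, Y ≤ R → (l : M.G) ∈ M.stab Y →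
          ∀ y ∈ img Y f, u * y * u⁻¹ ∈ img Y f := by
        intro Y hY hlY y hy
        obtain ⟨x, hx, rfl⟩ := (hf.mono hY).mem_img.1 hy
        obtain ⟨x', hx', hx'Y, e'⟩ := M.exists_of_mem_isub
          ((hlY _).1 ((M.mem_isub (hR (hY hx))).2 hx))
        obtain ⟨h1, h2⟩ := hfx x (hR (hY hx)) (hY hx)
        obtain ⟨h3, h4⟩ := hfx x' hx' (hY hx'Y)
        have e2 : M.ι ⟨u * f x * u⁻¹, mul_mem (mul_mem hu h1) (Subgroup.inv_mem _ hu)⟩ =
            M.ι ⟨f x', h3⟩ := by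
          rw [show (⟨u * f x * u⁻¹, mul_mem (mul_mem hu h1) (Subgroup.inv_mem _ hu)⟩ :
              normalizerIn S V) = ⟨u, hu⟩ * ⟨f x, h1⟩ * ⟨u, hu⟩⁻¹ from rfl, map_mul, map_mul,
            map_inv, e, h2, h4, e']
          simp only [Subgroup.coe_subtype]
          group
        rw [show u * f x * u⁻¹ = f x' from congrArg Subtype.val (M.inj e2)]
        exact (hf.mono hY).apply_mem_img hx'Y
      haveI : Finite (img W f) := finite_of_le hfW.img_le
      haveI : Finite (img R f) := finite_of_le hf.img_le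
      exact ⟨⟨u, ⟨hu.1, mem_normalizer_of_conj_le (hst hWR l.2.1)⟩,
        mem_normalizer_of_conj_le (hst le_rfl l.2.2)⟩, hu, e⟩
    choose u hu1 hu2 using key
    refine Nat.card_le_card_of_injective (fun z : Q' => u z z.2) fun a b hab => Subtype.ext ?_
    have h1 := hu2 a a.2
    simp only [show u a a.2 = u b b.2 from hab] at h1
    exact mul_left_cancel (mul_right_cancel (h1.symm.trans (hu2 b b.2)))
  -- move back to `N_S(W)`
  have hNsys := isNormalizerSystem_normalizerSys F W hWn.1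
  have hcomp : IsMap F R (fun x => φ (f x)) :=
    hf.comp hφ fun x hx => hR''N (hf.apply_mem_img hx)
  have hcW : img W (fun x => φ (f x)) = W := by
    rw [img_comp_eq hfW (hφ.mono (le_normalizerIn hfW.img_le)) fun x hx => hfW.apply_mem_img hx]
    exact hφi
  have hcN : IsMap (normalizerSys F W hWn.1) R (fun x => φ (f x)) :=
    (isMap_normalizerSystem_iff hNsys).2 ⟨hRW,
      fun x hx => hφN _ (hR''N (hf.apply_mem_img hx)), _,
      (sup_eq_left.2 hWR).symm ▸ hcomp, fun _ _ => rfl, hcW⟩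
  have hc : img R (fun x => φ (f x)) = img R'' φ :=
    img_comp_eq hf hφ fun x hx => hR''N (hf.apply_mem_img hx)
  have hUN : img U φ ≤ normalizerIn (normalizerIn S W) (img R'' φ) := by
    intro y hy
    obtain ⟨a, ha, rfl⟩ := (hφ.mono hUle).mem_img.1 hy
    exact ⟨hφN a (hUle ha), (hφ.apply_mem_normalizerIn hR''N (hUle ha) ha.2).2⟩
  have h1 : Nat.card U ≤ Nat.card (normalizerIn (normalizerIn S W) R) := by
    haveI : Finite (normalizerIn (normalizerIn S W) (img R'' φ)) :=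
      finite_of_le (inf_le_left.trans inf_le_left)
    rw [← (hφ.mono hUle).card_img]
    exact (Subgroup.card_le_of_le hUN).trans (hRn.2 _ (hc ▸ hcN.isConj))
  -- compare
  set NR := normalizerIn (normalizerIn S W) R with hNR
  have hNRle : NR ≤ normalizerIn S V := inf_le_left.trans hNV
  have h2 : Nat.card NR ≤ Nat.card (M.ι.range.subgroupOf L) := by
    refine Nat.card_le_card_of_injective
      (fun a => ⟨⟨M.ι ⟨a, hNRle a.2⟩, (M.ι_mem_stab_iff hWN _).2 a.2.1.2,
        (M.ι_mem_stab_iff hR _).2 a.2.2⟩, ⟨_, rfl⟩⟩) fun a b hab => Subtype.ext ?_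
    have h0 := M.inj (congrArg (fun z : M.ι.range.subgroupOf L => ((z : L) : M.G)) hab)
    exact congrArg (fun z : normalizerIn S V => (z : Ω)) h0
  have h3 : Nat.card (Q : Subgroup L) ≤ Nat.card (M.ι.range.subgroupOf L) := by
    have e := Subgroup.card_map_of_injective (K := (Q : Subgroup L)) L.subtype_injective
    rw [← e]
    exact (hcardQ.trans h1).trans h2
  exact (eq_of_le_of_card_le hQ h3).ge

/-- A group with a Sylow subgroup is generated by it and the elements of order prime to `p`. -/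
theorem closure_coprime_sylow {G : Type*} [Group G] [Finite G] (Q : Sylow p G) {L : Subgroup G}
    (hQ : (Q : Subgroup G) ≤ L) (hL : ∀ a : G, (orderOf a).Coprime p → a ∈ L) : L = ⊤ := by
  let K : Subgroup G := Subgroup.closure {a : G | (orderOf a).Coprime p}
  haveI : K.Normal := ⟨fun n hn g => by
    have : K ≤ K.comap (MulAut.conj g).toMonoidHom := (Subgroup.closure_le _).2 fun a ha =>
      Subgroup.subset_closure (show (orderOf (MulAut.conj g a)).Coprime p by
        rwa [MulEquiv.orderOf_eq])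
    exact this hn⟩
  have hKL : K ≤ L := (Subgroup.closure_le _).2 fun a ha => hL a ha
  have hp : IsPGroup p (G ⧸ K) := by
    intro x
    induction x using QuotientGroup.induction_on with
    | _ a =>
      obtain ⟨i, j, hij, ⟨k, hk⟩, hj⟩ := exists_powers_pPart (p := p) a
      refine ⟨k, ?_⟩
      rw [← hij, QuotientGroup.mk_mul,
        (QuotientGroup.eq_one_iff (a ^ j)).2 (Subgroup.subset_closure hj), mul_one,
        ← QuotientGroup.mk_pow, ← hk, pow_orderOf_eq_one, QuotientGroup.mk_one]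
  obtain ⟨k, hk⟩ := hp.exists_card_eq
  have h1 : L.index ∣ p ^ k := by
    rw [← hk, ← Subgroup.index_eq_card]
    exact Subgroup.index_dvd_of_le hKL
  have h2 : ¬ p ∣ L.index := fun h => Q.not_dvd_index (h.trans (Subgroup.index_dvd_of_le hQ))
  obtain ⟨i, -, hi⟩ := (Nat.dvd_prime_pow Fact.out).1 h1
  rcases Nat.eq_zero_or_pos i with rfl | hi0
  · exact Subgroup.index_eq_one.1 (by simpa using hi)
  · exact absurd (hi ▸ dvd_pow_self p hi0.ne') h2

/-- The automorphism agreeing with the subsystem on a centric subgroup lies in it. -/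
theorem agree_mem (hc : Ctx F E p) (hV : E.IsCentric V) {L : Subgroup Ω} (hVL : V ≤ L)
    (hLN : L ≤ normalizerIn T V) {β : MulAut L} (hβ : β ∈ F.autGroup L)
    (hcop : (orderOf β).Coprime p) (hβV : ∀ x ∈ V, autFun β x ∈ V)
    (hE : IsMap E V (autFun β)) : IsMap E L (autFun β) := by
  have hS := hc.pS
  obtain ⟨⟨hEsat, hF, hinv⟩, -⟩ := id hc.normal
  have hLT : L ≤ T := hLN.trans inf_le_left
  have hTS := hc.le
  haveI := finite_of_le hTS
  haveI := finite_of_le (hLT.trans hTS)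
  haveI := finite_of_le (hV.1.trans hTS)
  haveI : Finite (MulAut L) := Finite.of_injective _ MulEquiv.toEquiv_injective
  have hgβ := isMap_autFun (hLT.trans hTS) hβ
  have hTp : IsPGroup p T := hS.to_le hTS
  have hrec := receptive_of_fullyCentralized hTp hEsat (centric_fullyCentralized hV)
  obtain ⟨e, he, hex⟩ := receptive_extend hrec hE (img_eq_of_mapsTo hE hβV) hVL fun a ha =>
    ⟨hLT ha, (hLN ha).2, _, hLT (autFun_mem β ha), fun x hx => hgβ.map_conj ha (hVL hx)⟩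
  have hCV : centralizerIn T V ≤ V := hV.2 V (isConj_refl hV.1)
  have hdiff : ∀ l ∈ L, (autFun β l)⁻¹ * e l ∈ V := fun l hl => by
    refine hCV ⟨T.mul_mem (T.inv_mem (hLT (autFun_mem β hl))) (he.mem hl), fun v hv => ?_⟩
    obtain ⟨x, hx, rfl⟩ := hE.mem_img.1 ((img_eq_of_mapsTo hE hβV).ge hv)
    have hlx : l * x * l⁻¹ ∈ V := ((hLN hl).2 x).1 hx
    have h1 := he.map_conj hl (hVL hx)
    rw [hex _ hlx, hex x hx, hgβ.map_conj hl (hVL hx)] at h1
    calc autFun β x * ((autFun β l)⁻¹ * e l)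
        = (autFun β l)⁻¹ * (autFun β l * autFun β x * (autFun β l)⁻¹) * e l := by group
      _ = (autFun β l)⁻¹ * (e l * autFun β x * (e l)⁻¹) * e l := by rw [h1]
      _ = _ := by group
  have heL : ∀ l ∈ L, e l ∈ L := fun l hl => by
    have := L.mul_mem (autFun_mem β hl) (hVL (hdiff l hl))
    rwa [mul_inv_cancel_left] at this
  have hi := img_eq_of_mapsTo he heL
  set a := he.toAut hi with hadef
  have haE : a ∈ E.autGroup L := he.toAut_mem hi
  have hsub : ∀ γ ∈ E.autGroup L, γ ∈ F.autGroup L := fun γ hγ =>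
    (autGroup_mem_iff (hLT.trans hTS)).2 (hinv.1 L ((autGroup_mem_iff hLT).1 hγ))
  set δ := β⁻¹ * a with hδ
  have hδV : ∀ x : L, (x : Ω) ∈ V → δ x = x := fun x hx => by
    have e1 : a x = β x := Subtype.ext (by
      rw [hadef, IsMap.toAut_apply, hex x hx, autFun_apply β x.2])
    rw [hδ, MulAut.mul_apply, e1, MulAut.inv_apply_self]
  have hδm : ∀ x : L, ((x⁻¹ * δ x : L) : Ω) ∈ V := fun x => by
    set w := (β x)⁻¹ * a x with hw
    have hwV : (w : Ω) ∈ V := by
      have h1 := hdiff x x.2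
      rw [autFun_apply β x.2] at h1
      rw [hw, Subgroup.coe_mul, Subgroup.coe_inv, hadef, IsMap.toAut_apply]
      exact h1
    obtain ⟨y, hy, e1⟩ := hE.mem_img.1 ((img_eq_of_mapsTo hE hβV).ge hwV)
    have e2 : β⁻¹ w = ⟨y, hVL hy⟩ := by
      rw [show w = β ⟨y, hVL hy⟩ from Subtype.ext (e1.symm.trans (autFun_apply β (hVL hy))),
        MulAut.inv_apply_self]
    have e3 : x⁻¹ * δ x = ⟨y, hVL hy⟩ := by
      rw [← e2, hw, map_mul, map_inv, MulAut.inv_apply_self, hδ, MulAut.mul_apply]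
    rw [e3]
    exact hy
  obtain ⟨s, hs⟩ := (hS.to_le (hLT.trans hTS)).exists_card_eq
  have hδp : δ ^ p ^ s = 1 := MulEquiv.ext fun x => by
    rw [pow_apply_of_fixed (by simp : δ x = x * (x⁻¹ * δ x)) (hδV _ (hδm x)), ← hs,
      pow_card_eq_one', mul_one, MulAut.one_apply]
  let N : Subgroup (F.autGroup L) := (E.autGroup L).subgroupOf (F.autGroup L)
  haveI : N.Normal := ⟨fun d hd b => autGroup_conj_mem hinv hLT b.2 hd⟩
  have hmem : (⟨β, hβ⟩ : F.autGroup L) ∈ N := by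
    have hδF : δ⁻¹ ∈ F.autGroup L := inv_mem (mul_mem (inv_mem hβ) (hsub a haE))
    refine mem_of_mul_pElement N (h := ⟨a, hsub a haE⟩) (c := ⟨δ⁻¹, hδF⟩)
      (by rwa [Subgroup.orderOf_mk]) haE (k := s) (Subtype.ext ?_) (Subtype.ext ?_)
    · push_cast
      rw [inv_pow, hδp, inv_one]
    · push_cast
      rw [hδ]
      group
  exact isMap_autFun hLT hmem

end

end CfsgLib.Comp.EBal
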