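import Cfsg.Agent.Lib.Comp.EBalBasic
import Cfsg.Agent.Lib.Fusion.NormalCriteria

/-!
Subgroups whose conjugates contain their centralizers in the subgroup of the generalized Fitting
subsystem: their centralizer systems are nilpotent.
-/

set_option autoImplicit false
set_option linter.unusedVariables false
set_option linter.unusedSectionVars false
set_option linter.style.haveILetI false

universe u

namespace CfsgLib.Comp.EBal

open Cfsg Cfsg.FusionSystem Subgroup CfsgLib.Fusion CfsgLib.Comp.Fus CfsgLib.Comp.CProd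

variable {Ω : Type u} [Group Ω] {S T W P R : Subgroup Ω} {F : FusionSystem S}
  {E : FusionSystem T} {p : ℕ}

/-- Every conjugate of `W` contains its centralizer in `T`. -/
def InC (F : FusionSystem S) (T W : Subgroup Ω) : Prop :=
  W ≤ S ∧ ∀ W', F.IsConj W W' → centralizerIn T W' ≤ W'

theorem InC.self_le (h : InC F T W) : centralizerIn T W ≤ W := h.2 W (isConj_refl h.1)

theorem InC.conj (h : InC F T W) (hP : F.IsConj W P) : InC F T P :=
  ⟨isConj_le_right hP, fun R hR => h.2 R (isConj_trans hP hR)⟩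

theorem InC.mono (h : InC F T W) (hWP : W ≤ P) (hP : P ≤ S) : InC F T P := by
  refine ⟨hP, fun R hR => ?_⟩
  obtain ⟨f, hf, rfl⟩ := isConj_iff.1 hR
  exact (inf_le_inf_left T (Subgroup.centralizer_le (img_mono hWP))).trans
    ((h.2 _ (hf.mono hWP).isConj).trans (img_mono hWP))

/-- If every element of order prime to `p` is trivial, the group is a `p`-group. -/
theorem isPGroup_of_coprime_eq_one [Fact p.Prime] {G : Type*} [Group G] [Finite G]
    (h : ∀ a : G, (orderOf a).Coprime p → a = 1) : IsPGroup p G := by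
  intro a
  obtain ⟨i, j, hij, ⟨k, hk⟩, hj⟩ := exists_powers_pPart (p := p) a
  rw [h _ hj, mul_one] at hij
  refine ⟨k, ?_⟩
  rw [← hij, ← hk, pow_orderOf_eq_one]

section

variable [Fact p.Prime] [Finite S]

/-- A `p`-power and coprime element is trivial. -/
theorem eq_one_of_pow_eq_one (hS : IsPGroup p S) {z : Ω} (hz : z ∈ S) {n : ℕ} (hn : n.Coprime p)
    (h : z ^ n = 1) : z = 1 := by
  obtain ⟨k, hk⟩ := hS ⟨z, hz⟩
  have hk' : z ^ p ^ k = 1 := congrArg Subtype.val hk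
  exact orderOf_eq_one_iff.1 (Nat.eq_one_of_dvd_coprimes (hn.pow_right k)
    (orderOf_dvd_of_pow_eq_one h) (orderOf_dvd_of_pow_eq_one hk'))

theorem inC_self (hc : Ctx F E p) : InC F T T := by
  haveI := finite_of_le hc.le
  refine ⟨hc.le, fun R hR => ?_⟩
  obtain ⟨f, hf, rfl⟩ := isConj_iff.1 hR
  rw [StronglyClosed.img_eq hc.closed hf le_rfl]
  exact inf_le_left

/-- A centric subgroup of the centralizer system, with `W`, is centric. -/
theorem centric_sup (hS : IsPGroup p S) (hF : F.IsSaturated p) (hW : F.IsFullyCentralized W)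
    (hR : (centralizerSys F W hW.1).IsCentric R) : F.IsCentric (R ⊔ W) := by
  have hD := isCentralizerSystem_centralizerSys F W hW.1
  have hRC : R ≤ centralizerIn S W := hR.1
  refine ⟨sup_le (hRC.trans inf_le_left) hW.1, fun X' hX' => ?_⟩
  obtain ⟨f, hf, rfl⟩ := isConj_iff.1 hX'
  have hfW := hf.mono (le_sup_right : W ≤ R ⊔ W)
  obtain ⟨k, hk, hkx, hky, hki⟩ := hfW.exists_inv
  obtain ⟨h, hh, hhx⟩ :=
    receptive_extend_centralizer (receptive_of_fullyCentralized hS hF hW) hk hki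
  have hhW : img (img W f) h = W := (img_congr hhx).trans hki
  have hdom : img (R ⊔ W) f ≤ img W f ⊔ centralizerIn S (img W f) := by
    refine hf.img_sup_le le_sup_left le_sup_right ?_ le_sup_left
    intro y hy
    obtain ⟨r, hr, rfl⟩ := (hf.mono le_sup_left).mem_img.1 hy
    exact mem_sup_right (hf.apply_mem_centralizerIn le_sup_right (mem_sup_left hr) (hRC hr).2)
  have hcomp : IsMap F (R ⊔ W) (fun x => h (f x)) :=
    hf.comp hh fun x hx => hdom (hf.apply_mem_img hx)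
  have hfix : ∀ w ∈ W, h (f w) = w := fun w hw => by
    rw [hhx _ (hfW.apply_mem_img hw), hkx w hw]
  have hin : ∀ r ∈ R, h (f r) ∈ centralizerIn S W := fun r hr => by
    have h1 := hcomp.apply_mem_centralizerIn le_sup_right (mem_sup_left hr) (hRC hr).2
    have e : img W (fun x => h (f x)) = W := by
      rw [img_congr (g := id) hfix]; simp [img]
    rwa [e] at h1
  have hDm : IsMap (centralizerSys F W hW.1) R fun x => h (f x) :=
    (isMap_centralizerSystem_iff hD).2 ⟨hRC, hin, _, hcomp, fun _ _ => rfl, hfix⟩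
  intro c hc
  have hcC : c ∈ centralizerIn S (img W f) :=
    ⟨hc.1, Subgroup.centralizer_le (img_mono le_sup_right) hc.2⟩
  have hc1 : h c ∈ centralizerIn S W := by
    have h1 := hh.apply_mem_centralizerIn le_sup_left (mem_sup_right hcC) hcC.2
    rwa [hhW] at h1
  have hc2 : h c ∈ img R fun x => h (f x) := by
    refine hR.2 _ hDm.isConj ⟨hc1, fun y hy => ?_⟩
    obtain ⟨r, hr, rfl⟩ := hDm.mem_img.1 hy
    have hfr := hf.apply_mem_img (mem_sup_left hr : r ∈ R ⊔ W)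
    rw [← hh.map_mul (hdom hfr) (mem_sup_right hcC), ← hh.map_mul (mem_sup_right hcC) (hdom hfr)]
    congr 1
    exact hc.2 _ hfr
  obtain ⟨r, hr, e⟩ := hDm.mem_img.1 hc2
  have hfr := hf.apply_mem_img (mem_sup_left hr : r ∈ R ⊔ W)
  exact hh.inj (hdom hfr) (mem_sup_right hcC) e ▸ hfr

/-- The statement: automorphisms of order prime to `p` fixing `W` are trivial on the subgroups of
`N_S(W)` over `W`. -/
def Rigid (F : FusionSystem S) (p : ℕ) (W : Subgroup Ω) : Prop :=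
  ∀ P : Subgroup Ω, W ≤ P → P ≤ normalizerIn S W → ∀ β ∈ F.autGroup P, (orderOf β).Coprime p →
    (∀ x : P, (x : Ω) ∈ W → β x = x) → β = 1

variable (hc : Ctx F E p)

include hc

theorem rigid_of_le (hTW : T ≤ W) : Rigid F p W := by
  intro P hWP hPN β hβ hcop hfix
  have hPS : P ≤ S := hPN.trans inf_le_left
  haveI := finite_of_le hPS
  have hTP : T ≤ P := hTW.trans hWP
  have hg := isMap_autFun hPS hβ
  set P' := P ⊓ centralizerIn S T with hP'
  have hgT : ∀ t ∈ T, autFun β t = t := fun t ht => by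
    rw [autFun_apply β (hTP ht), hfix ⟨t, hTP ht⟩ (hTW ht)]
  have hTi : img T (autFun β) = T := by
    rw [img_congr (g := id) hgT]; simp [img]
  have hst : ∀ x ∈ P', autFun β x ∈ P' := fun x hx => by
    refine ⟨autFun_mem β hx.1, ?_⟩
    have h1 := hg.apply_mem_centralizerIn hTP hx.1 hx.2.2
    rwa [hTi] at h1
  have hgP' : IsMap F P' (autFun β) := hg.mono inf_le_left
  haveI := finite_of_le hgP'.le
  have hi : img P' (autFun β) = P' := eq_of_le_of_card_le (fun y hy => by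
    obtain ⟨x, hx, rfl⟩ := hgP'.mem_img.1 hy
    exact hst x hx) hgP'.card_img.ge
  set β' := hgP'.toAut hi with hβ'
  have hcop' : (orderOf β').Coprime p := by
    refine hcop.coprime_dvd_left (orderOf_dvd_of_pow_eq_one (MulEquiv.ext fun x => Subtype.ext ?_))
    rw [hβ', toAut_pow_coe hgP' hi]
    have h1 : ∀ m : ℕ, (autFun β)^[m] (x : Ω) = (((β ^ m) ⟨x, x.2.1⟩ : P) : Ω) := by
      intro m
      induction m with
      | zero => simp
      | succ m ih =>
        rw [Function.iterate_succ_apply', ih, autFun_apply β (Subtype.mem _), pow_succ',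
          MulAut.mul_apply]
    rw [h1, pow_orderOf_eq_one]
    rfl
  have hone : β' = 1 := eq_one_of_fix hc inf_le_right hcop'
    (hg.mono (sup_le inf_le_left hTP)) (fun x => (hgP'.toAut_apply hi x).symm) hgT
  refine eq_one_of_fixes_sub (hc.pS.to_le hPS) hcop fun x => Subtype.ext ?_
  set z := x⁻¹ * β x with hz
  have hzC : (z : Ω) ∈ P' := by
    refine ⟨z.2, hPS z.2, fun t ht => ?_⟩
    have ht' : (x : Ω) * t * (x : Ω)⁻¹ ∈ T :=
      StronglyClosed.conj_mem hc.closed (hPS x.2) ht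
    have e := hg.map_conj x.2 (hTP ht)
    rw [hgT _ ht', hgT t ht, autFun_apply β x.2] at e
    show t * ((x : Ω)⁻¹ * (β x : P)) = (x : Ω)⁻¹ * (β x : P) * t
    calc t * ((x : Ω)⁻¹ * (β x : P))
        = (x : Ω)⁻¹ * ((x : Ω) * t * (x : Ω)⁻¹) * (β x : P) := by group
      _ = (x : Ω)⁻¹ * (((β x : P) : Ω) * t * ((β x : P) : Ω)⁻¹) * (β x : P) := by rw [e]
      _ = _ := by group
  have h1 := hgP'.toAut_apply hi ⟨z, hzC⟩
  rw [← hβ', hone, MulAut.one_apply] at h1
  rw [← autFun_apply β z.2]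
  exact h1.symm

theorem centralizer_aut_trivial (hW : InC F T W) (hWc : F.IsFullyCentralized W)
    (hTW : ¬ T ≤ W)
    (IH : ∀ V : Subgroup Ω, InC F T V → Nat.card W < Nat.card V → Rigid F p V)
    {R : Subgroup Ω} (hRn : (centralizerSys F W hWc.1).IsFullyNormalized R)
    (hRc : (centralizerSys F W hWc.1).IsCentric R)
    {δ : MulAut R} (hδ : δ ∈ (centralizerSys F W hWc.1).autGroup R)
    (hcop : (orderOf δ).Coprime p) : δ = 1 := by
  have hS := hc.pS
  have hF := hc.sat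
  have hsys := isCentralizerSystem_centralizerSys F W hWc.1
  set D := centralizerSys F W hWc.1 with hD
  have hCS : centralizerIn S W ≤ S := inf_le_left
  haveI : Finite (centralizerIn S W) := finite_centralizerIn
  have hRC : R ≤ centralizerIn S W := hRc.1
  have hRS : R ≤ S := hRC.trans hCS
  have hWS : W ≤ S := hW.1
  haveI := finite_of_le hRS
  set X := R ⊔ W with hX
  have hXS : X ≤ S := sup_le hRS hWS
  haveI := finite_of_le hXS
  have hWX : W ≤ X := le_sup_right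
  have hRX : R ≤ X := le_sup_left
  have hRW : ∀ r ∈ R, ∀ w ∈ W, r * w = w * r := fun r hr w hw => ((hRC hr).2 w hw).symm
  have hXcf : F.IsCentric X := centric_sup hS hF hWc hRc
  -- an element of `T`
  obtain ⟨n, hnT, hnN, hnW⟩ : ∃ n, n ∈ T ∧ n ∈ normalizer (W : Set Ω) ∧ n ∉ W := by
    by_contra hne
    exact hTW (le_of_normalizer_inf_le hS hWS hc.le
      (fun a ha => StronglyClosed.le_normalizer hc.closed (hWS ha))
      fun a ha han => by_contra fun hW' => hne ⟨a, ha, han, hW'⟩)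
  have hnS : n ∈ S := hc.le hnT
  set Z := centralizerIn T W with hZ
  have hZW : Z ≤ W := hW.self_le
  have hZR : Z ≤ R := fun z hz => hRc.2 R (isConj_refl hRC)
    ⟨⟨hc.le hz.1, hz.2⟩, fun r hr => hRW r hr z (hZW hz)⟩
  have hcomm : ∀ r ∈ R, n * r * n⁻¹ * r⁻¹ ∈ Z := fun r hr => by
    refine ⟨?_, ?_⟩
    · rw [show n * r * n⁻¹ * r⁻¹ = n * (r * n⁻¹ * r⁻¹) by group]
      exact T.mul_mem hnT (StronglyClosed.conj_mem hc.closed (hRS hr) (T.inv_mem hnT))
    · refine Subgroup.mul_mem _ ?_ (Subgroup.inv_mem _ (hRC hr).2)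
      exact (CfsgLib.Comp.normalizer_le_normalizer_centralizer W hnN r).1 (hRC hr).2
  have hnR : ∀ r ∈ R, n * r * n⁻¹ ∈ R := fun r hr => by
    have := R.mul_mem (hZR (hcomm r hr)) hr
    rwa [inv_mul_cancel_right] at this
  have hnX : ∀ x ∈ X, n * x * n⁻¹ ∈ X := fun x hx => by
    obtain ⟨r, hr, w, hw, rfl⟩ := exists_split hRW hx
    rw [show n * (r * w) * n⁻¹ = n * r * n⁻¹ * (n * w * n⁻¹) by group]
    exact mul_mem (hRX (hnR r hr)) (hWX ((hnN w).1 hw))
  have hnXn : n ∈ normalizer (X : Set Ω) := by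
    haveI : Finite (X : Set Ω) := ‹Finite X›
    exact Subgroup.mem_normalizer_fintype hnX
  -- the extension of `δ` to `X`
  obtain ⟨-, -, g₀, hg₀, hg₀x, hg₀W⟩ :=
    (isMap_centralizerSystem_iff hsys).1 (isMap_of_autGroup hRC hδ)
  have hg₀R : ∀ x : R, g₀ x = ((δ x : R) : Ω) := fun x => by
    rw [hg₀x x x.2, toFun_aut_apply δ x.2]
  have hg₀X : ∀ x ∈ X, g₀ x ∈ X := fun x hx => by
    obtain ⟨r, hr, w, hw, rfl⟩ := exists_split hRW hx
    rw [hg₀.map_mul (hRX hr) (hWX hw), hg₀W w hw, hg₀R ⟨r, hr⟩]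
    exact mul_mem (hRX (Subtype.mem _)) (hWX hw)
  obtain ⟨e, m, hm, hgR, hper⟩ := exists_coprime_power hg₀ hg₀X hRX hcop hg₀R
  set g := g₀^[e] with hgdef
  have hg : IsMap F X g := isMap_iterate hg₀ hg₀X e
  have hgX : ∀ x ∈ X, g x ∈ X := fun x hx => iterate_mem hg₀X e hx
  have hgW : ∀ w ∈ W, g w = w := fun w hw => Function.iterate_fixed (hg₀W w hw) e
  have hgi : img X g = X := eq_of_le_of_card_le (fun y hy => by
    obtain ⟨x, hx, rfl⟩ := hg.mem_img.1 hy
    exact hgX x hx) hg.card_img.ge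
  set σ := hg.toAut hgi with hσ
  set c : MulAut X := X.normalizerMonoidHom ⟨n, hnXn⟩ with hcdef
  have hσv : ∀ x : X, ((σ x : X) : Ω) = g x := fun x => IsMap.toAut_apply hg hgi x
  have hcv : ∀ x : X, ((c x : X) : Ω) = n * (x : Ω) * n⁻¹ := fun x => rfl
  set κ := σ * c * σ⁻¹ * c⁻¹ with hκdef
  have hκF : κ ∈ F.autGroup X := by
    have hcF : c ∈ F.autGroup X :=
      autInducedBy_le_autGroup hXS (mem_autInducedBy_iff.2 ⟨n, hnS, hcv⟩)
    exact mul_mem (mul_mem (mul_mem (hg.toAut_mem hgi) hcF) (inv_mem (hg.toAut_mem hgi)))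
      (inv_mem hcF)
  have hκv : ∀ x : X, autFun κ (n * g x * n⁻¹) = g (n * (x : Ω) * n⁻¹) := fun x => by
    have e1 : (⟨n * g x * n⁻¹, hnX _ (hgX x x.2)⟩ : X) = c (σ x) := Subtype.ext (by rw [hcv, hσv])
    rw [autFun_apply κ (hnX _ (hgX x x.2)), e1, hκdef, MulAut.mul_apply, MulAut.inv_apply_self,
      MulAut.mul_apply, MulAut.inv_apply_self, MulAut.mul_apply, hσv, hcv]
  have hκm := isMap_autFun hXS hκF
  have hκW : ∀ w ∈ W, autFun κ w = w := fun w hw => by
    have hw0 : n⁻¹ * w * n ∈ W := (Subgroup.mem_normalizer_iff''.1 hnN w).1 hw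
    have h1 := hκv ⟨n⁻¹ * w * n, hWX hw0⟩
    have e1 : n * (n⁻¹ * w * n) * n⁻¹ = w := by group
    simp only [hgW _ hw0, e1, hgW w hw] at h1
    exact h1
  have hκmod : ∀ r ∈ R, r⁻¹ * autFun κ r ∈ Z := fun r hr => by
    obtain ⟨x₀, hx₀⟩ := δ.surjective ⟨n⁻¹ * r * n, by
      have h1 : n⁻¹ ∈ normalizer (R : Set Ω) := Subgroup.inv_mem _ (by
        haveI : Finite (R : Set Ω) := ‹Finite R›
        exact Subgroup.mem_normalizer_fintype hnR)
      have h2 := (h1 r).1 hr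
      rwa [inv_inv] at h2⟩
    set d := ((δ x₀ : R) : Ω) with hd
    have hdv : d = n⁻¹ * r * n := congrArg Subtype.val hx₀
    have h1 := hκv ⟨x₀, hRX x₀.2⟩
    rw [hgR x₀, ← hd, hdv, show n * (n⁻¹ * r * n) * n⁻¹ = r by group] at h1
    set z₁ := n * (x₀ : Ω) * n⁻¹ * (x₀ : Ω)⁻¹ with hz₁
    set z₂ := n * d * n⁻¹ * d⁻¹ with hz₂
    have hz₁Z : z₁ ∈ Z := hcomm _ x₀.2
    have hz₂Z : z₂ ∈ Z := hcomm _ (Subtype.mem _)
    have e2 : g (n * (x₀ : Ω) * n⁻¹) = z₁ * d := by
      rw [show n * (x₀ : Ω) * n⁻¹ = z₁ * x₀ by rw [hz₁]; group,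
        hg.map_mul (hWX (hZW hz₁Z)) (hRX x₀.2), hgW _ (hZW hz₁Z), hgR x₀]
    have e3 : r = z₂ * d := by rw [hz₂, hdv]; group
    rw [h1, e2]
    have e4 : r⁻¹ * (z₁ * d) = d⁻¹ * (z₂⁻¹ * z₁) * d := by rw [e3]; group
    rw [e4]
    have hzz : z₂⁻¹ * z₁ ∈ Z := Z.mul_mem (Z.inv_mem hz₂Z) hz₁Z
    have hcd := hRW d (by rw [hd]; exact Subtype.mem _) _ (hZW hzz)
    rw [mul_assoc, ← hcd, inv_mul_cancel_left]
    exact hzz
  -- the stabilizer of the chain is induced by `C_S(W)`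
  have hκR : IsMap D R (autFun κ) := (isMap_centralizerSystem_iff hsys).2 ⟨hRC,
    fun r hr => by
      refine hRC ?_
      have := R.mul_mem hr (hZR (hκmod r hr))
      rwa [mul_inv_cancel_left] at this,
    autFun κ, hκm, fun _ _ => rfl, hκW⟩
  have hκi : img R (autFun κ) = R := eq_of_le_of_card_le (fun y hy => by
    obtain ⟨r, hr, rfl⟩ := hκR.mem_img.1 hy
    have := R.mul_mem hr (hZR (hκmod r hr))
    rwa [mul_inv_cancel_left] at this) hκR.card_img.ge
  have hfixZ : ∀ γ ∈ D.autGroup R, ∀ x : R, (x : Ω) ∈ Z → γ x = x := fun γ hγ x hx => by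
    obtain ⟨-, -, h, hh, hhx, hhW⟩ :=
      (isMap_centralizerSystem_iff hsys).1 (isMap_of_autGroup hRC hγ)
    refine Subtype.ext ?_
    rw [← toFun_aut_apply γ x.2, ← hhx x x.2, hhW x (hZW hx)]
  let K : Subgroup (D.autGroup R) :=
    { carrier := {γ | ∀ x : R, (x : Ω)⁻¹ * (((γ : MulAut R) x : R) : Ω) ∈ Z}
      one_mem' := fun x => by simp
      mul_mem' := fun {a b} ha hb x => by
        have h := Z.mul_mem (hb x) (ha ((b : MulAut R) x))
        rw [mul_assoc, mul_inv_cancel_left] at h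
        rw [Subgroup.coe_mul, MulAut.mul_apply]
        exact h
      inv_mem' := fun {a} ha x => by
        have h := Z.inv_mem (ha ((a : MulAut R)⁻¹ x))
        rw [MulAut.apply_inv_self, mul_inv_rev, inv_inv] at h
        rw [Subgroup.coe_inv]
        exact h }
  haveI : K.Normal := ⟨fun a ha b x => by
    obtain ⟨y, hy⟩ := (b : MulAut R).surjective x
    have hz := ha y
    have e : (y⁻¹ * (a : MulAut R) y : R) = (b : MulAut R) (y⁻¹ * (a : MulAut R) y) :=
      (hfixZ b b.2 _ (by push_cast; exact hz)).symm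
    rw [Subgroup.coe_mul, Subgroup.coe_mul, Subgroup.coe_inv, MulAut.mul_apply, MulAut.mul_apply,
      ← hy, MulAut.inv_apply_self]
    rw [map_mul, map_inv] at e
    have e' := congrArg Subtype.val e
    push_cast at e'
    rw [← e']
    exact hz⟩
  have hKp : IsPGroup p K := by
    rintro ⟨γ, hγ⟩
    obtain ⟨s, hs⟩ := (hS.to_le hRS).exists_card_eq
    refine ⟨s, Subtype.ext (Subtype.ext (MulEquiv.ext fun x => ?_))⟩
    have hfz : (γ : MulAut R) (x⁻¹ * (γ : MulAut R) x) = x⁻¹ * (γ : MulAut R) x :=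
      hfixZ _ γ.2 _ (by push_cast; exact hγ x)
    simp only [Subgroup.coe_pow, Subgroup.coe_one, MulAut.one_apply]
    rw [pow_apply_of_fixed (by simp : (γ : MulAut R) x = x * (x⁻¹ * (γ : MulAut R) x)) hfz,
      ← hs, pow_card_eq_one', mul_one]
  set κR : D.autGroup R := ⟨hκR.toAut hκi, hκR.toAut_mem hκi⟩ with hκRdef
  have hκK : κR ∈ K := fun x => by
    rw [hκRdef, IsMap.toAut_apply]
    exact hκmod x x.2
  have hDs : D.IsSaturated p := isSaturated_centralizerSystem hS hF hWc hsys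
  have hCp : IsPGroup p (centralizerIn S W) := hS.to_le hCS
  obtain ⟨η, hη, hη'⟩ := exists_conj_le_autInducedBy
    (fullyAutomized_of_fullyNormalized hCp hDs hRn) (K.map (D.autGroup R).subtype) (hKp.map _)
    (Subgroup.map_subtype_le K)
  obtain ⟨u, hu, hux⟩ : ∃ u ∈ centralizerIn S W, ∀ x : R, autFun κ x = u * (x : Ω) * u⁻¹ := by
    have h1 := hη' _ ⟨(⟨η, hη⟩ : D.autGroup R)⁻¹ * κR * (⟨η, hη⟩ : D.autGroup R),
      by simpa using (inferInstance : K.Normal).conj_mem _ hκK (⟨η, hη⟩ : D.autGroup R)⁻¹, rfl⟩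
    simp only [Subgroup.coe_subtype, Subgroup.coe_mul, Subgroup.coe_inv] at h1
    rw [show η * (η⁻¹ * (κR : MulAut R) * η) * η⁻¹ = (κR : MulAut R) by group] at h1
    obtain ⟨u, hu, hux⟩ := mem_autInducedBy_iff.1 h1
    exact ⟨u, hu, fun x => by rw [← hux, hκRdef, IsMap.toAut_apply]⟩
  have hun : ∀ x ∈ X, g (n * x * n⁻¹) = (u * n) * g x * (u * n)⁻¹ := by
    intro x hx
    obtain ⟨r, hr, w, hw, rfl⟩ := exists_split hRW hx
    have hw' : n * w * n⁻¹ ∈ W := (hnN w).1 hw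
    have h1 := hκv ⟨r, hRX hr⟩
    rw [hgR ⟨r, hr⟩] at h1
    have hgr : g r = ((δ ⟨r, hr⟩ : R) : Ω) := hgR ⟨r, hr⟩
    rw [show n * (r * w) * n⁻¹ = n * r * n⁻¹ * (n * w * n⁻¹) by group,
      hg.map_mul (hRX (hnR r hr)) (hWX hw'), hg.map_mul (hRX hr) (hWX hw), hgW w hw, hgW _ hw',
      ← h1, hgr, hux ⟨_, hnR _ (Subtype.mem _)⟩]
    conv_lhs => rw [show n * w * n⁻¹ = u * (n * w * n⁻¹) * u⁻¹ by
      rw [← hu.2 _ hw', mul_inv_cancel_right]]
    group
  set X₁ := X ⊔ Subgroup.zpowers n with hX₁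
  have hXX₁ : X ≤ X₁ := le_sup_left
  have hnX₁ : n ∈ X₁ := mem_sup_right (Subgroup.mem_zpowers n)
  obtain ⟨g₁, hg₁, hg₁x⟩ := receptive_extend
    (receptive_of_fullyCentralized hS hF (centric_fullyCentralized hXcf)) hg hgi hXX₁ fun a ha => by
      refine (mem_extender_iff hg hg.toHom_apply).1 ((sup_le (le_sup_left.trans
        (sup_centralizerIn_le_extender hg hg.toHom_apply)) (Subgroup.zpowers_le.2
          ((mem_extender_iff hg hg.toHom_apply).2
            ⟨hnS, hnXn, u * n, S.mul_mem hu.1 hnS, hun⟩)) : X₁ ≤ extender S X hg.toHom) ha)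
  have hnz : ∀ h : Ω → Ω, IsMap F X₁ h → (∀ x ∈ X, h x = g x) → h n * n⁻¹ ∈ Z := by
    intro h hh hhx
    refine ⟨T.mul_mem (StronglyClosed.apply_mem hc.closed hh hnX₁ hnT) (T.inv_mem hnT),
      fun w hw => ?_⟩
    have hw0 : n⁻¹ * w * n ∈ W := (Subgroup.mem_normalizer_iff''.1 hnN w).1 hw
    have h1 := hh.map_conj hnX₁ (hXX₁ (hWX hw0))
    rw [show n * (n⁻¹ * w * n) * n⁻¹ = w by group, hhx w (hWX hw), hgW w hw,
      hhx _ (hWX hw0), hgW _ hw0] at h1
    calc w * (h n * n⁻¹) = (h n * (n⁻¹ * w * n) * (h n)⁻¹) * (h n * n⁻¹) := by rw [← h1]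
      _ = _ := by group
  have hX₁S : X₁ ≤ S := hg₁.le
  haveI := finite_of_le hX₁S
  have hg₁X : ∀ x ∈ X₁, g₁ x ∈ X₁ := fun x hx => by
    refine hg₁.img_sup_le le_sup_left le_sup_right ?_ ?_ (hg₁.apply_mem_img hx)
    · rw [img_congr hg₁x, hgi]; exact hXX₁
    · intro y hy
      obtain ⟨z, hz, rfl⟩ := (hg₁.mono le_sup_right).mem_img.1 hy
      obtain ⟨i, rfl⟩ := Subgroup.mem_zpowers_iff.1 hz
      have h1 := hnz g₁ hg₁ hg₁x
      have h2 : g₁ n ∈ X₁ := by
        have := mul_mem (hXX₁ (hWX (hZW h1))) hnX₁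
        rwa [inv_mul_cancel_right] at this
      rw [CfsgLib.Comp.CExt.map_zpow_isMap hg₁ hnX₁]
      exact zpow_mem h2 i
  have hσcop : (orderOf σ).Coprime p := by
    refine hm.coprime_dvd_left (orderOf_dvd_of_pow_eq_one (MulEquiv.ext fun x => Subtype.ext ?_))
    rw [hσ, toAut_pow_coe hg hgi, hper x x.2]
    rfl
  obtain ⟨e₁, m₁, hm₁, hg₂x, hper₁⟩ := exists_coprime_power hg₁ hg₁X hXX₁ hσcop
    fun x => (hg₁x x x.2).trans (hσv x).symm
  set g₂ := g₁^[e₁] with hg₂def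
  have hg₂ : IsMap F X₁ g₂ := isMap_iterate hg₁ hg₁X e₁
  have hg₂g : ∀ x ∈ X, g₂ x = g x := fun x hx => (hg₂x ⟨x, hx⟩).trans (hσv ⟨x, hx⟩)
  have hg₂X : ∀ x ∈ X₁, g₂ x ∈ X₁ := fun x hx => iterate_mem hg₁X e₁ hx
  have hg₂n : g₂ n = n := by
    set z := g₂ n * n⁻¹ with hzdef
    have hz : z ∈ Z := hnz g₂ hg₂ hg₂g
    have hzW : z ∈ W := hZW hz
    have hit : ∀ j : ℕ, g₂^[j] n = z ^ j * n := by
      intro j
      induction j with
      | zero => simp
      | succ j ih =>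
        rw [Function.iterate_succ_apply', ih, hg₂.map_mul (hXX₁ (hWX (pow_mem hzW j))) hnX₁,
          hg₂g _ (hWX (pow_mem hzW j)), hgW _ (pow_mem hzW j), pow_succ, mul_assoc, hzdef,
          inv_mul_cancel_right]
    have h1 := hit m₁
    rw [hper₁ n hnX₁] at h1
    have hz1 : z = 1 := eq_one_of_pow_eq_one hS (hWS hzW) hm₁ (mul_eq_right.1 h1.symm)
    have h2 : g₂ n = z * n := by rw [hzdef, inv_mul_cancel_right]
    rw [h2, hz1, one_mul]
  -- apply the hypothesis to `W⟨n⟩`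
  set W₁ := W ⊔ Subgroup.zpowers n with hW₁
  have hW₁X₁ : W₁ ≤ X₁ := sup_le (hWX.trans hXX₁) le_sup_right
  let Fx : Subgroup Ω :=
    { carrier := {x | x ∈ X₁ ∧ g₂ x = x}
      one_mem' := ⟨one_mem _, hg₂.map_one⟩
      mul_mem' := fun {a b} ha hb =>
        ⟨mul_mem ha.1 hb.1, by rw [hg₂.map_mul ha.1 hb.1, ha.2, hb.2]⟩
      inv_mem' := fun {a} ha => ⟨Subgroup.inv_mem _ ha.1, by rw [hg₂.map_inv ha.1, ha.2]⟩ }
  have hW₁F : W₁ ≤ Fx := sup_le (fun w hw => ⟨hXX₁ (hWX hw), (hg₂g w (hWX hw)).trans (hgW w hw)⟩)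
    (Subgroup.zpowers_le.2 ⟨hnX₁, hg₂n⟩)
  have hW₁N : X₁ ≤ normalizerIn S W₁ := by
    refine le_inf hX₁S (sup_le (sup_le (fun r hr => ?_) ?_) ?_)
    · haveI : Finite W₁ := finite_of_le (hW₁X₁.trans hX₁S)
      haveI : Finite (W₁ : Set Ω) := ‹Finite W₁›
      refine Subgroup.mem_normalizer_fintype fun y hy => ?_
      suffices h : W₁ ≤ W₁.comap (MulAut.conj r).toMonoidHom from h hy
      refine sup_le (fun w hw => ?_) (Subgroup.zpowers_le.2 ?_)
      · show r * w * r⁻¹ ∈ W₁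
        rw [hRW r hr w hw, mul_inv_cancel_right]
        exact mem_sup_left hw
      · show r * n * r⁻¹ ∈ W₁
        have h1 := W.inv_mem (hZW (hcomm r hr))
        rw [show (n * r * n⁻¹ * r⁻¹)⁻¹ = r * n * r⁻¹ * n⁻¹ by group] at h1
        have h2 := W₁.mul_mem (mem_sup_left h1) (mem_sup_right (Subgroup.mem_zpowers n))
        rwa [inv_mul_cancel_right] at h2
    · exact le_sup_left.trans Subgroup.le_normalizer
    · exact le_sup_right.trans Subgroup.le_normalizer
  have hg₂i : img X₁ g₂ = X₁ := eq_of_le_of_card_le (fun y hy => by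
    obtain ⟨x, hx, rfl⟩ := hg₂.mem_img.1 hy
    exact hg₂X x hx) hg₂.card_img.ge
  have hlt : Nat.card W < Nat.card W₁ := by
    haveI := finite_of_le (hW₁X₁.trans hX₁S)
    refine lt_of_not_ge fun h => hnW ?_
    rw [eq_of_le_of_card_le (le_sup_left : W ≤ W₁) h]
    exact mem_sup_right (Subgroup.mem_zpowers n)
  have hone := IH W₁ (hW.mono le_sup_left (hW₁X₁.trans hX₁S)) hlt X₁ hW₁X₁ hW₁N
    (hg₂.toAut hg₂i) (hg₂.toAut_mem hg₂i)
    (hm₁.coprime_dvd_left (orderOf_dvd_of_pow_eq_one (MulEquiv.ext fun x => Subtype.ext (by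
      rw [toAut_pow_coe hg₂ hg₂i]
      exact hper₁ x x.2))))
    fun x hx => Subtype.ext (by rw [IsMap.toAut_apply]; exact (hW₁F hx).2)
  refine MulEquiv.ext fun x => Subtype.ext ?_
  rw [← hgR x, ← hg₂g x (hRX x.2), ← IsMap.toAut_apply hg₂ hg₂i ⟨x, hXX₁ (hRX x.2)⟩, hone]
  rfl

theorem centralizer_inner (hW : InC F T W) (hWc : F.IsFullyCentralized W) (hTW : ¬ T ≤ W)
    (IH : ∀ V : Subgroup Ω, InC F T V → Nat.card W < Nat.card V → Rigid F p V) :
    centralizerSys F W hWc.1 = innerFusionSystem (centralizerIn S W) := by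
  have hS := hc.pS
  haveI : Finite (centralizerIn S W) := finite_centralizerIn
  have hDs : (centralizerSys F W hWc.1).IsSaturated p :=
    isSaturated_centralizerSystem hS hc.sat hWc (isCentralizerSystem_centralizerSys F W hWc.1)
  have hCp : IsPGroup p (centralizerIn S W) := hS.to_le inf_le_left
  refine eq_inner_of_pGroup hCp hDs fun R hR => ?_
  have hRS : R ≤ S := (hR.elim (fun e => e.le) fun e => e.1.1).trans inf_le_left
  haveI := finite_of_le hRS
  refine isPGroup_of_coprime_eq_one fun δ hcop => Subtype.ext ?_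
  refine centralizer_aut_trivial hc hW hWc hTW IH ?_ ?_ δ.2 (by rwa [Subgroup.orderOf_coe])
  · exact hR.elim (fun e => by subst e; exact fullyNormalized_top _) fun e => e.2.1
  · exact hR.elim (fun e => by subst e; exact centric_top hCp hDs) fun e => e.1

theorem rigid (hW : InC F T W) : Rigid F p W := by
  suffices key : ∀ n, ∀ W : Subgroup Ω, InC F T W → Nat.card S - Nat.card W = n → Rigid F p W from
    key _ W hW rfl
  intro n
  induction n using Nat.strong_induction_on with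
  | _ n ih =>
  intro W hW hn
  by_cases hTW : T ≤ W
  · exact rigid_of_le hc hTW
  have hS := hc.pS
  have hF := hc.sat
  intro P hWP hPN β hβ hcop hfix
  have hPS : P ≤ S := hPN.trans inf_le_left
  haveI := finite_of_le hPS
  obtain ⟨W₀, hconj, hW₀⟩ := exists_fullyCentralized_conj F hW.1
  obtain ⟨f, hf, rfl⟩ := isConj_iff.1 hconj
  have hinner := centralizer_inner hc (hW.conj hf.isConj) hW₀
    (fun hT' => hTW fun t ht => by
      obtain ⟨k, hk, hkx, hky, hki⟩ := hf.exists_inv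
      have h1 := StronglyClosed.img_eq hc.closed hk hT'
      rw [← hki]
      exact img_mono hT' (h1.ge ht))
    fun V hV hlt => ih (Nat.card S - Nat.card V) (by
      have := Subgroup.card_le_of_le hV.1
      rw [hf.card_img] at hlt
      omega) V hV rfl
  obtain ⟨φ, hφ, hφx⟩ :=
    receptive_extend_centralizer (receptive_of_fullyCentralized hS hF hW₀) hf rfl
  have hφW : img W φ = img W f := img_congr hφx
  have hg := isMap_autFun hPS hβ
  have hgW : ∀ w ∈ W, autFun β w = w := fun w hw => by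
    rw [autFun_apply β (hWP hw), hfix ⟨w, hWP hw⟩ hw]
  have hWi : img W (autFun β) = W := by
    rw [img_congr (g := id) hgW]; simp [img]
  set P₀ := P ⊓ centralizerIn S W with hP₀
  have hst : ∀ x ∈ P₀, autFun β x ∈ P₀ := fun x hx => by
    refine ⟨autFun_mem β hx.1, ?_⟩
    have h1 := hg.apply_mem_centralizerIn hWP hx.1 hx.2.2
    rwa [hWi] at h1
  have hPd : P₀ ≤ W ⊔ centralizerIn S W := inf_le_right.trans le_sup_right
  have hQd : P₀ ⊔ W ≤ W ⊔ centralizerIn S W := sup_le hPd le_sup_left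
  have hQP : P₀ ⊔ W ≤ P := sup_le inf_le_left hWP
  have hφQ := hφ.mono hQd
  obtain ⟨j, hj, hjx, hjy, -⟩ := hφQ.exists_inv
  have hβQ : ∀ x ∈ P₀ ⊔ W, autFun β x ∈ P₀ ⊔ W := fun x hx => by
    refine (hg.mono hQP).img_sup_le le_sup_left le_sup_right ?_ (hWi.le.trans le_sup_right)
      ((hg.mono hQP).apply_mem_img hx)
    intro y hy
    obtain ⟨z, hz, rfl⟩ := (hg.mono inf_le_left).mem_img.1 hy
    exact mem_sup_left (hst z hz)
  have hk : IsMap F (img (P₀ ⊔ W) φ) fun y => φ (autFun β (j y)) :=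
    ((hj.comp (hg.mono hQP) fun y hy => (hjy y hy).1).comp hφQ
      fun y hy => hβQ _ (hjy y hy).1)
  have hsub : img P₀ φ ⊔ img W f ≤ img (P₀ ⊔ W) φ :=
    sup_le (img_mono le_sup_left) (hφW ▸ img_mono le_sup_right)
  have hinC : ∀ x ∈ P₀, φ x ∈ centralizerIn S (img W f) := fun x hx => by
    have h1 := hφ.apply_mem_centralizerIn le_sup_left (hPd hx) hx.2.2
    rwa [hφW] at h1
  have hD : IsMap (centralizerSys F (img W f) hW₀.1) (img P₀ φ)
      fun y => φ (autFun β (j y)) := by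
    refine (isMap_centralizerSystem_iff (isCentralizerSystem_centralizerSys F _ hW₀.1)).2
      ⟨fun y hy => ?_, fun y hy => ?_, _, hk.mono hsub, fun _ _ => rfl, fun y hy => ?_⟩
    · obtain ⟨x, hx, rfl⟩ := (hφ.mono hPd).mem_img.1 hy
      exact hinC x hx
    · obtain ⟨x, hx, rfl⟩ := (hφ.mono hPd).mem_img.1 hy
      show φ (autFun β (j (φ x))) ∈ _
      rw [hjx x (mem_sup_left hx)]
      exact hinC _ (hst x hx)
    · obtain ⟨w, hw, rfl⟩ := hf.mem_img.1 hy
      show φ (autFun β (j (f w))) = f w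
      rw [← hφx w hw, hjx w (mem_sup_right hw), hgW w hw]
  rw [hinner] at hD
  obtain ⟨-, c, hcC, hcx⟩ := GFit.isMap_inner_iff.1 hD
  have hpow : ∀ (i : ℕ) (x : P), (x : Ω) ∈ P₀ →
      (((β ^ i) x : P) : Ω) ∈ P₀ ∧ φ ((β ^ i) x : P) = c ^ i * φ x * (c ^ i)⁻¹ := by
    intro i
    induction i with
    | zero => intro x hx; simpa using hx
    | succ i ih' =>
      intro x hx
      obtain ⟨h1, h2⟩ := ih' x hx
      rw [pow_succ', MulAut.mul_apply, ← autFun_apply β (Subtype.mem ((β ^ i) x))]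
      refine ⟨hst _ h1, ?_⟩
      have h3 := hcx _ ((hφ.mono hPd).apply_mem_img h1)
      rw [hjx _ (mem_sup_left h1), h2] at h3
      rw [h3, pow_succ']
      group
  obtain ⟨s, hs⟩ := hS ⟨c, hcC.1⟩
  have hs' : c ^ p ^ s = 1 := congrArg Subtype.val hs
  obtain ⟨i, hi0, hi1⟩ := Nat.chineseRemainder (hcop.pow_right s).symm 0 1
  obtain ⟨q, rfl⟩ := Nat.modEq_zero_iff_dvd.1 hi0
  refine eq_one_of_fixes_sub (hS.to_le hPS) hcop fun x => ?_
  set z := x⁻¹ * β x with hz
  have hzP : (z : Ω) ∈ P₀ := by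
    refine ⟨z.2, hPS z.2, fun w hw => ?_⟩
    have hw' : (x : Ω) * w * (x : Ω)⁻¹ ∈ W := ((hPN x.2).2 w).1 hw
    have e := hg.map_conj x.2 (hWP hw)
    rw [hgW _ hw', hgW w hw, autFun_apply β x.2] at e
    show w * ((x : Ω)⁻¹ * (β x : P)) = (x : Ω)⁻¹ * (β x : P) * w
    calc w * ((x : Ω)⁻¹ * (β x : P))
        = (x : Ω)⁻¹ * ((x : Ω) * w * (x : Ω)⁻¹) * (β x : P) := by group
      _ = (x : Ω)⁻¹ * (((β x : P) : Ω) * w * ((β x : P) : Ω)⁻¹) * (β x : P) := by rw [e]
      _ = _ := by group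
  obtain ⟨h1, h2⟩ := hpow (p ^ s * q) z hzP
  rw [pow_eq_pow_iff_modEq.2 hi1, pow_one, pow_mul, hs', one_pow, one_mul, inv_one, mul_one] at h2
  rw [pow_eq_pow_iff_modEq.2 hi1, pow_one] at h1
  exact Subtype.ext (hφ.inj (hPd h1) (hPd hzP) h2)

end

end CfsgLib.Comp.EBal
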