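import Cfsg.Agent.Lib.Comp.EBalModel

/-!
The normal subgroup of a model belonging to the generalized Fitting subsystem.
-/

set_option autoImplicit false
set_option linter.unusedVariables false
set_option linter.unusedSectionVars false
set_option linter.style.haveILetI false

universe u

namespace CfsgLib.Comp.EBal

open Cfsg Cfsg.FusionSystem Subgroup CfsgLib.Fusion CfsgLib.Comp.Fus CfsgLib.Comp.CProd

variable {Ω : Type u} [Group Ω] {S T V : Subgroup Ω} {F : FusionSystem S}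
  {E : FusionSystem T} {p : ℕ} [Fact p.Prime] [Finite S]

/-- An element of order prime to `p` congruent to a `p`-element modulo a normal subgroup lies in
it. -/
theorem mem_of_mul_pElement {G : Type*} [Group G] (H : Subgroup G) [H.Normal] {m h c : G}
    (hm : (orderOf m).Coprime p) (hh : h ∈ H) {k : ℕ} (hc : c ^ p ^ k = 1) (e : m = h * c) :
    m ∈ H := by
  rw [← QuotientGroup.eq_one_iff]
  have h1 : (m : G ⧸ H) = c := by
    rw [e, QuotientGroup.mk_mul, (QuotientGroup.eq_one_iff h).2 hh, one_mul]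
  refine orderOf_eq_one_iff.1 (Nat.eq_one_of_dvd_coprimes (hm.pow_right k) ?_ ?_)
  · exact orderOf_map_dvd (QuotientGroup.mk' H) m
  · rw [h1]
    exact orderOf_dvd_of_pow_eq_one (by rw [← QuotientGroup.mk_pow, hc, QuotientGroup.mk_one])

theorem exists_sideGroup (hc : Ctx F E p) (hVn : F.IsFullyNormalized V) (hV : E.IsCentric V)
    (M : WModel F p V) :
    ∃ H : Subgroup M.G, H.Normal ∧
      (∀ (n : Ω) (hn : n ∈ normalizerIn S V), M.ι ⟨n, hn⟩ ∈ H ↔ n ∈ T) ∧
      (∀ h ∈ H, ∃ e, IsMap E V e ∧ ∀ (x : Ω) (hx : x ∈ V), ∃ hex : e x ∈ V,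
        M.ι ⟨e x, M.le hex⟩ = h * M.ι ⟨x, M.le hx⟩ * h⁻¹) ∧
      ∀ m : M.G, (orderOf m).Coprime p → ∀ e, IsMap E V e →
        (∀ (x : Ω) (hx : x ∈ V), ∃ hex : e x ∈ normalizerIn S V,
          M.ι ⟨e x, hex⟩ = m * M.ι ⟨x, M.le hx⟩ * m⁻¹) → m ∈ H := by
  have hS := hc.pS
  have hF := hc.sat
  have hVT : V ≤ T := hV.1
  have hCT : centralizerIn T V ≤ V := hV.2 V (isConj_refl hVT)
  obtain ⟨-, hWT, -, -⟩ := fullyNormalized_sup hc.closed hVT hCT hVn
  set R := V ⊔ centralizerIn S V with hRdef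
  have hRN : R ≤ normalizerIn S V := sup_le M.le centralizerIn_le_normalizerIn
  have hRS : R ≤ S := hRN.trans inf_le_left
  haveI := finite_of_le hRS
  set jW : R →* M.G := M.ι.comp (Subgroup.inclusion hRN) with hjW
  have hji : Function.Injective jW := M.inj.comp (Subgroup.inclusion_injective hRN)
  haveI : jW.range.Normal := ⟨fun z hz g => by
    obtain ⟨⟨x, hx⟩, rfl⟩ := hz
    suffices h : R ≤ ((jW.range.comap (MulAut.conj g).toMonoidHom).comap M.ι).map
        (normalizerIn S V).subtype by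
      obtain ⟨y, hy, e⟩ := h hx
      have e' : y = ⟨x, hRN hx⟩ := Subtype.ext e
      subst e'
      exact hy
    refine sup_le (fun v hv => ?_) fun c hcc => ?_
    · obtain ⟨w', hw', e⟩ := M.wnormal g v hv
      exact ⟨⟨v, M.le hv⟩, ⟨⟨w', mem_sup_left hw'⟩, e⟩, rfl⟩
    · obtain ⟨c', hc', e⟩ := M.cent (g * M.ι ⟨c, centralizerIn_le_normalizerIn hcc⟩ * g⁻¹) fun w hw => by
        obtain ⟨w', hw', e⟩ := M.wnormal g⁻¹ w hw
        have h1 : (⟨c, centralizerIn_le_normalizerIn hcc⟩ : normalizerIn S V) * ⟨w', M.le hw'⟩ =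
            ⟨w', M.le hw'⟩ * ⟨c, centralizerIn_le_normalizerIn hcc⟩ :=
          Subtype.ext (hcc.2 w' hw').symm
        have h2 := congrArg M.ι h1
        rw [map_mul, map_mul, e, inv_inv] at h2
        calc g * M.ι ⟨c, centralizerIn_le_normalizerIn hcc⟩ * g⁻¹ * M.ι ⟨w, M.le hw⟩
            = g * (M.ι ⟨c, centralizerIn_le_normalizerIn hcc⟩ *
                (g⁻¹ * M.ι ⟨w, M.le hw⟩ * g)) * g⁻¹ := by group
          _ = g * ((g⁻¹ * M.ι ⟨w, M.le hw⟩ * g) *
                M.ι ⟨c, centralizerIn_le_normalizerIn hcc⟩) * g⁻¹ := by rw [h2]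
          _ = _ := by group
      exact ⟨⟨c, centralizerIn_le_normalizerIn hcc⟩, ⟨⟨c', mem_sup_right hc'⟩, e⟩, rfl⟩⟩
  set eR := MonoidHom.ofInjective hji
  let ρ : M.G →* MulAut R := (MulAut.congr eR.symm).toMonoidHom.comp MulAut.conjNormal
  have hρ : ∀ (g : M.G) (w : R), jW (ρ g w) = g * jW w * g⁻¹ := by
    intro g w
    have h1 : eR (ρ g w) = MulAut.conjNormal g (eR w) := by simp [ρ, MulAut.congr]
    exact (congrArg (fun u : jW.range => (u : M.G)) h1).trans (MulAut.conjNormal_apply g (eR w))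
  have hRV : R ⊔ V = R := sup_eq_left.2 le_sup_left
  have hρF : ∀ g, ρ g ∈ F.autGroup R := fun g => by
    obtain ⟨f, hf, -, hfx⟩ := M.map R hRN g fun x hx => ⟨_, hρ g ⟨x, hx⟩⟩
    rw [hRV] at hf hfx
    refine (autGroup_iff_isMap hRS fun w => ?_).2 hf
    obtain ⟨h1, h2⟩ := hfx w (hRN w.2) w.2
    exact (congrArg Subtype.val (M.inj (h2.trans (hρ g w).symm))).symm
  let D : Meet.LocalModel F p V :=
    { G := M.G
      grp := M.grp
      fin := M.fin
      ι := M.ι
      inj := M.inj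
      P := M.P
      range_eq := M.range_eq
      ρ := ρ
      mem_aut := hρF
      surj := fun α hα => by
        have hm := isMap_autFun hRS hα
        have hst : ∀ v ∈ V, autFun α v ∈ V := fun v hv => hWT _ (autFun_mem α (mem_sup_left hv))
          (StronglyClosed.apply_mem hc.closed hm (mem_sup_left hv) (hVT hv))
        haveI := finite_of_le hVn.1
        have hiV : img V (autFun α) = V := eq_of_le_of_card_le (fun y hy => by
          obtain ⟨v, hv, rfl⟩ := (hm.mono le_sup_left).mem_img.1 hy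
          exact hst v hv) (hm.mono le_sup_left).card_img.ge
        obtain ⟨m, hm'⟩ := M.elem R (autFun α) hRN (fun x hx => hRN (autFun_mem α hx))
          (by rwa [hRV]) hiV
        refine ⟨m, MulEquiv.ext fun w => hji ?_⟩
        rw [hρ]
        refine (hm' w (hRN w.2) (hRN (autFun_mem α w.2)) (hRV.symm ▸ w.2)).symm.trans ?_
        exact congrArg M.ι (Subtype.ext (autFun_apply α w.2))
      ρ_ι := fun n w => by
        have hn : (n : Ω) ∈ normalizer (R : Set Ω) :=
          mem_normalizer_sup_centralizerIn n.2.1 n.2.2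
        have h1 : jW (ρ (M.ι n) w) = jW ⟨(n : Ω) * w * (n : Ω)⁻¹, (hn w).1 w.2⟩ := by
          rw [hρ, hjW, MonoidHom.comp_apply, MonoidHom.comp_apply, ← map_inv, ← map_mul, ← map_mul]
          rfl
        exact congrArg Subtype.val (hji h1)
      ι_ρ := fun g w h h' => hρ g w
      fuse := fun g t b hgb => by
        have hzle : Subgroup.zpowers (t : Ω) ≤ normalizerIn S V := Subgroup.zpowers_le.2 t.2
        obtain ⟨f, hf, -, hfx⟩ := M.map _ hzle g fun y hy => by
          obtain ⟨i, rfl⟩ := Subgroup.mem_zpowers_iff.1 hy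
          refine ⟨b ^ i, ?_⟩
          rw [map_zpow, ← hgb, conj_zpow, ← map_zpow]
          rfl
        refine ⟨f, hf.mono le_sup_left, ?_⟩
        obtain ⟨hft, e'⟩ := hfx _ t.2 (mem_sup_left (Subgroup.mem_zpowers _))
        exact congrArg Subtype.val (M.inj (e'.trans hgb)) }
  obtain ⟨Hs, hHn, hHT, hHi, hHc⟩ :=
    Meet.exists_side hS hc.normal hc.closed le_rfl hVT hVn hCT D
  have hVR : V ≤ R := le_sup_left
  have hst : ∀ (g : M.G) (x : R), (x : Ω) ∈ V → ((ρ g x : R) : Ω) ∈ V := fun g x hx => by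
    refine hWT _ (ρ g x).2 ?_
    have h := StronglyClosed.apply_mem hc.closed (isMap_autFun hRS (hρF g)) x.2 (hVT hx)
    rwa [autFun_apply _ x.2] at h
  let ρV : M.G →* MulAut V := Meet.resHom ρ hVR hst
  have hρV : ∀ (g : M.G) (x : Ω) (hx : x ∈ V),
      M.ι ⟨((ρV g ⟨x, hx⟩ : V) : Ω), M.le (Subtype.mem _)⟩ = g * M.ι ⟨x, M.le hx⟩ * g⁻¹ :=
    fun g x hx => hρ g ⟨x, hVR hx⟩
  have hρVF : ∀ g, ρV g ∈ F.autGroup V := fun g => by
    refine (autGroup_iff_isMap hVn.1 fun x => ?_).2 ((isMap_autFun hRS (hρF g)).mono hVR)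
    rw [Meet.resHom_apply]
    exact (autFun_apply _ (hVR x.2)).symm
  haveI : Hs.Normal := hHn
  haveI hnE : ((E.autGroup V).comap ρV).Normal := ⟨fun d hd g => by
    show ρV (g * d * g⁻¹) ∈ E.autGroup V
    rw [map_mul, map_mul, map_inv]
    exact autGroup_conj_mem hc.normal.1.2.2 hVT (hρVF g) hd⟩
  refine ⟨Hs ⊓ (E.autGroup V).comap ρV, inferInstance, fun n hn => ⟨fun h => hHi _ h.1, fun h =>
    ⟨hHT ⟨n, hn⟩ h, autInducedBy_le_autGroup hVT (mem_autInducedBy_iff.2
      ⟨n, h, fun x => ?_⟩)⟩⟩, fun h hh => ⟨autFun (ρV h), isMap_autFun hVT hh.2, fun x hx => ?_⟩,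
    fun m hm e he hem => ?_⟩
  · exact D.ρ_ι ⟨n, hn⟩ (Subgroup.inclusion hVR x)
  · simp only [autFun_apply _ hx]
    exact ⟨Subtype.mem _, hρV h x hx⟩
  · haveI : Finite V := finite_of_le hVn.1
    have hα : ρV m ∈ E.autGroup V := (autGroup_iff_isMap hVT fun x => by
      obtain ⟨hex, e1⟩ := hem x x.2
      exact congrArg Subtype.val (M.inj ((hρV m x x.2).trans e1.symm))).2 he
    obtain ⟨h, hh, hhx⟩ := hHc _ hα (hm.coprime_dvd_left (orderOf_map_dvd ρV m))
    have hhV : ρV h = ρV m := MulEquiv.ext fun x => Subtype.ext (by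
      rw [Meet.resHom_apply]
      exact hhx x)
    obtain ⟨c, hcC, hce⟩ := M.cent (h⁻¹ * m) fun w hw => by
      have h1 := hρV h w hw
      have h2 := hρV m w hw
      simp only [hhV] at h1
      have h3 := h1.symm.trans h2
      calc h⁻¹ * m * M.ι ⟨w, M.le hw⟩
          = h⁻¹ * (m * M.ι ⟨w, M.le hw⟩ * m⁻¹) * m := by group
        _ = h⁻¹ * (h * M.ι ⟨w, M.le hw⟩ * h⁻¹) * m := by rw [h3]
        _ = _ := by group
    obtain ⟨k, hk⟩ := hS ⟨c, hcC.1⟩
    have hk' : (⟨c, centralizerIn_le_normalizerIn hcC⟩ : normalizerIn S V) ^ p ^ k = 1 :=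
      Subtype.ext (by push_cast; exact congrArg Subtype.val hk)
    haveI : (Hs ⊓ (E.autGroup V).comap ρV).Normal := inferInstance
    exact mem_of_mul_pElement _ hm ⟨hh, show ρV h ∈ E.autGroup V from hhV ▸ hα⟩
      (k := k) (c := M.ι ⟨c, centralizerIn_le_normalizerIn hcC⟩)
      (by rw [← map_pow, hk', map_one]) (by rw [hce, mul_inv_cancel_left])

end CfsgLib.Comp.EBal
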