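import Cfsg.Agent.Lib.Comp.EBalTheta

/-!
Extending the functor to a conjugacy class from local values at one member.
-/

set_option autoImplicit false
set_option linter.unusedVariables false
set_option linter.unusedSectionVars false
set_option linter.style.haveILetI false

universe u

namespace CfsgLib.Comp.EBal.TopData

open Cfsg Cfsg.FusionSystem Subgroup CfsgLib.Fusion CfsgLib.Comp.Fus CfsgLib.Comp.CProd

variable {Ω : Type u} [Group Ω] {S T P Q R W : Subgroup Ω} {F : FusionSystem S}
  {E : FusionSystem T} {p : ℕ} (D : TopData F E p)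

/-- Every map has a value, and the values of the identity of a fully centralized subgroup come
from its centralizer. -/
def Good (P : Subgroup Ω) : Prop :=
  (∀ f, IsMap F P f → ∃ γ, D.Th P f γ) ∧
    (F.IsFullyCentralized P → ∀ γ, D.Th P id γ → ∃ c ∈ centralizerIn S P, D.bar c = γ)

/-- Values on the automorphisms of one subgroup. -/
structure IsLoc (W : Subgroup Ω) (Val : (Ω → Ω) → D.Quot → Prop) : Prop where
  total : ∀ σ, IsMap F W σ → img W σ = W → ∃ γ, Val σ γ
  th : ∀ σ γ, Val σ γ → D.Th W σ γ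
  mul : ∀ σ τ γ δ, Val σ γ → Val τ δ → Val (fun x => τ (σ x)) (δ * γ)
  congr : ∀ σ τ γ, Val σ γ → (∀ x ∈ W, σ x = τ x) → Val τ γ
  one : ∀ σ γ, Val σ γ → (∀ x ∈ W, σ x = x) → ∃ c ∈ centralizerIn S W, D.bar c = γ
  pure : ∀ β : MulAut W, β ∈ F.autGroup W → (orderOf β).Coprime p →
    (∀ x ∈ W, x⁻¹ * autFun β x ∈ T) → E.IsCentric (W ⊓ T) → IsMap E (W ⊓ T) (autFun β) →
    Val (autFun β) 1
  big : ∀ (X : Subgroup Ω) k γ, W < X → X ≤ normalizerIn S W → D.Th X k γ → img W k = W → Val k γ

variable {D} [Fact p.Prime] [Finite S] (hc : Ctx F E p)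

include hc

theorem good_of_le (hP : P ≤ S) (hTP : T ≤ P) : D.Good P := by
  haveI := finite_of_le hc.le
  refine ⟨fun f hf => ?_, fun _ γ hγ => ?_⟩
  · obtain ⟨m, hm⟩ := WModel.exists_real (M := D.M) (hP.trans (TopData.nT hc).ge) hTP hf
      (fun x hx => mem_N hc (hf.mem hx)) (StronglyClosed.img_eq hc.closed hf hTP)
    exact ⟨_, .top m hm⟩
  · obtain ⟨m, rfl, hm⟩ := Th.exact_of_le hc hγ hTP
    obtain ⟨c, hcN, hcC, rfl⟩ := hm.exists_centralizer hTP
    exact ⟨c, hcC, D.bar_eq hcN⟩

theorem step (hW : InC F T W) (hWn : F.IsFullyNormalized W) (hTW : ¬ T ≤ W)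
    (IH : ∀ P, InC F T P → Nat.card W < Nat.card P → D.Good P)
    {Val : (Ω → Ω) → D.Quot → Prop} (hV : D.IsLoc W Val) :
    ∀ P, F.IsConj W P → D.Good P := by
  have hS := hc.pS
  have hF := hc.sat
  haveI := finite_of_le hc.le
  have hnot : ∀ W', F.IsConj W W' → W' < S := fun W' hW' => by
    refine lt_of_le_of_ne (isConj_le_right hW') fun e => hTW ?_
    obtain ⟨f, hf, rfl⟩ := isConj_iff.1 (isConj_symm hW')
    exact (StronglyClosed.img_eq hc.closed hf (e ▸ hc.le)).ge.trans (img_mono (e ▸ hc.le))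
  have hchart : ∀ W', F.IsConj W W' → ∃ φ γ, D.Th (normalizerIn S W') φ γ ∧ img W' φ = W ∧
      ∀ x ∈ normalizerIn S W', φ x ∈ normalizerIn S W := by
    intro W' hW'
    obtain ⟨φ, hφ, hi, hN⟩ :=
      exists_map_normalizerIn_of_fullyNormalized hS hF hWn (isConj_symm hW')
    have hlt : Nat.card W < Nat.card (normalizerIn S W') := by
      haveI : Finite (normalizerIn S W') := finite_normalizerIn
      rw [← isConj_card hW']
      exact lt_of_not_ge fun h => (lt_normalizerIn hS (hnot W' hW')).ne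
        (eq_of_le_of_card_le (le_normalizerIn (hnot W' hW').le) h)
    obtain ⟨γ, hγ⟩ := (IH _ ((hW.conj hW').mono (le_normalizerIn (hnot W' hW').le) inf_le_left)
      hlt).1 φ hφ
    exact ⟨φ, γ, hγ, hi, hN⟩
  choose ch gm hch hchi hchN using hchart
  have hin : ∀ W' (h : F.IsConj W W'), W' ≤ normalizerIn S W' := fun W' h =>
    le_normalizerIn (hnot W' h).le
  have hchW : ∀ W' (h : F.IsConj W W'), ∀ x ∈ W', ch W' h x ∈ W := fun W' h x hx =>
    (hchi W' h).le (((Th.isMap hc (hch W' h)).mono (hin W' h)).apply_mem_img hx)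
  -- maps with a value transport to values
  have bigcase : ∀ (P : Subgroup Ω) f γ, D.Th P f γ → ∀ W' (h' : F.IsConj W W'), W' < P →
      ∀ W'' (h'' : F.IsConj W W''), img W' f = W'' → ∀ σ,
      (∀ x ∈ W', σ (ch W' h' x) = ch W'' h'' (f x)) →
      Val σ (gm W'' h'' * γ * (gm W' h')⁻¹) := by
    intro P f γ hf W' h' hWP W'' h'' hi σ hσ
    have hfm := Th.isMap hc hf
    have hP : P ≤ S := hfm.le
    haveI := finite_of_le hP
    set P' := normalizerIn P W' with hP'
    have hP'P : P' ≤ P := inf_le_left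
    have hP'N : P' ≤ normalizerIn S W' := inf_le_inf_right _ hP
    have hlt : W' < P' := lt_normalizerIn (hS.to_le hP) hWP
    have hφ := Th.mono hc (hch W' h') hP'N
    obtain ⟨j, hj, hjx⟩ := Th.exists_inv hc hφ
    have hφm := Th.isMap hc hφ
    have hjm : ∀ y ∈ img P' (ch W' h'), j y ∈ P' := fun y hy => by
      obtain ⟨x, hx, rfl⟩ := hφm.mem_img.1 hy
      rw [hjx x hx]
      exact hx
    have hfN : ∀ x ∈ P', f x ∈ normalizerIn S W'' := fun x hx => by
      have h := hfm.apply_mem_normalizerIn hWP.le (hP'P hx) hx.2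
      rwa [hi] at h
    have hk := (hj.trans hc (Th.mono hc hf hP'P) hjm).trans hc (hch W'' h'') fun y hy =>
      hfN _ (hjm y hy)
    have hWY : W ≤ img P' (ch W' h') := (hchi W' h').ge.trans (img_mono hlt.le)
    have hval : ∀ x ∈ W', ch W'' h'' (f (j (ch W' h' x))) = ch W'' h'' (f x) := fun x hx => by
      rw [hjx x (hlt.le hx)]
    rw [show gm W'' h'' * γ * (gm W' h')⁻¹ = gm W'' h'' * (γ * (gm W' h')⁻¹) from mul_assoc _ _ _]
    refine hV.congr _ σ _ (hV.big _ _ _ (lt_of_le_of_ne hWY fun e => ?_) ?_ hk ?_) fun y hy => ?_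
    · haveI := finite_of_le (hP'P.trans hP)
      refine hlt.ne (eq_of_le_of_card_le hlt.le ?_)
      rw [← hφm.card_img, ← e, ← isConj_card h']
    · intro y hy
      obtain ⟨x, hx, rfl⟩ := hφm.mem_img.1 hy
      exact hchN W' h' x (hP'N hx)
    · have hm := (Th.isMap hc hk).mono hWY
      haveI := finite_of_le hW.1
      refine img_eq_of_mapsTo hm fun y hy => ?_
      obtain ⟨x, hx, rfl⟩ := (hφm.mono hlt.le).mem_img.1 ((hchi W' h').ge hy)
      show ch W'' h'' (f (j (ch W' h' x))) ∈ W
      rw [hval x hx]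
      exact hchW W'' h'' _ (hi ▸ (hfm.mono hWP.le).apply_mem_img hx)
    · obtain ⟨x, hx, rfl⟩ := (hφm.mono hlt.le).mem_img.1 ((hchi W' h').ge hy)
      show ch W'' h'' (f (j (ch W' h' x))) = σ (ch W' h' x)
      rw [hval x hx, hσ x hx]
  have claim : ∀ (P : Subgroup Ω) f γ, D.Th P f γ → ∀ W' (h' : F.IsConj W W'), W' ≤ P →
      ∀ W'' (h'' : F.IsConj W W''), img W' f = W'' → ∀ σ,
      (∀ x ∈ W', σ (ch W' h' x) = ch W'' h'' (f x)) →
      Val σ (gm W'' h'' * γ * (gm W' h')⁻¹) := by
    intro P f γ hf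
    induction hf with
    | @top P f m h =>
      intro W' h' hWP W'' h'' hi σ hσ
      have hPN := h.le
      obtain ⟨g, hg, -, hgx⟩ := D.M.map P hPN m fun x hx => ⟨_, h.eq hx⟩
      have hgR : D.M.Real (P ⊔ T) g m := fun x hx => by
        have hxN : x ∈ normalizerIn S T := (sup_le hPN D.M.le) hx
        obtain ⟨h1, h2⟩ := hgx x hxN hx
        exact ⟨hxN, h1, h2⟩
      have hgf : ∀ x ∈ P, g x = f x := fun x hx =>
        (hgR.mono le_sup_left).unique h hx
      refine bigcase _ g _ (.top m hgR) W' h' (lt_of_le_of_ne (hWP.trans le_sup_left) fun e => ?_)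
        W'' h'' ?_ σ fun x hx => by rw [hgf x (hWP hx)]; exact hσ x hx
      · refine hTW ?_
        obtain ⟨k, hk, hki⟩ := isConj_iff.1 (isConj_symm h')
        have hTW' : T ≤ W' := e ▸ le_sup_right
        exact ((StronglyClosed.img_eq hc.closed hk hTW').ge.trans (img_mono hTW')).trans hki.le
      · rw [img_congr fun x hx => hgf x (hWP hx), hi]
    | @pure P R f β hR hPR hβ hcop htriv hce hE hf =>
      intro W' h' hWP W'' h'' hi σ hσ
      rcases (hWP.trans hPR).lt_or_eq with hlt | rfl
      · refine bigcase R (autFun β) 1 (.pure hR le_rfl hβ hcop htriv hce hE fun _ _ => rfl)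
          W' h' hlt W'' h'' ?_ σ fun x hx => by rw [← hf x (hWP hx)]; exact hσ x hx
        rw [← img_congr fun x hx => hf x (hWP hx), hi]
      · -- an automorphism of a member
        obtain rfl : W'' = W' := by
          rw [← hi, img_congr fun x hx => hf x (hWP hx), Fus.img_autFun]
        rw [show gm W'' h'' * 1 * (gm W'' h')⁻¹ = 1 by rw [mul_one, mul_inv_cancel]]
        have hφm := (Th.isMap hc (hch W'' h')).mono (hin W'' h')
        obtain ⟨j, hj, hjx, hjy, -⟩ := hφm.exists_inv
        rw [hchi W'' h'] at hj hjy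
        haveI := finite_of_le hW.1
        have hk : IsMap F W fun y => (ch W'' h') (autFun β (j y)) :=
          (hj.comp (isMap_autFun hR hβ) fun y hy => (hjy y hy).1).comp hφm
            fun y hy => autFun_mem β (hjy y hy).1
        have hki : img W (fun y => (ch W'' h') (autFun β (j y))) = W := img_eq_of_mapsTo hk fun y hy =>
          hchW W'' h' _ (autFun_mem β (hjy y hy).1)
        set β' := hk.toAut hki with hβ'
        have hpow : ∀ (i : ℕ) (y : Ω), y ∈ W →
            (fun y => (ch W'' h') (autFun β (j y)))^[i] y = (ch W'' h') (autFun (β ^ i) (j y)) := by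
          intro i
          induction i with
          | zero => intro y hy; simp [autFun_one (hjy y hy).1, (hjy y hy).2]
          | succ i ih =>
            intro y hy
            rw [Function.iterate_succ_apply', ih y hy, pow_succ',
              autFun_mul_apply _ _ (hjy y hy).1]
            show (ch W'' h') (autFun β (j ((ch W'' h') _))) = _
            rw [hjx _ (autFun_mem _ (hjy y hy).1)]
        have hcop' : (orderOf β').Coprime p := by
          refine hcop.coprime_dvd_left (orderOf_dvd_of_pow_eq_one (MulEquiv.ext fun y => Subtype.ext ?_))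
          rw [hβ', toAut_pow_coe hk hki, hpow _ y y.2, pow_orderOf_eq_one,
            autFun_one (hjy y y.2).1, (hjy y y.2).2]
          rfl
        have hev : ∀ y ∈ W, autFun β' y = (ch W'' h') (autFun β (j y)) := fun y hy => by
          rw [autFun_apply β' hy, hβ', IsMap.toAut_apply]
        have hVi : W ⊓ T = img (W'' ⊓ T) (ch W'' h') := by
          ext y
          constructor
          · rintro ⟨hy, hyT⟩
            obtain ⟨hx, hfx⟩ := hjy y hy
            exact hfx ▸ (hφm.mono inf_le_left).apply_mem_img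
              ⟨hx, StronglyClosed.apply_mem hc.closed hj hy hyT⟩
          · intro hy
            obtain ⟨x, hx, rfl⟩ := (hφm.mono inf_le_left).mem_img.1 hy
            exact ⟨hchW W'' h' x hx.1, StronglyClosed.apply_mem hc.closed hφm hx.1 hx.2⟩
        have hst : ∀ x ∈ W'' ⊓ T, autFun β x ∈ W'' ⊓ T := fun x hx => ⟨autFun_mem β hx.1, by
          have := T.mul_mem hx.2 (htriv x hx.1)
          rwa [mul_inv_cancel_left] at this⟩
        have hE' : IsMap E (W ⊓ T) (autFun β') := by
          rw [hVi]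
          refine (conj_map_of_map hc.normal.1.2.2 (hφm.mono inf_le_left) inf_le_right
            (k := j) (fun x hx => hjx x hx.1) hE hst).congr fun y hy => (hev y ?_).symm
          rw [← hVi] at hy
          exact hy.1
        refine hV.congr _ σ _ (hV.pure β' (hk.toAut_mem hki) hcop' (fun y hy => ?_) ?_ hE')
          fun y hy => ?_
        · rw [hev y hy]
          obtain ⟨hx, hfx⟩ := hjy y hy
          rw [show y⁻¹ = (ch W'' h' (j y))⁻¹ from congrArg Inv.inv hfx.symm, ← hφm.map_inv hx, ← hφm.map_mul (W''.inv_mem hx) (autFun_mem β hx)]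
          exact StronglyClosed.apply_mem hc.closed hφm
            (W''.mul_mem (W''.inv_mem hx) (autFun_mem β hx)) (htriv _ hx)
        · rw [hVi]
          exact centric_img_of_map hS hc.normal.1 (hφm.mono inf_le_left) hce
        · obtain ⟨hx, hfx⟩ := hjy y hy
          rw [hev y hy, ← hf _ (hWP hx)]
          conv_rhs => rw [← hfx]
          exact (hσ _ hx).symm
    | @comp P Q f g h γ δ h₁ hmem h₂ hh ih₁ ih₂ =>
      intro W' h' hWP W'' h'' hi σ hσ
      have hfm := (Th.isMap hc h₁).mono hWP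
      have hm : F.IsConj W (img W' f) := isConj_trans h' hfm.isConj
      have hle : img W' f ≤ Q := fun y hy => by
        obtain ⟨x, hx, rfl⟩ := hfm.mem_img.1 hy
        exact hmem x (hWP hx)
      have hgi : img (img W' f) g = W'' := by
        rw [← img_comp_eq hfm (Th.isMap hc h₂) fun x hx => hmem x (hWP hx), ← hi]
        exact img_congr fun x hx => (hh x (hWP hx)).symm
      have hφ' := (Th.isMap hc (hch W' h')).mono (hin W' h')
      obtain ⟨j, hj, hjx, hjy, -⟩ := hφ'.exists_inv
      rw [hchi W' h'] at hj hjy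
      have hφm := (Th.isMap hc (hch _ hm)).mono (hin _ hm)
      obtain ⟨j', hj', hj'x, hj'y, -⟩ := hφm.exists_inv
      rw [hchi _ hm] at hj' hj'y
      have v₁ := ih₁ W' h' hWP (img W' f) hm rfl (fun y => ch _ hm (f (j y)))
        fun x hx => by rw [hjx x hx]
      have v₂ := ih₂ (img W' f) hm hle W'' h'' hgi (fun y => ch W'' h'' (g (j' y)))
        fun x hx => by rw [hj'x x hx]
      have v := hV.mul _ _ _ _ v₁ v₂
      rw [show gm W'' h'' * δ * (gm _ hm)⁻¹ * (gm _ hm * γ * (gm W' h')⁻¹) =
        gm W'' h'' * (δ * γ) * (gm W' h')⁻¹ by group] at v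
      refine hV.congr _ σ _ v fun y hy => ?_
      obtain ⟨hx, hfx⟩ := hjy y hy
      show ch W'' h'' (g (j' (ch _ hm (f (j y))))) = σ y
      rw [hj'x _ (hfm.apply_mem_img hx), ← hh _ (hWP hx)]
      conv_rhs => rw [← hfx]
      exact (hσ _ hx).symm
  -- conclusions
  intro P hP
  haveI := finite_of_le hW.1
  have hφP := (Th.isMap hc (hch P hP)).mono (hin P hP)
  refine ⟨fun f hf => ?_, fun hPc γ hγ => ?_⟩
  · have h'' : F.IsConj W (img P f) := isConj_trans hP hf.isConj
    obtain ⟨j, hj, hjx, hjy, -⟩ := hφP.exists_inv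
    rw [hchi P hP] at hj hjy
    have hφ'' := (Th.isMap hc (hch _ h'')).mono (hin _ h'')
    have hσm : IsMap F W fun y => ch _ h'' (f (j y)) :=
      (hj.comp hf fun y hy => (hjy y hy).1).comp hφ'' fun y hy => hf.apply_mem_img (hjy y hy).1
    have hσi : img W (fun y => ch _ h'' (f (j y))) = W := img_eq_of_mapsTo hσm fun y hy =>
      hchW _ h'' _ (hf.apply_mem_img (hjy y hy).1)
    obtain ⟨δ, hδ⟩ := hV.total _ hσm hσi
    obtain ⟨k, hk, hkx⟩ := Th.exists_inv hc (Th.mono hc (hch _ h'') (hin _ h''))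
    rw [hchi _ h''] at hk
    refine ⟨_, ((Th.mono hc (hch P hP) (hin P hP)).trans hc
      ((hV.th _ _ hδ).trans hc hk fun y hy => ?_) fun x hx => hchW P hP x hx).congr hc
      fun x hx => ?_⟩
    · exact hchW _ h'' _ (hf.apply_mem_img (hjy y hy).1)
    · show k (ch _ h'' (f (j (ch P hP x)))) = f x
      rw [hjx x hx, hkx _ (hf.apply_mem_img hx)]
  · have v := claim P id γ hγ P hP le_rfl P hP (by simp [img]) id fun x hx => rfl
    obtain ⟨c, hcC, hc'⟩ := hV.one _ _ v fun x _ => rfl
    have hCN : centralizerIn S P ≤ normalizerIn S P := centralizerIn_le_normalizerIn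
    have hm := (Th.isMap hc (hch P hP))
    have hmap : img (centralizerIn S P) (ch P hP) = centralizerIn S W := by
      haveI : Finite (centralizerIn S W) := finite_centralizerIn
      refine eq_of_le_of_card_le (fun y hy => ?_) ?_
      · obtain ⟨x, hx, rfl⟩ := (hm.mono hCN).mem_img.1 hy
        have h := hm.apply_mem_centralizerIn (hin P hP) (hCN hx) hx.2
        rwa [hchi P hP] at h
      · rw [(hm.mono hCN).card_img]
        exact hPc.2 W (isConj_symm hP)
    obtain ⟨c', hc'C, rfl⟩ := (hm.mono hCN).mem_img.1 (hmap.ge hcC)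
    refine ⟨c', hc'C, ?_⟩
    rw [Th.bar_apply hc (hch P hP) c' (hCN hc'C)] at hc'
    exact mul_left_cancel (mul_right_cancel hc')

end CfsgLib.Comp.EBal.TopData
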