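import Cfsg.Agent.Lib.Comp.EBalModelApi

/-!
The functor to the model of `N_F(T)` modulo its subgroup belonging to the subsystem.
-/

set_option autoImplicit false
set_option linter.unusedVariables false
set_option linter.unusedSectionVars false
set_option linter.style.haveILetI false

universe u

namespace CfsgLib.Comp.EBal

open Cfsg Cfsg.FusionSystem Subgroup CfsgLib.Fusion CfsgLib.Comp.Fus CfsgLib.Comp.CProd

variable {Ω : Type u} [Group Ω] {S T P Q R W : Subgroup Ω} {F : FusionSystem S}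
  {E : FusionSystem T} {p : ℕ}

/-- The model of the normalizer system of `T` with the subgroup belonging to `E`. -/
structure TopData (F : FusionSystem S) (E : FusionSystem T) (p : ℕ) : Type (u + 1) where
  M : WModel F p T
  H : Subgroup M.G
  norm : H.Normal
  mem_iff : ∀ (n : Ω) (hn : n ∈ normalizerIn S T), M.ι ⟨n, hn⟩ ∈ H ↔ n ∈ T
  hmap : ∀ h ∈ H, ∃ e, IsMap E T e ∧ ∀ (x : Ω) (hx : x ∈ T), ∃ hex : e x ∈ T,
    M.ι ⟨e x, M.le hex⟩ = h * M.ι ⟨x, M.le hx⟩ * h⁻¹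
  hcop : ∀ m : M.G, (orderOf m).Coprime p → ∀ e, IsMap E T e →
    (∀ (x : Ω) (hx : x ∈ T), ∃ hex : e x ∈ normalizerIn S T,
      M.ι ⟨e x, hex⟩ = m * M.ι ⟨x, M.le hx⟩ * m⁻¹) → m ∈ H

attribute [instance] TopData.norm

theorem exists_topData [Fact p.Prime] [Finite S] (hc : Ctx F E p) :
    Nonempty (TopData F E p) := by
  haveI := finite_of_le hc.le
  have hTn : F.IsFullyNormalized T := CfsgLib.Comp.SQ.fullyNormalized_of_closed hc.closed
  obtain ⟨M⟩ := exists_wModel hc (inC_self hc) hTn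
  obtain ⟨H, hH, h1, h2, h3⟩ :=
    exists_sideGroup hc hTn (centric_top (hc.pS.to_le hc.le) hc.normal.1.1) M
  exact ⟨⟨M, H, hH, h1, h2, h3⟩⟩

namespace TopData

variable (D : TopData F E p)

/-- The target group. -/
abbrev Quot : Type u := D.M.G ⧸ D.H

open Classical in
/-- The image of an element of `S` in the target. -/
noncomputable def bar (x : Ω) : D.Quot :=
  if h : x ∈ normalizerIn S T then (QuotientGroup.mk (D.M.ι ⟨x, h⟩)) else 1

theorem bar_eq {x : Ω} (h : x ∈ normalizerIn S T) :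
    D.bar x = (QuotientGroup.mk (D.M.ι ⟨x, h⟩) : D.Quot) := by
  simp [bar, h]

/-- The pairs of a map and a value of the functor. -/
inductive Th : Subgroup Ω → (Ω → Ω) → D.Quot → Prop
  | top {P : Subgroup Ω} {f : Ω → Ω} (m : D.M.G) (h : D.M.Real P f m) :
      Th P f (QuotientGroup.mk m)
  | pure {P R : Subgroup Ω} {f : Ω → Ω} {β : MulAut R} (hR : R ≤ S) (hPR : P ≤ R)
      (hβ : β ∈ F.autGroup R) (hcop : (orderOf β).Coprime p)
      (htriv : ∀ x ∈ R, x⁻¹ * autFun β x ∈ T) (hce : E.IsCentric (R ⊓ T))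
      (hE : IsMap E (R ⊓ T) (autFun β)) (hf : ∀ x ∈ P, f x = autFun β x) : Th P f 1
  | comp {P Q : Subgroup Ω} {f g h : Ω → Ω} {γ δ : D.Quot} (h₁ : Th P f γ)
      (hmem : ∀ x ∈ P, f x ∈ Q) (h₂ : Th Q g δ) (hh : ∀ x ∈ P, h x = g (f x)) :
      Th P h (δ * γ)

variable [Fact p.Prime] [Finite S] (hc : Ctx F E p) {D} {f g : Ω → Ω} {γ δ : D.Quot}

include hc

theorem nT : normalizerIn S T = S := StronglyClosed.normalizerIn_eq hc.closed

theorem mem_N {x : Ω} (hx : x ∈ S) : x ∈ normalizerIn S T := (TopData.nT hc).ge hx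

theorem bar_mul {x y : Ω} (hx : x ∈ S) (hy : y ∈ S) : D.bar (x * y) = D.bar x * D.bar y := by
  rw [D.bar_eq (mem_N hc (S.mul_mem hx hy)), D.bar_eq (mem_N hc hx), D.bar_eq (mem_N hc hy),
    ← QuotientGroup.mk_mul, ← map_mul]
  rfl

theorem bar_inv {x : Ω} (hx : x ∈ S) : D.bar x⁻¹ = (D.bar x)⁻¹ := by
  rw [D.bar_eq (mem_N hc (S.inv_mem hx)), D.bar_eq (mem_N hc hx), ← QuotientGroup.mk_inv,
    ← map_inv]
  rfl

theorem bar_eq_one_iff {x : Ω} (hx : x ∈ S) : D.bar x = 1 ↔ x ∈ T := by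
  rw [D.bar_eq (mem_N hc hx), QuotientGroup.eq_one_iff, D.mem_iff]

/-- Conjugation by a member of the model on `T`. -/
theorem exists_conjT (m : D.M.G) : ∃ a, IsMap F T a ∧ D.M.Real T a m ∧ ∀ x ∈ T, a x ∈ T := by
  obtain ⟨a, ha, hax, -, hmem⟩ :=
    WModel.exists_map_of_stab (M := D.M) D.M.le (by rw [D.M.stab_self]; trivial)
  exact ⟨a, ha.mono le_sup_left, hax.mono le_sup_left, hmem⟩

theorem Th.isMap (h : D.Th P f γ) : IsMap F P f := by
  induction h with
  | @top P f m h =>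
    obtain ⟨g, hg, -, hgx⟩ := D.M.map P h.le m fun x hx => ⟨_, h.eq hx⟩
    refine (hg.mono le_sup_left).congr fun x hx => ?_
    obtain ⟨h1, h2⟩ := hgx x (h.le hx) (mem_sup_left hx)
    exact congrArg Subtype.val (D.M.inj (h2.trans (h.eq hx).symm))
  | pure hR hPR hβ _ _ _ _ hf =>
    exact ((isMap_autFun hR hβ).mono hPR).congr fun x hx => (hf x hx).symm
  | comp _ hmem _ hh ih₁ ih₂ => exact (ih₁.comp ih₂ hmem).congr fun x hx => (hh x hx).symm

theorem Th.mono (h : D.Th P f γ) (hP : R ≤ P) : D.Th R f γ := by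
  induction h generalizing R with
  | top m h => exact .top m (h.mono hP)
  | pure hR hPR hβ hcop htriv hce hE hf =>
    exact .pure hR (hP.trans hPR) hβ hcop htriv hce hE fun x hx => hf x (hP hx)
  | comp _ hmem h₂ hh ih₁ _ =>
    exact .comp (ih₁ hP) (fun x hx => hmem x (hP hx)) h₂ fun x hx => hh x (hP hx)

theorem Th.congr (h : D.Th P f γ) (hfg : ∀ x ∈ P, f x = g x) : D.Th P g γ := by
  cases h with
  | top m h => exact .top m (h.congr hfg)
  | pure hR hPR hβ hcop htriv hce hE hf =>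
    exact .pure hR hPR hβ hcop htriv hce hE fun x hx => (hfg x hx).symm.trans (hf x hx)
  | comp h₁ hmem h₂ hh =>
    exact .comp h₁ hmem h₂ fun x hx => (hfg x hx).symm.trans (hh x hx)

theorem th_id (hP : P ≤ S) : D.Th P id 1 := by
  have h := Th.top (D := D) 1 (WModel.real_one (M := D.M) (hP.trans (TopData.nT hc).ge))
  rwa [QuotientGroup.mk_one] at h

theorem th_conj (hP : P ≤ S) {s : Ω} (hs : s ∈ S) :
    D.Th P (fun x => s * x * s⁻¹) (D.bar s) := by
  rw [D.bar_eq (mem_N hc hs)]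
  exact .top _ (WModel.real_conj (hP.trans (TopData.nT hc).ge) _)

theorem Th.trans (h₁ : D.Th P f γ) (h₂ : D.Th Q g δ) (hmem : ∀ x ∈ P, f x ∈ Q) :
    D.Th P (fun x => g (f x)) (δ * γ) := .comp h₁ hmem h₂ fun _ _ => rfl

theorem Th.exists_inv (h : D.Th P f γ) :
    ∃ k, D.Th (img P f) k γ⁻¹ ∧ ∀ x ∈ P, k (f x) = x := by
  induction h with
  | @top P f m h =>
    have hf := Th.isMap hc (Th.top (D := D) m h)
    obtain ⟨k, hk, hkx, hky, -⟩ := hf.exists_inv
    refine ⟨k, ?_, hkx⟩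
    rw [← QuotientGroup.mk_inv]
    refine .top m⁻¹ fun y hy => ?_
    obtain ⟨hx, hfx⟩ := hky y hy
    have hyN : y ∈ normalizerIn S T := mem_N hc (hf.img_le hy)
    refine ⟨hyN, h.le hx, ?_⟩
    have e := h.eq hx
    have e' : (⟨f (k y), h.mem hx⟩ : normalizerIn S T) = ⟨y, hyN⟩ := Subtype.ext hfx
    rw [e'] at e
    rw [e]
    group
  | @pure P R f β hR hPR hβ hcop htriv hce hE hf =>
    have hst : ∀ x ∈ R ⊓ T, autFun β x ∈ R ⊓ T := fun x hx => ⟨autFun_mem β hx.1, by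
      have := T.mul_mem hx.2 (htriv x hx.1)
      rwa [mul_inv_cancel_left] at this⟩
    haveI := finite_of_le (inf_le_left.trans hR : R ⊓ T ≤ S)
    have hiE := img_eq_of_mapsTo hE hst
    obtain ⟨k, hk, hkx, hky, -⟩ := hE.exists_inv
    rw [hiE] at hk hky
    refine ⟨autFun β⁻¹, ?_, fun x hx => by rw [hf x hx, autFun_inv_apply β (hPR hx)]⟩
    rw [inv_one]
    refine .pure hR ?_ (inv_mem hβ) (by rwa [orderOf_inv]) (fun x hx => ?_) hce
      (hk.congr fun x hx => ?_) fun _ _ => rfl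
    · intro y hy
      obtain ⟨x, hx, rfl⟩ :=
        ((((isMap_autFun hR hβ).mono hPR).congr fun x hx => (hf x hx).symm)).mem_img.1 hy
      rw [hf x hx]
      exact autFun_mem β (hPR hx)
    · have h1 := T.inv_mem (htriv _ (autFun_mem β⁻¹ hx))
      rwa [autFun_apply_inv β hx, mul_inv_rev, inv_inv] at h1
    · conv_rhs => rw [← (hky x hx).2]
      rw [autFun_inv_apply β (hky x hx).1.1]
  | @comp P Q f g h γ δ h₁ hmem h₂ hh ih₁ ih₂ =>
    obtain ⟨k₁, hk₁, hk₁x⟩ := ih₁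
    obtain ⟨k₂, hk₂, hk₂x⟩ := ih₂
    refine ⟨fun z => k₁ (k₂ z), ?_, fun x hx => by show k₁ (k₂ (h x)) = x; rw [hh x hx, hk₂x _ (hmem x hx), hk₁x x hx]⟩
    have hm := ((Th.isMap hc h₁).comp (Th.isMap hc h₂) hmem).congr fun x hx => (hh x hx).symm
    have hle : img P h ≤ img Q g := fun z hz => by
      obtain ⟨x, hx, rfl⟩ := hm.mem_img.1 hz
      rw [hh x hx]
      exact (Th.isMap hc h₂).apply_mem_img (hmem x hx)
    rw [mul_inv_rev]
    refine .comp (Th.mono hc hk₂ hle) (fun z hz => ?_) hk₁ fun z _ => rfl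
    obtain ⟨x, hx, rfl⟩ := hm.mem_img.1 hz
    rw [hh x hx, hk₂x _ (hmem x hx)]
    exact (Th.isMap hc h₁).apply_mem_img hx

/-- The values move the images in the target by conjugation. -/
theorem Th.bar_apply (h : D.Th P f γ) : ∀ x ∈ P, D.bar (f x) = γ * D.bar x * γ⁻¹ := by
  induction h with
  | @top P f m h =>
    intro x hx
    rw [D.bar_eq (h.mem hx), D.bar_eq (h.le hx), h.eq hx, QuotientGroup.mk_mul,
      QuotientGroup.mk_mul, QuotientGroup.mk_inv]
  | @pure P R f β hR hPR hβ _ htriv _ _ hf =>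
    intro x hx
    have hxS := hR (hPR hx)
    have h1 := htriv x (hPR hx)
    have h2 : D.bar (x * (x⁻¹ * autFun β x)) = D.bar x := by
      rw [bar_mul hc hxS (hc.le h1), (bar_eq_one_iff hc (hc.le h1)).2 h1, mul_one]
    rw [mul_inv_cancel_left] at h2
    rw [hf x hx, h2, one_mul, inv_one, mul_one]
  | @comp P Q f g h γ δ h₁ hmem h₂ hh ih₁ ih₂ =>
    intro x hx
    rw [hh x hx, ih₂ _ (hmem x hx), ih₁ x hx]
    group

omit [Fact p.Prime] [Finite S] in
/-- The first invariant for one representative gives it for all. -/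
theorem inv_rep {m m' : D.M.G} (hmm' : (m' : D.Quot) = m) {e : Ω → Ω}
    (he : IsMap E (P ⊓ T) e)
    (hx : ∀ x ∈ P ⊓ T, ∃ (hfx : f x ∈ normalizerIn S T) (hex : e x ∈ T),
      D.M.ι ⟨f x, hfx⟩ = m * D.M.ι ⟨e x, D.M.le hex⟩ * m⁻¹) :
    ∃ e', IsMap E (P ⊓ T) e' ∧ ∀ x ∈ P ⊓ T, ∃ (hfx : f x ∈ normalizerIn S T) (hex : e' x ∈ T),
      D.M.ι ⟨f x, hfx⟩ = m' * D.M.ι ⟨e' x, D.M.le hex⟩ * m'⁻¹ := by
  have hh : m'⁻¹ * m ∈ D.H := QuotientGroup.eq.1 hmm'
  obtain ⟨k, hk, hkx⟩ := D.hmap _ hh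
  refine ⟨fun x => k (e x), he.comp hk fun x hx => he.mem hx, fun x hxP => ?_⟩
  obtain ⟨hfx, hex, e1⟩ := hx x hxP
  obtain ⟨hkk, e2⟩ := hkx (e x) hex
  refine ⟨hfx, hkk, ?_⟩
  rw [e2, e1]
  group

/-- A map with value `γ` differs on `T` from a representative of `γ` by a map of the subsystem. -/
theorem Th.inv_E (h : D.Th P f γ) : ∀ m : D.M.G, (m : D.Quot) = γ →
    ∃ e, IsMap E (P ⊓ T) e ∧ ∀ x ∈ P ⊓ T, ∃ (hfx : f x ∈ normalizerIn S T) (hex : e x ∈ T),
      D.M.ι ⟨f x, hfx⟩ = m * D.M.ι ⟨e x, D.M.le hex⟩ * m⁻¹ := by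
  induction h with
  | @top P f m h =>
    intro m' hm'
    exact inv_rep hc hm' (isMap_id E inf_le_right) fun x hx =>
      ⟨h.mem hx.1, hx.2, h.eq hx.1⟩
  | @pure P R f β hR hPR hβ hcop htriv hce hE hf =>
    intro m' hm'
    refine inv_rep hc (m := 1) (hm'.trans (QuotientGroup.mk_one D.H).symm)
      (hE.mono (inf_le_inf_right T hPR)) fun x hx => ?_
    have hxR : x ∈ R := hPR hx.1
    have hb : autFun β x ∈ T := by
      have := T.mul_mem hx.2 (htriv x hxR)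
      rwa [mul_inv_cancel_left] at this
    refine ⟨(hf x hx.1).symm ▸ D.M.le hb, hb, ?_⟩
    simp [hf x hx.1]
  | @comp P Q f g h γ δ h₁ hmem h₂ hh ih₁ ih₂ =>
    intro m' hm'
    obtain ⟨m₁, rfl⟩ := QuotientGroup.mk_surjective γ
    obtain ⟨m₂, rfl⟩ := QuotientGroup.mk_surjective δ
    obtain ⟨e₁, he₁, he₁x⟩ := ih₁ m₁ rfl
    obtain ⟨e₂, he₂, he₂x⟩ := ih₂ m₂ rfl
    obtain ⟨a, ha, hax, haT⟩ := exists_conjT hc (D := D) m₁⁻¹
    obtain ⟨-, -, hconj, -⟩ := isInvariantIn_iff.1 hc.normal.1.2.2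
    obtain ⟨k, hk, hkx⟩ := hconj a ha _ e₂ he₂
    have hf := Th.isMap hc h₁
    have hfQ : ∀ x ∈ P ⊓ T, f x ∈ Q ⊓ T := fun x hx =>
      ⟨hmem x hx.1, StronglyClosed.apply_mem hc.closed hf hx.1 hx.2⟩
    have hea : ∀ x ∈ P ⊓ T, e₁ x = a (f x) := fun x hx => by
      obtain ⟨hfx, hex, e1⟩ := he₁x x hx
      have e2 := hax.eq (hfQ x hx).2
      refine congrArg Subtype.val (D.M.inj (a₁ := ⟨e₁ x, D.M.le hex⟩)
        (a₂ := ⟨a (f x), hax.mem (hfQ x hx).2⟩) ?_)
      rw [e2, show (⟨f x, hax.le (hfQ x hx).2⟩ : normalizerIn S T) = ⟨f x, hfx⟩ from rfl, e1]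
      group
    refine inv_rep hc (m := m₂ * m₁) (e := fun x => k (e₁ x))
      (hm'.trans (QuotientGroup.mk_mul D.H m₂ m₁).symm) (he₁.comp hk fun x hx => ?_) fun x hx => ?_
    · rw [hea x hx]
      exact (ha.mono he₂.le).apply_mem_img (hfQ x hx)
    · obtain ⟨hgx, hex, e1⟩ := he₂x _ (hfQ x hx)
      refine ⟨(hh x hx.1).symm ▸ hgx, ?_, ?_⟩
      · show k (e₁ x) ∈ T
        rw [hea x hx, hkx _ (hfQ x hx)]
        exact haT _ hex
      · have e2 := hax.eq hex
        simp only [hh x hx.1, hea x hx, hkx _ (hfQ x hx)]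
        rw [e1, e2]
        group

/-- Over `T` the values are induced by elements of the model. -/
theorem Th.exact_of_le (h : D.Th P f γ) :
    T ≤ P → ∃ m : D.M.G, (m : D.Quot) = γ ∧ D.M.Real P f m := by
  induction h with
  | @top P f m h => exact fun _ => ⟨m, rfl, h⟩
  | @pure P R f β hR hPR hβ hcop htriv hce hE hf =>
    intro hTP
    have hTR : T ≤ R := hTP.trans hPR
    have hg := isMap_autFun hR hβ
    haveI := finite_of_le hR
    haveI := finite_of_le hc.le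
    have hgT : ∀ x ∈ T, autFun β x ∈ T := fun x hx =>
      StronglyClosed.apply_mem hc.closed hg (hTR hx) hx
    obtain ⟨m, hm⟩ := WModel.exists_real (M := D.M) (hR.trans (TopData.nT hc).ge) hTR hg
      (fun x hx => mem_N hc (hg.mem hx)) (img_eq_of_mapsTo (hg.mono hTR) hgT)
    obtain ⟨j, hj, hmj⟩ := hm.exists_coprime (fun x hx => autFun_mem β hx) (n := orderOf β) hcop
      fun x hx => by
        have h1 : ∀ i : ℕ, (autFun β)^[i] x = (((β ^ i) ⟨x, hx⟩ : R) : Ω) := by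
          intro i
          induction i with
          | zero => simp
          | succ i ih =>
            rw [Function.iterate_succ_apply', ih, autFun_apply β (Subtype.mem _), pow_succ',
              MulAut.mul_apply]
        rw [h1, pow_orderOf_eq_one]
        rfl
    refine ⟨m ^ j, (QuotientGroup.eq_one_iff _).2 (D.hcop _ hj (autFun β) ?_ fun x hx => ?_),
      (hmj.mono hPR).congr fun x hx => (hf x hx).symm⟩
    · rwa [inf_eq_right.2 hTR] at hE
    · exact ⟨hmj.mem (hTR hx), hmj.eq (hTR hx)⟩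
  | @comp P Q f g h γ δ h₁ hmem h₂ hh ih₁ ih₂ =>
    intro hTP
    have hf := Th.isMap hc h₁
    have hTQ : T ≤ Q := fun y hy => by
      haveI := finite_of_le hc.le
      obtain ⟨x, hx, rfl⟩ := (hf.mono hTP).mem_img.1
        ((StronglyClosed.img_eq hc.closed hf hTP).ge hy)
      exact hmem x (hTP hx)
    obtain ⟨m₁, rfl, hm₁⟩ := ih₁ hTP
    obtain ⟨m₂, rfl, hm₂⟩ := ih₂ hTQ
    exact ⟨m₂ * m₁, QuotientGroup.mk_mul _ _ _,
      (hm₁.comp hm₂ hmem).congr fun x hx => (hh x hx).symm⟩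

end TopData

end CfsgLib.Comp.EBal
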