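import Cfsg.Agent.Lib.Comp.RankConnect

/-!
For odd `p`, a `p`-group with an elementary abelian subgroup of order `p ^ 4` has a normal one.

Induction on the order. If `N` is a normal elementary abelian subgroup of order `p ^ 3` containing
all elements of order `p` of its centralizer, then an elementary abelian `A` of order `p ^ 4` meets
`N` in a subgroup `U` of order `p ^ 2` and induces on `N` all transvections with axis `U`; two
such subgroups normalizing each other are equal.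
-/

set_option autoImplicit false
set_option linter.style.haveILetI false
set_option linter.unusedSectionVars false

namespace CfsgLib.Comp

open Subgroup
open scoped commutatorElement

universe u

variable {G : Type u} [Group G] [Finite G] {p : ℕ} [Fact p.Prime]

/-- A subgroup of index `p` and an element outside it generate. -/
theorem exists_mul_zpow {N U : Subgroup G} {k : ℕ} (hN : Cfsg.IsElementaryAbelian p N) (hUN : U ≤ N)
    (hU : Nat.card U = p ^ k) (hNc : Nat.card N = p ^ (k + 1)) {n₀ : G} (hn₀ : n₀ ∈ N) (hn₀U : n₀ ∉ U)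
    {x : G} (hx : x ∈ N) : ∃ u ∈ U, ∃ s : ℤ, x = u * n₀ ^ s := by
  have hp : p.Prime := Fact.out
  have hle : U ⊔ zpowers n₀ ≤ N := sup_le hUN (zpowers_le.2 hn₀)
  obtain ⟨j, -, hj⟩ := (Nat.dvd_prime_pow hp).1 (hNc ▸ card_dvd_of_le hle)
  have hlt : Nat.card U < Nat.card ↥(U ⊔ zpowers n₀) := by
    refine lt_of_le_of_ne (card_le_of_le le_sup_left) fun e => hn₀U ?_
    rw [eq_of_le_of_card_ge (le_sup_left : U ≤ U ⊔ zpowers n₀) e.ge]
    exact (le_sup_right : zpowers n₀ ≤ U ⊔ zpowers n₀) (mem_zpowers n₀)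
  rw [hU, hj] at hlt
  have e : U ⊔ zpowers n₀ = N := eq_of_le_of_card_ge hle (by
    rw [hj, hNc]; exact Nat.pow_le_pow_right hp.pos ((Nat.pow_lt_pow_iff_right hp.one_lt).1 hlt))
  rw [← e] at hx
  have hnorm : zpowers n₀ ≤ normalizer (U : Set G) :=
    (le_centralizer_of_commute fun a ha b hb =>
      commute_of_elementary hN (zpowers_le.2 hn₀ ha) (hUN hb)).trans (Subgroup.centralizer_le_normalizer _)
  rw [← SetLike.mem_coe, Subgroup.coe_mul_of_right_le_normalizer_left _ _ hnorm] at hx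
  obtain ⟨u, hu, _, ⟨s, rfl⟩, rfl⟩ := hx
  exact ⟨u, hu, s, rfl⟩

variable {N : Subgroup G} [N.Normal] {A B : Subgroup G}

/-- The setting: `N` normal elementary abelian of order `p ^ 3` containing all elements of order `p`
of its centralizer, `A` elementary abelian of order `p ^ 4`. -/
theorem pair_facts (hG : IsPGroup p G) (hN : Cfsg.IsElementaryAbelian p N) (hNc : Nat.card N = p ^ 3)
    (hmax : ∀ x ∈ centralizer (N : Set G), x ^ p = 1 → x ∈ N)
    (hA : Cfsg.IsElementaryAbelian p A) (hAc : Nat.card A = p ^ 4) :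
    Nat.card ↥(A ⊓ N) = p ^ 2 ∧ A ⊓ centralizer (N : Set G) = A ⊓ N := by
  have hp : p.Prime := Fact.out
  have h1 : A ⊓ centralizer (N : Set G) ≤ A ⊓ N := fun x hx => ⟨hx.1, hmax x hx.2 (hA.2 x hx.1)⟩
  have h2 : A ⊓ N ≤ A ⊓ centralizer (N : Set G) := fun x hx =>
    ⟨hx.1, mem_centralizer_iff.2 fun n hn => commute_of_elementary hN hn hx.2⟩
  have heq := le_antisymm h1 h2
  refine ⟨le_antisymm ?_ ?_, heq⟩
  · by_contra hlt
    have h3 := pow_le_card_of_lt hG (not_le.1 hlt)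
    have e : A ⊓ N = N := eq_of_le_of_card_ge inf_le_right (by rw [hNc]; exact h3)
    have hAC : A ⊓ centralizer (N : Set G) = A := inf_eq_left.2 (le_centralizer_of_commute
      fun a ha b hb => commute_of_elementary hA ha ((e ▸ inf_le_left : N ≤ A) hb))
    rw [heq, e] at hAC
    rw [hAC, hAc] at hNc
    exact absurd (Nat.pow_right_injective hp.two_le hNc) (by norm_num)
  · obtain ⟨U, hUn, hUN, hcard, hcen, -⟩ := CfsgLib.Transfer.exists_chief_below hG N (by
      rintro rfl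
      rw [card_bot] at hNc
      exact (Nat.one_lt_pow (by norm_num) hp.one_lt).ne hNc)
    have hUc : Nat.card U = p ^ 2 := by
      rw [hNc, pow_succ'] at hcard
      exact (Nat.eq_of_mul_eq_mul_left hp.pos hcard).symm
    obtain ⟨n₀, hn₀, hn₀U⟩ : ∃ n ∈ N, n ∉ U := by
      by_contra h
      push Not at h
      have := card_le_of_le (show N ≤ U from h)
      rw [hNc, hUc] at this
      exact absurd ((Nat.pow_le_pow_iff_right hp.one_lt).1 this) (by norm_num)
    set A₀ := A ⊓ centralizer (U : Set G)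
    have hfix : ∀ a ∈ A₀, ∀ u ∈ U, a * u * a⁻¹ = u := fun a ha u hu => by
      rw [← mem_centralizer_iff.1 ha.2 u hu, mul_inv_cancel_right]
    let φ : A₀ →* U := MonoidHom.mk' (fun a => ⟨a.1 * n₀ * a.1⁻¹ * n₀⁻¹, hcen n₀ hn₀ a.1⟩)
      (fun a b => Subtype.ext (by
        show a.1 * b.1 * n₀ * (a.1 * b.1)⁻¹ * n₀⁻¹ =
          (a.1 * n₀ * a.1⁻¹ * n₀⁻¹) * (b.1 * n₀ * b.1⁻¹ * n₀⁻¹)
        rw [commute_of_elementary hN (hUN (hcen n₀ hn₀ a.1)) (hUN (hcen n₀ hn₀ b.1))]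
        calc a.1 * b.1 * n₀ * (a.1 * b.1)⁻¹ * n₀⁻¹
            = (a.1 * (b.1 * n₀ * b.1⁻¹ * n₀⁻¹) * a.1⁻¹) * (a.1 * n₀ * a.1⁻¹ * n₀⁻¹) := by group
          _ = _ := by rw [hfix a.1 a.2 _ (hcen n₀ hn₀ b.1)]))
    have hker : φ.ker.map A₀.subtype ≤ A ⊓ N := by
      rintro _ ⟨a, ha, rfl⟩
      refine h1 ⟨a.2.1, mem_centralizer_iff.2 fun n hn => ?_⟩
      obtain ⟨u, hu, s, rfl⟩ := exists_mul_zpow hN hUN hUc hNc hn₀ hn₀U hn
      have hc1 : Commute (a : G) n₀ := by
        have := congrArg Subtype.val (MonoidHom.mem_ker.1 ha)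
        exact mul_inv_eq_iff_eq_mul.1 (mul_inv_eq_one.1 this)
      have hc2 : Commute (a : G) u := mul_inv_eq_iff_eq_mul.1 (hfix a.1 a.2 u hu)
      exact (hc2.mul_right (hc1.zpow_right s)).eq.symm
    have hcard2 : Nat.card A₀ ≤ Nat.card ↥(A ⊓ N) * Nat.card φ.range := by
      rw [← Subgroup.card_mul_index φ.ker, Subgroup.index_ker]
      refine Nat.mul_le_mul_right _ (le_trans ?_ (card_le_of_le hker))
      rw [card_map_of_injective A₀.subtype_injective]
    have hr2 : Nat.card φ.range ≤ p ^ 2 := (Subgroup.card_le_card_group φ.range).trans hUc.le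
    by_cases hAU : A ≤ centralizer (U : Set G)
    · have hA0 : Nat.card A₀ = p ^ 4 := by rw [← hAc, show A₀ = A from inf_eq_left.2 hAU]
      have := (hA0.ge.trans hcard2).trans (Nat.mul_le_mul_left _ hr2)
      rw [show 4 = 2 + 2 from rfl, pow_add] at this
      exact Nat.le_of_mul_le_mul_right this (pow_pos hp.pos 2)
    · obtain ⟨a₁, ha₁, ha₁U⟩ := SetLike.not_le_iff_exists.1 hAU
      have hA3 : p ^ 3 ≤ Nat.card A₀ := by
        have := card_le_mul_card_inf_centralizer hG hUc A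
        rw [hAc, pow_succ'] at this
        exact Nat.le_of_mul_le_mul_left this hp.pos
      have hr1 : Nat.card φ.range ≤ p := by
        have hne : φ.range ≠ ⊤ := by
          intro htop
          refine ha₁U (mem_centralizer_iff.2 fun u hu => ?_)
          obtain ⟨a, ha⟩ : (⟨u, hu⟩ : U) ∈ φ.range := htop ▸ mem_top _
          have hu' : a.1 * n₀ * a.1⁻¹ * n₀⁻¹ = u := congrArg Subtype.val ha
          set w := a₁ * n₀ * a₁⁻¹ * n₀⁻¹ with hw
          have hwU : w ∈ U := hcen n₀ hn₀ a₁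
          have e1 : (a.1 * a₁) * n₀ * (a.1 * a₁)⁻¹ * n₀⁻¹ = w * u := by
            rw [← hfix a.1 a.2 w hwU, ← hu', hw]; group
          have e2 : (a₁ * a.1) * n₀ * (a₁ * a.1)⁻¹ * n₀⁻¹ = a₁ * u * a₁⁻¹ * w := by
            rw [← hu', hw]; group
          rw [commute_of_elementary hA a.2.1 ha₁, e2, commute_of_elementary hN (hUN hwU) (hUN hu),
            mul_left_inj, mul_inv_eq_iff_eq_mul] at e1
          exact e1.symm
        obtain ⟨j, hj2, hj⟩ := (Nat.dvd_prime_pow hp).1 (hUc ▸ Subgroup.card_subgroup_dvd_card φ.range)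
        have : j ≠ 2 := fun e => hne (Subgroup.eq_top_of_card_eq _ (by rw [hj, e, hUc]))
        rw [hj]
        calc p ^ j ≤ p ^ 1 := Nat.pow_le_pow_right hp.pos (by omega)
          _ = p := pow_one p
      have := hA3.trans (hcard2.trans (Nat.mul_le_mul_left _ hr1))
      rw [pow_succ] at this
      exact Nat.le_of_mul_le_mul_right this hp.pos

/-- The commutators with an element of `N` outside `U = A ⊓ N` fill up `U`. -/
theorem pair_commutator (hG : IsPGroup p G) (hN : Cfsg.IsElementaryAbelian p N)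
    (hNc : Nat.card N = p ^ 3) (hmax : ∀ x ∈ centralizer (N : Set G), x ^ p = 1 → x ∈ N)
    (hA : Cfsg.IsElementaryAbelian p A) (hAc : Nat.card A = p ^ 4) {n₀ : G} (hn₀ : n₀ ∈ N)
    (hn₀U : n₀ ∉ A ⊓ N) :
    (∀ a ∈ A, a * n₀ * a⁻¹ * n₀⁻¹ ∈ A ⊓ N) ∧
      ∀ u ∈ A ⊓ N, ∃ a ∈ A, a * n₀ * a⁻¹ * n₀⁻¹ = u := by
  have hp : p.Prime := Fact.out
  obtain ⟨hUc, hker⟩ := pair_facts hG hN hNc hmax hA hAc
  have hfix : ∀ a ∈ A, ∀ u ∈ A ⊓ N, a * u * a⁻¹ = u := fun a ha u hu => by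
    rw [commute_of_elementary hA ha hu.1, mul_inv_cancel_right]
  have hmem : ∀ a ∈ A, a * n₀ * a⁻¹ * n₀⁻¹ ∈ A ⊓ N := by
    intro a ha
    obtain ⟨u, hu, s, hs⟩ := exists_mul_zpow hN inf_le_right hUc hNc hn₀ hn₀U
      (Subgroup.Normal.conj_mem ‹N.Normal› n₀ hn₀ a)
    have hiter : ∀ k : ℕ, ∃ v ∈ A ⊓ N, a ^ k * n₀ * (a ^ k)⁻¹ = v * n₀ ^ (s ^ k) := by
      intro k
      induction k with
      | zero => exact ⟨1, one_mem _, by simp⟩
      | succ k ih =>
        obtain ⟨v, hv, e⟩ := ih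
        refine ⟨v * u ^ (s ^ k), mul_mem hv (zpow_mem hu _), ?_⟩
        have hun : Commute u (n₀ ^ s) := commute_of_elementary hN hu.2 (zpow_mem hn₀ _)
        calc a ^ (k + 1) * n₀ * (a ^ (k + 1))⁻¹ = a * (a ^ k * n₀ * (a ^ k)⁻¹) * a⁻¹ := by
              rw [pow_succ']; group
          _ = (a * v * a⁻¹) * (a * n₀ ^ (s ^ k) * a⁻¹) := by rw [e]; group
          _ = _ := by
              rw [hfix a ha v hv, ← conj_zpow, hs, hun.mul_zpow, ← zpow_mul, mul_assoc,
                ← pow_succ']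
    obtain ⟨v, hv, e⟩ := hiter p
    rw [hA.2 a ha, inv_one, mul_one, one_mul] at e
    have hpow : n₀ ^ (s ^ p - 1) ∈ A ⊓ N := by
      have : n₀ ^ (s ^ p - 1) = v⁻¹ := by
        rw [zpow_sub_one]
        calc n₀ ^ s ^ p * n₀⁻¹ = v⁻¹ * (v * n₀ ^ s ^ p) * n₀⁻¹ := by group
          _ = _ := by rw [← e]; group
      rw [this]; exact inv_mem hv
    have hdvd : (p : ℤ) ∣ s ^ p - 1 := by
      by_contra hnd
      obtain ⟨x, y, hxy⟩ := (Nat.prime_iff_prime_int.1 hp).coprime_iff_not_dvd.2 hnd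
      refine hn₀U ?_
      rw [← zpow_one n₀, ← hxy, zpow_add, mul_comm x, mul_comm y, zpow_mul, zpow_mul, zpow_natCast,
        hN.2 n₀ hn₀, one_zpow, one_mul]
      exact zpow_mem hpow y
    have hs1 : (p : ℤ) ∣ s - 1 := by
      rw [← ZMod.intCast_zmod_eq_zero_iff_dvd] at hdvd ⊢
      push_cast at hdvd ⊢
      rwa [ZMod.pow_card] at hdvd
    obtain ⟨t, ht⟩ := hs1
    have hsn : n₀ ^ s = n₀ := by
      rw [show s = p * t + 1 by omega, zpow_add, zpow_mul, zpow_natCast, hN.2 n₀ hn₀, one_zpow,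
        one_mul, zpow_one]
    rw [hs, hsn, mul_inv_cancel_right]
    exact hu
  refine ⟨hmem, fun u hu => ?_⟩
  let φ : A →* ↥(A ⊓ N) := MonoidHom.mk' (fun a => ⟨a.1 * n₀ * a.1⁻¹ * n₀⁻¹, hmem a.1 a.2⟩)
    (fun a b => Subtype.ext (by
      show a.1 * b.1 * n₀ * (a.1 * b.1)⁻¹ * n₀⁻¹ =
        (a.1 * n₀ * a.1⁻¹ * n₀⁻¹) * (b.1 * n₀ * b.1⁻¹ * n₀⁻¹)
      rw [commute_of_elementary hN (hmem a.1 a.2).2 (hmem b.1 b.2).2]
      calc a.1 * b.1 * n₀ * (a.1 * b.1)⁻¹ * n₀⁻¹
          = (a.1 * (b.1 * n₀ * b.1⁻¹ * n₀⁻¹) * a.1⁻¹) * (a.1 * n₀ * a.1⁻¹ * n₀⁻¹) := by group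
        _ = _ := by rw [hfix a.1 a.2 _ (hmem b.1 b.2)]))
  have hle : φ.ker.map A.subtype ≤ A ⊓ N := by
    refine le_trans ?_ hker.le
    rintro _ ⟨a, ha, rfl⟩
    refine ⟨a.2, mem_centralizer_iff.2 fun n hn => ?_⟩
    obtain ⟨v, hv, s, rfl⟩ := exists_mul_zpow hN inf_le_right hUc hNc hn₀ hn₀U hn
    have hc1 : Commute (a : G) n₀ := by
      have := congrArg Subtype.val (MonoidHom.mem_ker.1 ha)
      exact mul_inv_eq_iff_eq_mul.1 (mul_inv_eq_one.1 this)
    have hc2 : Commute (a : G) v := commute_of_elementary hA a.2 hv.1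
    exact (hc2.mul_right (hc1.zpow_right s)).eq.symm
  have htop : φ.range = ⊤ := by
    refine Subgroup.eq_top_of_le_card _ ?_
    have h := Subgroup.card_mul_index φ.ker
    rw [Subgroup.index_ker, hAc] at h
    have h2 : Nat.card φ.ker ≤ p ^ 2 := by
      rw [← hUc, ← card_map_of_injective A.subtype_injective]; exact card_le_of_le hle
    rw [hUc]
    refine Nat.le_of_mul_le_mul_left (a := p ^ 2) ?_ (pow_pos hp.pos 2)
    rw [← pow_add, show 2 + 2 = 4 from rfl, ← h]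
    exact Nat.mul_le_mul_right _ h2
  obtain ⟨a, ha⟩ : (⟨u, hu⟩ : ↥(A ⊓ N)) ∈ φ.range := htop ▸ mem_top _
  exact ⟨a, a.2, congrArg Subtype.val ha⟩

/-- Two such subgroups normalizing each other are equal. -/
theorem pair_le (hp2 : p ≠ 2) (hG : IsPGroup p G) (hN : Cfsg.IsElementaryAbelian p N)
    (hNc : Nat.card N = p ^ 3) (hmax : ∀ x ∈ centralizer (N : Set G), x ^ p = 1 → x ∈ N)
    (hA : Cfsg.IsElementaryAbelian p A) (hAc : Nat.card A = p ^ 4)
    (hB : Cfsg.IsElementaryAbelian p B) (hBc : Nat.card B = p ^ 4)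
    (hAB : A ≤ normalizer (B : Set G)) (hBA : B ≤ normalizer (A : Set G)) : B ≤ A := by
  have hp : p.Prime := Fact.out
  obtain ⟨hUA, -⟩ := pair_facts hG hN hNc hmax hA hAc
  obtain ⟨hUB, -⟩ := pair_facts hG hN hNc hmax hB hBc
  have hUU : A ⊓ N = B ⊓ N := by
    refine eq_of_le_of_card_ge ?_ (by rw [hUA, hUB])
    by_contra hnle
    obtain ⟨v, hvB, hvA⟩ : ∃ v ∈ B ⊓ N, v ∉ A ⊓ N := by
      by_contra h
      push Not at h
      exact hnle (eq_of_le_of_card_ge (show B ⊓ N ≤ A ⊓ N from h) (by rw [hUA, hUB])).ge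
    refine hnle fun u hu => ?_
    obtain ⟨a, ha, rfl⟩ := (pair_commutator hG hN hNc hmax hA hAc hvB.2 hvA).2 u hu
    have h1 : a * v * a⁻¹ ∈ B := (mem_normalizer_iff.1 (hAB ha) v).1 hvB.1
    exact Subgroup.mem_inf.2 ⟨mul_mem h1 (inv_mem (Subgroup.mem_inf.1 hvB).1), hu.2⟩
  obtain ⟨m, hm, hmU⟩ : ∃ n ∈ N, n ∉ A ⊓ N := by
    by_contra h
    push Not at h
    have := card_le_of_le (show N ≤ A ⊓ N from h)
    rw [hNc, hUA] at this
    exact absurd ((Nat.pow_le_pow_iff_right hp.one_lt).1 this) (by norm_num)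
  have hdec : ∀ b ∈ B, ∃ a ∈ A, ∃ n ∈ N, b = a * n := by
    intro b hb
    obtain ⟨a, ha, hab⟩ := (pair_commutator hG hN hNc hmax hA hAc hm hmU).2 _
      (hUU ▸ (pair_commutator hG hN hNc hmax hB hBc hm (hUU ▸ hmU)).1 b hb)
    refine ⟨a, ha, a⁻¹ * b, hmax _ (mem_centralizer_iff.2 fun n hn => ?_) ?_,
      (mul_inv_cancel_left a b).symm⟩
    · obtain ⟨u, hu, s, rfl⟩ := exists_mul_zpow hN inf_le_right hUA hNc hm hmU hn
      have hc1 : Commute (a⁻¹ * b) m := by
        have hab' : a * m * a⁻¹ = b * m * b⁻¹ := mul_right_cancel hab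
        calc a⁻¹ * b * m = a⁻¹ * (b * m * b⁻¹) * b := by group
          _ = a⁻¹ * (a * m * a⁻¹) * b := by rw [← hab']
          _ = m * (a⁻¹ * b) := by group
      have hc2 : Commute (a⁻¹ * b) u :=
        (Commute.inv_left (commute_of_elementary hA ha hu.1)).mul_left
          (commute_of_elementary hB hb (hUU ▸ hu).1)
      exact (hc2.mul_right (hc1.zpow_right s)).eq.symm
    · have hcA : ⁅b, a⁻¹⁆ ∈ A := by
        rw [commutatorElement_def, inv_inv]
        exact mul_mem ((mem_normalizer_iff.1 (hBA hb) _).1 (inv_mem ha)) ha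
      have hcB : ⁅b, a⁻¹⁆ ∈ B := by
        rw [commutatorElement_def, show b * a⁻¹ * b⁻¹ * a⁻¹⁻¹ = b * (a⁻¹ * b⁻¹ * a⁻¹⁻¹) by group]
        exact mul_mem hb ((mem_normalizer_iff.1 (inv_mem (hAB ha)) _).1 (inv_mem hb))
      rw [CfsgLib.Transfer.mul_pow_of_commute_commutator (commute_of_elementary hA (inv_mem ha) hcA)
        (commute_of_elementary hB hb hcB), inv_pow, hA.2 a ha, hB.2 b hb]
      obtain ⟨c, hc⟩ : p ∣ p.choose 2 :=
        hp.dvd_choose_self (by norm_num) (lt_of_le_of_ne hp.two_le (Ne.symm hp2))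
      rw [hc, pow_mul, hA.2 _ hcA, one_pow, inv_one, one_mul, one_mul]
  intro b hb
  by_contra hbA
  obtain ⟨a, ha, n, hn, rfl⟩ := hdec b hb
  have hnU : n ∉ A ⊓ N := fun h => hbA (mul_mem ha h.1)
  have hsurj := (pair_commutator hG hN hNc hmax hB hBc hn (hUU ▸ hnU)).2
  have hmemA := (pair_commutator hG hN hNc hmax hA hAc hn hnU).1
  set τ := a⁻¹ * n * a * n⁻¹ with hτ
  have hτU : τ ∈ A ⊓ N := by
    have := hmemA a⁻¹ (inv_mem ha)
    rwa [inv_inv] at this
  have hle : A ⊓ N ≤ zpowers τ := by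
    intro u hu
    obtain ⟨b₂, hb₂, rfl⟩ := hsurj u (hUU ▸ hu)
    obtain ⟨a₂, ha₂, n₂, hn₂, hb₂e⟩ := hdec b₂⁻¹ (inv_mem hb₂)
    obtain ⟨v, hv, s, rfl⟩ := exists_mul_zpow hN inf_le_right hUA hNc hn hnU hn₂
    set σ := a₂⁻¹ * n * a₂ * n⁻¹ with hσ
    have hσU : σ ∈ A ⊓ N := by
      have := hmemA a₂⁻¹ (inv_mem ha₂)
      rwa [inv_inv] at this
    have hcomm := commute_of_elementary hB hb (inv_mem hb₂)
    rw [hb₂e] at hcomm
    have e1 : a * n * (a₂ * (v * n ^ s)) = a * a₂ * (σ * n * (v * n ^ s)) := by rw [hσ]; group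
    have hconj : a⁻¹ * n * a = τ * n := by rw [hτ, inv_mul_cancel_right]
    have hτn : Commute τ n := commute_of_elementary hN hτU.2 hn
    have e2 : a₂ * (v * n ^ s) * (a * n) = a * a₂ * (v * τ ^ s * n ^ s * n) := by
      have h3 : a⁻¹ * v * a = v := by
        rw [mul_assoc, ← commute_of_elementary hA ha hv.1, inv_mul_cancel_left]
      have h4 : a⁻¹ * n ^ s * a = τ ^ s * n ^ s := by
        have := conj_zpow (a := a⁻¹) (b := n) (i := s)
        rw [inv_inv] at this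
        rw [← this, hconj, hτn.mul_zpow]
      calc a₂ * (v * n ^ s) * (a * n) = a₂ * a * ((a⁻¹ * v * a) * (a⁻¹ * n ^ s * a) * n) := by group
        _ = _ := by rw [h3, h4, commute_of_elementary hA ha₂ ha]; simp only [mul_assoc]
    rw [e1, e2, mul_right_inj] at hcomm
    have hσeq : σ = τ ^ s := by
      have e3 : σ * n * (v * n ^ s) = σ * v * (n ^ s * n) := by
        rw [mul_assoc, commute_of_elementary hN hn (mul_mem hv.2 (zpow_mem hn s))]
        simp only [mul_assoc]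
      rw [e3, mul_assoc (v * τ ^ s), mul_left_inj,
        commute_of_elementary hN hv.2 (zpow_mem (Subgroup.mem_inf.1 hτU).2 s)] at hcomm
      exact mul_right_cancel hcomm
    refine mem_zpowers_iff.2 ⟨s, ?_⟩
    rw [← hσeq]
    have hb₂' : b₂ = (a₂ * (v * n ^ s))⁻¹ := by rw [← hb₂e, inv_inv]
    have hc : σ * n * (v * n ^ s) = v * n ^ s * (σ * n) :=
      commute_of_elementary hN (mul_mem hσU.2 hn) (mul_mem hv.2 (zpow_mem hn s))
    calc σ = (v * n ^ s)⁻¹ * (v * n ^ s * (σ * n)) * n⁻¹ := by group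
      _ = (v * n ^ s)⁻¹ * (σ * n * (v * n ^ s)) * n⁻¹ := by rw [hc]
      _ = _ := by rw [hb₂', hσ]; group
  have hle' := card_le_of_le hle
  rw [Nat.card_zpowers, hUA] at hle'
  have h6 : orderOf τ ≤ p := orderOf_le_of_pow_eq_one hp.pos (hN.2 τ hτU.2)
  have := hle'.trans h6
  nlinarith [hp.two_le]

end CfsgLib.Comp
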