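import Cfsg.Agent.Lib.Comp.ElementaryFour
import Cfsg.Agent.Lib.Comp.Normalize

/-!
For odd `p`, a `p`-group with an elementary abelian subgroup of order `p ^ 4` has a normal one;
a `3`-group of rank at least four is `2`-connected.
-/

set_option autoImplicit false
set_option linter.style.haveILetI false
set_option linter.unusedSectionVars false

namespace CfsgLib.Comp

open Subgroup

universe u

variable {p : ℕ} [Fact p.Prime]

theorem exists_normal_elementary_four_aux (hp2 : p ≠ 2) (m : ℕ) :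
    ∀ (P : Type u) [Group P] [Finite P], Nat.card P = m → IsPGroup p P → ∀ E : Subgroup P,
      Cfsg.IsElementaryAbelian p E → p ^ 4 ≤ Nat.card E →
      ∃ A : Subgroup P, A.Normal ∧ Cfsg.IsElementaryAbelian p A ∧ Nat.card A = p ^ 4 := by
  induction m using Nat.strong_induction_on with
  | _ m ih =>
    intro P _ _ hm hP E hE hE4
    haveI : Group.IsNilpotent P := hP.isNilpotent
    have hfin : ∀ N : Subgroup P, N.Normal → Cfsg.IsElementaryAbelian p N → p ^ 4 ≤ Nat.card N →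
        ∃ A : Subgroup P, A.Normal ∧ Cfsg.IsElementaryAbelian p A ∧ Nat.card A = p ^ 4 := by
      intro N hNn hN hN4
      obtain ⟨j, hj⟩ := (hP.to_subgroup N).exists_card_eq
      rw [hj] at hN4
      obtain ⟨A, hAn, hAN, hAc⟩ := CfsgLib.Transfer.exists_normal_le_card hP N (k := 4)
        (hj ▸ pow_dvd_pow p ((Nat.pow_le_pow_iff_right (Fact.out : p.Prime).one_lt).1 hN4))
      exact ⟨A, hAn, isElementaryAbelian_of_le hN hAN, hAc⟩
    rcases eq_top_or_exists_le_coatom E with hEt | ⟨M, hM, hEM⟩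
    · exact hfin E (hEt ▸ inferInstance) hE hE4
    have hMn : M.Normal := NormalizerCondition.normal_of_coatom M normalizerCondition_of_isNilpotent hM
    have hlt : Nat.card M < m := by
      rw [← hm]
      exact lt_of_le_of_ne (Subgroup.card_le_card_group M) fun e => hM.1 (Subgroup.eq_top_of_card_eq M e)
    obtain ⟨A₀, hA₀n, hA₀, hA₀c⟩ := ih _ hlt M rfl (hP.to_subgroup M) (E.subgroupOf M)
      ⟨⟨⟨fun a b => Subtype.ext (Subtype.ext (commute_of_elementary hE a.2 b.2))⟩⟩,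
        fun a ha => Subtype.ext (by simpa using hE.2 a ha)⟩
      (by rwa [Nat.card_congr (subgroupOfEquivOfLe hEM).toEquiv])
    set A := A₀.map M.subtype with hAdef
    have hA : Cfsg.IsElementaryAbelian p A := by
      refine ⟨⟨⟨?_⟩⟩, ?_⟩
      · rintro ⟨_, a, ha, rfl⟩ ⟨_, b, hb, rfl⟩
        refine Subtype.ext ?_
        show (a : P) * b = b * a
        exact congrArg Subtype.val (commute_of_elementary hA₀ ha hb)
      · rintro _ ⟨a, ha, rfl⟩
        simpa using congrArg Subtype.val (hA₀.2 a ha)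
    have hAc : Nat.card A = p ^ 4 := by rw [card_map_of_injective M.subtype_injective, hA₀c]
    -- a maximal normal elementary abelian subgroup
    obtain ⟨N, -, hN⟩ := Finite.exists_le_maximal
      (p := fun N : Subgroup P => N.Normal ∧ Cfsg.IsElementaryAbelian p N) (a := ⊥)
      ⟨inferInstance, ⟨⟨fun a b => by rw [Subsingleton.elim a b]⟩⟩,
        fun a ha => by rw [mem_bot.1 ha, one_pow]⟩
    obtain ⟨hNn, hNe⟩ := hN.prop
    by_cases hN4 : p ^ 4 ≤ Nat.card N
    · exact hfin N hNn hNe hN4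
    haveI := hNn
    haveI := hNe.1
    have hmax : ∀ x ∈ centralizer (N : Set P), x ^ p = 1 → x ∈ N := fun x hx hxp =>
      CfsgLib.Transfer.mem_of_maximal_normal_abelian_exponent hP 1 (by simpa using hp2) N
        (by simpa using hNe.2)
        (fun B hBn hBc hBe hNB => le_antisymm (hN.le_of_ge ⟨hBn, hBc, by simpa using hBe⟩ hNB) hNB)
        hx (by simpa using hxp)
    -- `N` has order `p ^ 3`
    have hNc : Nat.card N = p ^ 3 := by
      obtain ⟨j, hj⟩ := (hP.to_subgroup N).exists_card_eq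
      have hj3 : j ≤ 3 := by
        by_contra hj3
        exact hN4 (hj ▸ Nat.pow_le_pow_right (Fact.out : p.Prime).pos (by omega))
      refine le_antisymm (hj ▸ Nat.pow_le_pow_right (Fact.out : p.Prime).pos hj3) ?_
      by_contra hlt3
      have hj2 : Nat.card N ≤ p ^ 2 := by
        rw [hj] at hlt3 ⊢
        refine Nat.pow_le_pow_right (Fact.out : p.Prime).pos ?_
        by_contra h'
        exact hlt3 (Nat.pow_le_pow_right (Fact.out : p.Prime).pos (by omega))
      have hEC : E ⊓ centralizer (N : Set P) ≤ N := fun x hx => hmax x hx.2 (hE.2 x hx.1)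
      have hi : (centralizer (N : Set P)).index ≤ p := by
        refine (CfsgLib.Transfer.index_centralizer_le_of_normal hP j N hj).trans ?_
        have : j ≤ 2 := (Nat.pow_le_pow_iff_right (Fact.out : p.Prime).one_lt).1 (hj ▸ hj2)
        calc p ^ (j * (j - 1) / 2) ≤ p ^ 1 :=
              Nat.pow_le_pow_right (Fact.out : p.Prime).pos (by interval_cases j <;> norm_num)
          _ = p := pow_one p
      have hr : (centralizer (N : Set P)).relIndex E ≤ p :=
        le_trans (Nat.le_of_dvd (Nat.pos_of_ne_zero index_ne_zero_of_finite)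
          (relIndex_dvd_index_of_normal _ E)) hi
      have hcard : Nat.card (E ⊓ centralizer (N : Set P) : Subgroup P) *
          (centralizer (N : Set P)).relIndex E = Nat.card E := by
        rw [← inf_relIndex_left, ← relIndex_bot_left, ← relIndex_bot_left]
        exact relIndex_mul_relIndex _ _ _ bot_le inf_le_left
      have h5 := Nat.mul_le_mul ((card_le_of_le hEC).trans hj2) hr
      rw [hcard, ← pow_succ] at h5
      have := (Nat.pow_le_pow_iff_right (Fact.out : p.Prime).one_lt).1 (hE4.trans h5)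
      omega
    -- `A` is normal
    refine ⟨A, normal_of_top_le_normalizer fun g _ => ?_, hA, hAc⟩
    have hMA : M ≤ normalizer (A : Set P) := by
      refine le_trans ?_ (le_normalizer_map M.subtype)
      rw [normalizer_eq_top_iff.2 hA₀n, ← MonoidHom.range_eq_map, range_subtype]
    have hAM : A ≤ M := map_subtype_le A₀
    set B := A.map (MulAut.conj g).toMonoidHom with hBdef
    have hB : Cfsg.IsElementaryAbelian p B := by
      refine ⟨⟨⟨?_⟩⟩, ?_⟩
      · rintro ⟨_, a, ha, rfl⟩ ⟨_, b, hb, rfl⟩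
        refine Subtype.ext ?_
        show MulAut.conj g a * MulAut.conj g b = MulAut.conj g b * MulAut.conj g a
        rw [← map_mul, ← map_mul, commute_of_elementary hA ha hb]
      · rintro _ ⟨a, ha, rfl⟩
        show MulAut.conj g a ^ p = 1
        rw [← map_pow, hA.2 a ha, map_one]
    have hBc : Nat.card B = p ^ 4 := by
      rw [hBdef, card_map_of_injective (MulAut.conj g).injective, hAc]
    have hBM : B ≤ M := by
      rintro _ ⟨a, ha, rfl⟩
      exact hMn.conj_mem a (hAM ha) g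
    have hMB : M ≤ normalizer (B : Set P) := by
      intro x hx
      rw [mem_normalizer_iff]
      intro b
      have hx' := mem_normalizer_iff.1 (hMA (hMn.conj_mem x hx g⁻¹)) (g⁻¹ * b * g)
      have hmem : ∀ y, y ∈ B ↔ g⁻¹ * y * g ∈ A := fun y => by
        constructor
        · rintro ⟨a, ha, rfl⟩
          simpa [MulAut.conj_apply, mul_assoc] using ha
        · intro h
          exact ⟨_, h, by simp [mul_assoc]⟩
      rw [hmem, hmem, hx']
      simp [mul_assoc]
    have hle : B ≤ A := pair_le hp2 hP hNe hNc hmax hA hAc hB hBc (hAM.trans hMB) (hBM.trans hMA)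
    have heq : B = A := eq_of_le_of_card_ge hle (by rw [hAc, hBc])
    exact (map_conj_eq_iff).1 heq

/-- For odd `p`, a `p`-group with an elementary abelian subgroup of order at least `p ^ 4` has a
normal one of order `p ^ 4`. -/
theorem exists_normal_elementary_four {P : Type u} [Group P] [Finite P] (hp2 : p ≠ 2)
    (hP : IsPGroup p P) {E : Subgroup P} (hE : Cfsg.IsElementaryAbelian p E)
    (hE4 : p ^ 4 ≤ Nat.card E) :
    ∃ A : Subgroup P, A.Normal ∧ Cfsg.IsElementaryAbelian p A ∧ Nat.card A = p ^ 4 :=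
  exists_normal_elementary_four_aux hp2 _ P rfl hP E hE hE4

end CfsgLib.Comp

namespace CfsgLib.Comp

open Subgroup

theorem key_identity {M : Type*} [CommGroup M] (b₀ b₁ b₂ : M) :
    (b₀ * b₂⁻¹ * (b₂ * b₁⁻¹)⁻¹) * (b₂ * b₁⁻¹ * (b₁ * b₀⁻¹)⁻¹)⁻¹ = b₁ ^ 3 * (b₂ ^ 3)⁻¹ := by
  apply Additive.ofMul.injective
  simp only [ofMul_mul, ofMul_inv, ofMul_pow]
  abel

/-- An element of order dividing `3` centralizes at least `9` elements of an elementary abelian
`3`-subgroup of order at least `81` which it normalizes. -/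
theorem le_card_centralizer_inf {P : Type*} [Group P] [Finite P] (hP : IsPGroup 3 P)
    {A : Subgroup P} (hA : Cfsg.IsElementaryAbelian 3 A) (hA4 : 81 ≤ Nat.card A) {x : P}
    (hx : x ^ 3 = 1) (hxA : ∀ a ∈ A, x * a * x⁻¹ ∈ A) :
    9 ≤ Nat.card ↥(A ⊓ centralizer ({x} : Set P)) := by
  haveI : Fact (Nat.Prime 3) := ⟨by norm_num⟩
  have hcomm : ∀ a ∈ A, ∀ b ∈ A, a * b = b * a := fun a ha b hb => commute_of_elementary hA ha hb
  let δ : A →* A := MonoidHom.mk' (fun a => ⟨x * a.1 * x⁻¹ * a.1⁻¹, mul_mem (hxA a a.2) (inv_mem a.2)⟩)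
    (fun a b => Subtype.ext (by
      show x * (a.1 * b.1) * x⁻¹ * (a.1 * b.1)⁻¹ = (x * a.1 * x⁻¹ * a.1⁻¹) * (x * b.1 * x⁻¹ * b.1⁻¹)
      rw [hcomm _ (mul_mem (hxA a a.2) (inv_mem a.2)) _ (mul_mem (hxA b b.2) (inv_mem b.2))]
      calc x * (a.1 * b.1) * x⁻¹ * (a.1 * b.1)⁻¹
          = (x * a.1 * x⁻¹) * ((x * b.1 * x⁻¹ * b.1⁻¹) * a.1⁻¹) := by group
        _ = (x * a.1 * x⁻¹) * (a.1⁻¹ * (x * b.1 * x⁻¹ * b.1⁻¹)) := by
            rw [hcomm _ (mul_mem (hxA b b.2) (inv_mem b.2)) _ (inv_mem a.2)]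
        _ = _ := by
            rw [← mul_assoc, hcomm _ (mul_mem (hxA a a.2) (inv_mem a.2)) _ (mul_mem (hxA b b.2) (inv_mem b.2))]))
  have hδ : ∀ a : A, ((δ a : A) : P) = x * a.1 * x⁻¹ * a.1⁻¹ := fun a => rfl
  have h3 : ∀ a : A, δ (δ (δ a)) = 1 := by
    intro a
    apply Subtype.ext
    rw [OneMemClass.coe_one]
    simp only [hδ]
    set a₀ : P := a.1
    set a₁ := x * a₀ * x⁻¹ with ha₁
    set a₂ := x * a₁ * x⁻¹ with ha₂
    have m₀ : a₀ ∈ A := a.2
    have m₁ : a₁ ∈ A := hxA _ m₀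
    have m₂ : a₂ ∈ A := hxA _ m₁
    have ha₃ : x * a₂ * x⁻¹ = a₀ := by
      have hx' : x * x * x = 1 := by rw [← hx, pow_succ, pow_two]
      calc x * a₂ * x⁻¹ = x * x * x * a₀ * (x * x * x)⁻¹ := by rw [ha₂, ha₁]; group
        _ = a₀ := by rw [hx']; group
    have e1 : x * (a₁ * a₀⁻¹) * x⁻¹ = a₂ * a₁⁻¹ := by rw [ha₂, ha₁]; group
    have e2 : x * (a₂ * a₁⁻¹ * (a₁ * a₀⁻¹)⁻¹) * x⁻¹ = a₀ * a₂⁻¹ * (a₂ * a₁⁻¹)⁻¹ := by
      rw [← e1]
      calc x * (x * (a₁ * a₀⁻¹) * x⁻¹ * (a₁ * a₀⁻¹)⁻¹) * x⁻¹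
          = x * (x * (a₁ * a₀⁻¹) * x⁻¹) * x⁻¹ * (x * (a₁ * a₀⁻¹) * x⁻¹)⁻¹ := by group
        _ = x * (a₂ * a₁⁻¹) * x⁻¹ * (a₂ * a₁⁻¹)⁻¹ := by rw [e1]
        _ = (x * a₂ * x⁻¹) * (x * a₁ * x⁻¹)⁻¹ * (a₂ * a₁⁻¹)⁻¹ := by group
        _ = a₀ * a₂⁻¹ * (a₂ * a₁⁻¹)⁻¹ := by rw [ha₃]
        _ = _ := by rw [e1]
    rw [e1, e2]
    have key : ∀ b₀ b₁ b₂ : A, (b₀ * b₂⁻¹ * (b₂ * b₁⁻¹)⁻¹) * (b₂ * b₁⁻¹ * (b₁ * b₀⁻¹)⁻¹)⁻¹ =
        b₁ ^ 3 * (b₂ ^ 3)⁻¹ :=
      @key_identity A { (inferInstance : Group A) with mul_comm := hA.1.is_comm.comm }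
    have k := congrArg Subtype.val (key ⟨a₀, m₀⟩ ⟨a₁, m₁⟩ ⟨a₂, m₂⟩)
    simp only [Subgroup.coe_mul, InvMemClass.coe_inv, SubmonoidClass.coe_pow] at k
    rw [k, hA.2 a₁ m₁, hA.2 a₂ m₂]; group
  have hker : Nat.card δ.ker ≤ Nat.card ↥(A ⊓ centralizer ({x} : Set P)) := by
    rw [← card_map_of_injective A.subtype_injective]
    refine card_le_of_le ?_
    rintro _ ⟨a, ha, rfl⟩
    refine ⟨a.2, mem_centralizer_singleton_iff.2 ?_⟩
    have h1 := congrArg Subtype.val (MonoidHom.mem_ker.1 ha)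
    rw [hδ, OneMemClass.coe_one, mul_inv_eq_one, mul_inv_eq_iff_eq_mul] at h1
    exact h1.symm
  have hcard : Nat.card A ≤ Nat.card δ.ker ^ 3 := by
    set R := δ.range
    have h1 : Nat.card A = Nat.card δ.ker * Nat.card R := by
      rw [← Subgroup.card_mul_index δ.ker, Subgroup.index_ker]
    let ε : R →* A := δ.comp R.subtype
    have h2 : Nat.card R = Nat.card ε.ker * Nat.card ε.range := by
      rw [← Subgroup.card_mul_index ε.ker, Subgroup.index_ker]
    have h2a : Nat.card ε.ker ≤ Nat.card δ.ker := by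
      rw [← card_map_of_injective R.subtype_injective]
      refine card_le_of_le ?_
      rintro _ ⟨a, ha, rfl⟩
      exact ha
    have h2b : Nat.card ε.range ≤ Nat.card δ.ker := by
      refine card_le_of_le ?_
      rintro _ ⟨⟨r, ⟨a, rfl⟩⟩, rfl⟩
      exact MonoidHom.mem_ker.2 (h3 a)
    calc Nat.card A ≤ Nat.card δ.ker * (Nat.card δ.ker * Nat.card δ.ker) := by
          rw [h1, h2]; exact Nat.mul_le_mul_left _ (Nat.mul_le_mul h2a h2b)
      _ = _ := by ring
  obtain ⟨j, hj⟩ := ((hP.to_subgroup A).to_subgroup δ.ker).exists_card_eq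
  refine le_trans ?_ hker
  rw [hj] at hcard ⊢
  rcases j with _ | _ | j
  · norm_num at hcard; omega
  · norm_num at hcard; omega
  · calc 9 = 3 ^ 2 := by norm_num
      _ ≤ _ := Nat.pow_le_pow_right (by norm_num) (by omega)

end CfsgLib.Comp
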