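import Cfsg.Agent.Lib.Comp.FFBasic

/-!
Failure of factorization: minimal best offenders have order `p` and generate every best offender.
-/

set_option autoImplicit false
set_option linter.style.haveILetI false
set_option linter.unusedSectionVars false

namespace CfsgLib.Comp.FF

open Subgroup
open scoped commutatorElement

variable {G : Type*} [Group G] [Finite G] {p : ℕ} [hp : Fact p.Prime] {V H : Subgroup G}

/-- A best offender of order `p` inside `H`. -/
def Atom (p : ℕ) (V H A : Subgroup G) : Prop :=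
  A ≤ H ∧ Nat.card A = p ∧ Cfsg.IsBestOffenderOn p V A

theorem ne_bot_of_atom {A : Subgroup G} (h : Atom p V H A) : A ≠ ⊥ := fun e =>
  hp.out.ne_one (by rw [← h.2.1, e, Subgroup.card_bot])

theorem eq_bot_or_eq_of_atom {A C : Subgroup G} (h : Atom p V H A) (hC : C ≤ A) : C = ⊥ ∨ C = A := by
  rcases (Nat.dvd_prime hp.out).1 (h.2.1 ▸ card_dvd_of_le hC) with h1 | h1
  · exact Or.inl (card_eq_one.1 h1)
  · exact Or.inr (eq_of_le_of_card_ge hC (by rw [h1, h.2.1]))

theorem minimal_of_atom {A : Subgroup G} (h : Atom p V H A) :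
    ∀ C : Subgroup G, C ≤ A → Cfsg.IsBestOffenderOn p V C → ⁅V, C⁆ ≠ ⊥ → C = A := fun C hC _ hne =>
  (eq_bot_or_eq_of_atom h hC).resolve_left fun e => hne (by rw [e, commutator_bot_right])

theorem atom_of_minimal (S : Setup p V H) {A : Subgroup G} (hAH : A ≤ H)
    (hA : Cfsg.IsBestOffenderOn p V A) (hAV : ⁅V, A⁆ ≠ ⊥)
    (hmin : ∀ B : Subgroup G, B ≤ A → Cfsg.IsBestOffenderOn p V B → ⁅V, B⁆ ≠ ⊥ → B = A) :
    Atom p V H A := by
  refine ⟨hAH, ?_, hA⟩
  have hA1 : A ≠ ⊥ := (commutator_ne_bot_iff S hAH).1 hAV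
  obtain ⟨B, hB, -⟩ := exists_good_not_le S (elem_of_best S hAH hA) hAH le_rfl hA1
  have hBbot : B = ⊥ := by
    by_contra h
    have e := hmin B hB.1 (best_of_good S hAH hA hB)
      ((commutator_ne_bot_iff S (hB.1.trans hAH)).2 h)
    have h2 := hB.2.1
    rw [e] at h2
    exact Nat.lt_irrefl _ (h2.symm ▸ lt_mul_of_one_lt_left Nat.card_pos hp.out.one_lt)
  rw [hB.2.1, hBbot, Subgroup.card_bot, mul_one]

theorem card_fix_mul_of_atom (S : Setup p V H) {A : Subgroup G} (h : Atom p V H A) :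
    p * Nat.card ↥(V ⊓ centralizer (A : Set G)) = Nat.card V := by
  have h1 := card_mul_card_fix_of_best S h.1 h.2.2
  rwa [h.2.1] at h1

theorem relIndex_fix_of_atom (S : Setup p V H) {A : Subgroup G} (h : Atom p V H A) :
    (V ⊓ centralizer (A : Set G)).relIndex V = p := by
  have h1 := relIndex_mul_relIndex ⊥ (V ⊓ centralizer (A : Set G)) V bot_le inf_le_left
  rw [relIndex_bot_left, relIndex_bot_left, ← card_fix_mul_of_atom S h, mul_comm p] at h1
  exact Nat.eq_of_mul_eq_mul_left Nat.card_pos h1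

theorem card_commutator_of_atom (S : Setup p V H) {A : Subgroup G} (h : Atom p V H A) :
    Nat.card ↥(⁅V, A⁆) = p := by
  have hA1 := ne_bot_of_atom h
  obtain ⟨a, ha, ha1⟩ := exists_mem_ne_one hA1
  have hAz : zpowers a = A :=
    (eq_bot_or_eq_of_atom h (zpowers_le.2 ha)).resolve_left fun e => ha1 (zpowers_eq_bot.1 e)
  have haV : a ∈ normalizer (V : Set G) := S.norm (h.1 ha)
  have hcomm : ∀ v : V, ⁅(v : G), a⁆ ∈ V := fun v =>
    le_normalizer_iff_commutator_le_left.1 (zpowers_le.2 haV)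
      (commutator_mem_commutator v.2 (mem_zpowers a))
  have hVc : ∀ x ∈ V, ∀ y ∈ V, x * y = y * x := fun x hx y hy =>
    congrArg Subtype.val (S.elem.1.is_comm.comm ⟨x, hx⟩ ⟨y, hy⟩)
  let f : V →* V := MonoidHom.mk' (fun v => ⟨⁅(v : G), a⁆, hcomm v⟩) (fun x y => Subtype.ext (by
    show ⁅((x * y : V) : G), a⁆ = ⁅(x : G), a⁆ * ⁅(y : G), a⁆
    have e : ⁅(x : G) * y, a⁆ = (x : G) * ⁅(y : G), a⁆ * (x : G)⁻¹ * ⁅(x : G), a⁆ := by
      simp only [commutatorElement_def]; group
    rw [Subgroup.coe_mul, e, hVc x x.2 _ (hcomm y), mul_inv_cancel_right, hVc _ (hcomm y) _ (hcomm x)]))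
  have hker : f.ker.map V.subtype = V ⊓ centralizer (A : Set G) := by
    ext v
    constructor
    · rintro ⟨w, hw, rfl⟩
      refine ⟨w.2, ?_⟩
      show (w : G) ∈ centralizer (A : Set G)
      rw [← hAz, centralizer_zpowers, mem_centralizer_singleton_iff]
      exact commutatorElement_eq_one_iff_mul_comm.1 (congrArg Subtype.val (MonoidHom.mem_ker.1 hw))
    · rintro ⟨hv, hc⟩
      exact ⟨⟨v, hv⟩, MonoidHom.mem_ker.2 (Subtype.ext (commutatorElement_eq_one_iff_mul_comm.2
        (mem_centralizer_iff.1 hc a ha).symm)), rfl⟩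
  have hcard : Nat.card f.range = p := by
    have h1 := card_mul_index f.ker
    rw [index_ker, ← card_map_of_injective (f := V.subtype) V.subtype_injective, hker,
      ← card_fix_mul_of_atom S h, mul_comm p] at h1
    exact Nat.eq_of_mul_eq_mul_left Nat.card_pos h1
  have hle : ⁅V, A⁆ ≤ f.range.map V.subtype := by
    have hpow : ∀ (i : ℕ) (v : V), ⁅(v : G), a ^ i⁆ ∈ f.range.map V.subtype := by
      intro i
      induction i with
      | zero => intro v; rw [pow_zero, commutatorElement_one_right]; exact one_mem _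
      | succ i ih =>
        intro v
        have hw : a * v * a⁻¹ ∈ V := (mem_normalizer_iff.1 haV _).1 v.2
        have e : ⁅(v : G), a ^ (i + 1)⁆ = ⁅(v : G), a⁆ * ⁅a * v * a⁻¹, a ^ i⁆ := by
          simp only [commutatorElement_def, pow_succ]; group
        rw [e]
        exact mul_mem ⟨f v, ⟨v, rfl⟩, rfl⟩ (ih ⟨_, hw⟩)
    refine commutator_le.2 fun v hv b hb => ?_
    rw [← hAz] at hb
    obtain ⟨i, hi⟩ := (isOfFinOrder_of_finite a).mem_powers_iff_mem_zpowers.2 hb
    rw [← hi]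
    exact hpow i ⟨v, hv⟩
  have hge : f.range.map V.subtype ≤ ⁅V, A⁆ := by
    rintro _ ⟨_, ⟨v, rfl⟩, rfl⟩
    exact commutator_mem_commutator v.2 ha
  rw [le_antisymm hle hge, card_map_of_injective V.subtype_injective, hcard]

/-- Every best offender is generated by atoms. -/
theorem exists_atom_family (S : Setup p V H) {A : Subgroup G} (hAH : A ≤ H)
    (hA : Cfsg.IsBestOffenderOn p V A) :
    ∃ s : Finset (Subgroup G), (∀ B ∈ s, B ≤ A ∧ Atom p V H B) ∧ s.sup id = A := by
  classical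
  induction hn : Nat.card A using Nat.strong_induction_on generalizing A with
  | _ n ih =>
    subst hn
    by_cases hA1 : A = ⊥
    · exact ⟨∅, by simp, by simp [hA1]⟩
    have hAe := elem_of_best S hAH hA
    obtain ⟨B₁, hB₁, -⟩ := exists_good_not_le S hAe hAH le_rfl hA1
    by_cases hB₁1 : B₁ = ⊥
    · refine ⟨{A}, ?_, by simp⟩
      intro B hB
      rw [Finset.mem_singleton] at hB
      subst hB
      exact ⟨le_rfl, hAH, by rw [hB₁.2.1, hB₁1, Subgroup.card_bot, mul_one], hA⟩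
    obtain ⟨B₂, hB₂, hnle⟩ := exists_good_not_le S hAe hAH hB₁.1 hB₁1
    have hlt : ∀ B, Good p H A B → Nat.card B < Nat.card A := fun B hB => by
      rw [hB.2.1]; exact lt_mul_of_one_lt_left Nat.card_pos hp.out.one_lt
    obtain ⟨s, hs, hse⟩ := ih _ (hlt B₁ hB₁) (hB₁.1.trans hAH) (best_of_good S hAH hA hB₁) rfl
    obtain ⟨t, ht, hte⟩ := ih _ (hlt B₂ hB₂) (hB₂.1.trans hAH) (best_of_good S hAH hA hB₂) rfl
    refine ⟨s ∪ t, fun B hB => ?_, ?_⟩
    · rcases Finset.mem_union.1 hB with h | h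
      · exact ⟨(hs B h).1.trans hB₁.1, (hs B h).2⟩
      · exact ⟨(ht B h).1.trans hB₂.1, (ht B h).2⟩
    · rw [Finset.sup_union, hse, hte]
      have hle : B₁ ⊔ B₂ ≤ A := sup_le hB₁.1 hB₂.1
      refine eq_of_le_of_card_ge hle ?_
      have hlt2 : Nat.card B₂ < Nat.card ↥(B₁ ⊔ B₂) := by
        by_contra hc
        exact hnle (le_sup_left.trans (eq_of_le_of_card_ge le_sup_right (not_lt.1 hc)).ge)
      obtain ⟨j, hj⟩ := card_dvd_of_le (le_sup_right : B₂ ≤ B₁ ⊔ B₂)
      have hdvd := card_dvd_of_le hle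
      rw [hj, hB₂.2.1, mul_comm p] at hdvd
      have hjp : j ∣ p := Nat.dvd_of_mul_dvd_mul_left Nat.card_pos hdvd
      rw [hj] at hlt2 ⊢
      rcases (Nat.dvd_prime hp.out).1 hjp with e | e
      · rw [e, mul_one] at hlt2; exact absurd hlt2 (lt_irrefl _)
      · rw [e, hB₂.2.1, mul_comm]

/-- A best offender is the independent join of atoms. -/
theorem exists_independent_atoms (S : Setup p V H) {A : Subgroup G} (hAH : A ≤ H)
    (hA : Cfsg.IsBestOffenderOn p V A) :
    ∃ (k : ℕ) (B : Fin k → Subgroup G),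
      (∀ i, B i ≤ A ∧ Atom p V H (B i)) ∧ iSupIndep B ∧ ⨆ i, B i = A := by
  classical
  let P : ℕ → Prop := fun k => ∃ B : Fin k → Subgroup G,
    (∀ i, B i ≤ A ∧ Atom p V H (B i)) ∧ ⨆ i, B i = A
  have hex : ∃ k, P k := by
    obtain ⟨s, hs, hse⟩ := exists_atom_family S hAH hA
    refine ⟨s.card, fun i => (s.equivFin.symm i : Subgroup G), fun i => hs _ (s.equivFin.symm i).2,
      le_antisymm (iSup_le fun i => (hs _ (s.equivFin.symm i).2).1) ?_⟩
    conv_lhs => rw [← hse]
    refine Finset.sup_le fun x hx => ?_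
    exact le_iSup_of_le (s.equivFin ⟨x, hx⟩) (by simp)
  obtain ⟨B, hB, hsup⟩ := Nat.find_spec hex
  refine ⟨_, B, hB, fun i => ?_, hsup⟩
  rw [disjoint_iff]
  by_contra hne
  have hle : B i ≤ ⨆ (j) (_ : j ≠ i), B j :=
    inf_eq_left.1 ((eq_bot_or_eq_of_atom (hB i).2 inf_le_left).resolve_left hne)
  obtain ⟨m, hm⟩ : ∃ m, Nat.find hex = m + 1 :=
    Nat.exists_eq_succ_of_ne_zero (Nat.pos_iff_ne_zero.1 i.pos)
  refine Nat.find_min hex (m := m) (by omega) ⟨fun j => B (Fin.cast hm.symm ((Fin.cast hm i).succAbove j)),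
    fun j => hB _, le_antisymm (iSup_le fun j => (hB _).1) ?_⟩
  conv_lhs => rw [← hsup]
  have hkey : ∀ j, j ≠ i → B j ≤ ⨆ l, B (Fin.cast hm.symm ((Fin.cast hm i).succAbove l)) := by
    intro j hj
    obtain ⟨l, hl⟩ := Fin.exists_succAbove_eq (x := Fin.cast hm j) (y := Fin.cast hm i)
      (fun e => hj (Fin.cast_injective hm e))
    exact le_iSup_of_le l (by rw [hl]; simp)
  refine iSup_le fun j => ?_
  by_cases hj : j = i
  · subst hj; exact hle.trans (iSup₂_le hkey)
  · exact hkey j hj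

end CfsgLib.Comp.FF
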