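import Cfsg.Agent.Lib.Comp.FFOrbit
import Cfsg.Agent.S0604

/-!
Coprime operator groups and failure of factorization: fixed points involve `SL(2, p)` and generation.
-/

set_option autoImplicit false
set_option linter.style.haveILetI false
set_option linter.unusedSectionVars false

namespace CfsgLib.Comp.FF

open Subgroup CfsgLib.PLocal

variable {G : Type*} [Group G] [Finite G] {p : ℕ} [hp : Fact p.Prime] {q : ℕ} [hq : Fact q.Prime]

/-- The action of an operator group on `K`. -/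
def opHom {K X : Subgroup G} (hXK : X ≤ normalizer (K : Set G)) : X →* MulAut K :=
  K.normalizerMonoidHom.comp (inclusion hXK)

theorem opHom_apply {K X : Subgroup G} (hXK : X ≤ normalizer (K : Set G)) (x : X) (k : K) :
    ((opHom hXK x k : K) : G) = (x : G) * k * (x : G)⁻¹ := rfl

theorem opHom_fixed {K X : Subgroup G} (hXK : X ≤ normalizer (K : Set G)) {k : K}
    (h : (k : G) ∈ centralizer (X : Set G)) (x : X) : opHom hXK x k = k :=
  Subtype.ext (by rw [opHom_apply, mem_centralizer_iff.1 h x x.2, mul_inv_cancel_right])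

theorem mem_centralizer_of_opHom_fixed {K X : Subgroup G} (hXK : X ≤ normalizer (K : Set G)) {k : K}
    (h : ∀ x : X, opHom hXK x k = k) : (k : G) ∈ centralizer (X : Set G) :=
  mem_centralizer_iff.2 fun x hx => by
    have h1 := congrArg Subtype.val (h ⟨x, hx⟩)
    rw [opHom_apply] at h1
    exact mul_inv_eq_iff_eq_mul.1 h1

variable {K X : Subgroup G} (hXK : X ≤ normalizer (K : Set G)) (hX : Cfsg.IsElementaryAbelian q X)
  (hqK : ¬ q ∣ Nat.card K)

include hXK hX hqK

/-- Fixed points of the ambient image lift to fixed points in `K`. -/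
theorem exists_fixed_lift {P : Amb (VZ p K)} (hPr : P ∈ (rho (VZ p K)).range)
    (hP : ∀ x : X, ambAct (p := p) (opHom hXK) x P = P) :
    ∃ k : K, (k : G) ∈ centralizer (X : Set G) ∧ rho (VZ p K) k = P := by
  obtain ⟨k0, rfl⟩ := hPr
  set C := centralizer (VZ p K : Set K) with hC
  set N : Subgroup G := C.map K.subtype with hN
  have hXN : X ≤ normalizer (N : Set G) := by
    refine le_normalizer_of_conj_mem (fun x hx u hu => ?_)
    obtain ⟨c, hc, rfl⟩ := hu
    exact ⟨opHom hXK ⟨x, hx⟩ c,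
      (map_centralizer_char (VZ p K) (opHom hXK ⟨x, hx⟩)).le (mem_map_of_mem _ hc), rfl⟩
  obtain ⟨n, hn, hkn⟩ := CfsgLib.Coprime.exists_mem_centralizer_of_coset hXK hXN (map_subtype_le C)
    (coprime_card_elemAb hX hqK) (Or.inl (isSolvable_elemAb hX)) k0.2 (fun x hx => by
      refine ⟨k0⁻¹ * opHom hXK ⟨x, hx⟩ k0, ?_, ?_⟩
      · have h1 := hP ⟨x, hx⟩
        rw [ambAct, MonoidHom.comp_apply, ambAut_rho] at h1
        show _ ∈ centralizer (VZ p K : Set K)
        rw [← rho_ker, MonoidHom.mem_ker, map_mul, map_inv, h1, inv_mul_cancel]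
      · show (k0 : G)⁻¹ * (x * k0 * x⁻¹) = _
        group)
  obtain ⟨c, hc, rfl⟩ := hn
  refine ⟨k0 * c, hkn, ?_⟩
  rw [map_mul, show rho (VZ p K) c = 1 from MonoidHom.mem_ker.1 (by rw [rho_ker]; exact hc), mul_one]

variable (hsep : Cfsg.IsPSolvable p K) (hO : Cfsg.pPrimeCore p K = ⊥)

include hsep hO

theorem exp_X (x : X) : x ^ q = 1 := Subtype.ext (by simpa using hX.2 x x.2)

/-- Fixed points of `X` involve `SL(2, p)` on a plane. -/
theorem exists_fixed_plane {A : Subgroup (Amb (VZ p K))}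
    (h : Atom p (Vb (VZ p K)) (JH (VZ p K) p) A) :
    ∃ W D : Subgroup G, W ≤ K ⊓ centralizer (X : Set G) ∧ D ≤ K ⊓ centralizer (X : Set G) ∧
      Cfsg.IsElementaryAbelian p W ∧ Nat.card W = p ^ 2 ∧ D ≤ normalizer (W : Set G) ∧
      ∃ _hn : ((centralizer (W : Set G)).subgroupOf D).Normal,
        Nonempty ((↥D ⧸ (centralizer (W : Set G)).subgroupOf D) ≃*
          Matrix.SpecialLinearGroup (Fin 2) (ZMod p)) := by
  set V := VZ p K with hV
  set H := JH V p with hH
  set U := ⁅Vb V, Ec p H A⁆ with hU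
  set F := Fc p (Vb V) H A with hF
  obtain ⟨θ, hθi, hθV, hθX, hθc, hlift⟩ :=
    exists_diag (opHom hXK) hsep hO (exp_X hXK hX hqK hsep hO) hqK h
  have S := setup_fail hsep hO
  have f := factorData S (hS3_fail hsep hO) h
  have d := ecData S h
  set Wk : Subgroup K := (θ.range.comap (iota V)).map V.subtype with hWk
  set W : Subgroup G := Wk.map K.subtype with hW
  set D : Subgroup G := (H.comap (rho V)).map K.subtype ⊓ centralizer (X : Set G) with hD
  have hWmem : ∀ u, ∃ v : V, iota V v = θ u ∧ ((v : K) : G) ∈ W := fun u => by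
    obtain ⟨v, hv⟩ := hθV u
    exact ⟨v, hv, (v : K), ⟨v, ⟨u, hv.symm⟩, rfl⟩, rfl⟩
  have hWX : W ≤ centralizer (X : Set G) := by
    rintro _ ⟨_, ⟨v, ⟨u, hu⟩, rfl⟩, rfl⟩
    refine mem_centralizer_of_opHom_fixed hXK fun x => ?_
    have h1 := hθX x u
    rw [hu, ambAct, MonoidHom.comp_apply, ambAut_iota] at h1
    exact congrArg Subtype.val (iota_injective V h1)
  have hWK : W ≤ K := map_subtype_le _
  have hVe := vz_elem hsep hO
  have hWe : Cfsg.IsElementaryAbelian p W :=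
    elemAb_map _ (CfsgLib.Comp.elemAb_mono hVe (map_subtype_le _))
  have hWc : Nat.card W = p ^ 2 := by
    rw [hW, card_map_of_injective K.subtype_injective, hWk, card_map_of_injective V.subtype_injective,
      ← card_map_of_injective (f := iota V) (iota_injective V),
      map_comap_eq_self (H := θ.range) (f := iota V) (fun z hz => by obtain ⟨u, rfl⟩ := hz; exact hθV u),
      ← Nat.card_congr (MonoidHom.ofInjective hθi).toEquiv]
    exact d.card
  have hDK : D ≤ K := inf_le_left.trans (map_subtype_le _)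
  have hDmem : ∀ g ∈ D, ∃ k : K, (k : G) = g ∧ rho V k ∈ H ∧
      (∀ x : X, ambAct (p := p) (opHom hXK) x (rho V k) = rho V k) := by
    rintro _ ⟨⟨k, hk, rfl⟩, hc⟩
    refine ⟨k, rfl, hk, fun x => ?_⟩
    rw [ambAct, MonoidHom.comp_apply, ambAut_rho, opHom_fixed hXK hc x]
  have hDW : D ≤ normalizer (W : Set G) := by
    refine le_normalizer_of_conj_mem fun g hg w hw => ?_
    obtain ⟨k, rfl, hkH, hkX⟩ := hDmem g hg
    obtain ⟨_, ⟨v, ⟨u, hu⟩, rfl⟩, rfl⟩ := hw
    have h2 : rho V k * u * (rho V k)⁻¹ ∈ U := (mem_normalizer_iff.1 (f.normU hkH) _).1 u.2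
    have h3 := hθc _ hkH hkX u ⟨_, h2⟩ rfl
    rw [hu, rho_conj_iota] at h3
    exact ⟨_, ⟨_, ⟨⟨_, h2⟩, h3.symm⟩, rfl⟩, rfl⟩
  haveI hFn : (F.subgroupOf H).Normal := CfsgLib.Coprime.normal_subgroupOf_of_le_normalizer
    (le_normalizer_inf le_normalizer (le_normalizer_centralizer f.normU))
  let toH : D →* H := ((rho V).comp (inclusion hDK)).codRestrict H fun g => by
    obtain ⟨k, hk, hkH, -⟩ := hDmem g g.2
    show rho V (inclusion hDK g) ∈ H
    rwa [show inclusion hDK g = k from Subtype.ext hk.symm]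
  let ψ : D →* H ⧸ F.subgroupOf H := (QuotientGroup.mk' _).comp toH
  let φ : Ec p H A →* H ⧸ F.subgroupOf H := (QuotientGroup.mk' _).comp (inclusion d.le)
  have hφ : Function.Bijective φ := by
    refine ⟨(injective_iff_map_eq_one φ).2 fun e he => Subtype.ext ?_, fun y => ?_⟩
    · have h1 : (e : Amb V) ∈ Ec p H A ⊓ F := ⟨e.2, (QuotientGroup.eq_one_iff (N := F.subgroupOf H) (inclusion d.le e)).1 he⟩
      rwa [Ec_inf_Fc S h, mem_bot] at h1
    · obtain ⟨⟨z, hz⟩, rfl⟩ := QuotientGroup.mk'_surjective _ y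
      have hz' : z ∈ Ec p H A ⊔ F := by rw [f.gen]; exact hz
      obtain ⟨e, he, c, hc, rfl⟩ := (CfsgLib.Coprime.mem_sup_of_le_normalizer
        ((inf_le_left : F ≤ H).trans f.norm)).1 hz'
      refine ⟨⟨e, he⟩, (QuotientGroup.eq).2 ?_⟩
      show (e : Amb V)⁻¹ * (e * c) ∈ F
      rwa [inv_mul_cancel_left]
  have hψs : Function.Surjective ψ := fun y => by
    obtain ⟨e, rfl⟩ := hφ.2 y
    obtain ⟨P, hPH, hPX, hPe⟩ := hlift e e.2
    obtain ⟨k, hk, hkP⟩ := exists_fixed_lift hXK hX hqK (JH_le_range V hPH) hPX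
    have hkD : (k : G) ∈ D := ⟨⟨k, by show rho V k ∈ H; rw [hkP]; exact hPH, rfl⟩, hk⟩
    refine ⟨⟨k, hkD⟩, ((QuotientGroup.eq).2 ?_).symm⟩
    show (e : Amb V)⁻¹ * rho V k ∈ F
    rwa [hkP]
  have hψk : ψ.ker = (centralizer (W : Set G)).subgroupOf D := by
    ext ⟨g, hg⟩
    obtain ⟨k, rfl, hkH, hkX⟩ := hDmem g hg
    have e1 : ψ ⟨(k : G), hg⟩ = 1 ↔ rho V k ∈ centralizer (U : Set (Amb V)) :=
      (QuotientGroup.eq_one_iff _).trans ⟨fun h => h.2, fun h => ⟨hkH, h⟩⟩
    rw [MonoidHom.mem_ker, mem_subgroupOf, e1]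
    constructor
    · intro hc
      rintro _ ⟨_, ⟨v, ⟨u, hu⟩, rfl⟩, rfl⟩
      have h3 := hθc _ hkH hkX u u (by
        rw [← mem_centralizer_iff.1 hc u u.2, mul_inv_cancel_right])
      rw [hu, rho_conj_iota_eq_iff] at h3
      exact congrArg Subtype.val h3.symm
    · intro hc u hu
      have h2 : rho V k * u * (rho V k)⁻¹ ∈ U := (mem_normalizer_iff.1 (f.normU hkH) _).1 hu
      have h3 := hθc _ hkH hkX ⟨u, hu⟩ ⟨_, h2⟩ rfl
      obtain ⟨v, hv, hvW⟩ := hWmem ⟨u, hu⟩
      rw [← hv, (rho_conj_iota_eq_iff V k v).2 (Subtype.ext (mem_centralizer_iff.1 hc _ hvW).symm), hv] at h3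
      exact (mul_inv_eq_iff_eq_mul.1 (congrArg Subtype.val (hθi h3)).symm).symm
  obtain ⟨eiso⟩ := d.iso
  refine ⟨W, D, le_inf hWK hWX, le_inf hDK inf_le_right, hWe, hWc, hDW, hψk ▸ inferInstance, ?_⟩
  haveI : ((centralizer (W : Set G)).subgroupOf D).Normal := hψk ▸ inferInstance
  exact ⟨((QuotientGroup.quotientMulEquivOfEq hψk.symm).trans
    (QuotientGroup.quotientKerEquivOfSurjective ψ hψs)).trans
      ((MulEquiv.ofBijective φ hφ).symm.trans eiso)⟩

/-- `K` is generated by `N(J(S))`, `C(Ω₁Z(S))` and the fixed points of `X`. -/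
theorem generated_by_fixed (S : Sylow p K) :
    (normalizer (Cfsg.thompsonSubgroupOf p (S : Subgroup K) : Set K) ⊔
      centralizer (Cfsg.omegaOne p ((S : Subgroup K) ⊓ centralizer ((S : Subgroup K) : Set K)) : Set K) ⊔
        (centralizer (X : Set G)).subgroupOf K) = ⊤ := by
  set M := normalizer (Cfsg.thompsonSubgroupOf p (S : Subgroup K) : Set K) ⊔
      centralizer (Cfsg.omegaOne p ((S : Subgroup K) ⊓ centralizer ((S : Subgroup K) : Set K)) : Set K) ⊔
        (centralizer (X : Set G)).subgroupOf K with hMdef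
  set V := VZ p K with hV
  set H := JH V p with hH
  set C := centralizer (V : Set K) with hC
  have hCM : C ≤ M := le_sup_of_le_left (le_sup_of_le_right (centralizer_le
    (le_iSup (fun T : Sylow p K => Cfsg.omegaOne p ((T : Subgroup K) ⊓
      centralizer ((T : Subgroup K) : Set K))) S)))
  have hker : (rho V).ker = C := rho_ker V
  set Dn := H.comap (rho V) with hDn
  have hDe : Dn = Cfsg.thompsonSubgroup p K ⊔ C := by
    rw [hDn, hH, JH, comap_map_eq, hker]
  haveI : (Cfsg.thompsonSubgroup p K).Characteristic := thompson_characteristic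
  haveI : Dn.Normal := by rw [hDe]; infer_instance
  have hJD : Cfsg.thompsonSubgroupOf p (S : Subgroup K) ≤ Dn := by
    rw [hDe]
    refine le_sup_of_le_left ?_
    rw [Cfsg.Agent.S0604.result]
    exact le_iSup (fun T : Sylow p K => Cfsg.thompsonSubgroupOf p (T : Subgroup K)) S
  have hJeq : Cfsg.thompsonSubgroupOf p ((S : Subgroup K) ⊓ Dn) =
      Cfsg.thompsonSubgroupOf p (S : Subgroup K) :=
    thompsonOf_eq_of_le (le_inf (thompsonOf_le _) hJD) inf_le_left
  have hNM : normalizer (((S : Subgroup K) ⊓ Dn : Subgroup K) : Set K) ≤ M := by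
    refine le_sup_of_le_left (le_sup_of_le_left ?_)
    rw [← hJeq]
    exact normalizer_le_normalizer_thompsonOf _
  have hSM : (S : Subgroup K) ⊓ Dn ≤ M := le_normalizer.trans hNM
  suffices hDM : Dn ≤ M by
    refine eq_top_iff.2 fun k _ => ?_
    obtain ⟨c, hc, n, hn, rfl⟩ := frattini_mul S Dn k
    exact mul_mem (hDM hc) (hNM hn)
  have St := setup_fail hsep hO
  have hS3 := hS3_fail hsep hO
  have hatom : ∀ A, Atom p (Vb V) H A → A ≤ M.map (rho V) := by
    intro A h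
    obtain ⟨a, haA, ha1, hza, hap⟩ := exists_gen St h
    obtain ⟨k0, rfl⟩ := JH_le_range V (h.1 haA)
    -- a `p`-element of `K` over the generator
    obtain ⟨i, m, hm, hord⟩ := Nat.exists_eq_pow_mul_and_not_dvd (orderOf_pos k0).ne' p hp.out.ne_one
    obtain ⟨s, hs1, hs0⟩ := Nat.chineseRemainder (hp.out.coprime_iff_not_dvd.2 hm) 1 0
    have hks : (k0 ^ s) ^ p ^ i = 1 := by
      obtain ⟨t, rfl⟩ : m ∣ s := Nat.modEq_zero_iff_dvd.1 hs0
      rw [← pow_mul, ← orderOf_dvd_iff_pow_eq_one, hord]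
      exact ⟨t, by ring⟩
    have hρs : rho V (k0 ^ s) = rho V k0 := by
      rw [map_pow, pow_eq_pow_mod s hap, hs1, ← pow_eq_pow_mod 1 hap, pow_one]
    have hR : IsPGroup p (zpowers (k0 ^ s)) := by
      rintro ⟨y, hy⟩
      obtain ⟨l, rfl⟩ := mem_zpowers_iff.1 hy
      refine ⟨i, Subtype.ext ?_⟩
      show ((k0 ^ s) ^ l) ^ p ^ i = 1
      rw [← zpow_natCast ((k0 ^ s) ^ l), ← zpow_mul, mul_comm, zpow_mul, zpow_natCast, hks, one_zpow]
    obtain ⟨T, hT⟩ := hR.exists_le_sylow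
    obtain ⟨g, rfl⟩ := MulAction.exists_smul_eq K S T
    obtain ⟨c, hc, n, hn, rfl⟩ := frattini_mul S Dn g
    have hcon : c⁻¹ * (k0 ^ s) * c ∈ (S : Subgroup K) ⊓ Dn := by
      have hy : k0 ^ s ∈ ((S : Subgroup K).map (MulAut.conj (c * n)).toMonoidHom) :=
        hT (mem_zpowers _)
      obtain ⟨z, hz, hzy⟩ := hy
      have hzD : z ∈ Dn := by
        have h1 : k0 ^ s ∈ Dn := by show rho V (k0 ^ s) ∈ H; rw [hρs]; exact h.1 haA
        rw [← hzy] at h1
        exact (Normal.mem_comm_iff inferInstance).1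
          ((Normal.mem_comm_iff inferInstance).1 (by simpa [mul_assoc] using
            (Normal.conj_mem inferInstance _ h1 (c * n)⁻¹) : (1 : K) * z ∈ Dn)) |> fun h => by simpa using h
      rw [← hzy]
      show c⁻¹ * (c * n * z * (c * n)⁻¹) * c ∈ _
      rw [show c⁻¹ * (c * n * z * (c * n)⁻¹) * c = n * z * n⁻¹ by group]
      exact (mem_normalizer_iff.1 hn z).1 ⟨hz, hzD⟩
    -- conjugate back inside `Ec A`
    have hcH : (rho V c)⁻¹ ∈ Ec p H A ⊔ Fc p (Vb V) H A := by
      rw [(factorData St hS3 h).gen]; exact inv_mem hc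
    obtain ⟨e, he, f, hf, hef⟩ := (CfsgLib.Coprime.mem_sup_of_le_normalizer
      ((inf_le_left : Fc p (Vb V) H A ≤ H).trans (factorData St hS3 h).norm)).1 hcH
    have hfa : ∀ {f}, f ∈ Fc p (Vb V) H A → f * rho V k0 * f⁻¹ = rho V k0 := fun {f} hf => by
      have h1 := mem_bot.1 ((factorData St hS3 h).comm.le
        (commutator_mem_commutator (mem_sup_right haA : rho V k0 ∈ Ec p H A) hf))
      rw [commutatorElement_eq_one_iff_mul_comm] at h1
      rw [← h1, mul_inv_cancel_right]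
    obtain ⟨θ, -, -, -, -, hlift⟩ :=
      exists_diag (opHom hXK) hsep hO (exp_X hXK hX hqK hsep hO) hqK h
    obtain ⟨P, hPH, hPX, hPe⟩ := hlift e he
    obtain ⟨k, hk, hkP⟩ := exists_fixed_lift hXK hX hqK (JH_le_range V hPH) hPX
    have hkM : k ∈ M := mem_sup_right hk
    have hmem : k⁻¹ * (c⁻¹ * (k0 ^ s) * c) * k ∈ M := mul_mem (mul_mem (inv_mem hkM) (hSM hcon)) hkM
    rw [← hza, zpowers_le]
    refine ⟨_, hmem, ?_⟩
    have e2 : P⁻¹ * e = (e⁻¹ * P)⁻¹ := by group
    calc rho V (k⁻¹ * (c⁻¹ * k0 ^ s * c) * k)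
        = P⁻¹ * ((rho V c)⁻¹ * rho V k0 * ((rho V c)⁻¹)⁻¹) * P := by
          rw [map_mul, map_mul, map_mul, map_mul, map_inv, map_inv, hρs, hkP, inv_inv]
      _ = (P⁻¹ * e) * (f * rho V k0 * f⁻¹) * (P⁻¹ * e)⁻¹ := by rw [← hef]; group
      _ = rho V k0 := by rw [hfa hf, e2, hfa (inv_mem hPe)]
  have h1 : Dn ≤ (M.map (rho V)).comap (rho V) := comap_mono (le_of_atoms St hS3 hatom)
  rw [comap_map_eq, hker, sup_eq_left.2 hCM] at h1
  exact h1

end CfsgLib.Comp.FF
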