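import Cfsg.Agent.Lib.Comp.FFPair

/-!
Failure of factorization: the commutator of the `p'`-core with an atom.
-/

set_option autoImplicit false
set_option linter.style.haveILetI false
set_option linter.unusedSectionVars false

namespace CfsgLib.Comp.FF

open Subgroup
open scoped commutatorElement

/-- If `|C : S ∩ C| ≥ |K : S|` then `K = S C`. -/
theorem exists_mul_of_index_le {K : Type*} [Group K] [Finite K] (S C : Subgroup K)
    (h : S.index ≤ (S.subgroupOf C).index) (x : K) : ∃ s ∈ S, ∃ c ∈ C, x = s * c := by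
  let f : C ⧸ S.subgroupOf C → K ⧸ S := Quotient.map' Subtype.val fun a b hab => by
    rw [QuotientGroup.leftRel_apply] at hab ⊢
    exact hab
  have hf : Function.Injective f := fun a b => Quotient.inductionOn₂' a b fun u v huv =>
    Quotient.sound' (QuotientGroup.leftRel_apply.2
      ((QuotientGroup.eq (s := S) (a := (u : K)) (b := (v : K))).1 huv))
  have hb := hf.bijective_of_nat_card_le h
  obtain ⟨q, hq⟩ := hb.2 (x⁻¹ : K)
  induction q using Quotient.inductionOn' with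
  | h c =>
    have h2 : (c : K)⁻¹ * x⁻¹ ∈ S := QuotientGroup.leftRel_apply.1 (Quotient.exact' hq)
    exact ⟨((c : K)⁻¹ * x⁻¹)⁻¹, inv_mem h2, (c : K)⁻¹, inv_mem c.2, by group⟩

/-- If `C` contains a Sylow subgroup for every prime other than `q` then `K = S C` for a Sylow
`q`-subgroup `S`. -/
theorem exists_mul_of_sylow {K : Type*} [Group K] [Finite K] {q : ℕ} [Fact q.Prime]
    (S : Sylow q K) (C : Subgroup K)
    (h : ∀ r : ℕ, r.Prime → r ≠ q → ∃ R : Sylow r K, (R : Subgroup K) ≤ C) (x : K) :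
    ∃ s ∈ (S : Subgroup K), ∃ c ∈ C, x = s * c := by
  refine exists_mul_of_index_le _ C (Nat.le_of_dvd (Nat.pos_of_ne_zero index_ne_zero_of_finite) ?_) x
  have hSi : ¬ q ∣ (S : Subgroup K).index := S.not_dvd_index
  refine (Nat.dvd_iff_prime_pow_dvd_dvd _ _).2 fun r k hr hd => ?_
  rcases k with _ | k
  · simp
  have hrq : r ≠ q := fun e => hSi ((dvd_of_eq e.symm).trans ((dvd_pow_self r k.succ_ne_zero).trans hd))
  obtain ⟨R, hR⟩ := h r hr hrq
  haveI := Fact.mk hr
  have h1 : r ^ (k + 1) ∣ Nat.card C :=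
    (R.pow_dvd_card_of_pow_dvd_card (hd.trans (index_dvd_card _))).trans (card_dvd_of_le hR)
  rw [← card_mul_index ((S : Subgroup K).subgroupOf C)] at h1
  obtain ⟨j, hj⟩ := (S.isPGroup'.comap_of_injective C.subtype C.subtype_injective).exists_card_eq
  refine (Nat.Coprime.pow _ j ((Nat.coprime_primes hr (Fact.out : q.Prime)).2 hrq)).dvd_of_dvd_mul_left ?_
  rw [← hj]
  exact h1

variable {G : Type*} [Group G] [Finite G] {p : ℕ} [hp : Fact p.Prime] {V H : Subgroup G}

/-- The prime occurring in `O_{p'}` for failure of factorization. -/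
def coPrime (p : ℕ) : ℕ := if p = 2 then 3 else 2

instance fact_coPrime : Fact (coPrime p).Prime :=
  ⟨by unfold coPrime; split <;> norm_num⟩

theorem card_pair_eq_coPrime_pow (h : p = 2 ∨ p = 3) : ∃ k, 0 < k ∧ p ^ 2 - 1 = coPrime p ^ k := by
  rcases h with rfl | rfl
  · exact ⟨1, one_pos, by simp [coPrime]⟩
  · exact ⟨3, by norm_num, by simp [coPrime]⟩

theorem exists_not_centralizing (S : Setup p V H) {A : Subgroup G} (h : Atom p V H A) :
    ∃ x ∈ PH p H, x ∉ centralizer (A : Set G) := by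
  by_contra hc
  push Not at hc
  exact ne_bot_of_atom h (eq_bot_of_centralizes_PH S (isPGroup_of_elemAb (elem_of_best S h.1 h.2.2))
    h.1 (le_centralizer_iff.1 hc))

theorem prime_of_atom (S : Setup p V H) {A : Subgroup G} (h : Atom p V H A) : p = 2 ∨ p = 3 := by
  obtain ⟨x, hx, hnc⟩ := exists_not_centralizing S h
  exact prime_two_or_three S h hx hnc

theorem pair_inf_le {A T : Subgroup G} (h : Atom p V H A) (hTP : T ≤ PH p H)
    (hAT : A ≤ normalizer (T : Set G)) {x : G} (hx : x ∈ T) : (A ⊔ cj x A) ⊓ PH p H ≤ T := by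
  have hE : A ⊔ cj x A ≤ T ⊔ A := by
    refine sup_le le_sup_right ?_
    rintro _ ⟨a, ha, rfl⟩
    show x * a * x⁻¹ ∈ _
    exact mul_mem (mul_mem (mem_sup_left hx) (mem_sup_right ha)) (mem_sup_left (inv_mem hx))
  rintro g ⟨hgE, hgP⟩
  obtain ⟨t, ht, a, ha, rfl⟩ := (CfsgLib.Coprime.mem_sup_of_le_normalizer hAT).1 (hE hgE)
  have ha' : a ∈ A ⊓ PH p H := ⟨ha, (mul_mem_cancel_left (hTP ht)).1 hgP⟩
  have hAp : IsPGroup p A := IsPGroup.of_card (n := 1) (by rw [pow_one]; exact h.2.1)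
  rw [isPGroup_inf_PH hAp, mem_bot] at ha'
  rw [ha', mul_one]; exact ht

/-- An invariant Sylow `q`-subgroup `S` of the core with `P = S C_P(A)`. -/
theorem exists_core_sylow (S : Setup p V H) {A : Subgroup G} (h : Atom p V H A) :
    ∃ T : Subgroup G, T ≤ PH p H ∧ IsPGroup (coPrime p) T ∧ A ≤ normalizer (T : Set G) ∧
      ∀ g ∈ PH p H, ∃ s ∈ T, ∃ c ∈ PH p H ⊓ centralizer (A : Set G), g = s * c := by
  have hAe := elem_of_best S h.1 h.2.2
  have hAP : A ≤ normalizer ((PH p H : Subgroup G) : Set G) := h.1.trans le_normalizer_PH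
  have hcop := coprime_card_elemAb hAe (not_dvd_card_PH (H := H))
  have hs : Group.IsSolvable A ∨ Group.IsSolvable (PH p H : Subgroup G) :=
    Or.inl (isSolvable_elemAb hAe)
  obtain ⟨T, hT⟩ := CfsgLib.Coprime.exists_invariant_sylow hAP hcop hs (coPrime p)
  refine ⟨_, map_subtype_le _, T.isPGroup'.map _, hT, fun g hg => ?_⟩
  obtain ⟨s, hsT, c, hc, e⟩ := exists_mul_of_sylow T
    ((centralizer (A : Set G)).subgroupOf (PH p H)) (fun r hr hrq => by
      haveI := Fact.mk hr
      obtain ⟨R, hR⟩ := CfsgLib.Coprime.exists_invariant_sylow hAP hcop hs r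
      refine ⟨R, fun y hy => ?_⟩
      rw [mem_subgroupOf]
      by_contra hnc
      apply hrq
      have hyR : (y : G) ∈ (R : Subgroup ↥(PH p H)).map (PH p H).subtype := ⟨y, hy, rfl⟩
      have hle := pair_inf_le h (map_subtype_le _) hR hyR
      obtain ⟨k, hk0, hk⟩ := card_pair_eq_coPrime_pow (prime_two_or_three S h y.2 hnc)
      obtain ⟨n, hn⟩ := ((R.isPGroup'.map (PH p H).subtype).to_le hle).exists_card_eq
      rw [card_pair_inf_PH S h y.2 hnc, hk] at hn
      have hd : coPrime p ∣ r ^ n := hn ▸ dvd_pow_self _ hk0.ne'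
      exact ((Nat.prime_dvd_prime_iff_eq (Fact.out : (coPrime p).Prime) hr).1
        ((Fact.out : (coPrime p).Prime).dvd_of_dvd_pow hd)).symm) ⟨g, hg⟩
  exact ⟨s, ⟨s, hsT, rfl⟩, c, ⟨c.2, hc⟩, congrArg Subtype.val e⟩

theorem commutator_mul_centralizing {A : Subgroup G} {s c a : G} (hc : c ∈ centralizer (A : Set G))
    (ha : a ∈ A) : ⁅s * c, a⁆ = ⁅s, a⁆ := by
  have h1 : c * a * c⁻¹ = a := by rw [← mem_centralizer_iff.1 hc a ha, mul_inv_cancel_right]
  rw [commutatorElement_def, commutatorElement_def, show s * c * a * (s * c)⁻¹ * a⁻¹ =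
    s * (c * a * c⁻¹) * s⁻¹ * a⁻¹ by group, h1]

/-- `[O_{p'}(H), A]` is a `q`-group. -/
theorem isPGroup_commutator_PH (S : Setup p V H) {A : Subgroup G} (h : Atom p V H A) :
    IsPGroup (coPrime p) ↥(⁅PH p H, A⁆) := by
  obtain ⟨T, -, hTq, hAT, hdec⟩ := exists_core_sylow S h
  refine hTq.to_le (commutator_le.2 fun g hg a ha => ?_)
  obtain ⟨s, hs, c, hc, rfl⟩ := hdec g hg
  rw [commutator_mul_centralizing hc.2 ha]
  exact le_normalizer_iff_commutator_le_left.1 hAT (commutator_mem_commutator hs ha)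

theorem commutator_PH_noncomm (S : Setup p V H) {A : Subgroup G} (h : Atom p V H A) (h3 : p = 3) :
    ¬ IsMulCommutative ↥(⁅PH p H, A⁆) := by
  obtain ⟨x, hx, hnc⟩ := exists_not_centralizing S h
  obtain ⟨a, ha, hn⟩ := exists_not_commute S h hx hnc h3
  intro hcomm
  have h1 : ⁅x, a⁆ ∈ ⁅PH p H, A⁆ := commutator_mem_commutator hx ha
  have h2 : a * ⁅x, a⁆ * a⁻¹ ∈ ⁅PH p H, A⁆ :=
    (mem_normalizer_iff.1 (normalizer_commutator_ge_right (PH p H) A ha) _).1 h1
  exact hn (congrArg Subtype.val (hcomm.is_comm.comm ⟨_, h1⟩ ⟨_, h2⟩))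

end CfsgLib.Comp.FF
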