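import Cfsg.Agent.Lib.Comp.FFAmbient
import Cfsg.Agent.Lib.PLength.Constrained
import Cfsg.Agent.S0608

/-!
Failure of Thompson factorization in `p`-solvable groups: reduction to the structure theorem.
-/

set_option autoImplicit false
set_option linter.style.haveILetI false
set_option linter.unusedSectionVars false

namespace CfsgLib.Comp.FF

open Subgroup CfsgLib.PLocal

variable {G : Type*} [Group G] {p : ℕ}

/-- The subgroup generated by the `Ω₁(Z(S))`. -/
abbrev VZ (p : ℕ) (G : Type*) [Group G] : Subgroup G :=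
  ⨆ S : Sylow p G, Cfsg.omegaOne p ((S : Subgroup G) ⊓ centralizer ((S : Subgroup G) : Set G))

instance vz_normal : (VZ p G).Normal := omegaCenterJoin_normal

theorem centralizer_iUnion_vz :
    centralizer ((⨆ S : Sylow p G,
        (Cfsg.omegaOne p ((S : Subgroup G) ⊓ centralizer ((S : Subgroup G) : Set G)) : Set G)) : Set G) =
      centralizer (VZ p G : Set G) := by
  rw [VZ, Subgroup.iSup_eq_closure, centralizer_closure]
  rfl

variable [Finite G] [hp : Fact p.Prime]

theorem vz_elem (hsep : Cfsg.IsPSolvable p G) (hO : Cfsg.pPrimeCore p G = ⊥) :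
    Cfsg.IsElementaryAbelian p (VZ p G) := by
  set Z := Cfsg.pCore p G ⊓ centralizer (Cfsg.pCore p G : Set G) with hZ
  refine elemAb_mono (omegaOne_elemAb (p := p) (H := Z)
    (inf_le_right.trans (centralizer_le inf_le_left))) (iSup_le fun S => omegaOne_mono ?_)
  have h1 : (S : Subgroup G) ⊓ centralizer ((S : Subgroup G) : Set G) ≤
      centralizer (Cfsg.pCore p G : Set G) :=
    inf_le_right.trans (centralizer_le (CfsgLib.Solvable.pCore_le_sylow S))
  exact le_inf (h1.trans (CfsgLib.PLength.centralizer_pCore_le_of_isPSolvable hsep hO)) h1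

theorem pCore_quotient_vz :
    Cfsg.pCore p (G ⧸ centralizer (VZ p G : Set G)) = ⊥ := by
  set C := centralizer (VZ p G : Set G) with hC
  set O := Cfsg.pCore p (G ⧸ C) with hO
  haveI : O.Normal := CfsgLib.Solvable.pCore_normal p (G ⧸ C)
  set D := O.comap (QuotientGroup.mk' C) with hD
  have hCD : C ≤ D := fun x hx => by
    rw [hD, mem_comap, QuotientGroup.mk'_apply, (QuotientGroup.eq_one_iff x).2 hx]
    exact one_mem _
  have hk : ∃ k, C.relIndex D = p ^ k := by
    obtain ⟨k, hk⟩ := (isPGroup_pCore p (G ⧸ C)).exists_card_eq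
    refine ⟨k, ?_⟩
    rw [← hk, ← relIndex_bot_left (H := O)]
    conv_lhs => rw [show C = (⊥ : Subgroup (G ⧸ C)).comap (QuotientGroup.mk' C) by
      rw [MonoidHom.comap_bot, QuotientGroup.ker_mk']]
    rw [relIndex_comap, map_comap_eq_self_of_surjective (QuotientGroup.mk'_surjective C)]
  have h := le_centralizer_of_generated (D := D)
    (fun S : Sylow p G => Cfsg.omegaOne p ((S : Subgroup G) ⊓ centralizer ((S : Subgroup G) : Set G)))
    (fun S => (omegaOne_le p _).trans inf_le_right) rfl hCD hk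
  rw [Subgroup.eq_bot_iff_forall]
  intro y hy
  obtain ⟨x, rfl⟩ := QuotientGroup.mk'_surjective C y
  exact (QuotientGroup.eq_one_iff x).2 (h hy)

variable (hsep : Cfsg.IsPSolvable p G) (hO : Cfsg.pPrimeCore p G = ⊥)

include hsep hO

theorem setup_fail : Setup p (Vb (VZ p G)) (JH (VZ p G) p) :=
  setup_amb _ (vz_elem hsep hO) hsep pCore_quotient_vz

theorem hS3_fail : JH (VZ p G) p =
    ⨆ A : {A : Subgroup (Amb (VZ p G)) // A ≤ JH (VZ p G) p ∧
      Cfsg.IsBestOffenderOn p (Vb (VZ p G)) A}, (A : Subgroup (Amb (VZ p G))) :=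
  JH_eq_iSup _ (vz_elem hsep hO)

theorem exists_atom_fail (hnf : ¬ Cfsg.IsThompsonFactorizable p G) :
    ∃ A, Atom p (Vb (VZ p G)) (JH (VZ p G) p) A := by
  by_contra hc
  push Not at hc
  have h1 : JH (VZ p G) p = ⊥ := le_bot_iff.1
    (le_of_atoms (setup_fail hsep hO) (hS3_fail hsep hO) fun A hA => absurd hA (hc A))
  rw [JH, Subgroup.map_eq_bot_iff, rho_ker] at h1
  exact hnf ((Cfsg.Agent.S0608.result hO).2 h1)

end CfsgLib.Comp.FF
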