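import Cfsg.Agent.Lib.Comp.FFBasic
import Cfsg.Agent.Lib.PLocal.SLTwoInvolve
import Cfsg.Agent.Lib.PLocal.DicksonSLTwo
import Cfsg.Agent.Lib.Classical.SLTwoSylow

/-!
Stabilisers of chains in an elementary abelian group and groups of exponent-`p` generators acting on a plane.
-/

set_option autoImplicit false
set_option linter.style.haveILetI false
set_option linter.unusedSectionVars false

namespace CfsgLib.Comp.FF

open Subgroup
open scoped commutatorElement MatrixGroups

variable {G : Type*} [Group G] {p : ℕ}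

/-- Elements normalising `V` and `W` and inducing the identity on `V` modulo `W`. -/
def trivOn (V W : Subgroup G) : Subgroup G where
  carrier := {g | g ∈ normalizer (V : Set G) ∧ g ∈ normalizer (W : Set G) ∧ ∀ v ∈ V, ⁅g, v⁆ ∈ W}
  one_mem' := ⟨one_mem _, one_mem _, fun v _ => by rw [commutatorElement_one_left]; exact one_mem _⟩
  mul_mem' := by
    rintro g h ⟨hg1, hg2, hg3⟩ ⟨hh1, hh2, hh3⟩
    refine ⟨mul_mem hg1 hh1, mul_mem hg2 hh2, fun v hv => ?_⟩
    have e : ⁅g * h, v⁆ = g * ⁅h, v⁆ * g⁻¹ * ⁅g, v⁆ := by simp only [commutatorElement_def]; group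
    rw [e]
    exact mul_mem ((mem_normalizer_iff.1 hg2 _).1 (hh3 v hv)) (hg3 v hv)
  inv_mem' := by
    rintro g ⟨hg1, hg2, hg3⟩
    refine ⟨inv_mem hg1, inv_mem hg2, fun v hv => ?_⟩
    have e : ⁅g⁻¹, v⁆ = g⁻¹ * ⁅g, v⁆⁻¹ * g := by simp only [commutatorElement_def]; group
    rw [e]
    exact (mem_normalizer_iff''.1 hg2 _).1 (inv_mem (hg3 v hv))

theorem mem_trivOn {V W : Subgroup G} {g : G} :
    g ∈ trivOn V W ↔ g ∈ normalizer (V : Set G) ∧ g ∈ normalizer (W : Set G) ∧ ∀ v ∈ V, ⁅g, v⁆ ∈ W :=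
  Iff.rfl

theorem le_trivOn {V W X : Subgroup G} (hXV : X ≤ normalizer (V : Set G)) (hWV : W ≤ V)
    (h : ⁅V, X⁆ ≤ W) : X ≤ trivOn V W := by
  intro g hg
  have h3 : ∀ v ∈ V, ⁅g, v⁆ ∈ W := fun v hv => by
    rw [← commutatorElement_inv]
    exact inv_mem (h (commutator_mem_commutator hv hg))
  refine ⟨hXV hg, ?_, h3⟩
  rw [mem_normalizer_iff]
  intro w
  have e : g * w * g⁻¹ = ⁅g, w⁆ * w := by simp only [commutatorElement_def]; group
  refine ⟨fun hw => e ▸ mul_mem (h3 w (hWV hw)) hw, fun hw => ?_⟩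
  have hwV : w ∈ V := (mem_normalizer_iff.1 (hXV hg) w).2 (hWV hw)
  exact (mul_mem_cancel_left (h3 w hwV)).1 (e ▸ hw)

theorem commutator_le_of_trivOn {V W X : Subgroup G} (h : X ≤ trivOn V W) : ⁅V, X⁆ ≤ W :=
  commutator_le.2 fun v hv g hg => by
    rw [← commutatorElement_inv]
    exact inv_mem ((h hg).2.2 v hv)

theorem chain_pow {v w g : G} (h1 : ⁅g, v⁆ = w) (h2 : g * w = w * g) (n : ℕ) :
    g ^ n * v * (g ^ n)⁻¹ = w ^ n * v := by
  induction n with
  | zero => simp
  | succ n ih =>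
    have h3 : g * w ^ n * g⁻¹ = w ^ n := by
      rw [(Commute.pow_right (show Commute g w from h2) n).eq, mul_inv_cancel_right]
    calc g ^ (n + 1) * v * (g ^ (n + 1))⁻¹ = g * (g ^ n * v * (g ^ n)⁻¹) * g⁻¹ := by
          rw [pow_succ']; group
      _ = (g * w ^ n * g⁻¹) * (⁅g, v⁆ * v) := by rw [ih, commutatorElement_def]; group
      _ = w ^ (n + 1) * v := by rw [h3, h1, pow_succ]; group

/-- An element stabilising `V ≥ W ≥ 1` has `p`-th power centralising `V`. -/
theorem chain_pow_mem {V W : Subgroup G} (hV : Cfsg.IsElementaryAbelian p V) (hWV : W ≤ V) {g : G}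
    (h1 : g ∈ trivOn V W) (h2 : g ∈ centralizer (W : Set G)) : g ^ p ∈ centralizer (V : Set G) := by
  rw [mem_centralizer_iff]
  intro v hv
  have hw := h1.2.2 v hv
  have h := chain_pow (v := v) rfl (mem_centralizer_iff.1 h2 _ hw).symm p
  rw [hV.2 _ (hWV hw), one_mul] at h
  calc v * g ^ p = g ^ p * v * (g ^ p)⁻¹ * g ^ p := by rw [h]
    _ = g ^ p * v := by group

variable [Finite G] [hp : Fact p.Prime] {V H : Subgroup G}

theorem pow_eq_one_of_chain (S : Setup p V H) {W : Subgroup G} (hWV : W ≤ V) {g : G} (hg : g ∈ H)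
    (h1 : g ∈ trivOn V W) (h2 : g ∈ centralizer (W : Set G)) : g ^ p = 1 :=
  mem_bot.1 (S.faith.le ⟨pow_mem hg p, chain_pow_mem S.elem hWV h1 h2⟩)

theorem eq_one_of_pow_of_mem_PH {g : G} (hg : g ∈ PH p H) (h : g ^ p = 1) : g = 1 := by
  refine orderOf_eq_one_iff.1 (Nat.eq_one_of_dvd_coprimes
    (hp.out.coprime_iff_not_dvd.2 (not_dvd_card_PH (H := H))) (orderOf_dvd_of_pow_eq_one h) ?_)
  rw [← Nat.card_zpowers]
  exact card_dvd_of_le (zpowers_le.2 hg)

/-- A `p'`-element stabilising a chain is trivial. -/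
theorem eq_one_of_chain_PH (S : Setup p V H) {W : Subgroup G} (hWV : W ≤ V) {g : G}
    (hg : g ∈ PH p H) (h1 : g ∈ trivOn V W) (h2 : g ∈ centralizer (W : Set G)) : g = 1 :=
  eq_one_of_pow_of_mem_PH hg (pow_eq_one_of_chain S hWV (PH_le hg) h1 h2)

theorem isPGroup_of_chain (S : Setup p V H) {W R : Subgroup G} (hWV : W ≤ V) (hR : R ≤ H)
    (h1 : R ≤ trivOn V W) (h2 : R ≤ centralizer (W : Set G)) : IsPGroup p R := fun g =>
  ⟨1, Subtype.ext (by simpa using pow_eq_one_of_chain S hWV (hR g.2) (h1 g.2) (h2 g.2))⟩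

/-- Two nontrivial elements of a subgroup of order `p` generate the same cyclic group. -/
theorem zpowers_eq_of_card_prime {L : Subgroup G} (hL : Nat.card L = p) {u : G} (hu : u ∈ L)
    (hu1 : u ≠ 1) : zpowers u = L := by
  rcases (Nat.dvd_prime hp.out).1 (hL ▸ card_dvd_of_le (zpowers_le.2 hu)) with h | h
  · exact absurd (zpowers_eq_bot.1 (card_eq_one.1 h)) hu1
  · exact eq_of_le_of_card_ge (zpowers_le.2 hu) (by rw [h, hL])

/-- A group generated by elements of order `p` acting on an elementary abelian group of order `p²`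
acts as a subgroup of `SL(2, p)`. -/
theorem exists_planeHom {U X : Subgroup G} (hU : Cfsg.IsElementaryAbelian p U)
    (hUc : Nat.card U = p ^ 2) (hXU : X ≤ normalizer (U : Set G)) {T : Set G}
    (hT : closure T = X) (hTp : ∀ x ∈ T, x ^ p = 1) {u1 u2 : G} (hu1 : u1 ∈ U) (hu2 : u2 ∈ U)
    (hu1' : u1 ≠ 1) (hind : u2 ∉ zpowers u1) :
    ∃ ψ : X →* SL(2, ZMod p), (∀ x : X, ψ x = 1 ↔ (x : G) ∈ centralizer (U : Set G)) ∧
      ∀ (x : X) (i j k l : ℕ), (x : G) * u1 * (x : G)⁻¹ = u1 ^ i * u2 ^ j →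
        (x : G) * u2 * (x : G)⁻¹ = u1 ^ k * u2 ^ l →
        (ψ x : Matrix (Fin 2) (Fin 2) (ZMod p)) = !![(i : ZMod p), (k : ZMod p); (j : ZMod p), (l : ZMod p)] := by
  classical
  subst hT
  letI : CommGroup U :=
    { (inferInstance : Group U) with mul_comm := fun x y => hU.1.1.comm x y }
  have hexp : ∀ x : Additive U, p • x = 0 := fun x => by
    show Additive.ofMul ((Additive.toMul x) ^ p) = 0
    rw [show (Additive.toMul x) ^ p = 1 from Subtype.ext (by
      simpa using hU.2 _ (Additive.toMul x).2), ofMul_one]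
  letI : Module (ZMod p) (Additive U) := AddCommGroup.zmodModule (n := p) hexp
  haveI : Finite (Additive U) := inferInstanceAs (Finite U)
  haveI : Module.Finite (ZMod p) (Additive U) := Module.Finite.of_finite (R := ZMod p) (M := Additive U)
  have hfr : Module.finrank (ZMod p) (Additive U) = 2 := by
    have h := Module.natCard_eq_pow_finrank (K := ZMod p) (V := Additive U)
    rw [Nat.card_zmod, show Nat.card (Additive U) = p ^ 2 from hUc] at h
    exact (Nat.pow_right_injective hp.out.two_le h).symm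
  let e1 : Additive U := Additive.ofMul ⟨u1, hu1⟩
  let e2 : Additive U := Additive.ofMul ⟨u2, hu2⟩
  have hli : LinearIndependent (ZMod p) ![e1, e2] := by
    have hne : e1 ≠ 0 := fun h => hu1' (congrArg Subtype.val (congrArg Additive.toMul h))
    rw [LinearIndependent.pair_iff' hne]
    intro c h
    apply hind
    rw [← ZMod.natCast_zmod_val c, Nat.cast_smul_eq_nsmul] at h
    exact mem_zpowers_iff.2 ⟨c.val, by
      rw [zpow_natCast]; exact congrArg Subtype.val (congrArg Additive.toMul h)⟩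
  let B : Module.Basis (Fin 2) (ZMod p) (Additive U) := basisOfLinearIndependentOfCardEqFinrank hli (by rw [Fintype.card_fin, hfr])
  have hB0 : B 0 = e1 := by simp [B]
  have hB1 : B 1 = e2 := by simp [B]
  let θ : closure T →* MulAut U := U.normalizerMonoidHom.comp (inclusion hXU)
  let f : closure T →* Matrix (Fin 2) (Fin 2) (ZMod p) :=
    ((LinearMap.toMatrixAlgEquiv B).toMulEquiv.toMonoidHom.comp
      (CfsgLib.PLocal.autRep p U)).comp θ
  have hker : ∀ x : closure T, f x = 1 ↔ (x : G) ∈ centralizer (U : Set G) := by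
    intro x
    have h1 : f x = 1 ↔ θ x = 1 := by
      show (LinearMap.toMatrixAlgEquiv B) (CfsgLib.PLocal.autRep p U (θ x)) = 1 ↔ _
      exact ((LinearMap.toMatrixAlgEquiv B).toMulEquiv.map_eq_one_iff).trans
        (map_eq_one_iff _ (CfsgLib.PLocal.autRep_injective U))
    rw [h1, show θ x = U.normalizerMonoidHom (inclusion hXU x) from rfl, ← MonoidHom.mem_ker,
      normalizerMonoidHom_ker, mem_subgroupOf]
    rfl
  have hdet : ∀ x : closure T, (f x).det = 1 := by
    let g : closure T →* ZMod p := Matrix.detMonoidHom.comp f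
    have hg : g = 1 := by
      refine MonoidHom.eq_of_eqOn_top fun x _ => ?_
      have hx : x ∈ closure (((↑) : closure T → G) ⁻¹' T) := by
        rw [closure_closure_coe_preimage]; exact mem_top _
      refine MonoidHom.eqOn_closure (f := g) (g := 1) (fun y hy => ?_) hx
      have h2 : g y ^ p = 1 := by
        rw [← map_pow, show y ^ p = 1 from Subtype.ext (by simpa using hTp _ hy), map_one]
      rw [ZMod.pow_card] at h2
      exact h2
    exact fun x => DFunLike.congr_fun hg x
  let ψ : closure T →* SL(2, ZMod p) :=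
    MonoidHom.mk' (fun x => ⟨f x, hdet x⟩) fun x y => Subtype.ext (map_mul f x y)
  have hψ : ∀ x, (ψ x : Matrix (Fin 2) (Fin 2) (ZMod p)) = f x := fun _ => rfl
  refine ⟨ψ, fun x => ?_, fun x i j k l h1 h2 => ?_⟩
  · rw [← hker x, ← hψ]
    exact ⟨fun h => by rw [h]; rfl, fun h => Subtype.ext h⟩
  · have key : ∀ (c : Fin 2) (s t : ℕ),
        (x : G) * ((Additive.toMul (B c) : U) : G) * (x : G)⁻¹ = u1 ^ s * u2 ^ t →
        CfsgLib.PLocal.autRep p U (θ x) (B c) = (s : ZMod p) • B 0 + (t : ZMod p) • B 1 := by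
      intro c s t h
      rw [Nat.cast_smul_eq_nsmul, Nat.cast_smul_eq_nsmul, hB0, hB1]
      apply Additive.toMul.injective
      exact Subtype.ext (h.trans rfl)
    have k0 := key 0 i j (by rw [hB0]; exact h1)
    have k1 := key 1 k l (by rw [hB1]; exact h2)
    rw [hψ]
    show LinearMap.toMatrixAlgEquiv B (CfsgLib.PLocal.autRep p U (θ x)) = _
    ext a b
    rw [LinearMap.toMatrixAlgEquiv_apply]
    fin_cases b
    · simp only [Fin.zero_eta, Fin.isValue]
      rw [k0]
      fin_cases a <;> simp [Module.Basis.repr_self]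
    · simp only [Fin.mk_one, Fin.isValue]
      rw [k1]
      fin_cases a <;> simp [Module.Basis.repr_self]

theorem card_sl_two : Nat.card SL(2, ZMod p) = p * (p ^ 2 - 1) := by
  rw [CfsgLib.Classical.card_sl_two_eq (F := ZMod p), ZMod.card]

end CfsgLib.Comp.FF
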