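import Cfsg.Agent.Lib.Comp.FFAtom
import Cfsg.Agent.Lib.Comp.PlaneAction

/-!
Failure of factorization: an atom and a conjugate under the `p'`-core generate `SL(2, p)`, `p ≤ 3`.
-/

set_option autoImplicit false
set_option linter.style.haveILetI false
set_option linter.unusedSectionVars false

namespace CfsgLib.Comp.FF

open Subgroup CfsgLib.PLocal
open scoped commutatorElement MatrixGroups

variable {G : Type*} [Group G] [Finite G] {p : ℕ} [hp : Fact p.Prime] {V H : Subgroup G}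

/-- The conjugate of `A` by `x`. -/
abbrev cj (x : G) (A : Subgroup G) : Subgroup G := A.map (MulAut.conj x).toMonoidHom

theorem slTwo_three_noncomm : ∀ μ : ZMod 3, μ ≠ 0 →
    loL μ * upU (-1) * (upU 1 * (loL μ * upU (-1)) * upU (-1)) ≠
      upU 1 * (loL μ * upU (-1)) * upU (-1) * (loL μ * upU (-1)) := by decide

theorem exists_gen (S : Setup p V H) {A : Subgroup G} (h : Atom p V H A) :
    ∃ a ∈ A, a ≠ 1 ∧ zpowers a = A ∧ a ^ p = 1 := by
  obtain ⟨a, ha, ha1⟩ := exists_mem_ne_one (ne_bot_of_atom h)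
  exact ⟨a, ha, ha1, zpowers_eq_of_card_prime h.2.1 ha ha1, (elem_of_best S h.1 h.2.2).2 a ha⟩

theorem cj_eq_self {x : G} {N : Subgroup G} (h : x ∈ normalizer (N : Set G)) : cj x N = N :=
  CfsgLib.Coprime.map_conj_of_mem_normalizer h

theorem cj_commutator_V (S : Setup p V H) {x : G} (hx : x ∈ H) (A : Subgroup G) :
    cj x ⁅V, A⁆ = ⁅V, cj x A⁆ := by
  rw [cj, map_commutator, CfsgLib.Coprime.map_conj_of_mem_normalizer (S.norm hx)]

theorem atom_cj (S : Setup p V H) {A : Subgroup G} (h : Atom p V H A) {x : G} (hx : x ∈ H) :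
    Atom p V H (cj x A) := by
  have hle : cj x A ≤ H := (map_mono h.1).trans (cj_eq_self (le_normalizer hx)).le
  have hc : Nat.card ↥(cj x A) = p := by
    rw [cj, CfsgLib.Coprime.card_map_conj]; exact h.2.1
  refine ⟨hle, hc, ?_⟩
  have hAe := elem_of_best S h.1 h.2.2
  have he : Cfsg.IsElementaryAbelian p (cj x A) := by
    refine ⟨?_, ?_⟩
    · haveI := hAe.1
      exact inferInstanceAs (IsMulCommutative (A.map (MulAut.conj x).toMonoidHom))
    · rintro _ ⟨a, ha, rfl⟩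
      rw [← map_pow, hAe.2 a ha, map_one]
  refine best_of_card_mul_card_fix S hle he ?_
  have e : V ⊓ centralizer ((cj x A : Subgroup G) : Set G) = cj x (V ⊓ centralizer (A : Set G)) := by
    show _ = (V ⊓ centralizer (A : Set G)).map (MulAut.conj x).toMonoidHom
    rw [Subgroup.map_inf _ _ (MulAut.conj x).toMonoidHom (MulAut.conj x).injective,
      CfsgLib.Coprime.map_conj_of_mem_normalizer (S.norm hx)]
    congr 1
    ext z
    rw [CfsgLib.Coprime.mem_map_conj, mem_centralizer_iff, mem_centralizer_iff]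
    constructor
    · intro hz a ha
      have h2 := hz (x * a * x⁻¹) ⟨a, ha, rfl⟩
      calc a * (x⁻¹ * z * x) = x⁻¹ * (x * a * x⁻¹ * z) * x := by group
        _ = x⁻¹ * z * x * a := by rw [h2]; group
    · rintro hz _ ⟨a, ha, rfl⟩
      show x * a * x⁻¹ * z = z * (x * a * x⁻¹)
      calc x * a * x⁻¹ * z = x * (a * (x⁻¹ * z * x)) * x⁻¹ := by group
        _ = z * (x * a * x⁻¹) := by rw [hz a ha]; group
  rw [hc, e, cj, CfsgLib.Coprime.card_map_conj]
  exact card_fix_mul_of_atom S h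

theorem commutator_le_centralizer_atom (S : Setup p V H) {A : Subgroup G} (h : Atom p V H A) :
    ⁅V, A⁆ ≤ centralizer (A : Set G) := by
  have hne : ⁅V, A⁆ ≠ ⊥ := (commutator_ne_bot_iff S h.1).2 (ne_bot_of_atom h)
  have h2 := CfsgLib.Amalgam.inf_centralizer_ne_bot (isPGroup_of_elemAb (elem_of_best S h.1 h.2.2))
    (IsPGroup.of_card (p := p) (n := 1) (by rw [pow_one]; exact card_commutator_of_atom S h)) hne
    (normalizer_commutator_ge_right V A)
  rcases (Nat.dvd_prime hp.out).1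
    (card_commutator_of_atom S h ▸ card_dvd_of_le (inf_le_left :
      ⁅V, A⁆ ⊓ centralizer (A : Set G) ≤ ⁅V, A⁆)) with h3 | h3
  · exact absurd (card_eq_one.1 h3) h2
  · exact inf_eq_left.1 (eq_of_le_of_card_ge inf_le_left (by rw [h3, card_commutator_of_atom S h]))

theorem commutator_sup_eq (S : Setup p V H) {A B : Subgroup G} (hA : A ≤ H) (hB : B ≤ H) :
    ⁅V, A ⊔ B⁆ = ⁅V, A⁆ ⊔ ⁅V, B⁆ := by
  refine le_antisymm ?_ (sup_le (commutator_mono le_rfl le_sup_left) (commutator_mono le_rfl le_sup_right))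
  have hW : ⁅V, A⁆ ⊔ ⁅V, B⁆ ≤ V :=
    sup_le (le_normalizer_iff_commutator_le_left.1 (hA.trans S.norm))
      (le_normalizer_iff_commutator_le_left.1 (hB.trans S.norm))
  exact commutator_le_of_trivOn (sup_le (le_trivOn (hA.trans S.norm) hW le_sup_left)
    (le_trivOn (hB.trans S.norm) hW le_sup_right))

section Pair

variable {A : Subgroup G} {x : G}

theorem cj_le_sup (hA : A ≤ H) (hx : x ∈ PH p H) : cj x A ≤ PH p H ⊔ A := by
  rintro _ ⟨a, ha, rfl⟩
  show x * a * x⁻¹ ∈ _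
  exact mul_mem (mul_mem (mem_sup_left hx) (mem_sup_right ha)) (mem_sup_left (inv_mem hx))

theorem pair_le (hA : A ≤ H) (hx : x ∈ PH p H) : A ⊔ cj x A ≤ H :=
  sup_le hA ((cj_le_sup hA hx).trans (sup_le PH_le hA))

/-- A `p`-subgroup of `PH ⊔ A` containing the atom `A` equals it. -/
theorem eq_of_isPGroup_of_le_sup (h : Atom p V H A) {R : Subgroup G} (hR : IsPGroup p R) (hAR : A ≤ R)
    (hle : R ≤ PH p H ⊔ A) : R = A := by
  refine le_antisymm (fun g hg => ?_) hAR
  obtain ⟨t, ht, a, ha, rfl⟩ :=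
    (CfsgLib.Coprime.mem_sup_of_le_normalizer (h.1.trans le_normalizer_PH)).1 (hle hg)
  have ht' : t ∈ R ⊓ PH p H := ⟨(mul_mem_cancel_right (hAR ha)).1 hg, ht⟩
  rw [isPGroup_inf_PH hR, mem_bot] at ht'
  rw [ht', one_mul]; exact ha

theorem commutator_cj_ne (S : Setup p V H) (h : Atom p V H A) (hx : x ∈ PH p H)
    (hnc : x ∉ centralizer (A : Set G)) : ⁅V, A⁆ ≠ ⁅V, cj x A⁆ := by
  intro he
  obtain ⟨a, ha, -, hza, -⟩ := exists_gen S h
  have hB := atom_cj S h (PH_le hx)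
  have hLV : ⁅V, A⁆ ≤ V := le_normalizer_iff_commutator_le_left.1 (h.1.trans S.norm)
  have hE : A ⊔ cj x A ≤ trivOn V ⁅V, A⁆ :=
    sup_le (le_trivOn (h.1.trans S.norm) hLV le_rfl) (le_trivOn (hB.1.trans S.norm) hLV he.ge)
  have hEc : A ⊔ cj x A ≤ centralizer ((⁅V, A⁆ : Subgroup G) : Set G) :=
    sup_le (le_centralizer_iff.1 (commutator_le_centralizer_atom S h))
      (he ▸ le_centralizer_iff.1 (commutator_le_centralizer_atom S hB))
  have hd : ⁅x, a⁆ ∈ A ⊔ cj x A := by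
    rw [commutatorElement_def]
    exact mul_mem (mem_sup_right ⟨a, ha, rfl⟩) (inv_mem (mem_sup_left ha))
  have hdP : ⁅x, a⁆ ∈ PH p H :=
    le_normalizer_iff_commutator_le_left.1 (h.1.trans le_normalizer_PH)
      (commutator_mem_commutator hx ha)
  have h1 := eq_one_of_chain_PH S hLV hdP (hE hd) (hEc hd)
  apply hnc
  rw [← hza, centralizer_zpowers, mem_centralizer_singleton_iff]
  exact commutatorElement_eq_one_iff_mul_comm.1 h1

theorem card_pair_commutator (S : Setup p V H) (h : Atom p V H A) (hx : x ∈ PH p H)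
    (hnc : x ∉ centralizer (A : Set G)) : Nat.card ↥(⁅V, A ⊔ cj x A⁆) = p ^ 2 := by
  have hB := atom_cj S h (PH_le hx)
  rw [commutator_sup_eq S h.1 hB.1]
  have hinf : ⁅V, cj x A⁆ ⊓ ⁅V, A⁆ = ⊥ := by
    rcases (Nat.dvd_prime hp.out).1 (card_commutator_of_atom S h ▸ card_dvd_of_le (inf_le_right :
      ⁅V, cj x A⁆ ⊓ ⁅V, A⁆ ≤ ⁅V, A⁆)) with h3 | h3
    · exact card_eq_one.1 h3
    · refine absurd ?_ (commutator_cj_ne S h hx hnc)
      have h4 := eq_of_le_of_card_ge (inf_le_right : ⁅V, cj x A⁆ ⊓ ⁅V, A⁆ ≤ _)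
        (by rw [h3, card_commutator_of_atom S h])
      exact eq_of_le_of_card_ge (h4.ge.trans inf_le_left)
        (by rw [card_commutator_of_atom S h, card_commutator_of_atom S hB])
  rw [CfsgLib.Coprime.card_sup_of_inf_eq_bot _ hinf, card_commutator_of_atom S h,
    card_commutator_of_atom S hB, sq]
  exact ((le_centralizer_iff.1 ((le_normalizer_iff_commutator_le_left.1 (h.1.trans S.norm)).trans
    ((le_centralizer_of_elem S.elem le_rfl).trans
      (centralizer_le (le_normalizer_iff_commutator_le_left.1 (hB.1.trans S.norm)))))).trans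
    (centralizer_le_normalizer _))

theorem pair_faithful (S : Setup p V H) (h : Atom p V H A) (hx : x ∈ PH p H)
    (hnc : x ∉ centralizer (A : Set G)) :
    (A ⊔ cj x A) ⊓ centralizer ((⁅V, A ⊔ cj x A⁆ : Subgroup G) : Set G) = ⊥ := by
  set E := A ⊔ cj x A with hEdef
  set U := ⁅V, E⁆ with hUdef
  set R := E ⊓ centralizer (U : Set G) with hRdef
  have hEH : E ≤ H := pair_le h.1 hx
  have hUV : U ≤ V := le_normalizer_iff_commutator_le_left.1 (hEH.trans S.norm)
  have hE : E ≤ trivOn V U := le_trivOn (hEH.trans S.norm) hUV le_rfl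
  have hRp : IsPGroup p R :=
    isPGroup_of_chain S hUV (inf_le_left.trans hEH) (inf_le_left.trans hE) inf_le_right
  have hEn : E ≤ normalizer (R : Set G) :=
    le_normalizer_inf le_normalizer (le_normalizer_centralizer (fun g hg => (hE hg).2.1))
  have hEsup : E ≤ PH p H ⊔ A := sup_le le_sup_right (cj_le_sup h.1 hx)
  have hRA : R ⊔ A = A := eq_of_isPGroup_of_le_sup h
    (hRp.to_sup_of_normal_left' (isPGroup_of_elemAb (elem_of_best S h.1 h.2.2))
      ((le_sup_left : A ≤ E).trans hEn)) le_sup_right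
    (sup_le (inf_le_left.trans hEsup) le_sup_right)
  refine (eq_bot_or_eq_of_atom h (sup_eq_right.1 hRA)).resolve_right fun hR => ?_
  have hBn : cj x A ≤ normalizer (A : Set G) := by
    have h1 : cj x A ≤ normalizer (R : Set G) := (le_sup_right : cj x A ≤ E).trans hEn
    intro g hg
    have h2 := h1 hg
    rwa [hR] at h2
  have hEp : IsPGroup p E :=
    (isPGroup_of_elemAb (elem_of_best S h.1 h.2.2)).to_sup_of_normal_left'
      (isPGroup_of_elemAb (elem_of_best S (atom_cj S h (PH_le hx)).1 (atom_cj S h (PH_le hx)).2.2)) hBn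
  have hEA : E = A := eq_of_isPGroup_of_le_sup h hEp le_sup_left hEsup
  have hBA : cj x A = A := eq_of_le_of_card_ge (le_sup_right.trans hEA.le)
    (by rw [cj, CfsgLib.Coprime.card_map_conj])
  exact commutator_cj_ne S h hx hnc (by rw [hBA])

/-- The pair generates `SL(2, p)` in standard position. -/
theorem exists_pair_iso (S : Setup p V H) (h : Atom p V H A) (hx : x ∈ PH p H)
    (hnc : x ∉ centralizer (A : Set G)) :
    ∃ ψ : ↥(A ⊔ cj x A) →* SL(2, ZMod p), Function.Bijective ψ ∧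
      ∃ (a b : ↥(A ⊔ cj x A)) (μ : ZMod p), μ ≠ 0 ∧ zpowers (a : G) = A ∧
        (b : G) = x * (a : G) * x⁻¹ ∧ ψ a = upU 1 ∧ ψ b = loL μ := by
  obtain ⟨a, ha, ha1, hza, hap⟩ := exists_gen S h
  have hB := atom_cj S h (PH_le hx)
  set B := cj x A with hBdef
  set E := A ⊔ B with hEdef
  set U := ⁅V, E⁆ with hUdef
  have hEH : E ≤ H := pair_le h.1 hx
  have hUV : U ≤ V := le_normalizer_iff_commutator_le_left.1 (hEH.trans S.norm)
  have hE : E ≤ trivOn V U := le_trivOn (hEH.trans S.norm) hUV le_rfl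
  have hEU : E ≤ normalizer (U : Set G) := fun g hg => (hE hg).2.1
  have hU2 := card_pair_commutator S h hx hnc
  have hUsup : U = ⁅V, A⁆ ⊔ ⁅V, B⁆ := commutator_sup_eq S h.1 hB.1
  have hLA : ⁅V, A⁆ ≤ U := commutator_mono le_rfl le_sup_left
  have hLB : ⁅V, B⁆ ≤ U := commutator_mono le_rfl le_sup_right
  obtain ⟨u2, hu2, hu21⟩ := exists_mem_ne_one
    ((commutator_ne_bot_iff S hB.1).2 (ne_bot_of_atom hB))
  have hz2 : zpowers u2 = ⁅V, B⁆ := zpowers_eq_of_card_prime (card_commutator_of_atom S hB) hu2 hu21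
  set b := x * a * x⁻¹ with hbdef
  have hbB : b ∈ B := ⟨a, ha, rfl⟩
  have hbp : b ^ p = 1 := (elem_of_best S hB.1 hB.2.2).2 b hbB
  set u1 := ⁅a, u2⁆ with hu1def
  have hu1 : u1 ∈ ⁅V, A⁆ := by
    rw [hu1def, ← commutatorElement_inv]
    exact inv_mem (commutator_mem_commutator (hUV (hLB hu2)) ha)
  have hcA : ∀ y ∈ ⁅V, A⁆, a * y = y * a := fun y hy =>
    mem_centralizer_iff.1 (commutator_le_centralizer_atom S h hy) a ha
  have hcB : ∀ y ∈ ⁅V, B⁆, b * y = y * b := fun y hy =>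
    mem_centralizer_iff.1 (commutator_le_centralizer_atom S hB hy) b hbB
  have hu11 : u1 ≠ 1 := by
    intro he
    have hau : a * u2 = u2 * a := commutatorElement_eq_one_iff_mul_comm.1 he
    have hmem : a ∈ E ⊓ centralizer (U : Set G) := by
      refine ⟨mem_sup_left ha, ?_⟩
      have : U ≤ centralizer ({a} : Set G) := by
        rw [hUsup, ← hz2]
        refine sup_le (fun y hy => mem_centralizer_singleton_iff.2 (hcA y hy).symm) ?_
        exact zpowers_le.2 (mem_centralizer_singleton_iff.2 hau.symm)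
      intro y hy
      exact mem_centralizer_singleton_iff.1 (this hy)
    rw [pair_faithful S h hx hnc, mem_bot] at hmem
    exact ha1 hmem
  have hz1 : zpowers u1 = ⁅V, A⁆ := zpowers_eq_of_card_prime (card_commutator_of_atom S h) hu1 hu11
  have hind : u2 ∉ zpowers u1 := fun hm => by
    rw [hz1] at hm
    exact commutator_cj_ne S h hx hnc (by
      rw [← zpowers_eq_of_card_prime (card_commutator_of_atom S h) hm hu21, hz2])
  have hcl : closure ((A : Set G) ∪ (B : Set G)) = E := by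
    rw [Subgroup.closure_union, closure_eq, closure_eq]
  obtain ⟨ψ, hker, hent⟩ := exists_planeHom (elemAb_mono S.elem hUV) hU2 hEU hcl (fun y hy => by
    rcases hy with hy | hy
    · exact (elem_of_best S h.1 h.2.2).2 y hy
    · exact (elem_of_best S hB.1 hB.2.2).2 y hy) (hLA hu1) (hLB hu2) hu11 hind
  have hinj : Function.Injective ψ := (injective_iff_map_eq_one ψ).2 fun y hy => Subtype.ext (by
    have : (y : G) ∈ E ⊓ centralizer (U : Set G) := ⟨y.2, (hker y).1 hy⟩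
    rwa [pair_faithful S h hx hnc, mem_bot] at this)
  obtain ⟨m, hm⟩ : ∃ m : ℕ, u2 ^ m = ⁅b, u1⁆ := by
    have hmem : ⁅b, u1⁆ ∈ ⁅V, B⁆ := by
      rw [← commutatorElement_inv]
      exact inv_mem (commutator_mem_commutator (hUV (hLA hu1)) hbB)
    rw [← hz2] at hmem
    exact (isOfFinOrder_of_finite u2).mem_powers_iff_mem_zpowers.2 hmem
  have hVc : ∀ y ∈ V, ∀ z ∈ V, y * z = z * y := fun y hy z hz =>
    congrArg Subtype.val (S.elem.1.is_comm.comm ⟨y, hy⟩ ⟨z, hz⟩)
  have ea1 : a * u1 * a⁻¹ = u1 ^ 1 * u2 ^ 0 := by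
    rw [hcA u1 hu1]; simp
  have ea2 : a * u2 * a⁻¹ = u1 ^ 1 * u2 ^ 1 := by
    rw [hu1def, commutatorElement_def]; group
  have eb1 : b * u1 * b⁻¹ = u1 ^ 1 * u2 ^ m := by
    rw [pow_one, hVc u1 (hUV (hLA hu1)) _ (pow_mem (hUV (hLB hu2)) m), hm, commutatorElement_def]
    group
  have eb2 : b * u2 * b⁻¹ = u1 ^ 0 * u2 ^ 1 := by
    rw [hcB u2 hu2]; simp
  let aE : E := ⟨a, mem_sup_left ha⟩
  let bE : E := ⟨b, mem_sup_right hbB⟩
  have hψa : ψ aE = upU 1 := Subtype.ext (by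
    have := hent aE 1 0 1 1 ea1 ea2
    simpa [upU_coe] using this)
  have hψb : ψ bE = loL (m : ZMod p) := Subtype.ext (by
    have := hent bE 1 m 0 1 eb1 eb2
    simpa [loL_coe] using this)
  have hm0 : (m : ZMod p) ≠ 0 := by
    intro h0
    rw [h0, loL_zero] at hψb
    have h1 : bE = 1 := hinj (by rw [hψb, map_one])
    have h2 : x * a * x⁻¹ = 1 := congrArg Subtype.val h1
    apply ha1
    calc a = x⁻¹ * (x * a * x⁻¹) * x := by group
      _ = 1 := by rw [h2]; group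
  refine ⟨ψ, ⟨hinj, MonoidHom.range_eq_top.1 (top_le_iff.1 ?_)⟩, aE, bE, (m : ZMod p), hm0, hza, rfl,
    hψa, hψb⟩
  rw [← closure_upU_loL]
  refine (closure_le _).2 ?_
  rintro y (rfl | rfl)
  · exact ⟨aE, hψa⟩
  · refine ⟨bE ^ ((m : ZMod p)⁻¹).val, ?_⟩
    rw [map_pow, hψb, loL_pow, ZMod.natCast_zmod_val, inv_mul_cancel₀ hm0]

theorem pair_sup_inf_PH (h : Atom p V H A) (hx : x ∈ PH p H) :
    (A ⊔ cj x A) ⊓ PH p H ⊔ A = A ⊔ cj x A := by
  refine le_antisymm (sup_le inf_le_left le_sup_left) fun g hg => ?_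
  obtain ⟨t, ht, a, ha, rfl⟩ :=
    (CfsgLib.Coprime.mem_sup_of_le_normalizer (h.1.trans le_normalizer_PH)).1
      (sup_le le_sup_right (cj_le_sup h.1 hx) hg)
  exact mul_mem (mem_sup_left ⟨(mul_mem_cancel_right (mem_sup_left ha)).1 hg, ht⟩) (mem_sup_right ha)

theorem card_pair_inf_PH (S : Setup p V H) (h : Atom p V H A) (hx : x ∈ PH p H)
    (hnc : x ∉ centralizer (A : Set G)) :
    Nat.card ↥((A ⊔ cj x A) ⊓ PH p H) = p ^ 2 - 1 := by
  obtain ⟨ψ, hψ, -⟩ := exists_pair_iso S h hx hnc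
  have h1 := Nat.card_eq_of_bijective ψ hψ
  rw [card_sl_two, ← pair_sup_inf_PH h hx, CfsgLib.Coprime.card_sup_of_inf_eq_bot
    (le_normalizer_inf ((le_sup_left : A ≤ A ⊔ cj x A).trans le_normalizer)
      (h.1.trans le_normalizer_PH)), h.2.1, mul_comm] at h1
  · exact Nat.eq_of_mul_eq_mul_left hp.out.pos h1
  · refine le_bot_iff.1 ((inf_le_inf_left _ inf_le_right).trans ?_)
    rw [isPGroup_inf_PH (isPGroup_of_elemAb (elem_of_best S h.1 h.2.2))]

theorem prime_two_or_three (S : Setup p V H) (h : Atom p V H A) (hx : x ∈ PH p H)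
    (hnc : x ∉ centralizer (A : Set G)) : p = 2 ∨ p = 3 := by
  by_contra hc
  push Not at hc
  obtain ⟨ψ, hψ, a, b, μ, -, hza, -, hψa, -⟩ := exists_pair_iso S h hx hnc
  have hc2 : (2 : ZMod p) ≠ 0 := by
    intro h2
    exact hc.1 ((Nat.prime_dvd_prime_iff_eq hp.out Nat.prime_two).1
      ((ZMod.natCast_eq_zero_iff 2 p).1 (by exact_mod_cast h2)))
  have hc3 : (3 : ZMod p) ≠ 0 := by
    intro h3
    exact hc.2 ((Nat.prime_dvd_prime_iff_eq hp.out Nat.prime_three).1
      ((ZMod.natCast_eq_zero_iff 3 p).1 (by exact_mod_cast h3)))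
  let t : SL(2, ZMod p) := ⟨!![2, 0; 0, 2⁻¹], by simp [Matrix.det_fin_two_of, hc2]⟩
  obtain ⟨t', ht'⟩ := hψ.2 t
  have hkey : t * upU 1 = upU 3 * (upU 1 * t) := by
    apply Subtype.ext
    show !![(2 : ZMod p), 0; 0, 2⁻¹] * !![1, 1; 0, 1] =
      !![1, 3; 0, 1] * (!![1, 1; 0, 1] * !![2, 0; 0, 2⁻¹])
    ext i j
    fin_cases i <;> fin_cases j <;> simp [Matrix.mul_apply, Fin.sum_univ_two]
    field_simp
    norm_num
  have haA : (a : G) ∈ A := by
    have h0 := mem_zpowers (a : G)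
    rwa [hza] at h0
  have hg : ((⁅t', a⁆ : ↥(A ⊔ cj x A)) : G) ∈ PH p H := by
    obtain ⟨q, hq, c, hc', hqc⟩ :=
      (CfsgLib.Coprime.mem_sup_of_le_normalizer (h.1.trans le_normalizer_PH)).1
        (sup_le le_sup_right (cj_le_sup h.1 hx) t'.2)
    have hcomm : c * (a : G) = a * c :=
      congrArg Subtype.val ((elem_of_best S h.1 h.2.2).1.is_comm.comm ⟨c, hc'⟩ ⟨(a : G), haA⟩)
    show ⁅(t' : G), (a : G)⁆ ∈ _
    rw [← hqc, commutatorElement_def, show q * c * (a : G) * (q * c)⁻¹ * (a : G)⁻¹ =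
      q * (c * (a : G) * c⁻¹ * q⁻¹ * (a : G)⁻¹) by group, hcomm, mul_inv_cancel_right]
    exact mul_mem hq ((mem_normalizer_iff.1 (le_normalizer_PH (h.1 haA)) _).1 (inv_mem hq))
  have hψg : ψ ⁅t', a⁆ = upU 3 := by
    rw [map_commutatorElement, ht', hψa, commutatorElement_def]
    calc t * upU 1 * t⁻¹ * (upU 1)⁻¹ = upU 3 * (upU 1 * t) * t⁻¹ * (upU 1)⁻¹ := by rw [hkey]
      _ = upU 3 := by group
  have hpow : ((⁅t', a⁆ : ↥(A ⊔ cj x A)) : G) ^ p = 1 := by
    have h1 : ψ (⁅t', a⁆ ^ p) = ψ 1 := by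
      rw [map_pow, hψg, upU_pow, ZMod.natCast_self, zero_mul, upU_zero, map_one]
    simpa using congrArg Subtype.val (hψ.1 h1)
  have h1 : ⁅t', a⁆ = 1 := Subtype.ext (eq_one_of_pow_of_mem_PH hg hpow)
  rw [h1, map_one] at hψg
  exact hc3 (upU_injective (hψg.symm.trans upU_zero.symm))

theorem exists_not_commute (S : Setup p V H) (h : Atom p V H A) (hx : x ∈ PH p H)
    (hnc : x ∉ centralizer (A : Set G)) (h3 : p = 3) :
    ∃ a ∈ A, ¬ Commute ⁅x, a⁆ (a * ⁅x, a⁆ * a⁻¹) := by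
  obtain ⟨ψ, hψ, a, b, μ, hμ, hza, hb, hψa, hψb⟩ := exists_pair_iso S h hx hnc
  have haA : (a : G) ∈ A := by
    have h0 := mem_zpowers (a : G)
    rwa [hza] at h0
  refine ⟨a, haA, fun hcomm => ?_⟩
  have e : ((b * a⁻¹ : ↥(A ⊔ cj x A)) : G) = ⁅x, (a : G)⁆ := by
    show (b : G) * (a : G)⁻¹ = _
    rw [hb, commutatorElement_def]
  have he : (b * a⁻¹) * (a * (b * a⁻¹) * a⁻¹) = (a * (b * a⁻¹) * a⁻¹) * (b * a⁻¹) := by
    apply Subtype.ext
    simp only [Subgroup.coe_mul, Subgroup.coe_inv] at e ⊢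
    rw [e]
    exact hcomm
  have he' := congrArg ψ he
  simp only [map_mul, map_inv, hψa, hψb, upU_inv] at he'
  subst h3
  exact slTwo_three_noncomm μ hμ he'

end Pair

end CfsgLib.Comp.FF
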