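import Cfsg.Agent.Lib.Comp.PlaneAction
import Cfsg.Agent.Lib.PLocal.SubnormalJoin

/-!
Two subnormal subgroups acting irreducibly on incomparable commutator modules commute.
-/

set_option autoImplicit false
set_option linter.style.haveILetI false
set_option linter.unusedSectionVars false

namespace CfsgLib.Comp.SubnPair

open Subgroup
open scoped commutatorElement

variable {G : Type*} [Group G] {p : ℕ}

/-- Irreducibility of `X` on `⁅V, X⁆`. -/
def Irred (V X : Subgroup G) : Prop :=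
  ∀ U : Subgroup G, U ≤ ⁅V, X⁆ → X ≤ normalizer (U : Set G) → U = ⊥ ∨ U = ⁅V, X⁆

/-- The hypotheses on a pair. -/
structure PairHyp (p : ℕ) (V E E₁ E₂ : Subgroup G) : Prop where
  norm : E ≤ normalizer (V : Set G)
  faith : E ⊓ centralizer (V : Set G) = ⊥
  gen : E = E₁ ⊔ E₂
  sub₁ : (E₁.subgroupOf E).IsSubnormal
  sub₂ : (E₂.subgroupOf E).IsSubnormal
  core : Cfsg.pCore p ↥E = ⊥
  irr₁ : Irred V E₁
  irr₂ : Irred V E₂
  h12 : ¬ ⁅V, E₁⁆ ≤ ⁅V, E₂⁆
  h21 : ¬ ⁅V, E₂⁆ ≤ ⁅V, E₁⁆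
  card₁ : 2 < Nat.card E₁
  card₂ : 2 < Nat.card E₂

theorem PairHyp.symm {V E E₁ E₂ : Subgroup G} (h : PairHyp p V E E₁ E₂) : PairHyp p V E E₂ E₁ :=
  ⟨h.norm, h.faith, h.gen.trans (sup_comm E₁ E₂), h.sub₂, h.sub₁, h.core, h.irr₂, h.irr₁, h.h21, h.h12,
    h.card₂, h.card₁⟩

variable [Finite G] [hp : Fact p.Prime] {V E E₁ E₂ : Subgroup G}

theorem PairHyp.le₁ (h : PairHyp p V E E₁ E₂) : E₁ ≤ E := h.gen ▸ le_sup_left

theorem PairHyp.le₂ (h : PairHyp p V E E₁ E₂) : E₂ ≤ E := h.gen ▸ le_sup_right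

theorem PairHyp.comm_le (h : PairHyp p V E E₁ E₂) : ⁅V, E₁⁆ ≤ V :=
  le_normalizer_iff_commutator_le_left.1 (h.le₁.trans h.norm)

/-- A `p`-subgroup of `E` subnormal in `E` is trivial. -/
theorem eq_bot_of_subnormal (hcore : Cfsg.pCore p ↥E = ⊥) {R : Subgroup G} (hRE : R ≤ E)
    (hs : (R.subgroupOf E).IsSubnormal) (hp' : IsPGroup p R) : R = ⊥ := by
  have h1 := le_pCore_of_isSubnormal hs (hp'.comap_of_injective E.subtype E.subtype_injective)
  rw [hcore, le_bot_iff, subgroupOf_eq_bot] at h1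
  exact le_bot_iff.1 (h1 le_rfl hRE)

theorem isPGroup_chain (hV : Cfsg.IsElementaryAbelian p V) (hf : E ⊓ centralizer (V : Set G) = ⊥)
    {W R : Subgroup G} (hWV : W ≤ V) (hR : R ≤ E)
    (h1 : R ≤ FF.trivOn V W) (h2 : R ≤ centralizer (W : Set G)) : IsPGroup p R := fun g =>
  ⟨1, Subtype.ext (by
    simpa using mem_bot.1 (hf.le ⟨pow_mem (hR g.2) p, FF.chain_pow_mem hV hWV (h1 g.2) (h2 g.2)⟩))⟩

theorem subnormal_of_normalized (h : PairHyp p V E E₁ E₂) {R : Subgroup G} (hR : R ≤ E₁)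
    (hn : E₁ ≤ normalizer (R : Set G)) : (R.subgroupOf E).IsSubnormal := by
  refine isSubnormal_of_le_normalizer (comap_mono hR) h.sub₁ fun x hx => ?_
  rw [mem_normalizer_iff]
  intro y
  exact mem_normalizer_iff.1 (hn hx) (y : G)

theorem commutator_commutator_self (hV : Cfsg.IsElementaryAbelian p V) (h : PairHyp p V E E₁ E₂) :
    ⁅⁅V, E₁⁆, E₁⁆ = ⁅V, E₁⁆ := by
  have hle : ⁅⁅V, E₁⁆, E₁⁆ ≤ ⁅V, E₁⁆ :=
    le_normalizer_iff_commutator_le_left.1 (normalizer_commutator_ge_right V E₁)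
  refine (h.irr₁ _ hle (normalizer_commutator_ge_right _ E₁)).resolve_left fun hb => ?_
  have hp' : IsPGroup p E₁ := isPGroup_chain hV h.faith h.comm_le h.le₁
    (FF.le_trivOn (h.le₁.trans h.norm) h.comm_le le_rfl)
    (le_centralizer_iff.1 (commutator_eq_bot_iff_le_centralizer.1 hb))
  have h1 := eq_bot_of_subnormal h.core h.le₁ h.sub₁ hp'
  have h2 := h.card₁
  rw [h1, Subgroup.card_bot] at h2
  omega

theorem comm_ne_bot (h : PairHyp p V E E₁ E₂) : ⁅V, E₁⁆ ≠ ⊥ := fun hb => h.h12 (hb ▸ bot_le)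

theorem fix_eq_bot (hV : Cfsg.IsElementaryAbelian p V) (h : PairHyp p V E E₁ E₂) :
    ⁅V, E₁⁆ ⊓ centralizer (E₁ : Set G) = ⊥ := by
  refine (h.irr₁ _ inf_le_left (FF.le_normalizer_inf (normalizer_commutator_ge_right V E₁)
    (FF.le_normalizer_centralizer le_normalizer))).resolve_right fun he => comm_ne_bot h ?_
  rw [← commutator_commutator_self hV h, commutator_eq_bot_iff_le_centralizer]
  exact inf_eq_left.1 he

theorem faithful_on_comm (hV : Cfsg.IsElementaryAbelian p V) (h : PairHyp p V E E₁ E₂) :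
    E₁ ⊓ centralizer ((⁅V, E₁⁆ : Subgroup G) : Set G) = ⊥ :=
  eq_bot_of_subnormal h.core (inf_le_left.trans h.le₁)
    (subnormal_of_normalized h inf_le_left (FF.le_normalizer_inf le_normalizer
      (FF.le_normalizer_centralizer (normalizer_commutator_ge_right V E₁))))
    (isPGroup_chain hV h.faith h.comm_le (inf_le_left.trans h.le₁)
      (inf_le_left.trans (FF.le_trivOn (h.le₁.trans h.norm) h.comm_le le_rfl)) inf_le_right)

/-- Conclusions once each member normalises the other's module. -/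
theorem split_of_normalizes (hV : Cfsg.IsElementaryAbelian p V) (h : PairHyp p V E E₁ E₂)
    (hN₁ : E₂ ≤ normalizer ((⁅V, E₁⁆ : Subgroup G) : Set G))
    (hN₂ : E₁ ≤ normalizer ((⁅V, E₂⁆ : Subgroup G) : Set G)) :
    ⁅E₁, E₂⁆ = ⊥ ∧ E₁ ⊓ E₂ = ⊥ ∧ ⁅V, E₁⁆ ⊓ ⁅V, E₂⁆ = ⊥ ∧
      ⁅V, E⁆ = ⁅V, E₁⁆ ⊔ ⁅V, E₂⁆ ∧ ⁅⁅V, E₂⁆, E₁⁆ = ⊥ := by
  set V₁ := ⁅V, E₁⁆ with hV₁
  set V₂ := ⁅V, E₂⁆ with hV₂
  have hW : V₁ ⊓ V₂ = ⊥ :=
    (h.irr₁ _ inf_le_left (FF.le_normalizer_inf (normalizer_commutator_ge_right V E₁) hN₂)).resolve_right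
      fun he => h.h12 (inf_eq_left.1 he)
  have hc₁ : ⁅V₂, E₁⁆ = ⊥ := le_bot_iff.1 (hW ▸ le_inf (commutator_mono h.symm.comm_le le_rfl)
    (le_normalizer_iff_commutator_le_left.1 hN₂))
  have hc₂ : ⁅V₁, E₂⁆ = ⊥ := le_bot_iff.1 (hW ▸ le_inf (le_normalizer_iff_commutator_le_left.1 hN₁)
    (commutator_mono h.comm_le le_rfl))
  have hcomm : ⁅E₁, E₂⁆ = ⊥ := by
    have h3 : ⁅⁅E₁, E₂⁆, V⁆ = ⊥ := commutator_commutator_eq_bot_of_rotate
      (by rw [commutator_comm E₂ V]; exact hc₁) hc₂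
    refine le_bot_iff.1 (h.faith ▸ le_inf ((commutator_mono h.le₁ h.le₂).trans (commutator_le_self E)) ?_)
    exact commutator_eq_bot_iff_le_centralizer.1 h3
  refine ⟨hcomm, ?_, hW, ?_, hc₁⟩
  · refine eq_bot_of_subnormal h.core (inf_le_left.trans h.le₁) ?_
      (isPGroup_chain hV h.faith h.comm_le (inf_le_left.trans h.le₁)
        (inf_le_left.trans (FF.le_trivOn (h.le₁.trans h.norm) h.comm_le le_rfl))
        (inf_le_right.trans (le_centralizer_iff.1 (commutator_eq_bot_iff_le_centralizer.1 hc₂))))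
    refine subgroupOf_isSubnormal_of_le_normalizer (le_trans h.gen.le (sup_le ?_ ?_))
    · exact ((commutator_eq_bot_iff_le_centralizer.1 hcomm).trans
        (centralizer_le (inf_le_right : E₁ ⊓ E₂ ≤ E₂))).trans (centralizer_le_normalizer _)
    · exact ((le_centralizer_iff.1 (commutator_eq_bot_iff_le_centralizer.1 hcomm)).trans
        (centralizer_le (inf_le_left : E₁ ⊓ E₂ ≤ E₁))).trans (centralizer_le_normalizer _)
  · refine le_antisymm ?_ (sup_le (commutator_mono le_rfl h.le₁) (commutator_mono le_rfl h.le₂))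
    have hWV : V₁ ⊔ V₂ ≤ V := sup_le h.comm_le h.symm.comm_le
    exact FF.commutator_le_of_trivOn (h.gen.le.trans (sup_le
      (FF.le_trivOn (h.le₁.trans h.norm) hWV le_sup_left)
      (FF.le_trivOn (h.le₂.trans h.norm) hWV le_sup_right)))

theorem irred_map {X : Subgroup G} (h : Irred V X) {g : G} (hg : g ∈ normalizer (V : Set G)) :
    Irred V (X.map (MulAut.conj g).toMonoidHom) := by
  intro U hU hn
  have e : ⁅V, X.map (MulAut.conj g).toMonoidHom⁆ = (⁅V, X⁆).map (MulAut.conj g).toMonoidHom := by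
    rw [map_commutator, CfsgLib.Coprime.map_conj_of_mem_normalizer hg]
  rw [e] at hU ⊢
  obtain ⟨U', rfl⟩ : ∃ U' : Subgroup G, U = U'.map (MulAut.conj g).toMonoidHom :=
    ⟨U.map (MulAut.conj g⁻¹).toMonoidHom, by
      rw [CfsgLib.Coprime.map_conj_conj, mul_inv_cancel, CfsgLib.Amalgam.map_conj_one']⟩
  have hinj := map_injective (f := (MulAut.conj g).toMonoidHom) (MulAut.conj g).injective
  have hn' : X ≤ normalizer (U' : Set G) := fun x hx => by
    have h2 := CfsgLib.Coprime.map_conj_of_mem_normalizer (hn ⟨x, hx, rfl⟩)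
    rw [CfsgLib.Coprime.mem_normalizer_iff_map_conj]
    apply hinj
    rw [CfsgLib.Coprime.map_conj_conj] at h2 ⊢
    rwa [show (MulAut.conj g).toMonoidHom x * g = g * x by simp] at h2
  rcases h U' ((map_le_map_iff_of_injective (MulAut.conj g).injective).1 hU) hn' with h1 | h1
  · exact Or.inl (by rw [h1, Subgroup.map_bot])
  · exact Or.inr (by rw [h1])

/-- The statement proved by induction on `|E|`. -/
def Normalizes (p : ℕ) (V : Subgroup G) (n : ℕ) : Prop :=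
  ∀ E E₁ E₂ : Subgroup G, Nat.card E = n → PairHyp p V E E₁ E₂ →
    E₂ ≤ normalizer ((⁅V, E₁⁆ : Subgroup G) : Set G)

/-- Moved conjugates are independent and commute. -/
theorem conj_split (hV : Cfsg.IsElementaryAbelian p V) (h : PairHyp p V E E₁ E₂)
    (ih : ∀ m < Nat.card E, Normalizes p V m) {g : G} (hg : g ∈ E)
    (hne : (⁅V, E₁⁆).map (MulAut.conj g).toMonoidHom ≠ ⁅V, E₁⁆) :
    ⁅V, E₁⁆ ⊓ (⁅V, E₁⁆).map (MulAut.conj g).toMonoidHom = ⊥ ∧
      (⁅V, E₁⁆).map (MulAut.conj g).toMonoidHom ≤ centralizer (E₁ : Set G) := by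
  set F := E₁.map (MulAut.conj g).toMonoidHom with hF
  have hgV : g ∈ normalizer (V : Set G) := h.norm hg
  have e : ⁅V, F⁆ = (⁅V, E₁⁆).map (MulAut.conj g).toMonoidHom := by
    rw [map_commutator, CfsgLib.Coprime.map_conj_of_mem_normalizer hgV]
  have hlt : E₁ < E := lt_of_le_of_ne h.le₁ fun he => h.h21 (by
    rw [he]; exact commutator_mono le_rfl h.le₂)
  obtain ⟨N, hN1, hN2, hN3⟩ := exists_lt_le_normalizer h.sub₁ hlt
  have hFN : F ≤ N := (map_mono hN1).trans (CfsgLib.Coprime.map_conj_of_mem_normalizer (hN3 hg)).le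
  set E' := E₁ ⊔ F with hE'
  have hE'E : E' ≤ E := (sup_le hN1 hFN).trans hN2.le
  have hcard : Nat.card E' < Nat.card E := by
    refine lt_of_le_of_lt (card_le_of_le (sup_le hN1 hFN)) ?_
    refine lt_of_le_of_ne (card_le_of_le hN2.le) fun hc => hN2.ne (eq_of_le_of_card_ge hN2.le hc.ge)
  have hFs : (F.subgroupOf E).IsSubnormal := by
    have e2 : F.subgroupOf E = (E₁.subgroupOf E).map (MulAut.conj (⟨g, hg⟩ : E)).toMonoidHom := by
      ext y
      rw [mem_subgroupOf, hF, CfsgLib.Coprime.mem_map_conj, CfsgLib.Coprime.mem_map_conj, mem_subgroupOf]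
      rfl
    rw [e2]
    exact isSubnormal_map_conj h.sub₁ _
  have hres : ∀ X : Subgroup G, X ≤ E → (X.subgroupOf E).IsSubnormal → (X.subgroupOf E').IsSubnormal :=
    fun X _ hX => by
      have h1 := hX.comap (Subgroup.inclusion hE'E)
      exact h1
  have hE's : (E'.subgroupOf E).IsSubnormal := by
    rw [hE', subgroupOf_sup h.le₁ (hFN.trans hN2.le)]
    exact CfsgLib.PLocal.isSubnormal_sup h.sub₁ hFs
  have hcore : Cfsg.pCore p ↥E' = ⊥ := by
    have h1 : ((Cfsg.pCore p ↥E').map E'.subtype) = ⊥ := by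
      refine eq_bot_of_subnormal h.core ((map_subtype_le _).trans hE'E) ?_
        ((isPGroup_pCore p ↥E').map _)
      refine isSubnormal_of_le_normalizer (comap_mono (map_subtype_le _)) hE's fun x hx => ?_
      haveI : (Cfsg.pCore p ↥E').Normal := CfsgLib.Solvable.pCore_normal p ↥E'
      rw [mem_normalizer_iff]
      intro y
      have h2 := le_normalizer_map (H := Cfsg.pCore p ↥E') E'.subtype
      rw [normalizer_eq_top_iff.2 inferInstance, ← MonoidHom.range_eq_map, range_subtype] at h2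
      exact mem_normalizer_iff.1 (h2 hx) (y : G)
    exact (map_eq_bot_iff_of_injective _ E'.subtype_injective).1 h1
  have hc' : Nat.card ↥(⁅V, F⁆) = Nat.card ↥(⁅V, E₁⁆) := by
    rw [e, CfsgLib.Coprime.card_map_conj]
  have h' : PairHyp p V E' E₁ F :=
    { norm := hE'E.trans h.norm
      faith := le_bot_iff.1 ((inf_le_inf_right _ hE'E).trans h.faith.le)
      gen := rfl
      sub₁ := hres _ h.le₁ h.sub₁
      sub₂ := hres _ (hFN.trans hN2.le) hFs
      core := hcore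
      irr₁ := h.irr₁
      irr₂ := irred_map h.irr₁ hgV
      h12 := fun hle => hne (e ▸ (eq_of_le_of_card_ge hle hc'.le).symm)
      h21 := fun hle => hne (e ▸ eq_of_le_of_card_ge hle hc'.ge)
      card₁ := h.card₁
      card₂ := by rw [hF, CfsgLib.Coprime.card_map_conj]; exact h.card₁ }
  obtain ⟨-, -, h1, -, h2⟩ := split_of_normalizes hV h' (ih _ hcard _ _ _ rfl h')
    (ih _ hcard _ _ _ rfl h'.symm)
  rw [e] at h1 h2
  exact ⟨h1, commutator_eq_bot_iff_le_centralizer.1 h2⟩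

theorem normalizes (hV : Cfsg.IsElementaryAbelian p V) (n : ℕ) : Normalizes p V n := by
  induction n using Nat.strong_induction_on with
  | _ n ih =>
  intro E E₁ E₂ hn h k hk
  subst hn
  by_contra hkn
  set V₁ := ⁅V, E₁⁆ with hV₁
  set V₂ := ⁅V, E₂⁆ with hV₂
  have hVc : ∀ x ∈ V, ∀ y ∈ V, x * y = y * x := fun x hx y hy =>
    congrArg Subtype.val (hV.1.is_comm.comm ⟨x, hx⟩ ⟨y, hy⟩)
  let c : G → Subgroup G := fun g => V₁.map (MulAut.conj g).toMonoidHom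
  have hcV : ∀ g ∈ E, c g ≤ V := fun g hg =>
    (map_mono h.comm_le).trans (CfsgLib.Coprime.map_conj_of_mem_normalizer (h.norm hg)).le
  have hkne : c k ≠ V₁ := fun he => hkn (CfsgLib.Coprime.mem_normalizer_iff_map_conj.2 he)
  let R : Subgroup G := ⨆ g ∈ {g : G | g ∈ E₂ ∧ c g ≠ V₁}, c g
  have hRc : R ≤ centralizer (E₁ : Set G) :=
    iSup₂_le fun g hg => (conj_split hV h ih (h.le₂ hg.1) hg.2).2
  have hE₁R : E₁ ≤ centralizer (R : Set G) := le_centralizer_iff.1 hRc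
  have hkR : c k ≤ R := le_iSup₂_of_le k ⟨hk, hkne⟩ le_rfl
  have hV₁R : V₁ ⊓ R = ⊥ := le_bot_iff.1 (fix_eq_bot hV h ▸ inf_le_inf_left _ hRc)
  set W := V₁ ⊔ R with hW
  have hWV : W ≤ V := sup_le h.comm_le (iSup₂_le fun g hg => hcV g (h.le₂ hg.1))
  have hWeq : W = ⨆ g ∈ E₂, c g := by
    refine le_antisymm (sup_le ?_ (iSup₂_le fun g hg => le_iSup₂_of_le g hg.1 le_rfl))
      (iSup₂_le fun g hg => ?_)
    · refine le_iSup₂_of_le (1 : G) (one_mem E₂) ?_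
      exact (CfsgLib.Amalgam.map_conj_one' V₁).ge
    · by_cases he : c g = V₁
      · exact he.le.trans le_sup_left
      · exact le_sup_of_le_right (le_iSup₂_of_le g ⟨hg, he⟩ le_rfl)
  have hE₂W : E₂ ≤ normalizer (W : Set G) := by
    refine fun f hf => CfsgLib.Coprime.mem_normalizer_iff_map_conj.2 (le_antisymm ?_ ?_)
    · rw [hWeq]
      simp only [Subgroup.map_iSup]
      refine iSup₂_le fun g hg => le_iSup₂_of_le (f * g) (mul_mem hf hg) ?_
      exact (CfsgLib.Coprime.map_conj_conj f g V₁).le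
    · rw [hWeq]
      simp only [Subgroup.map_iSup]
      refine iSup₂_le fun g hg => le_iSup₂_of_le (f⁻¹ * g) (mul_mem (inv_mem hf) hg) ?_
      show c g ≤ (c (f⁻¹ * g)).map (MulAut.conj f).toMonoidHom
      rw [CfsgLib.Coprime.map_conj_conj, mul_inv_cancel_left]
  have hu : ∀ v ∈ V₁, ⁅k, v⁆ ∈ V₂ := fun v hv => by
    rw [← commutatorElement_inv]
    exact inv_mem (commutator_mem_commutator (h.comm_le hv) hk)
  have hkv : ∀ v ∈ V₁, k * v * k⁻¹ ∈ c k := fun v hv => ⟨v, hv, rfl⟩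
  have hku : ∀ v ∈ V₁, ⁅k, v⁆ ∈ V₁ → v = 1 := fun v hv hv' => by
    have h1 : k * v * k⁻¹ ∈ V₁ ⊓ c k := by
      refine ⟨?_, hkv v hv⟩
      have : k * v * k⁻¹ = ⁅k, v⁆ * v := by rw [commutatorElement_def]; group
      rw [this]; exact mul_mem hv' hv
    rw [(conj_split hV h ih (h.le₂ hk) hkne).1, mem_bot] at h1
    calc v = k⁻¹ * (k * v * k⁻¹) * k := by group
      _ = 1 := by rw [h1]; group
  have hV₂W : V₂ ≤ W := by
    refine inf_eq_left.1 ((h.irr₂ _ inf_le_left (FF.le_normalizer_inf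
      (normalizer_commutator_ge_right V E₂) hE₂W)).resolve_left fun hb => ?_)
    obtain ⟨v, hv, hv1⟩ := exists_mem_ne_one (comm_ne_bot h)
    have h1 : ⁅k, v⁆ ∈ V₂ ⊓ W := ⟨hu v hv, by
      rw [commutatorElement_def]
      exact mul_mem (mem_sup_right (hkR (hkv v hv))) (mem_sup_left (inv_mem hv))⟩
    rw [hb, mem_bot] at h1
    exact hv1 (hku v hv (by rw [h1]; exact one_mem _))
  -- an element of `E₁` moving `V₂`
  have hmove : ∀ f ∈ E₁, ∀ v ∈ V₁, f ∈ normalizer (V₂ : Set G) → ⁅f, v⁆ ∈ V₂ := by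
    intro f hf v hv hfn
    have h1 : f * ⁅k, v⁻¹⁆ * f⁻¹ * ⁅k, v⁻¹⁆⁻¹ ∈ V₂ :=
      mul_mem ((mem_normalizer_iff.1 hfn _).1 (hu _ (inv_mem hv))) (inv_mem (hu _ (inv_mem hv)))
    have h2 : f * (k * v⁻¹ * k⁻¹) = k * v⁻¹ * k⁻¹ * f :=
      mem_centralizer_iff.1 (hRc (hkR (hkv _ (inv_mem hv)))) f hf
    have h3 : f * v * f⁻¹ ∈ V₁ := (mem_normalizer_iff.1 (normalizer_commutator_ge_right V E₁ hf) v).1 hv
    have h4 : ⁅f, v⁆ = f * ⁅k, v⁻¹⁆ * f⁻¹ * ⁅k, v⁻¹⁆⁻¹ := by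
      have h5 := hVc _ (hcV k (h.le₂ hk) (hkv _ (inv_mem hv))) _ (h.comm_le h3)
      have hv' : ⁅f, v⁆ ∈ V := by
        rw [commutatorElement_def]; exact mul_mem (h.comm_le h3) (inv_mem (h.comm_le hv))
      have h6 := hVc _ (hcV k (h.le₂ hk) (hkv _ (inv_mem hv))) _ hv'
      simp only [commutatorElement_def, inv_inv, mul_inv_rev] at h6 ⊢
      calc f * v * f⁻¹ * v⁻¹
          = (k * v⁻¹ * k⁻¹ * (f * v * f⁻¹ * v⁻¹)) * (k * v⁻¹ * k⁻¹)⁻¹ := by rw [h6]; group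
        _ = f * (k * v⁻¹ * k⁻¹) * v * f⁻¹ * (v⁻¹ * (k * v⁻¹ * k⁻¹)⁻¹) := by rw [h2]; group
        _ = _ := by group
    rw [h4]; exact h1
  have hV₂V₁ : V₂ ⊓ R = ⊥ := by
    have hex : ∃ f ∈ E₁, f ∉ normalizer (V₂ : Set G) := by
      by_contra hc
      push Not at hc
      apply h.h12
      show V₁ ≤ V₂
      rw [hV₁, ← commutator_commutator_self hV h]
      refine commutator_le.2 fun v hv f hf => ?_
      rw [← commutatorElement_inv]
      exact inv_mem (hmove f hf v hv (hc f hf))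
    obtain ⟨f, hf, hfn⟩ := hex
    refine le_bot_iff.1 (fun u hu' => ?_)
    have h1 := (conj_split hV h.symm ih (h.le₁ hf)
      (fun he => hfn (CfsgLib.Coprime.mem_normalizer_iff_map_conj.2 he))).1
    rw [← h1]
    refine ⟨hu'.1, u, hu'.1, ?_⟩
    show f * u * f⁻¹ = u
    rw [mem_centralizer_iff.1 (hRc hu'.2) f hf, mul_inv_cancel_right]
  set W₂ := V₁ ⊔ c k with hW₂
  have hRn : R ≤ normalizer (V₁ : Set G) :=
    (le_trans (iSup₂_le fun g hg => hcV g (h.le₂ hg.1))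
      ((FF.le_centralizer_of_elem hV h.comm_le))).trans (centralizer_le_normalizer _)
  have hV₂W₂ : V₂ ≤ W₂ := by
    intro u hu'
    obtain ⟨v, hv, r, hr, e⟩ := (CfsgLib.Coprime.mem_sup_of_le_normalizer hRn).1 (hV₂W hu')
    have hrV : r ∈ V := hWV (mem_sup_right hr)
    have h1 : u * ⁅k, v⁻¹⁆⁻¹ ∈ V₂ ⊓ R := by
      refine ⟨(mul_mem hu' (inv_mem (hu _ (inv_mem hv))) : u * ⁅k, v⁻¹⁆⁻¹ ∈ V₂), ?_⟩
      show _ ∈ R
      have e2 : u * ⁅k, v⁻¹⁆⁻¹ = r * (k * v⁻¹ * k⁻¹)⁻¹ := by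
        rw [← e, hVc v (h.comm_le hv) r hrV]; simp only [commutatorElement_def]; group
      rw [e2]; exact mul_mem hr (inv_mem (hkR (hkv _ (inv_mem hv))))
    rw [hV₂V₁, mem_bot] at h1
    rw [mul_inv_eq_one.1 h1, commutatorElement_def]
    exact mul_mem (mem_sup_right (hkv _ (inv_mem hv))) (mem_sup_left (inv_mem (inv_mem hv)))
  have hcardV : Nat.card V₁ ≤ Nat.card V₂ := by
    refine Nat.card_le_card_of_injective (fun v : V₁ => (⟨⁅k, (v : G)⁆, hu v v.2⟩ : V₂)) ?_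
    intro a b hab
    have h1 : k * a * k⁻¹ * (a : G)⁻¹ = k * b * k⁻¹ * (b : G)⁻¹ := congrArg Subtype.val hab
    have hd : (b : G)⁻¹ * a ∈ V₁ := mul_mem (inv_mem b.2) a.2
    refine Subtype.ext (inv_mul_eq_one.1 (hku _ hd ?_)).symm
    have h2 := hVc _ (hcV k (h.le₂ hk) (hkv _ (inv_mem b.2))) _ (h.comm_le (inv_mem a.2))
    have e3 : ⁅k, (b : G)⁻¹ * a⁆ = 1 := by
      rw [commutatorElement_def]
      have h3 : (k * a * k⁻¹) = k * b * k⁻¹ * (b : G)⁻¹ * a := eq_mul_of_mul_inv_eq h1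
      calc k * ((b : G)⁻¹ * a) * k⁻¹ * ((b : G)⁻¹ * a)⁻¹
          = (k * (b : G)⁻¹ * k⁻¹) * (k * a * k⁻¹) * (a : G)⁻¹ * b := by group
        _ = 1 := by rw [h3]; group
    rw [e3]; exact one_mem _
  have hV₁V₂ : V₁ ⊓ V₂ = ⊥ := by
    refine le_bot_iff.1 fun u hu' => ?_
    obtain ⟨v, hv, r, hr, e⟩ := (CfsgLib.Coprime.mem_sup_of_le_normalizer hRn).1 (hV₂W hu'.2)
    have hr1 : r ∈ V₁ ⊓ R := ⟨(mul_mem_cancel_left hv).1 (e ▸ hu'.1), hr⟩
    rw [hV₁R, mem_bot] at hr1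
    have hrV : (1:G) ∈ V := one_mem _
    have h1 : u * ⁅k, v⁻¹⁆⁻¹ ∈ V₂ ⊓ R := by
      refine ⟨(mul_mem hu'.2 (inv_mem (hu _ (inv_mem hv))) : u * ⁅k, v⁻¹⁆⁻¹ ∈ V₂), ?_⟩
      show _ ∈ R
      have e2 : u * ⁅k, v⁻¹⁆⁻¹ = (k * v⁻¹ * k⁻¹)⁻¹ := by
        rw [← e, hr1]; simp only [commutatorElement_def]; group
      rw [e2]; exact inv_mem (hkR (hkv _ (inv_mem hv)))
    rw [hV₂V₁, mem_bot, mul_inv_eq_one] at h1
    have h2 := hku _ (inv_mem hv) (h1 ▸ hu'.1)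
    rw [mem_bot, h1, h2, commutatorElement_one_right]
  have hstab : ∀ f ∈ E₁, f ∈ normalizer (V₂ : Set G) → f = 1 := by
    intro f hf hfn
    have h1 : f ∈ E₁ ⊓ centralizer (V₁ : Set G) := by
      refine ⟨hf, fun v hv => ?_⟩
      have h2 : ⁅f, v⁆ ∈ V₁ ⊓ V₂ := by
        refine ⟨?_, hmove f hf v hv hfn⟩
        rw [commutatorElement_def]
        exact Subgroup.mul_mem V₁ ((mem_normalizer_iff.1 (normalizer_commutator_ge_right V E₁ hf) v).1 hv)
          (Subgroup.inv_mem V₁ hv)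
      rw [hV₁V₂, mem_bot, commutatorElement_eq_one_iff_mul_comm] at h2
      exact h2.symm
    rw [faithful_on_comm hV h, mem_bot] at h1
    exact h1
  -- three distinct elements of `E₁`
  obtain ⟨a, ha, b, hb, hab, ha1, hb1⟩ : ∃ a ∈ E₁, ∃ b ∈ E₁, a ≠ b ∧ a ≠ 1 ∧ b ≠ 1 := by
    haveI := Fintype.ofFinite E₁
    have h3 : 2 < Fintype.card E₁ := by rw [← Nat.card_eq_fintype_card]; exact h.card₁
    obtain ⟨u, v, w, h12', h13', h23'⟩ := Fintype.two_lt_card_iff.1 h3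
    obtain ⟨x, y, hx, hy, hxy⟩ : ∃ x y : E₁, x ≠ 1 ∧ y ≠ 1 ∧ x ≠ y := by
      by_cases hu1 : u = 1
      · exact ⟨v, w, fun e => h12' (hu1.trans e.symm), fun e => h13' (hu1.trans e.symm), h23'⟩
      · by_cases hv1 : v = 1
        · exact ⟨u, w, hu1, fun e => h23' (hv1.trans e.symm), h13'⟩
        · exact ⟨u, v, hu1, hv1, h12'⟩
    exact ⟨x, x.2, y, y.2, fun e => hxy (Subtype.ext e), fun e => hx (Subtype.ext e),
      fun e => hy (Subtype.ext e)⟩
  let d : G → Subgroup G := fun g => V₂.map (MulAut.conj g).toMonoidHom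
  have hd : ∀ g ∈ E₁, g ≠ 1 → V₂ ⊓ d g = ⊥ ∧ d g ≤ centralizer (E₂ : Set G) := fun g hg hg1 =>
    conj_split hV h.symm ih (h.le₁ hg)
      (fun he => hg1 (hstab g hg (CfsgLib.Coprime.mem_normalizer_iff_map_conj.2 he)))
  have hdW : ∀ g ∈ E₁, d g ≤ W₂ := fun g hg => by
    refine (map_mono hV₂W₂).trans (le_of_eq (CfsgLib.Coprime.map_conj_of_mem_normalizer ?_))
    have h1 : E₁ ≤ normalizer ((c k : Subgroup G) : Set G) :=
      (hE₁R.trans (centralizer_le hkR)).trans (centralizer_le_normalizer _)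
    rw [CfsgLib.Coprime.mem_normalizer_iff_map_conj, hW₂, Subgroup.map_sup,
      CfsgLib.Coprime.map_conj_of_mem_normalizer (normalizer_commutator_ge_right V E₁ hg),
      CfsgLib.Coprime.map_conj_of_mem_normalizer (h1 hg)]
  have hdc : ∀ X Y : Subgroup G, X ≤ V → Y ≤ V → X ≤ normalizer (Y : Set G) := fun X Y hX hY =>
    (hX.trans (FF.le_centralizer_of_elem hV hY)).trans (centralizer_le_normalizer _)
  have hdV : ∀ g ∈ E₁, d g ≤ V := fun g hg => (hdW g hg).trans (sup_le h.comm_le (hcV k (h.le₂ hk)))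
  have hab' : d a ⊓ d b = ⊥ := by
    have h1 := (hd (a⁻¹ * b) (mul_mem (inv_mem ha) hb) (fun e => hab (inv_mul_eq_one.1 e))).1
    have h2 := congrArg (Subgroup.map (MulAut.conj a).toMonoidHom) h1
    rw [Subgroup.map_inf _ _ (MulAut.conj a).toMonoidHom (MulAut.conj a).injective, Subgroup.map_bot]
      at h2
    simp only [d] at h2 ⊢
    rwa [CfsgLib.Coprime.map_conj_conj, mul_inv_cancel_left] at h2
  have h3 : V₂ ⊓ (d a ⊔ d b) = ⊥ :=
    le_bot_iff.1 (fix_eq_bot hV h.symm ▸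
      inf_le_inf_left _ (sup_le (hd a ha ha1).2 (hd b hb hb1).2))
  have hc1 : Nat.card ↥(d a ⊔ d b) = Nat.card V₂ * Nat.card V₂ := by
    rw [CfsgLib.Coprime.card_sup_of_inf_eq_bot (hdc _ _ (hdV b hb) (hdV a ha)) (inf_comm (d a) (d b) ▸ hab')]
    simp only [d, CfsgLib.Coprime.card_map_conj]
  have hc2 : Nat.card ↥(d a ⊔ d b ⊔ V₂) = Nat.card V₂ * Nat.card V₂ * Nat.card V₂ := by
    rw [CfsgLib.Coprime.card_sup_of_inf_eq_bot (hdc _ _ h.symm.comm_le (sup_le (hdV a ha) (hdV b hb))) h3,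
      hc1]
  have hc3 : Nat.card W₂ = Nat.card V₁ * Nat.card V₁ := by
    rw [hW₂, CfsgLib.Coprime.card_sup_of_inf_eq_bot (hdc _ _ (hcV k (h.le₂ hk)) h.comm_le)
      (inf_comm V₁ (c k) ▸ (conj_split hV h ih (h.le₂ hk) hkne).1)]
    simp only [c, CfsgLib.Coprime.card_map_conj]
    rfl
  have hle := card_le_of_le (sup_le (sup_le (hdW a ha) (hdW b hb)) hV₂W₂)
  rw [hc2, hc3] at hle
  have h1 : 1 < Nat.card V₁ := one_lt_card_iff_ne_bot _ |>.2 (comm_ne_bot h)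
  have h2 : Nat.card V₁ * Nat.card V₁ ≤ Nat.card V₂ * Nat.card V₂ := Nat.mul_le_mul hcardV hcardV
  have h4 : 2 ≤ Nat.card V₂ := h1.trans_le hcardV
  nlinarith [Nat.mul_le_mul h2 h4]

/-- Two such subgroups commute and their modules are independent. -/
theorem pair_split (hV : Cfsg.IsElementaryAbelian p V) (h : PairHyp p V E E₁ E₂) :
    ⁅E₁, E₂⁆ = ⊥ ∧ E₁ ⊓ E₂ = ⊥ ∧ ⁅V, E₁⁆ ⊓ ⁅V, E₂⁆ = ⊥ ∧
      ⁅V, E⁆ = ⁅V, E₁⁆ ⊔ ⁅V, E₂⁆ ∧ ⁅⁅V, E₂⁆, E₁⁆ = ⊥ :=
  split_of_normalizes hV h (normalizes hV _ _ _ _ rfl h) (normalizes hV _ _ _ _ rfl h.symm)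

end CfsgLib.Comp.SubnPair
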