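import Cfsg.Agent.Lib.Comp.FFCore
import Cfsg.Agent.Lib.Comp.SubnormalPair

/-!
Failure of factorization: every atom spans with its commutator on the `p'`-core a direct factor
`SL(2, p)` of `H` acting on its own plane.
-/

set_option autoImplicit false
set_option linter.style.haveILetI false
set_option linter.unusedSectionVars false

namespace CfsgLib.Comp.FF

open Subgroup CfsgLib.PLocal
open scoped commutatorElement MatrixGroups

variable {G : Type*} [Group G] [Finite G] {p : ℕ} [hp : Fact p.Prime] {V H : Subgroup G}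

/-- `[O_{p'}(H), A] A`. -/
abbrev Ec (p : ℕ) (H A : Subgroup G) : Subgroup G := ⁅PH p H, A⁆ ⊔ A

section One

variable {A : Subgroup G} {x : G}

theorem pair_le_trivOn (S : Setup p V H) (h : Atom p V H A) (hx : x ∈ PH p H) :
    A ⊔ cj x A ≤ trivOn V ⁅V, A ⊔ cj x A⁆ :=
  le_trivOn ((pair_le h.1 hx).trans S.norm)
    (le_normalizer_iff_commutator_le_left.1 ((pair_le h.1 hx).trans S.norm)) le_rfl

/-- The pair is irreducible on its plane. -/
theorem pair_irred (S : Setup p V H) (h : Atom p V H A) (hx : x ∈ PH p H)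
    (hnc : x ∉ centralizer (A : Set G)) : SubnPair.Irred V (A ⊔ cj x A) := by
  intro W hW hn
  set U := ⁅V, A ⊔ cj x A⁆ with hU
  have hU2 : Nat.card U = p ^ 2 := card_pair_commutator S h hx hnc
  have hUp : IsPGroup p U := IsPGroup.of_card hU2
  obtain ⟨i, hi, hWi⟩ := (Nat.dvd_prime_pow hp.out).1 (hU2 ▸ card_dvd_of_le hW)
  interval_cases i
  · exact Or.inl (card_eq_one.1 (by simpa using hWi))
  · exfalso
    rw [pow_one] at hWi
    have hfixed : ∀ {C : Subgroup G}, Atom p V H C → C ≤ A ⊔ cj x A → ⁅V, C⁆ ≤ U →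
        W = ⁅V, C⁆ := by
      intro C hC hCE hLU
      have hWC : W ≤ centralizer (C : Set G) := by
        have h2 := CfsgLib.Amalgam.inf_centralizer_ne_bot
          (isPGroup_of_elemAb (elem_of_best S hC.1 hC.2.2))
          (IsPGroup.of_card (p := p) (n := 1) (by rw [pow_one]; exact hWi))
          (fun e => by rw [e, Subgroup.card_bot] at hWi; exact hp.out.ne_one hWi.symm)
          (hCE.trans hn)
        rcases (Nat.dvd_prime hp.out).1
          (hWi ▸ card_dvd_of_le (inf_le_left : W ⊓ centralizer (C : Set G) ≤ W)) with h3 | h3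
        · exact absurd (card_eq_one.1 h3) h2
        · exact inf_eq_left.1 (eq_of_le_of_card_ge inf_le_left (by rw [h3, hWi]))
      have hfix : U ⊓ centralizer (C : Set G) = ⁅V, C⁆ := by
        have hle : ⁅V, C⁆ ≤ U ⊓ centralizer (C : Set G) :=
          le_inf hLU (commutator_le_centralizer_atom S hC)
        obtain ⟨j, hj, hjc⟩ := (Nat.dvd_prime_pow hp.out).1
          (hU2 ▸ card_dvd_of_le (inf_le_left : U ⊓ centralizer (C : Set G) ≤ U))
        refine (eq_of_le_of_card_ge hle ?_).symm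
        rw [hjc, card_commutator_of_atom S hC]
        refine Nat.pow_le_pow_right hp.out.pos (?_ : j ≤ 1) |>.trans_eq (pow_one p)
        by_contra hj1
        have hUC : U ≤ centralizer (C : Set G) := inf_eq_left.1 (eq_of_le_of_card_ge inf_le_left
          (by rw [hjc, hU2]; exact Nat.pow_le_pow_right hp.out.pos (by omega)))
        exact ne_bot_of_atom hC (le_bot_iff.1
          ((le_inf hCE (le_centralizer_iff.1 hUC)).trans (pair_faithful S h hx hnc).le))
      exact eq_of_le_of_card_ge ((le_inf hW hWC).trans hfix.le)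
        (by rw [hWi, card_commutator_of_atom S hC])
    exact commutator_cj_ne S h hx hnc ((hfixed h le_sup_left (commutator_mono le_rfl le_sup_left)).symm.trans
      (hfixed (atom_cj S h (PH_le hx)) le_sup_right (commutator_mono le_rfl le_sup_right)))
  · exact Or.inr (eq_of_le_of_card_ge hW (by rw [hWi, hU2]))

theorem two_lt_card_pair_inf (S : Setup p V H) (h : Atom p V H A) (hx : x ∈ PH p H)
    (hnc : x ∉ centralizer (A : Set G)) : 2 < Nat.card ↥((A ⊔ cj x A) ⊓ PH p H) := by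
  rw [card_pair_inf_PH S h hx hnc]
  rcases prime_two_or_three S h hx hnc with rfl | rfl <;> norm_num

theorem pair_inf_ne_bot (S : Setup p V H) (h : Atom p V H A) (hx : x ∈ PH p H)
    (hnc : x ∉ centralizer (A : Set G)) : (A ⊔ cj x A) ⊓ PH p H ≠ ⊥ := fun e => by
  have h2 := two_lt_card_pair_inf S h hx hnc
  rw [e, Subgroup.card_bot] at h2
  omega

theorem commutator_pair_inf (S : Setup p V H) (h : Atom p V H A) (hx : x ∈ PH p H)
    (hnc : x ∉ centralizer (A : Set G)) :
    ⁅V, (A ⊔ cj x A) ⊓ PH p H⁆ = ⁅V, A ⊔ cj x A⁆ := by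
  have hE := pair_le h.1 hx
  refine (pair_irred S h hx hnc _ (commutator_mono le_rfl inf_le_left) ?_).resolve_left fun hb => ?_
  · exact le_normalizer_commutator (hE.trans S.norm)
      (le_normalizer_inf le_normalizer (hE.trans le_normalizer_PH))
  · exact pair_inf_ne_bot S h hx hnc (eq_bot_of_faith S (inf_le_right.trans PH_le)
      (le_centralizer_iff.1 (commutator_eq_bot_iff_le_centralizer.1 hb)))

theorem plane_inf_fix (S : Setup p V H) (h : Atom p V H A) (hx : x ∈ PH p H)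
    (hnc : x ∉ centralizer (A : Set G)) :
    ⁅V, A ⊔ cj x A⁆ ⊓ centralizer (((A ⊔ cj x A) ⊓ PH p H : Subgroup G) : Set G) = ⊥ := by
  rw [← commutator_pair_inf S h hx hnc]
  exact CfsgLib.Coprime.commutator_inf_centralizer_eq_bot S.elem.1
    (((inf_le_right : _ ⊓ PH p H ≤ PH p H).trans PH_le).trans S.norm) (coprime_card_V S inf_le_right)

theorem plane_sup_fix (S : Setup p V H) (h : Atom p V H A) (hx : x ∈ PH p H)
    (hnc : x ∉ centralizer (A : Set G)) :
    ⁅V, A ⊔ cj x A⁆ ⊔ (V ⊓ centralizer (((A ⊔ cj x A) ⊓ PH p H : Subgroup G) : Set G)) = V := by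
  rw [← commutator_pair_inf S h hx hnc]
  exact CfsgLib.Coprime.commutator_sup_centralizer
    (((inf_le_right : _ ⊓ PH p H ≤ PH p H).trans PH_le).trans S.norm) (coprime_card_V S inf_le_right)
    (Or.inr (isSolvable_elemAb S.elem))

/-- The core part of the pair is irreducible on the plane. -/
theorem pair_inf_irred (S : Setup p V H) (h : Atom p V H A) (hx : x ∈ PH p H)
    (hnc : x ∉ centralizer (A : Set G)) : SubnPair.Irred V ((A ⊔ cj x A) ⊓ PH p H) := by
  intro W hW hn
  rw [commutator_pair_inf S h hx hnc] at hW ⊢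
  set E := A ⊔ cj x A with hE
  set Q := E ⊓ PH p H with hQ
  set U := ⁅V, E⁆ with hU
  have hU2 : Nat.card U = p ^ 2 := card_pair_commutator S h hx hnc
  have hEQA : E = Q ⊔ A := (pair_sup_inf_PH h hx).symm
  by_contra hcon
  push Not at hcon
  obtain ⟨i, hi, hWi⟩ := (Nat.dvd_prime_pow hp.out).1 (hU2 ▸ card_dvd_of_le hW)
  have hi1 : i = 1 := by
    interval_cases i
    · exact absurd (card_eq_one.1 (by simpa using hWi)) hcon.1
    · rfl
    · exact absurd (eq_of_le_of_card_ge hW (by rw [hWi, hU2])) hcon.2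
  subst hi1
  rw [pow_one] at hWi
  have hex : ∃ a ∈ A, cj a W ≠ W := by
    by_contra hc
    push Not at hc
    have hnE : E ≤ normalizer (W : Set G) := by
      rw [hEQA]
      exact sup_le hn fun a ha => CfsgLib.Coprime.mem_normalizer_iff_map_conj.2 (hc a ha)
    rcases pair_irred S h hx hnc W hW hnE with e | e
    · exact hcon.1 e
    · exact hcon.2 e
  obtain ⟨a, ha, hne⟩ := hex
  have haE : a ∈ E := mem_sup_left ha
  have haQ : cj a Q = Q := cj_eq_self (mem_of_le_of_mem
    (le_normalizer_inf (le_normalizer : E ≤ _) ((pair_le h.1 hx).trans le_normalizer_PH)) haE)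
  have hn' : Q ≤ normalizer ((cj a W : Subgroup G) : Set G) := by
    intro g hg
    have hg2 : g ∈ cj a Q := by rw [haQ]; exact hg
    obtain ⟨g', hg', rfl⟩ := hg2
    rw [CfsgLib.Coprime.mem_normalizer_iff_map_conj, CfsgLib.Coprime.map_conj_conj]
    show W.map (MulAut.conj (a * g' * a⁻¹ * a)).toMonoidHom = cj a W
    rw [inv_mul_cancel_right, ← CfsgLib.Coprime.map_conj_conj,
      CfsgLib.Coprime.map_conj_of_mem_normalizer (hn hg')]
  have hsup : W ⊔ cj a W = U := by
    have hle : W ⊔ cj a W ≤ U := sup_le hW ((map_mono hW).trans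
      (cj_eq_self (pair_le_trivOn S h hx haE).2.1).le)
    obtain ⟨j, hj, hjc⟩ := (Nat.dvd_prime_pow hp.out).1 (hU2 ▸ card_dvd_of_le hle)
    refine eq_of_le_of_card_ge hle ?_
    rw [hjc, hU2]
    refine Nat.pow_le_pow_right hp.out.pos ?_
    by_contra hj2
    have h1 : W ⊔ cj a W = W := (eq_of_le_of_card_ge le_sup_left (by
      rw [hjc, hWi]
      exact (Nat.pow_le_pow_right hp.out.pos (by omega)).trans_eq (pow_one p))).symm
    exact hne (eq_of_le_of_card_ge (le_sup_right.trans h1.le) (by rw [cj, CfsgLib.Coprime.card_map_conj]))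
  -- `Q` acts through commuting power maps on both lines
  obtain ⟨w, hw, hw1⟩ := exists_mem_ne_one hcon.1
  have hwz : zpowers w = W := zpowers_eq_of_card_prime hWi hw hw1
  have hw' : a * w * a⁻¹ ∈ cj a W := ⟨w, hw, rfl⟩
  have hw'1 : a * w * a⁻¹ ≠ 1 := fun e => hw1 (by
    calc w = a⁻¹ * (a * w * a⁻¹) * a := by group
      _ = 1 := by rw [e]; group)
  have hwz' : zpowers (a * w * a⁻¹) = cj a W :=
    zpowers_eq_of_card_prime (p := p) (by rw [cj, CfsgLib.Coprime.card_map_conj]; exact hWi) hw' hw'1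
  have hpw : ∀ (y : G) (L : Subgroup G), zpowers y = L → Q ≤ normalizer (L : Set G) →
      ∀ g ∈ Q, ∃ k : ℤ, g * y * g⁻¹ = y ^ k := fun y L hL hnL g hg => by
    have h1 : g * y * g⁻¹ ∈ L := (mem_normalizer_iff.1 (hnL hg) y).1 (hL ▸ mem_zpowers y)
    rw [← hL] at h1
    obtain ⟨k, hk⟩ := mem_zpowers_iff.1 h1
    exact ⟨k, hk.symm⟩
  have hfix : ∀ g ∈ E, g * w * g⁻¹ = w → g * (a * w * a⁻¹) * g⁻¹ = a * w * a⁻¹ → g = 1 := by
    intro g hg h1 h2
    have hUc : U ≤ centralizer ({g} : Set G) := by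
      rw [← hsup]
      refine sup_le ?_ ?_
      · rw [← hwz]
        exact zpowers_le.2 (mem_centralizer_singleton_iff.2 (mul_inv_eq_iff_eq_mul.1 h1).symm)
      · rw [← hwz']
        exact zpowers_le.2 (mem_centralizer_singleton_iff.2 (mul_inv_eq_iff_eq_mul.1 h2).symm)
    have h3 : g ∈ E ⊓ centralizer (U : Set G) :=
      ⟨hg, fun y hy => mem_centralizer_singleton_iff.1 (hUc hy)⟩
    rw [pair_faithful S h hx hnc, mem_bot] at h3
    exact h3
  rcases prime_two_or_three S h hx hnc with h2 | h3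
  · apply pair_inf_ne_bot S h hx hnc
    rw [Subgroup.eq_bot_iff_forall]
    intro g hg
    have honly : ∀ (y : G) (L : Subgroup G), zpowers y = L → Nat.card L = p → y ≠ 1 →
        Q ≤ normalizer (L : Set G) → g * y * g⁻¹ = y := by
      intro y L hL hLc hy1 hnL
      obtain ⟨k, hk⟩ := hpw y L hL hnL g hg
      have hord : orderOf y = 2 := by rw [← Nat.card_zpowers, hL, hLc, h2]
      rw [hk]
      have h5 : y ^ k = y ^ (k % 2) := by rw [← zpow_mod_orderOf, hord]; rfl
      rcases Int.emod_two_eq_zero_or_one k with e | e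
      · exfalso
        rw [e, zpow_zero] at h5
        rw [h5] at hk
        exact hy1 (by
          calc y = g⁻¹ * (g * y * g⁻¹) * g := by group
            _ = 1 := by rw [hk]; group)
      · rw [h5, e, zpow_one]
    exact hfix g hg.1 (honly w W hwz hWi hw1 hn)
      (honly _ _ hwz' (by rw [cj, CfsgLib.Coprime.card_map_conj]; exact hWi) hw'1 hn')
  · obtain ⟨b, hb, hbn⟩ := exists_not_commute S h hx hnc h3
    apply hbn
    have hd : ⁅x, b⁆ ∈ Q := ⟨by
        show ⁅x, b⁆ ∈ E
        rw [commutatorElement_def]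
        exact mul_mem (mem_sup_right ⟨b, hb, rfl⟩) (inv_mem (mem_sup_left hb)),
      le_normalizer_iff_commutator_le_left.1 (h.1.trans le_normalizer_PH)
        (commutator_mem_commutator hx hb)⟩
    have hd' : b * ⁅x, b⁆ * b⁻¹ ∈ Q :=
      (mem_normalizer_iff.1 (le_normalizer_inf (le_normalizer : E ≤ _)
        ((pair_le h.1 hx).trans le_normalizer_PH) (mem_sup_left hb)) _).1 hd
    have hcm : ∀ (y : G) (L : Subgroup G), zpowers y = L → Q ≤ normalizer (L : Set G) →
        ∀ g ∈ Q, ∀ g' ∈ Q, ⁅g, g'⁆ * y * ⁅g, g'⁆⁻¹ = y := by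
      intro y L hL hnL g hg g' hg'
      obtain ⟨k, hk⟩ := hpw y L hL hnL g hg
      obtain ⟨k', hk'⟩ := hpw y L hL hnL g' hg'
      have e1 : g * (g' * y * g'⁻¹) * g⁻¹ = g' * (g * y * g⁻¹) * g'⁻¹ := by
        rw [hk', hk, ← conj_zpow, ← conj_zpow, hk, hk', ← zpow_mul, ← zpow_mul, mul_comm]
      calc ⁅g, g'⁆ * y * ⁅g, g'⁆⁻¹
          = g * g' * (g⁻¹ * g'⁻¹ * (y) * g' * g) * g'⁻¹ * g⁻¹ := by rw [commutatorElement_def]; group
        _ = g * (g' * (g⁻¹ * g'⁻¹ * y * g' * g) * g'⁻¹) * g⁻¹ := by group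
        _ = y := by
          obtain ⟨l, hl⟩ := hpw y L hL hnL _ (inv_mem hg)
          obtain ⟨l', hl'⟩ := hpw y L hL hnL _ (inv_mem hg')
          have e2 : g⁻¹ * (g'⁻¹ * y * g') * g = g'⁻¹ * (g⁻¹ * y * g) * g' := by
            have h1 : g'⁻¹ * y * g' = y ^ l' := by simpa using hl'
            have h2 : g⁻¹ * y * g = y ^ l := by simpa using hl
            rw [h1, h2]
            have h3 := @conj_zpow G _ l' g⁻¹ y
            have h4 := @conj_zpow G _ l g'⁻¹ y
            rw [inv_inv] at h3 h4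
            rw [← h3, ← h4, h1, h2, ← zpow_mul, ← zpow_mul, mul_comm]
          calc g * (g' * (g⁻¹ * g'⁻¹ * y * g' * g) * g'⁻¹) * g⁻¹
              = g * (g' * (g⁻¹ * (g'⁻¹ * y * g') * g) * g'⁻¹) * g⁻¹ := by group
            _ = y := by rw [e2]; group
    have hz := hfix ⁅⁅x, b⁆, b * ⁅x, b⁆ * b⁻¹⁆
      (by rw [commutatorElement_def]; exact Subgroup.mul_mem E (Subgroup.mul_mem E (Subgroup.mul_mem E hd.1 hd'.1) (Subgroup.inv_mem E hd.1)) (Subgroup.inv_mem E hd'.1))
      (hcm w W hwz hn _ hd _ hd') (hcm _ _ hwz' hn' _ hd _ hd')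
    exact commutatorElement_eq_one_iff_mul_comm.1 hz

theorem cj_mul_centralizing {c : G} (hc : c ∈ centralizer (A : Set G)) (s : G) :
    cj (s * c) A = cj s A := by
  show A.map (MulAut.conj (s * c)).toMonoidHom = _
  rw [← CfsgLib.Coprime.map_conj_conj,
    CfsgLib.Coprime.map_conj_of_mem_normalizer (centralizer_le_normalizer _ hc)]

theorem exists_core_rep (S : Setup p V H) (h : Atom p V H A) (hx : x ∈ PH p H)
    (hnc : x ∉ centralizer (A : Set G)) {T : Subgroup G}
    (hdec : ∀ g ∈ PH p H, ∃ s ∈ T, ∃ c ∈ PH p H ⊓ centralizer (A : Set G), g = s * c) :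
    ∃ s ∈ T, s ∉ centralizer (A : Set G) ∧ cj s A = cj x A := by
  obtain ⟨s, hs, c, hc, rfl⟩ := hdec x hx
  exact ⟨s, hs, fun h' => hnc (mul_mem h' hc.2), (cj_mul_centralizing hc.2 s).symm⟩

end One

theorem pCore_eq_bot_of_le_PH {D : Subgroup G} (hD : D ≤ PH p H) : Cfsg.pCore p ↥D = ⊥ := by
  refine (map_eq_bot_iff_of_injective _ D.subtype_injective).1 ?_
  rw [← inf_eq_left.2 ((map_subtype_le (Cfsg.pCore p ↥D)).trans hD)]
  exact isPGroup_inf_PH ((isPGroup_pCore p ↥D).map D.subtype)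

/-- Two subgroups of the core with independent-or-equal planes. -/
theorem plane_dichotomy (S : Setup p V H) {Q Q' U U' : Subgroup G} (hQ : Q ≤ PH p H) (hQ' : Q' ≤ PH p H)
    (hU : ⁅V, Q⁆ = U) (hU' : ⁅V, Q'⁆ = U')
    (hs : (Q.subgroupOf (Q ⊔ Q')).IsSubnormal) (hs' : (Q'.subgroupOf (Q ⊔ Q')).IsSubnormal)
    (hi : SubnPair.Irred V Q) (hi' : SubnPair.Irred V Q') (hc : 2 < Nat.card Q) (hc' : 2 < Nat.card Q')
    (hcard : Nat.card U = Nat.card U') (hne : U ≠ U') :
    U ⊓ U' = ⊥ ∧ U' ≤ centralizer (Q : Set G) := by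
  subst hU hU'
  have hle : Q ⊔ Q' ≤ PH p H := sup_le hQ hQ'
  obtain ⟨-, -, h3, -, h5⟩ := SubnPair.pair_split S.elem
    (⟨(hle.trans PH_le).trans S.norm,
      le_bot_iff.1 ((inf_le_inf_right _ (hle.trans PH_le)).trans S.faith.le), rfl, hs, hs',
      pCore_eq_bot_of_le_PH hle, hi, hi', fun hl => hne (eq_of_le_of_card_ge hl hcard.ge),
      fun hl => hne (eq_of_le_of_card_ge hl hcard.le).symm, hc, hc'⟩ :
      SubnPair.PairHyp p V (Q ⊔ Q') Q Q')
  exact ⟨h3, commutator_eq_bot_iff_le_centralizer.1 h5⟩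

theorem pair_plane_eq (S : Setup p V H) {A : Subgroup G} (h : Atom p V H A) {s t : G}
    (hs : s ∈ PH p H) (hs' : s ∉ centralizer (A : Set G)) (ht : t ∈ PH p H)
    (ht' : t ∉ centralizer (A : Set G)) :
    ⁅V, A ⊔ cj s A⁆ = ⁅V, A ⊔ cj t A⁆ := by
  obtain ⟨T, hTP, hTq, hAT, hdec⟩ := exists_core_sylow S h
  obtain ⟨s0, hs0, hs0', es⟩ := exists_core_rep S h hs hs' hdec
  obtain ⟨t0, ht0, ht0', et⟩ := exists_core_rep S h ht ht' hdec
  rw [← es, ← et]
  by_contra hne
  have hle : (A ⊔ cj s0 A) ⊓ PH p H ⊔ (A ⊔ cj t0 A) ⊓ PH p H ≤ T :=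
    sup_le (pair_inf_le h hTP hAT hs0) (pair_inf_le h hTP hAT ht0)
  have := (hTq.to_le hle).isNilpotent
  have hsn : ∀ X : Subgroup ↥((A ⊔ cj s0 A) ⊓ PH p H ⊔ (A ⊔ cj t0 A) ⊓ PH p H), X.IsSubnormal :=
    fun X => CfsgLib.Solvable.isSubnormal_of_isNilpotent X
  obtain ⟨h3, -⟩ := plane_dichotomy S inf_le_right inf_le_right
    (commutator_pair_inf S h (hTP hs0) hs0') (commutator_pair_inf S h (hTP ht0) ht0') (hsn _) (hsn _)
    (pair_inf_irred S h (hTP hs0) hs0') (pair_inf_irred S h (hTP ht0) ht0')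
    (two_lt_card_pair_inf S h (hTP hs0) hs0') (two_lt_card_pair_inf S h (hTP ht0) ht0')
    (by rw [card_pair_commutator S h (hTP hs0) hs0', card_pair_commutator S h (hTP ht0) ht0']) hne
  exact (commutator_ne_bot_iff S h.1).2 (ne_bot_of_atom h) (le_bot_iff.1
    (h3 ▸ le_inf (commutator_mono le_rfl le_sup_left) (commutator_mono le_rfl le_sup_left)))

/-- Pairs with the same plane are equal. -/
theorem pair_eq_of_plane_eq (S : Setup p V H) {A A' : Subgroup G} (h : Atom p V H A)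
    (h' : Atom p V H A') {s t : G} (hs : s ∈ PH p H) (hs' : s ∉ centralizer (A : Set G))
    (ht : t ∈ PH p H) (ht' : t ∉ centralizer (A' : Set G))
    (he : ⁅V, A ⊔ cj s A⁆ = ⁅V, A' ⊔ cj t A'⁆) : A ⊔ cj s A = A' ⊔ cj t A' := by
  set E₁ := A ⊔ cj s A with hE₁
  set E₂ := A' ⊔ cj t A' with hE₂
  set X := E₁ ⊔ E₂ with hXdef
  set U := ⁅V, E₁⁆ with hU
  have hUV : U ≤ V := le_normalizer_iff_commutator_le_left.1 ((pair_le h.1 hs).trans S.norm)
  have hXH : X ≤ H := sup_le (pair_le h.1 hs) (pair_le h'.1 ht)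
  have hX : X ≤ trivOn V U := sup_le (pair_le_trivOn S h hs) (by rw [he]; exact pair_le_trivOn S h' ht)
  set R := X ⊓ centralizer (U : Set G) with hRdef
  have hRp : IsPGroup p R :=
    isPGroup_of_chain S hUV (inf_le_left.trans hXH) (inf_le_left.trans hX) inf_le_right
  have hXR : X ≤ normalizer (R : Set G) :=
    le_normalizer_inf le_normalizer (le_normalizer_centralizer fun g hg => (hX hg).2.1)
  set Q := E₁ ⊓ PH p H with hQdef
  have hRQ : R ≤ centralizer (Q : Set G) := by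
    rw [← commutator_eq_bot_iff_le_centralizer]
    refine le_bot_iff.1 ((le_inf ?_ ?_).trans (isPGroup_inf_PH (H := H) hRp).le)
    · rw [commutator_comm]
      exact le_normalizer_iff_commutator_le_right.1 ((inf_le_left.trans le_sup_left : Q ≤ X).trans hXR)
    · exact (commutator_mono le_rfl inf_le_right).trans
        (le_normalizer_iff_commutator_le_right.1 ((inf_le_left.trans hXH).trans le_normalizer_PH))
  have hR : R = ⊥ := by
    refine eq_bot_of_faith S (inf_le_left.trans hXH) (le_centralizer_iff.1 ?_)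
    rw [← plane_sup_fix S h hs hs']
    refine sup_le (le_centralizer_iff.1 inf_le_right) ?_
    rw [← commutator_eq_bot_iff_le_centralizer]
    refine le_bot_iff.1 ((le_inf ?_ ?_).trans (plane_inf_fix S h hs hs').le)
    · exact commutator_le.2 fun v hv r hr => by
        rw [← commutatorElement_inv]
        exact inv_mem ((hX hr.1).2.2 v hv.1)
    · refine (le_normalizer_iff_commutator_le_left.1 ?_).trans inf_le_right
      exact le_normalizer_inf ((inf_le_left.trans hXH).trans S.norm) (hRQ.trans le_normalizer)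
  obtain ⟨u1, hu1, hu11⟩ := exists_mem_ne_one
    ((commutator_ne_bot_iff S h.1).2 (ne_bot_of_atom h))
  have hu1U : u1 ∈ U := commutator_mono le_rfl le_sup_left hu1
  obtain ⟨u2, hu2, hind⟩ : ∃ u2 ∈ U, u2 ∉ zpowers u1 := by
    by_contra hc
    push Not at hc
    have h1 := card_le_of_le (show U ≤ zpowers u1 from hc)
    rw [zpowers_eq_of_card_prime (card_commutator_of_atom S h) hu1 hu11, card_commutator_of_atom S h,
      card_pair_commutator S h hs hs'] at h1
    exact absurd h1 (not_le.2 (lt_self_pow₀ hp.out.one_lt one_lt_two))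
  have hcl : closure ((A : Set G) ∪ (cj s A : Set G) ∪ ((A' : Set G) ∪ (cj t A' : Set G))) = X := by
    rw [Subgroup.closure_union, Subgroup.closure_union, Subgroup.closure_union, closure_eq, closure_eq,
      closure_eq, closure_eq]
  have hpow : ∀ C : Subgroup G, Atom p V H C → ∀ y ∈ C, y ^ p = 1 := fun C hC =>
    (elem_of_best S hC.1 hC.2.2).2
  obtain ⟨ψ, hker, -⟩ := exists_planeHom (elemAb_mono S.elem hUV) (card_pair_commutator S h hs hs')
    (fun g hg => (hX hg).2.1) hcl (fun y hy => by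
      rcases hy with (hy | hy) | (hy | hy)
      · exact hpow A h y hy
      · exact hpow _ (atom_cj S h (PH_le hs)) y hy
      · exact hpow A' h' y hy
      · exact hpow _ (atom_cj S h' (PH_le ht)) y hy) hu1U hu2 hu11 hind
  have hinj : Function.Injective ψ := (injective_iff_map_eq_one ψ).2 fun y hy => Subtype.ext (by
    have hy' : (y : G) ∈ R := ⟨y.2, (hker y).1 hy⟩
    rwa [hR, mem_bot] at hy')
  have hcard : ∀ (C : Subgroup G) (c : G), Atom p V H C → c ∈ PH p H →
      c ∉ centralizer (C : Set G) → Nat.card ↥(C ⊔ cj c C) = Nat.card SL(2, ZMod p) := by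
    intro C c hC hc hc'
    obtain ⟨φ, hφ, -⟩ := exists_pair_iso S hC hc hc'
    exact Nat.card_eq_of_bijective φ hφ
  have hle := Nat.card_le_card_of_injective ψ hinj
  have e1 : E₁ = X := eq_of_le_of_card_ge le_sup_left (by rw [hcard A s h hs hs']; exact hle)
  have e2 : E₂ = X := eq_of_le_of_card_ge le_sup_right (by rw [hcard A' t h' ht ht']; exact hle)
  exact e1.trans e2.symm

theorem Ec_eq_pair (S : Setup p V H) {A : Subgroup G} (h : Atom p V H A) {x : G} (hx : x ∈ PH p H)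
    (hnc : x ∉ centralizer (A : Set G)) : Ec p H A = A ⊔ cj x A := by
  refine le_antisymm (sup_le (commutator_le.2 fun g hg a ha => ?_) le_sup_left) (sup_le le_sup_right ?_)
  · by_cases hgc : g ∈ centralizer (A : Set G)
    · rw [commutatorElement_eq_one_iff_mul_comm.2 (mem_centralizer_iff.1 hgc a ha).symm]
      exact one_mem _
    rw [pair_eq_of_plane_eq S h h hx hnc hg hgc (pair_plane_eq S h hx hnc hg hgc), commutatorElement_def]
    exact mul_mem (mem_sup_right ⟨a, ha, rfl⟩) (inv_mem (mem_sup_left ha))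
  · rintro _ ⟨a, ha, rfl⟩
    show x * a * x⁻¹ ∈ _
    rw [show x * a * x⁻¹ = ⁅x, a⁆ * a by rw [commutatorElement_def]; group]
    exact mul_mem (mem_sup_left (commutator_mem_commutator hx ha)) (mem_sup_right ha)

/-- The plane of an atom. -/
structure EcData (p : ℕ) (V H A : Subgroup G) : Prop where
  le : Ec p H A ≤ H
  triv : Ec p H A ≤ trivOn V ⁅V, Ec p H A⁆
  card : Nat.card ↥(⁅V, Ec p H A⁆) = p ^ 2
  faith : Ec p H A ⊓ centralizer ((⁅V, Ec p H A⁆ : Subgroup G) : Set G) = ⊥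
  iso : Nonempty (↥(Ec p H A) ≃* SL(2, ZMod p))
  core : ⁅V, Ec p H A ⊓ PH p H⁆ = ⁅V, Ec p H A⁆
  irr : SubnPair.Irred V (Ec p H A ⊓ PH p H)
  big : 2 < Nat.card ↥(Ec p H A ⊓ PH p H)
  inf : ⁅V, Ec p H A⁆ ⊓ (V ⊓ centralizer ((Ec p H A : Subgroup G) : Set G)) = ⊥
  sup : ⁅V, Ec p H A⁆ ⊔ (V ⊓ centralizer ((Ec p H A : Subgroup G) : Set G)) = V

theorem ecData (S : Setup p V H) {A : Subgroup G} (h : Atom p V H A) : EcData p V H A := by
  obtain ⟨x, hx, hnc⟩ := exists_not_centralizing S h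
  obtain ⟨ψ, hψ, -⟩ := exists_pair_iso S h hx hnc
  have e := Ec_eq_pair S h hx hnc
  have hinf : ⁅V, Ec p H A⁆ ⊓ (V ⊓ centralizer ((Ec p H A : Subgroup G) : Set G)) = ⊥ := by
    rw [e]
    refine le_bot_iff.1 ((inf_le_inf_left _ ?_).trans (plane_inf_fix S h hx hnc).le)
    exact inf_le_right.trans (centralizer_le (inf_le_left : (A ⊔ cj x A) ⊓ PH p H ≤ A ⊔ cj x A))
  have hsup : ⁅V, Ec p H A⁆ ⊔ (V ⊓ centralizer ((Ec p H A : Subgroup G) : Set G)) = V := by
    rw [e]
    refine le_antisymm (sup_le (le_normalizer_iff_commutator_le_left.1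
      ((pair_le h.1 hx).trans S.norm)) inf_le_left) ?_
    conv_lhs => rw [← plane_sup_fix S h hx hnc]
    refine sup_le_sup_left (le_inf inf_le_left (le_centralizer_iff.1 ?_)) _
    conv_lhs => rw [← pair_sup_inf_PH h hx]
    refine sup_le (le_centralizer_iff.1 inf_le_right) (le_centralizer_iff.1 ?_)
    rw [← commutator_eq_bot_iff_le_centralizer]
    refine le_bot_iff.1 ((le_inf ?_ ?_).trans (plane_inf_fix S h hx hnc).le)
    · exact commutator_mono inf_le_left le_sup_left
    · refine (le_normalizer_iff_commutator_le_left.1 ?_).trans inf_le_right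
      exact le_normalizer_inf (h.1.trans S.norm) (le_normalizer_centralizer
        (le_normalizer_inf ((le_sup_left : A ≤ A ⊔ cj x A).trans le_normalizer)
          (h.1.trans le_normalizer_PH)))
  refine ⟨?_, ?_, ?_, ?_, ?_, ?_, ?_, ?_, hinf, hsup⟩ <;> rw [e]
  · exact pair_le h.1 hx
  · exact pair_le_trivOn S h hx
  · exact card_pair_commutator S h hx hnc
  · exact pair_faithful S h hx hnc
  · exact ⟨MulEquiv.ofBijective ψ hψ⟩
  · exact commutator_pair_inf S h hx hnc
  · exact pair_inf_irred S h hx hnc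
  · exact two_lt_card_pair_inf S h hx hnc

theorem Ec_eq_of_plane_eq (S : Setup p V H) {A A' : Subgroup G} (h : Atom p V H A)
    (h' : Atom p V H A') (he : ⁅V, Ec p H A⁆ = ⁅V, Ec p H A'⁆) : Ec p H A = Ec p H A' := by
  obtain ⟨x, hx, hnc⟩ := exists_not_centralizing S h
  obtain ⟨y, hy, hnc'⟩ := exists_not_centralizing S h'
  rw [Ec_eq_pair S h hx hnc, Ec_eq_pair S h' hy hnc'] at he ⊢
  exact pair_eq_of_plane_eq S h h' hx hnc hy hnc' he

theorem cj_Ec {h : G} (hh : h ∈ H) (A : Subgroup G) : cj h (Ec p H A) = Ec p H (cj h A) := by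
  show (⁅PH p H, A⁆ ⊔ A).map _ = ⁅PH p H, A.map _⁆ ⊔ _
  rw [Subgroup.map_sup, map_commutator, CfsgLib.Coprime.map_conj_of_mem_normalizer (le_normalizer_PH hh)]

theorem PH_le_normalizer_Ec (S : Setup p V H) {A : Subgroup G} (h : Atom p V H A) :
    PH p H ≤ normalizer ((Ec p H A : Subgroup G) : Set G) := by
  intro x hx
  refine CfsgLib.Coprime.mem_normalizer_iff_map_conj.2 ?_
  refine eq_of_le_of_card_ge ?_ (by rw [CfsgLib.Coprime.card_map_conj])
  rw [Subgroup.map_sup, CfsgLib.Coprime.map_conj_of_mem_normalizer (normalizer_commutator_ge_left _ A hx)]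
  refine sup_le le_sup_left ?_
  rintro _ ⟨a, ha, rfl⟩
  show x * a * x⁻¹ ∈ _
  rw [show x * a * x⁻¹ = ⁅x, a⁆ * a by rw [commutatorElement_def]; group]
  exact mul_mem (mem_sup_left (commutator_mem_commutator hx ha)) (mem_sup_right ha)

theorem plane_disjoint (S : Setup p V H) {A A' : Subgroup G} (h : Atom p V H A) (h' : Atom p V H A')
    (hne : ⁅V, Ec p H A⁆ ≠ ⁅V, Ec p H A'⁆) :
    ⁅V, Ec p H A⁆ ⊓ ⁅V, Ec p H A'⁆ = ⊥ ∧
      ⁅V, Ec p H A'⁆ ≤ centralizer ((Ec p H A ⊓ PH p H : Subgroup G) : Set G) := by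
  have d := ecData S h
  have d' := ecData S h'
  have hn : ∀ {B : Subgroup G}, Atom p V H B →
      PH p H ≤ normalizer ((Ec p H B ⊓ PH p H : Subgroup G) : Set G) :=
    fun hB => le_normalizer_inf (PH_le_normalizer_Ec S hB) le_normalizer
  have hle : Ec p H A ⊓ PH p H ⊔ Ec p H A' ⊓ PH p H ≤ PH p H := sup_le inf_le_right inf_le_right
  exact plane_dichotomy S inf_le_right inf_le_right d.core d'.core
    (subgroupOf_isSubnormal_of_le_normalizer (hle.trans (hn h)))
    (subgroupOf_isSubnormal_of_le_normalizer (hle.trans (hn h')))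
    d.irr d'.irr d.big d'.big (by rw [d.card, d'.card]) hne

theorem inf_fix_core_eq_bot (S : Setup p V H) {A : Subgroup G} (h : Atom p V H A) :
    ⁅V, Ec p H A⁆ ⊓ centralizer ((Ec p H A ⊓ PH p H : Subgroup G) : Set G) = ⊥ := by
  rw [← (ecData S h).core]
  exact CfsgLib.Coprime.commutator_inf_centralizer_eq_bot S.elem.1
    (((inf_le_right : _ ⊓ PH p H ≤ PH p H).trans PH_le).trans S.norm) (coprime_card_V S inf_le_right)

theorem atom_le_normalizer_plane (S : Setup p V H) {A A' : Subgroup G} (h : Atom p V H A)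
    (h' : Atom p V H A') : A' ≤ normalizer ((⁅V, Ec p H A⁆ : Subgroup G) : Set G) := by
  set U := ⁅V, Ec p H A⁆ with hU
  set U' := ⁅V, Ec p H A'⁆ with hU'
  have d := ecData S h
  have d' := ecData S h'
  intro a ha
  by_cases hUU : U = U'
  · rw [hUU]; exact (d'.triv (mem_sup_right ha)).2.1
  rw [CfsgLib.Coprime.mem_normalizer_iff_map_conj]
  have haH := h'.1 ha
  have hA2 := atom_cj S h haH
  have e2 : cj a U = ⁅V, Ec p H (cj a A)⁆ := by
    rw [hU, cj_commutator_V S haH, cj_Ec haH]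
  by_contra hne
  have hne' : U ≠ ⁅V, Ec p H (cj a A)⁆ := fun e => hne (e2.trans e.symm)
  obtain ⟨-, hc2⟩ := plane_disjoint S h hA2 hne'
  obtain ⟨-, hc'⟩ := plane_disjoint S h h' hUU
  have hUV : U ≤ V := le_normalizer_iff_commutator_le_left.1 (d.le.trans S.norm)
  have hU'V : U' ≤ V := le_normalizer_iff_commutator_le_left.1 (d'.le.trans S.norm)
  have hsub : cj a U ≤ U' := by
    rintro _ ⟨u, hu, rfl⟩
    have h1 : ⁅a, u⁆ ∈ U' := by
      rw [← commutatorElement_inv]
      exact inv_mem (commutator_mem_commutator (hUV hu) (mem_sup_right ha))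
    have h2 : (MulAut.conj a).toMonoidHom u = ⁅a, u⁆ * u := by
      simp [commutatorElement_def]
    have hfix : ⁅a, u⁆ * u ∈ centralizer ((Ec p H A ⊓ PH p H : Subgroup G) : Set G) := by
      rw [← h2]; exact hc2 (by rw [← e2]; exact ⟨u, hu, rfl⟩)
    have h4 : u ∈ U ⊓ centralizer ((Ec p H A ⊓ PH p H : Subgroup G) : Set G) :=
      ⟨hu, (mul_mem_cancel_left (hc' h1)).1 hfix⟩
    rw [inf_fix_core_eq_bot S h, mem_bot] at h4
    rw [h2, h4, mul_one]
    rwa [h4] at h1
  have heq : cj a U = U' :=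
    eq_of_le_of_card_ge hsub (by rw [cj, CfsgLib.Coprime.card_map_conj, d.card, d'.card])
  refine hUU ?_
  have hU'n : cj a⁻¹ U' = U' := cj_eq_self (d'.triv (inv_mem (mem_sup_right ha))).2.1
  rw [← hU'n, ← heq, cj, cj, CfsgLib.Coprime.map_conj_conj, inv_mul_cancel,
    CfsgLib.Amalgam.map_conj_one']

/-- `H` is generated by its atoms. -/
theorem le_of_atoms (S : Setup p V H)
    (hS3 : H = ⨆ A : {A : Subgroup G // A ≤ H ∧ Cfsg.IsBestOffenderOn p V A}, (A : Subgroup G))
    {X : Subgroup G} (hX : ∀ A, Atom p V H A → A ≤ X) : H ≤ X := by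
  rw [hS3]
  refine iSup_le fun A => ?_
  obtain ⟨s, hs, he⟩ := exists_atom_family S A.2.1 A.2.2
  rw [← he]
  exact Finset.sup_le fun B hB => hX B (hs B hB).2

/-- The direct factor decomposition attached to an atom. -/
structure FactorData (p : ℕ) (V H A : Subgroup G) : Prop where
  norm : H ≤ normalizer ((Ec p H A : Subgroup G) : Set G)
  normU : H ≤ normalizer ((⁅V, Ec p H A⁆ : Subgroup G) : Set G)
  comm : ⁅Ec p H A, H ⊓ centralizer ((⁅V, Ec p H A⁆ : Subgroup G) : Set G)⁆ = ⊥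
  dich : ∀ A' : Subgroup G, Atom p V H A' → Ec p H A' = Ec p H A ∨
    (⁅V, Ec p H A⁆ ⊓ ⁅V, Ec p H A'⁆ = ⊥ ∧
      Ec p H A' ≤ H ⊓ centralizer ((⁅V, Ec p H A⁆ : Subgroup G) : Set G))
  gen : Ec p H A ⊔ (H ⊓ centralizer ((⁅V, Ec p H A⁆ : Subgroup G) : Set G)) = H
  comm_V : ⁅V, H ⊓ centralizer ((⁅V, Ec p H A⁆ : Subgroup G) : Set G)⁆ ≤
    V ⊓ centralizer ((Ec p H A : Subgroup G) : Set G)

theorem factorData (S : Setup p V H)
    (hS3 : H = ⨆ A : {A : Subgroup G // A ≤ H ∧ Cfsg.IsBestOffenderOn p V A}, (A : Subgroup G))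
    {A : Subgroup G} (h : Atom p V H A) : FactorData p V H A := by
  have d := ecData S h
  set E := Ec p H A with hE
  set U := ⁅V, E⁆ with hU
  set F := H ⊓ centralizer (U : Set G) with hF
  have hnU : H ≤ normalizer (U : Set G) :=
    le_of_atoms S hS3 fun A' h' => atom_le_normalizer_plane S h h'
  have hnE : H ≤ normalizer (E : Set G) := fun g hg => by
    rw [CfsgLib.Coprime.mem_normalizer_iff_map_conj]
    show cj g (Ec p H A) = Ec p H A
    rw [cj_Ec hg]
    refine Ec_eq_of_plane_eq S (atom_cj S h hg) h ?_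
    rw [← cj_Ec hg, ← cj_commutator_V S hg]
    exact cj_eq_self (hnU hg)
  have hnF : H ≤ normalizer (F : Set G) :=
    le_normalizer_inf le_normalizer (le_normalizer_centralizer hnU)
  have hEF : E ⊓ F = ⊥ :=
    le_bot_iff.1 ((inf_le_inf_left _ inf_le_right).trans d.faith.le)
  have hcomm : ⁅E, F⁆ = ⊥ := by
    refine le_bot_iff.1 ((le_inf ?_ ?_).trans hEF.le)
    · exact le_normalizer_iff_commutator_le_left.1 (inf_le_left.trans hnE)
    · exact le_normalizer_iff_commutator_le_right.1 (d.le.trans hnF)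
  have hdich : ∀ A' : Subgroup G, Atom p V H A' → Ec p H A' = E ∨
      (U ⊓ ⁅V, Ec p H A'⁆ = ⊥ ∧ Ec p H A' ≤ F) := by
    intro A' h'
    by_cases he : U = ⁅V, Ec p H A'⁆
    · exact Or.inl (Ec_eq_of_plane_eq S h' h he.symm)
    obtain ⟨hdis, -⟩ := plane_disjoint S h h' he
    have hA'F : A' ≤ F := by
      refine le_inf h'.1 (le_centralizer_iff.1 ?_)
      rw [← commutator_eq_bot_iff_le_centralizer]
      refine le_bot_iff.1 ((le_inf ?_ ?_).trans hdis.le)
      · exact le_normalizer_iff_commutator_le_left.1 (h'.1.trans hnU)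
      · exact commutator_mono (le_normalizer_iff_commutator_le_left.1 (d.le.trans S.norm)) le_sup_right
    exact Or.inr ⟨hdis, sup_le ((commutator_mono le_rfl hA'F).trans
      (le_normalizer_iff_commutator_le_right.1 (PH_le.trans hnF))) hA'F⟩
  refine ⟨hnE, hnU, hcomm, hdich,
    le_antisymm (sup_le d.le inf_le_left) (le_of_atoms S hS3 fun A' h' => ?_), ?_⟩
  · rcases hdich A' h' with e | ⟨-, e⟩
    · exact (le_sup_right.trans e.le).trans le_sup_left
    · exact (le_sup_right.trans e).trans le_sup_right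
  · have hC : F ≤ normalizer ((V ⊓ centralizer (E : Set G) : Subgroup G) : Set G) :=
      le_normalizer_inf (inf_le_left.trans S.norm) (le_normalizer_centralizer (inf_le_left.trans hnE))
    refine commutator_le_of_trivOn fun f hf => ⟨S.norm hf.1, hC hf, fun v hv => ?_⟩
    have hUC : V ⊓ centralizer (E : Set G) ≤ normalizer (U : Set G) :=
      (inf_le_left.trans ((le_centralizer_of_elem S.elem le_rfl).trans
        (centralizer_le (le_normalizer_iff_commutator_le_left.1 (d.le.trans S.norm) : U ≤ V)))).trans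
        (centralizer_le_normalizer _)
    rw [← d.sup] at hv
    obtain ⟨u, hu, c, hc, rfl⟩ := (CfsgLib.Coprime.mem_sup_of_le_normalizer hUC).1 hv
    have hfu : f * u * f⁻¹ = u := by
      rw [← mem_centralizer_iff.1 hf.2 u hu, mul_inv_cancel_right]
    have h1 : f * c * f⁻¹ ∈ V ⊓ centralizer (E : Set G) := (mem_normalizer_iff.1 (hC hf) c).1 hc
    have h2 : ⁅f, u * c⁆ = u * (f * c * f⁻¹ * c⁻¹) * u⁻¹ := by
      calc ⁅f, u * c⁆ = (f * u * f⁻¹) * (f * c * f⁻¹) * c⁻¹ * u⁻¹ := by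
            rw [commutatorElement_def]; group
        _ = _ := by rw [hfu]; group
    have h3 : f * c * f⁻¹ * c⁻¹ ∈ V ⊓ centralizer (E : Set G) := mul_mem h1 (inv_mem hc)
    have h4 : u * (f * c * f⁻¹ * c⁻¹) = f * c * f⁻¹ * c⁻¹ * u :=
      congrArg Subtype.val (S.elem.1.is_comm.comm
        ⟨u, (le_normalizer_iff_commutator_le_left.1 (d.le.trans S.norm) : U ≤ V) hu⟩ ⟨_, h3.1⟩)
    rw [h2, h4, mul_inv_cancel_right]
    exact h3

end CfsgLib.Comp.FF
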