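import Cfsg.Agent.Lib.Comp.SystemTransport
import Cfsg.Agent.Lib.Fusion.NormalizerSaturated
import Cfsg.Agent.Lib.Fusion.StronglyClosedMod

/-!
Restriction of a saturated system to a strongly closed direct factor.
-/

set_option autoImplicit false
set_option linter.unusedVariables false
set_option linter.unusedSectionVars false
set_option linter.style.haveILetI false

namespace CfsgLib.Comp.Fus

open Cfsg Cfsg.FusionSystem Subgroup CfsgLib.Fusion

variable {Ω : Type*} [Group Ω] {S S₁ S₂ : Subgroup Ω} {F : FusionSystem S} {R : FusionSystem S₁}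
  {p : ℕ}

theorem mem_prod_iff (hprod : IsInternalDirectProduct S₁ S₂ S) {x : Ω} (hx : x ∈ S) :
    ∃ a ∈ S₁, ∃ b ∈ S₂, a * b = x := by
  have hn : S₁ ≤ Subgroup.normalizer (S₂ : Set Ω) := fun a ha b => by
    constructor
    · intro hb
      rwa [hprod.2.2.1 a ha b hb, mul_inv_cancel_right]
    · intro hb
      have h1 := hprod.2.2.1 a ha _ hb
      have h2 : b = a * b * a⁻¹ := mul_left_cancel (a := a)
        (by rw [h1, inv_mul_cancel_right])
      rwa [h2]
  have h2 : x ∈ ((S₁ ⊔ S₂ : Subgroup Ω) : Set Ω) := hprod.2.2.2.2.symm ▸ hx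
  rw [Subgroup.coe_mul_of_left_le_normalizer_right S₁ S₂ hn] at h2
  exact h2

theorem isMap_restrict_iff (hR : ∀ P : Subgroup Ω, P ≤ S₁ → R.Hom P = F.Hom P) {P : Subgroup Ω}
    {f : Ω → Ω} : IsMap R P f ↔ P ≤ S₁ ∧ IsMap F P f := by
  constructor
  · intro h
    exact ⟨h.le, (hR P h.le ▸ h.toHom_mem : h.toHom ∈ F.Hom P) |> fun hm =>
      ⟨h.toHom, hm, fun x => rfl⟩⟩
  · rintro ⟨hP, h⟩
    exact ⟨h.toHom, (hR P hP).symm ▸ h.toHom_mem, fun x => rfl⟩

variable [Fact p.Prime] [Finite S]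

/-- Maps inside a strongly closed direct factor extend to the other factor. -/
theorem exists_extend_factor (hS : IsPGroup p S) (hF : F.IsSaturated p)
    (hprod : IsInternalDirectProduct S₁ S₂ S) (h₁ : F.StronglyClosed S₁) (h₂ : F.StronglyClosed S₂)
    {P : Subgroup Ω} {f : Ω → Ω} (hf : IsMap F P f) (hP : P ≤ S₁) :
    ∃ g, IsMap F (P ⊔ S₂) g ∧ (∀ x ∈ P, g x = f x) ∧ img S₂ g = S₂ := by
  obtain ⟨g, hg, hgx⟩ := exists_map_mod hS hF h₂ hf
  refine ⟨g, hg, fun x hx => ?_, StronglyClosed.img_eq h₂ hg le_sup_right⟩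
  have h3 : (g x)⁻¹ * f x ∈ S₁ ⊓ S₂ := Subgroup.mem_inf.2
    ⟨S₁.mul_mem (S₁.inv_mem (StronglyClosed.apply_mem h₁ hg (mem_sup_left hx) (hP hx)))
      (StronglyClosed.apply_mem h₁ hf hx (hP hx)), hgx x hx⟩
  rw [hprod.2.2.2.1, Subgroup.mem_bot, inv_mul_eq_one] at h3
  exact h3

/-- The full subsystem on a strongly closed direct factor is saturated. -/
theorem isSaturated_restrict_factor (hS : IsPGroup p S) (hF : F.IsSaturated p)
    (hprod : IsInternalDirectProduct S₁ S₂ S) (h₁ : F.StronglyClosed S₁)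
    (hR : ∀ P : Subgroup Ω, P ≤ S₁ → R.Hom P = F.Hom P) : R.IsSaturated p := by
  intro P hP
  obtain ⟨Q, hPQ, hQ⟩ := exists_fullyNormalized_conj F (hP.trans h₁.1)
  obtain ⟨φ, hφ, hφQ⟩ := hPQ
  have hQ₁ : Q ≤ S₁ := by
    rw [← hφQ]
    rintro _ ⟨x, rfl⟩
    exact h₁.2 P hP φ hφ x
  have haut : R.autGroup Q = F.autGroup Q := by
    rw [FusionSystem.autGroup, FusionSystem.autGroup, hR Q hQ₁]
  have hind : autInducedBy S₁ Q = autInducedBy S Q := by
    ext α
    rw [mem_autInducedBy_iff, mem_autInducedBy_iff]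
    constructor
    · rintro ⟨a, ha, hax⟩
      exact ⟨a, h₁.1 ha, hax⟩
    · rintro ⟨a, ha, hax⟩
      obtain ⟨u, hu, v, hv, rfl⟩ := mem_prod_iff hprod ha
      refine ⟨u, hu, fun x => ?_⟩
      rw [hax x]
      have h3 := hprod.2.2.1 x (hQ₁ x.2) v hv
      rw [mul_inv_rev, mul_assoc u v, ← h3]
      group
  refine ⟨Q, ⟨φ, (hR P hP).symm ▸ hφ, hφQ⟩, ⟨hQ₁, ?_⟩, hQ₁, fun X ψ hψ hψQ => ?_⟩
  · rw [haut, hind]
    exact (fullyAutomized_of_fullyNormalized hS hF hQ).2
  · have hX : X ≤ S₁ := (R.le_of_mem hψ).1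
    have hm : IsMap R X (toFun ψ) := isMap_of_hom hψ
    have hmF := (isMap_restrict_iff hR).1 hm
    have hi : img X (toFun ψ) = Q := by
      rw [← hψQ, ← hm.range_toHom]
      congr 1
      exact MonoidHom.ext fun x => toFun_apply ψ x
    have hEle : extender S₁ X ψ ≤ S₁ := (Subgroup.closure_le _).2 fun a ha => ha.1
    have hXle : X ≤ extender S₁ X ψ := fun x hx =>
      (mem_extender_iff hm fun y => (toFun_apply ψ y).symm).2 ⟨hX hx, le_normalizer hx,
        toFun ψ x, hm.mem hx, fun y hy => hm.map_conj hx hy⟩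
    obtain ⟨g, hg, hgx⟩ := receptive_extend (R := extender S₁ X ψ)
      (receptive_of_fullyNormalized hS hF hQ) hmF.2 hi hXle fun a ha => by
        obtain ⟨haS, han, b, hb, hab⟩ := (mem_extender_iff hm fun y => (toFun_apply ψ y).symm).1 ha
        exact ⟨h₁.1 haS, han, b, h₁.1 hb, hab⟩
    have hgR : IsMap R (extender S₁ X ψ) g := (isMap_restrict_iff hR).2 ⟨hEle, hg⟩
    exact ⟨hgR.toHom, hgR.toHom_mem, fun x hP' hN => (hgx x hP').trans (toFun_of_mem ψ hP')⟩

end CfsgLib.Comp.Fus
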