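import Cfsg.Agent.Lib.Comp.RankConnect
import Cfsg.Agent.Lib.Comp.Balance
import Cfsg.Agent.Lib.Comp.PConstrained
import Cfsg.Agent.Lib.Comp.SFT.Main

/-!
An equivariant solvable signalizer functor on a group with connected rank-two graph and trivial
`p'`-core is trivial; application to centralizers with trivial `p`-layer.
-/

set_option autoImplicit false
set_option linter.style.haveILetI false
set_option linter.unusedSectionVars false

namespace CfsgLib.Comp.FunctorTriv

open Subgroup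

universe u

variable {G : Type u} [Group G] [Finite G] {p : ℕ} [hp : Fact p.Prime]

/-- An element of order `p` whose centralizer has `p`-rank at least three. -/
abbrev Good (p : ℕ) {G : Type u} [Group G] (a : G) : Prop :=
  orderOf a = p ∧ ¬ Cfsg.PRankLE p 2 ↥(centralizer ({a} : Set G))

theorem le_centralizer_singleton {A : Subgroup G} (hA : Cfsg.IsElementaryAbelian p A) {a : G}
    (ha : a ∈ A) : A ≤ centralizer ({a} : Set G) := fun _ hb =>
  mem_centralizer_singleton_iff.2 (commute_of_elementary hA hb ha)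

theorem le_centralizer_self {A : Subgroup G} (hA : Cfsg.IsElementaryAbelian p A) :
    A ≤ centralizer (A : Set G) :=
  le_centralizer_of_commute fun _ ha _ hb => commute_of_elementary hA ha hb

theorem sq_lt_cube : p ^ 2 < p ^ 3 := Nat.pow_lt_pow_right hp.out.one_lt (by norm_num)

theorem cube_le_of_sq_lt {A : Subgroup G} (hA : Cfsg.IsElementaryAbelian p A)
    (h : p ^ 2 < Nat.card A) : p ^ 3 ≤ Nat.card A := by
  obtain ⟨n, hn⟩ := IsPGroup.iff_card.1 (isPGroup_of_elemAb hA)
  rw [hn] at h ⊢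
  exact Nat.pow_le_pow_right hp.out.pos ((Nat.pow_lt_pow_iff_right hp.out.one_lt).1 h)

theorem good_of_mem {A : Subgroup G} (hA : Cfsg.IsElementaryAbelian p A) (h3 : p ^ 3 ≤ Nat.card A)
    {a : G} (ha : a ∈ A) (ha1 : a ≠ 1) : Good p a :=
  ⟨orderOf_eq_prime (hA.2 a ha) ha1,
    not_pRankLE_of_le hA (le_centralizer_singleton hA ha) (sq_lt_cube.trans_le h3)⟩

theorem vertex_of_cube {A : Subgroup G} (hA : Cfsg.IsElementaryAbelian p A)
    (h3 : p ^ 3 ≤ Nat.card A) : Cfsg.IsRankGraphVertex p 2 A :=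
  ⟨hA, sq_lt_cube.le.trans h3, not_pRankLE_of_le hA (le_centralizer_self hA) (sq_lt_cube.trans_le h3)⟩

theorem exists_cube_of_vertex {E : Subgroup G} (hE : Cfsg.IsRankGraphVertex p 2 E) :
    ∃ A : Subgroup G, E ≤ A ∧ Cfsg.IsElementaryAbelian p A ∧ p ^ 3 ≤ Nat.card A := by
  obtain ⟨B, hB, hBe, hBc⟩ := exists_of_not_pRankLE hE.2.2
  have hA := isElementaryAbelian_sup hE.1 hBe
    fun e he b hb => mem_centralizer_iff.1 (hB hb) e he
  exact ⟨E ⊔ B, le_sup_left, hA, cube_le_of_sq_lt hA (hBc.trans_le (card_le_of_le le_sup_right))⟩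

theorem isElementaryAbelian_zpowers {a : G} (ha : orderOf a = p) :
    Cfsg.IsElementaryAbelian p (zpowers a) :=
  ⟨inferInstance, fun x hx => orderOf_dvd_iff_pow_eq_one.1 (ha ▸ orderOf_dvd_of_mem_zpowers hx)⟩

theorem exists_cube_of_good {a : G} (ha : Good p a) :
    ∃ A : Subgroup G, a ∈ A ∧ Cfsg.IsElementaryAbelian p A ∧ p ^ 3 ≤ Nat.card A := by
  obtain ⟨B, hB, hBe, hBc⟩ := exists_of_not_pRankLE ha.2
  have hA := isElementaryAbelian_sup (isElementaryAbelian_zpowers ha.1) hBe fun x hx b hb => by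
    have h : Commute b a := mem_centralizer_singleton_iff.1 (hB hb)
    obtain ⟨k, rfl⟩ := mem_zpowers_iff.1 hx
    exact (h.zpow_right k).eq.symm
  exact ⟨zpowers a ⊔ B, le_sup_left (a := zpowers a) (b := B) (mem_zpowers a), hA,
    cube_le_of_sq_lt hA (hBc.trans_le (card_le_of_le le_sup_right))⟩

/-- The subgroup generated by the values on the non-identity elements of `A`. -/
def closureOn (θ : G → Subgroup G) (A : Subgroup G) : Subgroup G :=
  ⨆ a : {a : G // a ∈ A ∧ a ≠ 1}, θ a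

section

variable {θ : G → Subgroup G}
  (hC : ∀ a : G, Good p a → θ a ≤ centralizer ({a} : Set G) ∧ ¬ p ∣ Nat.card ↥(θ a) ∧
    Group.IsSolvable ↥(θ a))
  (heq : ∀ a g : G, Good p a → θ (g * a * g⁻¹) = (θ a).map (MulAut.conj g).toMonoidHom)
  (hbal : ∀ a b : G, Good p a → Good p b → a * b = b * a →
    θ a ⊓ centralizer {b} ≤ θ b)

include hC heq hbal

theorem isFunctor {A : Subgroup G} (hA : Cfsg.IsElementaryAbelian p A) (h3 : p ^ 3 ≤ Nat.card A) :
    Cfsg.IsSolvableSignalizerFunctor p A θ := by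
  have hg : ∀ a ∈ A, a ≠ 1 → Good p a := fun a ha ha1 => good_of_mem hA h3 ha ha1
  refine ⟨⟨fun a ha ha1 => (hC a (hg a ha ha1)).1, fun a ha ha1 => (hC a (hg a ha ha1)).2.1,
    fun a ha ha1 b hb x hx => ?_, fun a ha ha1 b hb hb1 => hbal a b (hg a ha ha1) (hg b hb hb1)
      (commute_of_elementary hA ha hb)⟩, fun a ha ha1 => (hC a (hg a ha ha1)).2.2⟩
  have h := heq a b (hg a ha ha1)
  rw [commute_of_elementary hA hb ha, mul_inv_cancel_right] at h
  rw [h]
  exact ⟨x, hx, rfl⟩

theorem closureOn_eq {A E : Subgroup G} (hA : Cfsg.IsElementaryAbelian p A)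
    (h3 : p ^ 3 ≤ Nat.card A) (hEA : E ≤ A) (hE : p ^ 2 ≤ Nat.card E) :
    closureOn θ E = closureOn θ A := by
  obtain ⟨⟨-, hp', hinv, hb⟩, -⟩ := isFunctor hC heq hbal hA h3
  refine le_antisymm
    (iSup_le fun e => le_iSup (fun a : {a : G // a ∈ A ∧ a ≠ 1} => θ a) ⟨e, hEA e.2.1, e.2.2⟩)
    (iSup_le fun b => ?_)
  have hEe := elemAb_mono hA hEA
  rw [← CfsgLib.Coprime.iSup_centralizer_eq hEe.1 (not_isCyclic_elemAb hEe hE)
    (hEA.trans (le_normalizer_of_conj_mem (hinv b b.2.1 b.2.2)))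
    (coprime_card_elemAb hEe (hp' b b.2.1 b.2.2))]
  exact iSup_le fun e => (hb b b.2.1 b.2.2 e (hEA e.2.1) e.2.2).trans
    (le_iSup (fun a : {a : G // a ∈ E ∧ a ≠ 1} => θ a) e)

theorem closureOn_adjacent {E E' : Subgroup G} (hE : Cfsg.IsRankGraphVertex p 2 E)
    (hE' : Cfsg.IsRankGraphVertex p 2 E') (hc : ∀ a ∈ E, ∀ b ∈ E', a * b = b * a) :
    closureOn θ E = closureOn θ E' := by
  have hA := isElementaryAbelian_sup hE.1 hE'.1 hc
  by_cases h : p ^ 2 < Nat.card ↥(E ⊔ E')
  · have h3 := cube_le_of_sq_lt hA h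
    exact (closureOn_eq hC heq hbal hA h3 le_sup_left hE.2.1).trans
      (closureOn_eq hC heq hbal hA h3 le_sup_right hE'.2.1).symm
  · push Not at h
    have e1 : E = E ⊔ E' := eq_of_le_of_card_ge le_sup_left (h.trans hE.2.1)
    have e2 : E' = E ⊔ E' := eq_of_le_of_card_ge le_sup_right (h.trans hE'.2.1)
    rw [e1.trans e2.symm]

variable (hconn : Cfsg.IsRankGraphConnected p 2 G)
include hconn

theorem closureOn_const {E E' : Subgroup G} (hE : Cfsg.IsRankGraphVertex p 2 E)
    (hE' : Cfsg.IsRankGraphVertex p 2 E') : closureOn θ E = closureOn θ E' := by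
  induction hconn E E' hE hE' with
  | refl => rfl
  | tail _ hst ih =>
    exact (ih hst.1).trans (closureOn_adjacent hC heq hbal hst.1 hst.2.1 hst.2.2)

theorem closureOn_normal {A : Subgroup G} (hA : Cfsg.IsElementaryAbelian p A)
    (h3 : p ^ 3 ≤ Nat.card A) : (closureOn θ A).Normal := by
  refine ⟨fun x hx g => ?_⟩
  set A' := A.map (MulAut.conj g).toMonoidHom with hA'd
  have hA' : Cfsg.IsElementaryAbelian p A' := by
    refine ⟨⟨⟨?_⟩⟩, ?_⟩
    · rintro ⟨_, a, ha, rfl⟩ ⟨_, b, hb, rfl⟩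
      refine Subtype.ext ?_
      show (MulAut.conj g).toMonoidHom a * (MulAut.conj g).toMonoidHom b = _ * _
      rw [← map_mul, ← map_mul, commute_of_elementary hA ha hb]
    · rintro _ ⟨a, ha, rfl⟩
      rw [← map_pow, hA.2 a ha, map_one]
  have h3' : p ^ 3 ≤ Nat.card A' := by rwa [card_map_of_injective (MulEquiv.injective _)]
  have hle : (closureOn θ A).map (MulAut.conj g).toMonoidHom ≤ closureOn θ A' := by
    rw [closureOn, Subgroup.map_iSup]
    refine iSup_le fun a => ?_
    rw [← heq a g (good_of_mem hA h3 a.2.1 a.2.2)]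
    exact le_iSup (fun b : {b : G // b ∈ A' ∧ b ≠ 1} => θ b)
      ⟨g * a * g⁻¹, ⟨a, a.2.1, rfl⟩, fun e => a.2.2 (conj_eq_one_iff.1 e)⟩
  rw [closureOn_const hC heq hbal hconn (vertex_of_cube hA h3) (vertex_of_cube hA' h3')]
  exact hle ⟨x, hx, rfl⟩

theorem eq_bot (hO : Cfsg.pPrimeCore p G = ⊥) {a : G} (ha : Good p a) : θ a = ⊥ := by
  obtain ⟨A, haA, hA, h3⟩ := exists_cube_of_good ha
  have hn := closureOn_normal hC heq hbal hconn hA h3
  have ha1 : a ≠ 1 := fun e => hp.out.ne_one (by rw [← ha.1, e, orderOf_one])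
  have hW : closureOn θ A ≤ Cfsg.pPrimeCore p G :=
    le_sSup ⟨hn, (hp.out.coprime_iff_not_dvd.2 (SFT.sft hA h3 (isFunctor hC heq hbal hA h3)).2.1).symm⟩
  exact le_bot_iff.1 (((le_iSup (fun b : {b : G // b ∈ A ∧ b ≠ 1} => θ b) ⟨a, haA, ha1⟩).trans hW).trans_eq hO)

end

theorem map_centralizerPPrimeCore_conj_le (g a : G) :
    (Cfsg.centralizerPPrimeCore p a).map (MulAut.conj g).toMonoidHom ≤
      Cfsg.centralizerPPrimeCore p (g * a * g⁻¹) := by
  have hC : (centralizer ({a} : Set G)).map (MulAut.conj g).toMonoidHom =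
      centralizer ({g * a * g⁻¹} : Set G) := by
    ext x
    rw [mem_map_equiv, MulAut.conj_symm_apply, mem_centralizer_singleton_iff,
      mem_centralizer_singleton_iff]
    constructor <;> intro h
    · calc x * (g * a * g⁻¹) = g * ((g⁻¹ * x * g) * a) * g⁻¹ := by group
        _ = g * (a * (g⁻¹ * x * g)) * g⁻¹ := by rw [h]
        _ = g * a * g⁻¹ * x := by group
    · calc g⁻¹ * x * g * a = g⁻¹ * (x * (g * a * g⁻¹)) * g := by group
        _ = g⁻¹ * (g * a * g⁻¹ * x) * g := by rw [h]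
        _ = a * (g⁻¹ * x * g) := by group
  refine le_centralizerPPrimeCore ?_ ?_ ?_
  · rw [← hC]; exact map_mono (centralizerPPrimeCore_le a)
  · rw [← hC]
    exact (map_mono (centralizer_le_normalizer_centralizerPPrimeCore a)).trans (le_normalizer_map _)
  · rw [card_map_of_injective (MulEquiv.injective _)]
    exact coprime_card_centralizerPPrimeCore a

theorem centralizerPPrimeCore_conj (g a : G) :
    Cfsg.centralizerPPrimeCore p (g * a * g⁻¹) =
      (Cfsg.centralizerPPrimeCore p a).map (MulAut.conj g).toMonoidHom := by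
  refine le_antisymm (fun x hx => ?_) (map_centralizerPPrimeCore_conj_le g a)
  have h := map_centralizerPPrimeCore_conj_le (p := p) g⁻¹ (g * a * g⁻¹) ⟨x, hx, rfl⟩
  rw [show g⁻¹ * (g * a * g⁻¹) * g⁻¹⁻¹ = a by group] at h
  exact ⟨_, h, by simp [mul_assoc]⟩

/-- Balance: if `C(b)` has trivial `p`-layer then `O_{p'}(C(a)) ∩ C(b) ≤ O_{p'}(C(b))`. -/
theorem core_inf_centralizer_le {a b : G} (hab : a * b = b * a) (hap : orderOf a = p)
    (hLb : Cfsg.pLayer p ↥(centralizer ({b} : Set G)) = ⊥) :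
    Cfsg.centralizerPPrimeCore p a ⊓ centralizer ({b} : Set G) ≤
      Cfsg.centralizerPPrimeCore p b := by
  set H := centralizer ({b} : Set G) with hH
  let a' : H := ⟨a, mem_centralizer_singleton_iff.2 hab⟩
  set N := normalizer ((zpowers a' : Subgroup H) : Set H) with hN
  have hP : IsPGroup p (zpowers a') :=
    isPGroup_zpowers_of_orderOf (k := 1) (by rw [pow_one, ← hap]; exact (orderOf_coe a').symm)
  let a'' : N := ⟨a', le_normalizer (mem_zpowers a')⟩
  set X : Subgroup N := ((Cfsg.centralizerPPrimeCore p a).subgroupOf H).subgroupOf N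
  have hXmem : ∀ y : N, y ∈ X ↔ ((y : H) : G) ∈ Cfsg.centralizerPPrimeCore p a := fun y => Iff.rfl
  have hCmem : ∀ y : N, y ∈ centralizer ({a''} : Set N) ↔ ((y : H) : G) ∈ centralizer ({a} : Set G) := by
    intro y
    rw [mem_centralizer_singleton_iff, mem_centralizer_singleton_iff]
    exact ⟨fun h => congrArg (fun z : N => ((z : H) : G)) h,
      fun h => Subtype.ext (Subtype.ext h)⟩
  have hX1 : X ≤ centralizer ({a''} : Set N) := fun y hy =>
    (hCmem y).2 (centralizerPPrimeCore_le a ((hXmem y).1 hy))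
  have hX2 : centralizer ({a''} : Set N) ≤ normalizer (X : Set N) := by
    intro c hc
    refine mem_normalizer_iff.2 fun y => ?_
    simp only [hXmem, Subgroup.coe_mul, Subgroup.coe_inv]
    exact mem_normalizer_iff.1
      (centralizer_le_normalizer_centralizerPPrimeCore a ((hCmem c).1 hc)) _
  have hX3 : (Nat.card X).Coprime p := by
    refine Nat.Coprime.coprime_dvd_left ?_ (coprime_card_centralizerPPrimeCore (p := p) a)
    rw [← card_map_of_injective (K := X) (f := H.subtype.comp N.subtype)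
      (H.subtype_injective.comp N.subtype_injective)]
    exact card_dvd_of_le (map_le_iff_le_comap.2 fun y hy => (hXmem y).1 hy)
  have hz : zpowers a'' = (zpowers a').subgroupOf N := by
    refine map_injective N.subtype_injective ?_
    rw [MonoidHom.map_zpowers, map_subgroupOf_eq_of_le le_normalizer]
    rfl
  haveI : (centralizer ({a''} : Set N)).Normal := by
    rw [← centralizer_zpowers, hz]
    infer_instance
  have hXN : X ≤ Cfsg.pPrimeCore p ↥N :=
    (le_centralizerPPrimeCore hX1 hX2 hX3).trans (CfsgLib.Solvable.map_pPrimeCore_le p _)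
  rintro x ⟨hxa, hxb⟩
  have hxN : (⟨x, hxb⟩ : H) ∈ N := by
    refine centralizer_le_normalizer _ (mem_centralizer_zpowers_iff.2 ?_)
    exact mem_centralizer_singleton_iff.2
      (Subtype.ext (mem_centralizer_singleton_iff.1 (centralizerPPrimeCore_le a hxa)))
  have h := (pLocal_of_pLayer_eq_bot hLb hP).2
    ⟨⟨⟨x, hxb⟩, hxN⟩, hXN ((hXmem ⟨⟨x, hxb⟩, hxN⟩).2 hxa), rfl⟩
  exact ⟨⟨x, hxb⟩, h, rfl⟩

theorem generalizedFitting_eq (hconn : Cfsg.IsRankGraphConnected p 2 G)
    (hO : Cfsg.pPrimeCore p G = ⊥)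
    (hL : ∀ a : G, Good p a → Cfsg.pLayer p ↥(centralizer ({a} : Set G)) = ⊥ ∧
      Group.IsSolvable ↥(Cfsg.centralizerPPrimeCore p a))
    {a : G} (ha : Good p a) :
    Cfsg.generalizedFittingSubgroup ↥(centralizer ({a} : Set G)) =
      Cfsg.pCore p ↥(centralizer ({a} : Set G)) := by
  have h0 : Cfsg.centralizerPPrimeCore p a = ⊥ :=
    eq_bot (θ := fun a => Cfsg.centralizerPPrimeCore p a)
      (fun b hb => ⟨centralizerPPrimeCore_le b,
        hp.out.coprime_iff_not_dvd.1 (coprime_card_centralizerPPrimeCore b).symm, (hL b hb).2⟩)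
      (fun b g _ => centralizerPPrimeCore_conj g b)
      (fun b c hb hc hbc => core_inf_centralizer_le hbc hb.1 (hL c hc).1) hconn hO ha
  have hcore : Cfsg.pPrimeCore p ↥(centralizer ({a} : Set G)) = ⊥ :=
    (Subgroup.map_eq_bot_iff_of_injective _ (subtype_injective _)).1 h0
  rw [generalizedFitting_eq_pCore_iff, centralizer_pCore_le_iff]
  refine ⟨?_, hcore⟩
  have h1 := layer_map_le_layer (QuotientGroup.mk' (Cfsg.pPrimeCore p ↥(centralizer ({a} : Set G))))
    (QuotientGroup.mk'_surjective _)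
  rw [(pLayer_eq_bot_iff p _).1 (hL a ha).1, le_bot_iff, Subgroup.map_eq_bot_iff,
    QuotientGroup.ker_mk', hcore, le_bot_iff] at h1
  exact h1

end CfsgLib.Comp.FunctorTriv
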