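import Cfsg.Agent.Lib.Comp.AutKernel

/-!
The extension of a character of `Aut_F(T)` to the maps between centric subgroups.
-/

set_option autoImplicit false
set_option linter.unusedVariables false
set_option linter.unusedSectionVars false
set_option linter.style.haveILetI false

namespace CfsgLib.Comp.Fus

open Cfsg Cfsg.FusionSystem Subgroup CfsgLib.Fusion

variable {Ω : Type*} [Group Ω] {S T : Subgroup Ω} {F : FusionSystem S} {E : FusionSystem T}
  {P Q M R : Subgroup Ω} {p : ℕ} {Δ : Type*} [Group Δ] {χ : ↥(F.autGroup T) →* Δ}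

/-- `d` is the value of `χ` at the factor from `Aut_F(T)` of `f` on `P ∩ T`. -/
def IsBase (E : FusionSystem T) (χ : ↥(F.autGroup T) →* Δ) (P : Subgroup Ω) (f : Ω → Ω) (d : Δ) :
    Prop :=
  ∃ (a : ↥(F.autGroup T)) (e : Ω → Ω), IsMap E (P ⊓ T) e ∧
    (∀ x ∈ P ⊓ T, f x = autFun (a : MulAut T) (e x)) ∧ χ a = d

/-- A value on the maps of centric subgroups of order at least `c`. -/
structure IsTheta (E : FusionSystem T) (χ : ↥(F.autGroup T) →* Δ) (c : ℕ)
    (θ : Subgroup Ω → (Ω → Ω) → Δ) : Prop where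
  congr : ∀ P f g, F.IsCentric P → c ≤ Nat.card P → IsMap F P f → (∀ x ∈ P, f x = g x) →
    θ P f = θ P g
  comp : ∀ P f g, F.IsCentric P → c ≤ Nat.card P → IsMap F P f → IsMap F (img P f) g →
    θ P (fun x => g (f x)) = θ (img P f) g * θ P f
  mono : ∀ P R f, F.IsCentric P → c ≤ Nat.card P → P ≤ R → IsMap F R f → θ P f = θ R f
  base : ∀ P f d, F.IsCentric P → c ≤ Nat.card P → IsMap F P f → E.IsCentric (P ⊓ T) →
    IsBase E χ P f d → θ P f = d

theorem img_inter (hsc : F.StronglyClosed T) {f : Ω → Ω} (hf : IsMap F P f) :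
    img (P ⊓ T) f = img P f ⊓ T := by
  refine le_antisymm (le_inf (img_mono inf_le_left) fun y hy => ?_) fun y hy => ?_
  · obtain ⟨x, hx, rfl⟩ := (hf.mono inf_le_left).mem_img.1 hy
    exact StronglyClosed.apply_mem hsc hf hx.1 hx.2
  · obtain ⟨k, hk, hkx, hky, -⟩ := hf.exists_inv
    have h1 := StronglyClosed.apply_mem hsc hk hy.1 hy.2
    rw [← (hky y hy.1).2]
    exact (hf.mono inf_le_left).apply_mem_img ⟨(hky y hy.1).1, h1⟩

section Base

variable [Fact p.Prime] [Finite S] (hS : IsPGroup p S) (hw : E.IsWeaklyNormalIn F p)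
  (hker : (E.autGroup T).subgroupOf (F.autGroup T) ≤ χ.ker) (hΔ : (Nat.card Δ).Coprime p)

include hS hw hker hΔ

theorem chi_eq_one_of_pow {a : ↥(F.autGroup T)} {k : ℕ} (h : a ^ p ^ k = 1) : χ a = 1 := by
  refine orderOf_eq_one_iff.1 (Nat.eq_one_of_dvd_coprimes (hΔ.pow_right k) (orderOf_dvd_natCard _) ?_)
  exact orderOf_dvd_of_pow_eq_one (by rw [← map_pow, h, map_one])

theorem chi_eq_one_of_agree {a : ↥(F.autGroup T)} {U : Subgroup Ω} (hU : E.IsCentric U)
    (h : IsMap E U (autFun (a : MulAut T))) : χ a = 1 := by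
  obtain ⟨-, hsc, -, -⟩ := isInvariantIn_iff.1 hw.2.2
  have h1 := mem_of_agree_centric hS hw (K := χ.ker.map (F.autGroup T).subtype)
    (fun β hβ => ⟨⟨β, (autGroup_mem_iff hsc.1).2 (hw.2.2.1 T ((autGroup_mem_iff le_rfl).1 hβ))⟩,
      hker hβ, rfl⟩)
    (fun π hπ ⟨k, hk⟩ => ⟨⟨π, hπ⟩,
      chi_eq_one_of_pow hS hw hker hΔ (a := ⟨π, hπ⟩) (k := k) (Subtype.ext hk), rfl⟩)
    a a.2 U hU h
  obtain ⟨b, hb, hba⟩ := h1
  rwa [Subtype.ext hba] at hb

theorem IsBase.unique {f : Ω → Ω} {d d' : Δ} (hc : E.IsCentric (P ⊓ T))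
    (h : IsBase E χ P f d) (h' : IsBase E χ P f d') : d = d' := by
  obtain ⟨a, e, he, hex, rfl⟩ := h
  obtain ⟨a', e', he', hex', rfl⟩ := h'
  obtain ⟨j, hj, hjx, hjy, -⟩ := he.exists_inv
  have h1 : χ (a'⁻¹ * a) = 1 := by
    refine chi_eq_one_of_agree hS hw hker hΔ (centric_of_isConj hc he.isConj)
      ((hj.comp he' fun z hz => (hjy z hz).1).congr fun z hz => ?_)
    obtain ⟨x, hx, rfl⟩ := he.mem_img.1 hz
    rw [hjx x hx, Subgroup.coe_mul, Subgroup.coe_inv, autFun_mul_apply _ _ (he.mem hx),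
      ← hex x hx, hex' x hx, autFun_inv_apply _ (he'.mem hx)]
  rwa [map_mul, map_inv, inv_mul_eq_one, eq_comm] at h1

omit hker hΔ

theorem exists_isBase {f : Ω → Ω} (hf : IsMap F P f) : ∃ d, IsBase E χ P f d := by
  obtain ⟨-, hsc, -, hfrat⟩ := isInvariantIn_iff.1 hw.2.2
  obtain ⟨a, ha, e, he, hex⟩ := hfrat _ f inf_le_right (hf.mono inf_le_left)
  refine ⟨_, ⟨ha.toAut (StronglyClosed.img_eq hsc ha le_rfl), ha.toAut_mem _⟩, e, he,
    fun x hx => ?_, rfl⟩
  rw [hex x hx, autFun_apply _ (he.mem hx)]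
  exact (ha.toAut_apply _ ⟨e x, he.mem hx⟩).symm

theorem IsBase.comp {f g : Ω → Ω} {d d' : Δ} (hf : IsMap F P f) (h : IsBase E χ P f d)
    (h' : IsBase E χ (img P f) g d') : IsBase E χ P (fun x => g (f x)) (d' * d) := by
  obtain ⟨a, e, he, hex, rfl⟩ := h
  obtain ⟨a', e', he', hex', rfl⟩ := h'
  have hsc := hw.2.2.2.1
  obtain ⟨k, hk, hkx⟩ := IsInvariantIn.transport hw.2.2 (inv_mem a.2) he'
  have hfm : ∀ x ∈ P ⊓ T, f x ∈ img P f ⊓ T := fun x hx =>
    img_inter hsc hf ▸ (hf.mono inf_le_left).apply_mem_img hx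
  have hm : ∀ x ∈ P ⊓ T, autFun (a : MulAut T)⁻¹ (f x) = e x := fun x hx => by
    rw [hex x hx, autFun_inv_apply _ (he.mem hx)]
  have hmem : ∀ x ∈ P ⊓ T, e x ∈ img (img P f ⊓ T) (autFun (a : MulAut T)⁻¹) := fun x hx =>
    hm x hx ▸ ((isMap_autFun hsc.1 (inv_mem a.2)).mono inf_le_right).apply_mem_img (hfm x hx)
  refine ⟨a' * a, _, he.comp hk hmem, fun x hx => ?_, map_mul χ a' a⟩
  have h1 := hkx (f x) (hfm x hx)
  rw [hm x hx] at h1
  show g (f x) = _
  rw [h1, Subgroup.coe_mul, autFun_mul_apply _ _ (autFun_mem _ (he'.mem (hfm x hx))),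
    autFun_apply_inv _ (he'.mem (hfm x hx)), hex' _ (hfm x hx)]

theorem IsBase.mono {f : Ω → Ω} {d : Δ} (h : IsBase E χ R f d) (hPR : P ≤ R) :
    IsBase E χ P f d := by
  obtain ⟨a, e, he, hex, rfl⟩ := h
  exact ⟨a, e, he.mono (inf_le_inf_right _ hPR),
    fun x hx => hex x (inf_le_inf_right T hPR hx), rfl⟩

theorem IsBase.congr {f g : Ω → Ω} {d : Δ} (h : IsBase E χ P f d) (hfg : ∀ x ∈ P, f x = g x) :
    IsBase E χ P g d := by
  obtain ⟨a, e, he, hex, rfl⟩ := h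
  exact ⟨a, e, he, fun x hx => (hfg x hx.1).symm.trans (hex x hx), rfl⟩

theorem centric_img_inter {f : Ω → Ω} (hf : IsMap F P f) :
    E.IsCentric (P ⊓ T) ↔ E.IsCentric (img P f ⊓ T) := by
  have hsc := hw.2.2.2.1
  constructor
  · intro h
    exact img_inter hsc hf ▸ centric_img_of_map hS hw (hf.mono inf_le_left) h
  · intro h
    obtain ⟨k, hk, hkx, -, hki⟩ := hf.exists_inv
    have h1 := centric_img_of_map hS hw (hk.mono inf_le_left) h
    rwa [img_inter hsc hk, hki] at h1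

end Base

section Values

variable [Fact p.Prime] [Finite S] (hS : IsPGroup p S) {c : ℕ} {θ : Subgroup Ω → (Ω → Ω) → Δ}
  (hθ : IsTheta E χ c θ) (hΔ : (Nat.card Δ).Coprime p)

include hS hθ hΔ

theorem theta_id (hP : F.IsCentric P) (hc : c ≤ Nat.card P) : θ P id = 1 := by
  have h := hθ.comp P id id hP hc (isMap_id F hP.1) (by rw [show img P id = P by rw [img]; simp]; exact isMap_id F hP.1)
  rw [show img P id = P by rw [img]; simp] at h
  exact mul_eq_left.1 h.symm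

theorem theta_iterate (hP : F.IsCentric P) (hc : c ≤ Nat.card P) {f : Ω → Ω} (hf : IsMap F P f)
    (hfP : ∀ x ∈ P, f x ∈ P) (n : ℕ) : θ P f^[n] = θ P f ^ n := by
  haveI := finite_of_le hP.1
  induction n with
  | zero => rw [pow_zero, Function.iterate_zero]; exact theta_id hS hθ hΔ hP hc
  | succ n ih =>
    have hm := isMap_iterate hf hfP n
    have hi : img P f^[n] = P := eq_of_le_of_card_le (fun y hy => by
      obtain ⟨x, hx, rfl⟩ := hm.mem_img.1 hy
      exact iterate_mem hfP n hx) hm.card_img.ge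
    rw [Function.iterate_succ']
    show θ P (fun x => f (f^[n] x)) = _
    rw [hθ.comp P _ f hP hc hm (hi.symm ▸ hf), hi, ih, pow_succ']

/-- A map fixing a centric subgroup pointwise has trivial value. -/
theorem theta_eq_one_of_fix (hQ : F.IsCentric Q) (hQM : Q ≤ M) (hMN : M ≤ normalizerIn S Q)
    (hc : c ≤ Nat.card M) {δ : Ω → Ω} (hδ : IsMap F M δ) (hδM : ∀ x ∈ M, δ x ∈ M)
    (hδQ : ∀ x ∈ Q, δ x = x) : θ M δ = 1 := by
  have hMS : M ≤ S := hMN.trans inf_le_left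
  haveI := finite_of_le hMS
  have hi : img M δ = M := eq_of_le_of_card_le (fun y hy => by
    obtain ⟨x, hx, rfl⟩ := hδ.mem_img.1 hy
    exact hδM x hx) hδ.card_img.ge
  have hC : centralizerIn S Q ≤ Q := hQ.2 Q (isConj_refl hQ.1)
  have hδc : hδ.toAut hi ∈ chainAut F Q M := by
    refine mem_chainAut.2 ⟨hδ.toAut_mem hi, fun x hx => Subtype.ext ?_, fun x => ?_⟩
    · rw [IsMap.toAut_apply, hδQ x hx]
    · rw [IsMap.toAut_apply]
      refine hC ⟨S.mul_mem (S.inv_mem (hMS x.2)) (hMS (hδM x x.2)), fun q hq => ?_⟩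
      have hq' : (x : Ω) * q * (x : Ω)⁻¹ ∈ Q := ((hMN x.2).2 q).1 hq
      have e := hδ.map_conj x.2 (hQM hq)
      rw [hδQ _ hq', hδQ q hq] at e
      calc q * ((x : Ω)⁻¹ * δ x) = (x : Ω)⁻¹ * ((x : Ω) * q * (x : Ω)⁻¹) * δ x := by group
        _ = (x : Ω)⁻¹ * (δ x * q * (δ x)⁻¹) * δ x := by rw [← e]
        _ = (x : Ω)⁻¹ * δ x * q := by group
  obtain ⟨k, hk⟩ := isPGroup_chainAut hS hQ.1 ⟨_, hδc⟩
  have hMc : F.IsCentric M := centric_of_le hQ hQM hMS
  have hk' : ∀ x ∈ M, δ^[p ^ k] x = x := fun x hx => by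
    have h1 : hδ.toAut hi ^ p ^ k = 1 := congrArg Subtype.val hk
    rw [← toAut_pow_coe hδ hi _ ⟨x, hx⟩, h1]
    rfl
  refine orderOf_eq_one_iff.1 (Nat.eq_one_of_dvd_coprimes (hΔ.pow_right k) (orderOf_dvd_natCard _) ?_)
  refine orderOf_dvd_of_pow_eq_one ?_
  rw [← theta_iterate hS hθ hΔ hMc hc hδ hδM, hθ.congr M _ id hMc hc
    (isMap_iterate hδ hδM _) hk']
  exact theta_id hS hθ hΔ hMc hc

/-- Maps agreeing on a centric subgroup have the same value on its normalizer. -/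
theorem theta_eq_of_agree (hQ : F.IsCentric Q) (hQM : Q ≤ M) (hMN : M ≤ normalizerIn S Q)
    (hc : c ≤ Nat.card M) {g h : Ω → Ω} (hg : IsMap F M g) (hh : IsMap F M h)
    (hgh : ∀ x ∈ Q, g x = h x) : θ M g = θ M h := by
  have hMc : F.IsCentric M := centric_of_le hQ hQM (hMN.trans inf_le_left)
  obtain ⟨k, hk, hkx, hky, -⟩ := hh.exists_inv
  have hR : F.IsCentric (img Q h) := centric_of_isConj hQ (hh.mono hQM).isConj
  have hmem : ∀ x ∈ M, g x ∈ img M h := fun x hx => by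
    have h1 : (h x)⁻¹ * g x ∈ centralizerIn S (img Q h) := by
      refine ⟨S.mul_mem (S.inv_mem (hh.mem hx)) (hg.mem hx), fun z hz => ?_⟩
      obtain ⟨q, hq, rfl⟩ := (hh.mono hQM).mem_img.1 hz
      have hq' : x * q * x⁻¹ ∈ Q := ((hMN hx).2 q).1 hq
      have e1 := hg.map_conj hx (hQM hq)
      have e2 := hh.map_conj hx (hQM hq)
      rw [hgh _ hq', hgh q hq, e2] at e1
      calc h q * ((h x)⁻¹ * g x) = (h x)⁻¹ * (h x * h q * (h x)⁻¹) * g x := by group
        _ = (h x)⁻¹ * (g x * h q * (g x)⁻¹) * g x := by rw [e1]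
        _ = (h x)⁻¹ * g x * h q := by group
    have := (img M h).mul_mem (hh.apply_mem_img hx)
      (img_mono hQM (hR.2 _ (isConj_refl hR.1) h1))
    rwa [mul_inv_cancel_left] at this
  have hδ := hg.comp hk hmem
  have hδM : ∀ x ∈ M, k (g x) ∈ M := fun x hx => (hky _ (hmem x hx)).1
  have h1 := theta_eq_one_of_fix hS hθ hΔ hQ hQM hMN hc hδ hδM fun x hx => by
    show k (g x) = x
    rw [hgh x hx, hkx x (hQM hx)]
  haveI := finite_of_le hMc.1
  have hi : img M (fun x => k (g x)) = M := eq_of_le_of_card_le (fun y hy => by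
    obtain ⟨x, hx, rfl⟩ := hδ.mem_img.1 hy
    exact hδM x hx) hδ.card_img.ge
  have h2 := hθ.comp M _ h hMc hc hδ (hi.symm ▸ hh)
  rw [hi, h1, mul_one] at h2
  rw [← h2]
  exact (hθ.congr M _ g hMc hc (hδ.comp hh hδM) fun x hx => (hky _ (hmem x hx)).2).symm

end Values

end CfsgLib.Comp.Fus
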