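import Cfsg.Agent.Lib.Comp.FusionTheta

/-!
Existence of the extended character.
-/

set_option autoImplicit false
set_option linter.unusedVariables false
set_option linter.unusedSectionVars false
set_option linter.style.haveILetI false

namespace CfsgLib.Comp.Fus

open Cfsg Cfsg.FusionSystem Subgroup CfsgLib.Fusion

variable {Ω : Type*} [Group Ω] {S T : Subgroup Ω} {F : FusionSystem S} {E : FusionSystem T}
  {P Q M R : Subgroup Ω} {p : ℕ} {Δ : Type*} [Group Δ] {χ : ↥(F.autGroup T) →* Δ}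

/-- The preimage in `S` of the inner and chain stabilizing automorphisms. -/
def chainExt (F : FusionSystem S) (T Q : Subgroup Ω) : Subgroup Ω :=
  preAut S Q (chainAut F T Q ⊔ Inn Q)

/-- A representative of the class of `P`. -/
noncomputable def rep (F : FusionSystem S) (P : Subgroup Ω) : Subgroup Ω :=
  Classical.epsilon fun Q => F.IsFullyNormalized Q ∧ F.IsConj P Q

/-- A map moving `P` with its normalizer to the representative. -/
noncomputable def mv (F : FusionSystem S) (P : Subgroup Ω) : Ω → Ω :=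
  Classical.epsilon fun ψ => IsMap F (normalizerIn S P) ψ ∧ img P ψ = rep F P ∧
    ∀ a ∈ normalizerIn S P, ψ a ∈ normalizerIn S (rep F P)

/-- `g` is the map induced by `f` on the extended representative. -/
def IsTwist (F : FusionSystem S) (T P : Subgroup Ω) (f g : Ω → Ω) : Prop :=
  IsMap F (chainExt F T (rep F P)) g ∧ ∀ x ∈ P, g (mv F P x) = mv F (img P f) (f x)

/-- The value on the classes of order `c`. -/
noncomputable def smallVal (F : FusionSystem S) (T : Subgroup Ω)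
    (θ : Subgroup Ω → (Ω → Ω) → Δ) (P : Subgroup Ω) (f : Ω → Ω) : Δ :=
  (θ (normalizerIn S (img P f)) (mv F (img P f)))⁻¹ *
    θ (chainExt F T (rep F P)) (Classical.epsilon (IsTwist F T P f)) *
      θ (normalizerIn S P) (mv F P)

open Classical in
/-- The values one order further down. -/
noncomputable def thetaDown (E : FusionSystem T) (χ : ↥(F.autGroup T) →* Δ)
    (θ : Subgroup Ω → (Ω → Ω) → Δ) (c : ℕ) (P : Subgroup Ω) (f : Ω → Ω) : Δ :=
  if E.IsCentric (P ⊓ T) then Classical.epsilon (IsBase E χ P f)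
  else if Nat.card P = c then smallVal F T θ P f else θ P f

section Step

variable [Fact p.Prime] [Finite S] (hS : IsPGroup p S) (hw : E.IsWeaklyNormalIn F p)
  (hker : (E.autGroup T).subgroupOf (F.autGroup T) ≤ χ.ker) (hΔ : (Nat.card Δ).Coprime p)
  {c : ℕ} {θ : Subgroup Ω → (Ω → Ω) → Δ} (hθ : IsTheta E χ (c + 1) θ)

include hS hw hker hΔ hθ

theorem rep_spec (hP : P ≤ S) : F.IsFullyNormalized (rep F P) ∧ F.IsConj P (rep F P) := by
  obtain ⟨Q, h1, h2⟩ := exists_fullyNormalized_conj F hP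
  exact Classical.epsilon_spec (p := fun Q => F.IsFullyNormalized Q ∧ F.IsConj P Q) ⟨Q, h2, h1⟩

theorem rep_img {f : Ω → Ω} (hf : IsMap F P f) : rep F (img P f) = rep F P := by
  refine congrArg Classical.epsilon (funext fun Q => propext (and_congr_right fun _ => ?_))
  exact ⟨isConj_trans hf.isConj, isConj_trans (isConj_symm hf.isConj)⟩

theorem mv_spec (hP : P ≤ S) : IsMap F (normalizerIn S P) (mv F P) ∧
    img P (mv F P) = rep F P ∧
      ∀ a ∈ normalizerIn S P, mv F P a ∈ normalizerIn S (rep F P) := by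
  obtain ⟨h1, h2⟩ := rep_spec hS hw hker hΔ hθ hP
  exact Classical.epsilon_spec (exists_map_normalizerIn_of_fullyNormalized hS hw.2.1 h1 h2)

theorem thetaDown_base {f : Ω → Ω} {d : Δ} (hc : E.IsCentric (P ⊓ T))
    (h : IsBase E χ P f d) : thetaDown E χ θ c P f = d := by
  rw [thetaDown, if_pos hc]
  exact IsBase.unique hS hw hker hΔ hc (Classical.epsilon_spec ⟨d, h⟩) h

theorem thetaDown_big {f : Ω → Ω} (hP : F.IsCentric P) (hf : IsMap F P f)
    (hc : c + 1 ≤ Nat.card P) : thetaDown E χ θ c P f = θ P f := by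
  by_cases hE : E.IsCentric (P ⊓ T)
  · obtain ⟨d, hd⟩ := exists_isBase hS hw hf (χ := χ)
    rw [thetaDown_base hS hw hker hΔ hθ hE hd, hθ.base P f d hP hc hf hE hd]
  · rw [thetaDown, if_neg hE, if_neg (by omega)]

theorem normalizer_big (hP : F.IsCentric P) (hPT : ¬ E.IsCentric (P ⊓ T))
    (hc : Nat.card P = c) : c + 1 ≤ Nat.card (normalizerIn S P) := by
  have hsc := hw.2.2.2.1
  haveI := finite_of_le hsc.1
  have hne : P ≠ S := fun h => hPT (by
    rw [h, inf_eq_right.2 hsc.1]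
    exact centric_top (hS.to_le hsc.1) hw.1)
  haveI : Finite (normalizerIn S P : Subgroup Ω) := finite_of_le inf_le_left
  refine Nat.succ_le_of_lt (hc ▸ lt_of_not_ge fun h => ?_)
  exact (lt_normalizerIn hS (lt_of_le_of_ne hP.1 hne)).ne
    (eq_of_le_of_card_le (le_normalizerIn hP.1) h)

theorem rep_centric (hP : F.IsCentric P) : F.IsCentric (rep F P) :=
  centric_of_isConj hP (rep_spec hS hw hker hΔ hθ hP.1).2

theorem rep_not_centric (hP : F.IsCentric P) (hPT : ¬ E.IsCentric (P ⊓ T)) :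
    ¬ E.IsCentric (rep F P ⊓ T) := by
  obtain ⟨h1, h2, -⟩ := mv_spec hS hw hker hΔ hθ hP.1
  rwa [← h2, ← centric_img_inter hS hw (h1.mono (le_normalizerIn hP.1))]

theorem chainExt_props (hQn : F.IsFullyNormalized Q) (hQ : F.IsCentric Q) :
    Inn Q ≤ chainAut F T Q ⊔ Inn Q ∧ chainAut F T Q ⊔ Inn Q ≤ autInducedBy S Q ∧
      ∀ v ∈ F.autGroup Q, (chainAut F T Q ⊔ Inn Q).map (MulAut.conj v).toMonoidHom =
        chainAut F T Q ⊔ Inn Q := by
  have hsc := hw.2.2.2.1
  have hQS := hQn.1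
  haveI := finite_of_le hQS
  have hle : chainAut F T Q ≤ F.autGroup Q := fun _ h => (mem_chainAut.1 h).1
  have hconj : ∀ v ∈ F.autGroup Q, (chainAut F T Q).map (MulAut.conj v).toMonoidHom =
      chainAut F T Q := by
    intro v hv
    refine le_antisymm ?_ fun b hb => ⟨v⁻¹ * b * v, ?_, by simp [mul_assoc]⟩
    · rintro _ ⟨b, hb, rfl⟩
      exact chainAut_normal hsc hQS hv hb
    · simpa using chainAut_normal hsc hQS (inv_mem hv) hb
  refine ⟨le_sup_right, sup_le ?_ (inn_le_autInducedBy hQS), fun v hv => ?_⟩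
  · obtain ⟨γ, hγ, hγ'⟩ := exists_conj_le_autInducedBy
      (fullyAutomized_of_fullyNormalized hS hw.2.1 hQn) _
      (isPGroup_chainAut (F := F) hS hsc.1) hle
    intro b hb
    obtain ⟨b', hb', rfl⟩ := (hconj γ hγ).ge hb
    exact hγ' b' hb'
  · rw [Subgroup.map_sup, hconj v hv]
    congr 1
    ext b
    constructor
    · rintro ⟨_, ⟨q, rfl⟩, rfl⟩
      refine ⟨v q, MulEquiv.ext fun x => ?_⟩
      show v q * x * (v q)⁻¹ = v (q * v⁻¹ x * q⁻¹)
      simp
    · rintro ⟨q, rfl⟩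
      refine ⟨MulAut.conj (v⁻¹ q), ⟨_, rfl⟩, MulEquiv.ext fun x => ?_⟩
      show v (v⁻¹ q * v⁻¹ x * (v⁻¹ q)⁻¹) = q * x * q⁻¹
      simp

theorem chainExt_le : chainExt F T Q ≤ normalizerIn S Q := preAut_le

theorem le_chainExt (hQn : F.IsFullyNormalized Q) (hQ : F.IsCentric Q) : Q ≤ chainExt F T Q :=
  le_preAut hQn.1 le_sup_right

theorem chainExt_big (hQn : F.IsFullyNormalized Q) (hQ : F.IsCentric Q)
    (hQT : ¬ E.IsCentric (Q ⊓ T)) (hc : Nat.card Q = c) :
    c + 1 ≤ Nat.card (chainExt F T Q) := by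
  obtain ⟨-, h2, -⟩ := chainExt_props hS hw hker hΔ hθ hQn hQ
  obtain ⟨β, hβ, hβi⟩ := exists_chain_not_inner hS hw hQ hQT
  obtain ⟨s, hs, hsx⟩ := mem_autInducedBy_iff.1 (h2 (Subgroup.mem_sup_left hβ))
  haveI : Finite (chainExt F T Q : Subgroup Ω) :=
    finite_of_le ((preAut_le).trans inf_le_left)
  refine Nat.succ_le_of_lt (hc ▸ lt_of_not_ge fun h => hβi ?_)
  have hmem : s ∈ chainExt F T Q := ⟨hs, β, Subgroup.mem_sup_left hβ, hsx⟩
  rw [← eq_of_le_of_card_le (le_chainExt hS hw hker hΔ hθ hQn hQ) h] at hmem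
  exact ⟨⟨s, hmem⟩, MulEquiv.ext fun x => Subtype.ext (hsx x).symm⟩

/-- The map induced on the representative. -/
theorem exists_base_twist (hP : F.IsCentric P) {f : Ω → Ω} (hf : IsMap F P f) :
    ∃ h, IsMap F (rep F P) h ∧ img (rep F P) h = rep F P ∧
      ∀ x ∈ P, h (mv F P x) = mv F (img P f) (f x) := by
  obtain ⟨h1, h2, -⟩ := mv_spec hS hw hker hΔ hθ hP.1
  obtain ⟨h1', h2', -⟩ := mv_spec hS hw hker hΔ hθ hf.img_le
  rw [rep_img hS hw hker hΔ hθ hf] at h2'
  have hmP := h1.mono (le_normalizerIn hP.1)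
  obtain ⟨k, hk, hkx, hky, -⟩ := hmP.exists_inv
  rw [h2] at hk hky
  have hm : ∀ q ∈ rep F P, k q ∈ P := fun q hq => (hky q hq).1
  have hh := (hk.comp hf hm).comp (h1'.mono (le_normalizerIn hf.img_le)) fun q hq =>
    hf.apply_mem_img (hm q hq)
  refine ⟨_, hh, ?_, fun x hx => congrArg (fun z => mv F (img P f) (f z)) (hkx x hx)⟩
  haveI := finite_of_le (rep_spec hS hw hker hΔ hθ hP.1).1.1
  refine eq_of_le_of_card_le (fun y hy => ?_) hh.card_img.ge
  obtain ⟨q, hq, rfl⟩ := hh.mem_img.1 hy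
  exact h2'.le ((h1'.mono (le_normalizerIn hf.img_le)).apply_mem_img
    (hf.apply_mem_img (hm q hq)))

theorem exists_twist (hP : F.IsCentric P) {f : Ω → Ω} (hf : IsMap F P f) :
    ∃ g, IsTwist F T P f g := by
  have hQ := rep_centric hS hw hker hΔ hθ hP
  have hQn := (rep_spec hS hw hker hΔ hθ hP.1).1
  obtain ⟨-, h2, h3⟩ := chainExt_props hS hw hker hΔ hθ hQn hQ
  obtain ⟨h, hh, hhi, hhx⟩ := exists_base_twist hS hw hker hΔ hθ hP hf
  set v := hh.toAut hhi
  obtain ⟨g, hg, hgx⟩ := receptive_extend (receptive_of_fullyNormalized hS hw.2.1 hQn) hh hhi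
    (le_chainExt hS hw hker hΔ hθ hQn hQ) fun a ha => by
      obtain ⟨haS, α, hα, hαx⟩ := ha
      refine ⟨haS, mem_normalizer_of_aut hαx, ?_⟩
      obtain ⟨b, hb, hbx⟩ := mem_autInducedBy_iff.1
        (h2 ((h3 v (hh.toAut_mem hhi)).le ⟨α, hα, rfl⟩))
      refine ⟨b, hb, fun x hx => ?_⟩
      have e := hbx (v ⟨x, hx⟩)
      have e1 : ((MulAut.conj v).toMonoidHom α) (v ⟨x, hx⟩) = v (α ⟨x, hx⟩) := by
        show v (α (v⁻¹ (v ⟨x, hx⟩))) = _
        rw [MulAut.inv_apply_self]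
      rw [e1, hh.toAut_apply, hh.toAut_apply, hαx] at e
      exact e
  obtain ⟨hm, hmi, -⟩ := mv_spec hS hw hker hΔ hθ hP.1
  exact ⟨g, hg, fun x hx => (hgx _ (hmi ▸ (hm.mono (le_normalizerIn hP.1)).apply_mem_img hx)).trans
    (hhx x hx)⟩

theorem twist_img (hP : F.IsCentric P) {f g : Ω → Ω} (hf : IsMap F P f)
    (hg : IsTwist F T P f g) : img (chainExt F T (rep F P)) g = chainExt F T (rep F P) := by
  have hQ := rep_centric hS hw hker hΔ hθ hP
  have hQn := (rep_spec hS hw hker hΔ hθ hP.1).1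
  obtain ⟨h1, h2, h3⟩ := chainExt_props hS hw hker hΔ hθ hQn hQ
  obtain ⟨h, hh, hhi, hhx⟩ := exists_base_twist hS hw hker hΔ hθ hP hf
  obtain ⟨hm, hmi, -⟩ := mv_spec hS hw hker hΔ hθ hP.1
  have hval : ∀ x : (rep F P : Subgroup Ω),
      g x = ((hh.toAut hhi x : (rep F P : Subgroup Ω)) : Ω) := fun x => by
    obtain ⟨z, hz, hzx⟩ := (hm.mono (le_normalizerIn hP.1)).mem_img.1 (hmi.ge x.2)
    rw [IsMap.toAut_apply, ← hzx, hg.2 z hz, hhx z hz]
  rw [chainExt, img_preAut (hQ.2 _ (isConj_refl hQ.1)) hQn.1 h1 h2 hg.1 hval,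
    h3 _ (hh.toAut_mem hhi)]

theorem smallVal_eq (hP : F.IsCentric P) (hPT : ¬ E.IsCentric (P ⊓ T)) (hc : Nat.card P = c)
    {f g : Ω → Ω} (hf : IsMap F P f) (hg : IsTwist F T P f g) :
    thetaDown E χ θ c P f = (θ (normalizerIn S (img P f)) (mv F (img P f)))⁻¹ *
      θ (chainExt F T (rep F P)) g * θ (normalizerIn S P) (mv F P) := by
  rw [thetaDown, if_neg hPT, if_pos hc, smallVal]
  have h := Classical.epsilon_spec (p := IsTwist F T P f) ⟨g, hg⟩
  have hQ := rep_centric hS hw hker hΔ hθ hP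
  obtain ⟨hQn, hQc⟩ := rep_spec hS hw hker hΔ hθ hP.1
  obtain ⟨hm, hmi, -⟩ := mv_spec hS hw hker hΔ hθ hP.1
  congr 2
  refine theta_eq_of_agree hS hθ hΔ hQ (le_chainExt hS hw hker hΔ hθ hQn hQ) preAut_le
    (chainExt_big hS hw hker hΔ hθ hQn hQ (rep_not_centric hS hw hker hΔ hθ hP hPT) ?_)
    h.1 hg.1 fun y hy => ?_
  · rw [isConj_card hQc, hc]
  · obtain ⟨z, hz, rfl⟩ := (hm.mono (le_normalizerIn hP.1)).mem_img.1 (hmi.ge hy)
    rw [h.2 z hz, hg.2 z hz]

theorem isTheta_down : IsTheta E χ c (thetaDown E χ θ c) := by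
  have hbig : ∀ {P : Subgroup Ω}, c ≤ Nat.card P → Nat.card P ≠ c → c + 1 ≤ Nat.card P :=
    fun h h' => by omega
  refine ⟨fun P f g hP hc hf hfg => ?_, fun P f g hP hc hf hg => ?_, fun P R f hP hc hPR hf => ?_,
    fun P f d hP hc hf hE hd => thetaDown_base hS hw hker hΔ hθ hE hd⟩
  · have hg' : IsMap F P g := hf.congr hfg
    by_cases hE : E.IsCentric (P ⊓ T)
    · obtain ⟨d, hd⟩ := exists_isBase hS hw hf (χ := χ)
      rw [thetaDown_base hS hw hker hΔ hθ hE hd,
        thetaDown_base hS hw hker hΔ hθ hE (hd.congr hS hw hfg)]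
    rcases eq_or_ne (Nat.card P) c with h | h
    · obtain ⟨k, hk⟩ := exists_twist hS hw hker hΔ hθ hP hf
      have hi : img P f = img P g := img_congr hfg
      have hk' : IsTwist F T P g k := ⟨hk.1, fun x hx => by rw [← hi, ← hfg x hx]; exact hk.2 x hx⟩
      rw [smallVal_eq hS hw hker hΔ hθ hP hE h hf hk,
        smallVal_eq hS hw hker hΔ hθ hP hE h hg' hk', hi]
    · rw [thetaDown_big hS hw hker hΔ hθ hP hf (hbig hc h),
        thetaDown_big hS hw hker hΔ hθ hP hg' (hbig hc h),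
        hθ.congr P f g hP (hbig hc h) hf hfg]
  · have hR : F.IsCentric (img P f) := centric_of_isConj hP hf.isConj
    have hfg : IsMap F P fun x => g (f x) := hf.comp hg fun x hx => hf.apply_mem_img hx
    have hcR : Nat.card (img P f) = Nat.card P := hf.card_img
    by_cases hE : E.IsCentric (P ⊓ T)
    · obtain ⟨d, hd⟩ := exists_isBase hS hw hf (χ := χ)
      obtain ⟨d', hd'⟩ := exists_isBase hS hw hg (χ := χ)
      rw [thetaDown_base hS hw hker hΔ hθ hE hd,
        thetaDown_base hS hw hker hΔ hθ ((centric_img_inter hS hw hf).1 hE) hd',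
        thetaDown_base hS hw hker hΔ hθ hE (hd.comp hS hw hf hd')]
    rcases eq_or_ne (Nat.card P) c with h | h
    · have hE' : ¬ E.IsCentric (img P f ⊓ T) := fun h' => hE ((centric_img_inter hS hw hf).2 h')
      obtain ⟨k₁, hk₁⟩ := exists_twist hS hw hker hΔ hθ hP hf
      obtain ⟨k₂, hk₂⟩ := exists_twist hS hw hker hΔ hθ hR hg
      have hrep := rep_img hS hw hker hΔ hθ hf
      have hN := twist_img hS hw hker hΔ hθ hP hf hk₁
      have hk₂m : IsMap F (chainExt F T (rep F P)) k₂ := by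
        have := hk₂.1
        rwa [hrep] at this
      have hi : img P (fun x => g (f x)) = img (img P f) g :=
        img_comp_eq hf hg fun x hx => hf.apply_mem_img hx
      have hk : IsTwist F T P (fun x => g (f x)) fun x => k₂ (k₁ x) := by
        refine ⟨hk₁.1.comp hk₂m fun x hx => hN.le (hk₁.1.apply_mem_img hx), fun x hx => ?_⟩
        show k₂ (k₁ (mv F P x)) = _
        rw [hi, hk₁.2 x hx, hk₂.2 _ (hf.apply_mem_img hx)]
      have hQn := (rep_spec hS hw hker hΔ hθ hP.1).1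
      have hQ := rep_centric hS hw hker hΔ hθ hP
      rw [smallVal_eq hS hw hker hΔ hθ hP hE h hf hk₁,
        smallVal_eq hS hw hker hΔ hθ hR hE' (hcR.trans h) hg hk₂,
        smallVal_eq hS hw hker hΔ hθ hP hE h hfg hk, hi, hrep,
        hθ.comp (chainExt F T (rep F P)) k₁ k₂
          (centric_of_le hQ (le_chainExt hS hw hker hΔ hθ hQn hQ) (preAut_le.trans inf_le_left))
          (chainExt_big hS hw hker hΔ hθ hQn hQ (rep_not_centric hS hw hker hΔ hθ hP hE)
            ((isConj_card (rep_spec hS hw hker hΔ hθ hP.1).2).trans h))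
          hk₁.1 (hN.symm ▸ hk₂m), hN]
      group
    · rw [thetaDown_big hS hw hker hΔ hθ hP hf (hbig hc h),
        thetaDown_big hS hw hker hΔ hθ hR hg (hcR.symm ▸ hbig hc h),
        thetaDown_big hS hw hker hΔ hθ hP hfg (hbig hc h),
        hθ.comp P f g hP (hbig hc h) hf hg]
  · have hfP := hf.mono hPR
    haveI := finite_of_le hf.le
    have hRc : F.IsCentric R := centric_of_le hP hPR hf.le
    by_cases hE : E.IsCentric (P ⊓ T)
    · have hER : E.IsCentric (R ⊓ T) := centric_of_le hE (inf_le_inf_right _ hPR) inf_le_right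
      obtain ⟨d, hd⟩ := exists_isBase hS hw hf (χ := χ)
      rw [thetaDown_base hS hw hker hΔ hθ hER hd,
        thetaDown_base hS hw hker hΔ hθ hE (hd.mono hS hw hPR)]
    rcases eq_or_ne (Nat.card P) c with h | h
    swap
    · rw [thetaDown_big hS hw hker hΔ hθ hP hfP (hbig hc h), thetaDown_big hS hw hker hΔ hθ hRc hf
        ((hbig hc h).trans (Subgroup.card_le_of_le hPR)), hθ.mono P R f hP (hbig hc h) hPR hf]
    rcases eq_or_lt_of_le hPR with rfl | hlt
    · rfl
    -- a proper overgroup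
    set R₀ := normalizerIn R P
    have hPR₀ : P < R₀ := lt_normalizerIn (hS.to_le hf.le) hlt
    have hR₀R : R₀ ≤ R := inf_le_left
    have hR₀N : R₀ ≤ normalizerIn S P := inf_le_inf_right _ hf.le
    haveI : Finite R₀ := finite_of_le hR₀R
    have hR₀c : c + 1 ≤ Nat.card R₀ :=
      h ▸ Nat.succ_le_of_lt (lt_of_not_ge fun h' => hPR₀.ne (eq_of_le_of_card_le hPR₀.le h'))
    have hRbig : c + 1 ≤ Nat.card R := hR₀c.trans (Subgroup.card_le_of_le hR₀R)
    set P' := img P f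
    have hP' : F.IsCentric P' := centric_of_isConj hP hfP.isConj
    have hf₀ := hf.mono hR₀R
    have hf₀N : ∀ x ∈ R₀, f x ∈ normalizerIn S P' := fun x hx =>
      ⟨hf.mem hx.1, map_mem_normalizer hf hPR hx.1 hx.2⟩
    obtain ⟨hm, hmi, -⟩ := mv_spec hS hw hker hΔ hθ hP.1
    obtain ⟨hm', hmi', hmN'⟩ := mv_spec hS hw hker hΔ hθ hfP.img_le
    obtain ⟨hQn, hQc⟩ := rep_spec hS hw hker hΔ hθ hP.1
    have hQ := rep_centric hS hw hker hΔ hθ hP
    set Q := rep F P
    set ψ := mv F P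
    set ψ' := mv F P'
    set M := img R₀ ψ
    have hψ₀ := hm.mono hR₀N
    obtain ⟨k, hk, hkx, hky, -⟩ := hψ₀.exists_inv
    set h' := fun q => ψ' (f (k q))
    have hh' : IsMap F M h' :=
      (hk.comp hf₀ fun q hq => (hky q hq).1).comp hm' fun q hq => hf₀N _ (hky q hq).1
    have hQM : Q ≤ M := hmi ▸ img_mono hPR₀.le
    have hMN : M ≤ normalizerIn S Q := fun q hq => by
      obtain ⟨x, hx, rfl⟩ := hψ₀.mem_img.1 hq
      exact (mv_spec hS hw hker hΔ hθ hP.1).2.2 x (hR₀N hx)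
    obtain ⟨g₀, hg₀⟩ := exists_twist hS hw hker hΔ hθ hP hfP
    have hh'Q : ∀ x ∈ P, h' (ψ x) = ψ' (f x) := fun x hx =>
      congrArg (fun z => ψ' (f z)) (hkx x (hPR₀.le hx))
    have hgQ : ∀ q ∈ Q, h' q = g₀ q := fun q hq => by
      obtain ⟨x, hx, rfl⟩ := (hm.mono (le_normalizerIn hP.1)).mem_img.1 (hmi.ge hq)
      rw [hh'Q x hx]
      exact (hg₀.2 x hx).symm
    have hhQ : img Q h' = Q := by
      haveI := finite_of_le hQn.1
      refine eq_of_le_of_card_le (fun z hz => ?_) (hh'.mono hQM).card_img.ge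
      obtain ⟨q, hq, rfl⟩ := (hh'.mono hQM).mem_img.1 hz
      obtain ⟨x, hx, rfl⟩ := (hm.mono (le_normalizerIn hP.1)).mem_img.1 (hmi.ge hq)
      rw [hh'Q x hx]
      have e := (hm'.mono (le_normalizerIn hfP.img_le)).apply_mem_img (hfP.apply_mem_img hx)
      rw [hmi'] at e
      exact (rep_img hS hw hker hΔ hθ hfP).le e
    have hQh := hh'.mono hQM
    have hgood : ∀ (g : Ω → Ω) (L : Subgroup Ω), IsMap F L g → Q ≤ L → L ≤ normalizerIn S Q →
        (∀ q ∈ Q, g q = h' q) → L ≤ extender S Q hQh.toHom := fun g L hg hQL hLN hgq a ha =>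
      (mem_extender_iff hQh hQh.toHom_apply).2 ⟨(hLN ha).1, (hLN ha).2, g a, hg.mem ha,
        fun x hx => by
          rw [← hgq _ (((hLN ha).2 x).1 hx), ← hgq x hx, hg.map_conj ha (hQL hx)]⟩
    have hsup : M ⊔ chainExt F T Q ≤ extender S Q hQh.toHom :=
      sup_le (hgood h' M hh' hQM hMN fun _ _ => rfl)
        (hgood g₀ _ hg₀.1 (le_chainExt hS hw hker hΔ hθ hQn hQ) preAut_le
          fun q hq => (hgQ q hq).symm)
    obtain ⟨g, hg, hgx⟩ := receptive_extend (receptive_of_fullyNormalized hS hw.2.1 hQn) hQh hhQ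
      (hQM.trans le_sup_left) (R := M ⊔ chainExt F T Q) fun a ha =>
        (mem_extender_iff hQh hQh.toHom_apply).1 (hsup ha)
    have hgt : IsTwist F T P f g := ⟨hg.mono le_sup_right, fun x hx => by
      rw [hgx _ (hmi ▸ (hm.mono (le_normalizerIn hP.1)).apply_mem_img hx)]
      exact hh'Q x hx⟩
    have hQcard : Nat.card Q = c := (isConj_card hQc).trans h
    have hQT := rep_not_centric hS hw hker hΔ hθ hP hE
    have hMc : c + 1 ≤ Nat.card M := hψ₀.card_img.symm ▸ hR₀c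
    have hMC : F.IsCentric M := centric_of_le hQ hQM (hMN.trans inf_le_left)
    have hCC : F.IsCentric (chainExt F T Q) :=
      centric_of_le hQ (le_chainExt hS hw hker hΔ hθ hQn hQ) (preAut_le.trans inf_le_left)
    have e1 : θ M h' = θ (chainExt F T Q) g := by
      rw [hθ.mono _ _ g hCC (chainExt_big hS hw hker hΔ hθ hQn hQ hQT hQcard) le_sup_right hg,
        ← hθ.mono M _ g hMC hMc le_sup_left hg]
      exact theta_eq_of_agree hS hθ hΔ hQ hQM hMN hMc hh' (hg.mono le_sup_left)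
        fun q hq => (hgx q hq).symm
    have hR₀C : F.IsCentric R₀ := centric_of_le hP hPR₀.le (hR₀R.trans hf.le)
    have hI : img R₀ f ≤ normalizerIn S P' := fun z hz => by
      obtain ⟨x, hx, rfl⟩ := hf₀.mem_img.1 hz
      exact hf₀N x hx
    have e2 : θ M h' * θ R₀ ψ = θ (img R₀ f) ψ' * θ R₀ f := by
      rw [← hθ.comp R₀ ψ h' hR₀C hR₀c hψ₀ hh',
        ← hθ.comp R₀ f ψ' hR₀C hR₀c hf₀ (hm'.mono hI)]
      exact hθ.congr R₀ _ _ hR₀C hR₀c (hψ₀.comp hh' fun x hx => hψ₀.apply_mem_img hx)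
        fun x hx => congrArg (fun z => ψ' (f z)) (hkx x hx)
    rw [hθ.mono R₀ _ ψ hR₀C hR₀c hR₀N hm,
      hθ.mono (img R₀ f) _ ψ' (centric_of_isConj hR₀C hf₀.isConj)
        (hf₀.card_img.symm ▸ hR₀c) hI hm',
      hθ.mono R₀ R f hR₀C hR₀c hR₀R hf, e1] at e2
    rw [smallVal_eq hS hw hker hΔ hθ hP hE h hfP hgt, thetaDown_big hS hw hker hΔ hθ hRc hf hRbig,
      mul_assoc, e2, inv_mul_cancel_left]

end Step

section Main

variable [Fact p.Prime] [Finite S] (hS : IsPGroup p S) (hw : E.IsWeaklyNormalIn F p)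
  (hker : (E.autGroup T).subgroupOf (F.autGroup T) ≤ χ.ker) (hΔ : (Nat.card Δ).Coprime p)

include hS hw hker hΔ

theorem exists_theta : ∃ θ : Subgroup Ω → (Ω → Ω) → Δ, IsTheta E χ 0 θ := by
  suffices key : ∀ n, n ≤ Nat.card S + 1 →
      ∃ θ : Subgroup Ω → (Ω → Ω) → Δ, IsTheta E χ (Nat.card S + 1 - n) θ by
    simpa using key (Nat.card S + 1) le_rfl
  intro n hn
  induction n with
  | zero =>
    have habs : ∀ P : Subgroup Ω, F.IsCentric P → Nat.card S + 1 - 0 ≤ Nat.card P → False :=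
      fun P hP hc => by have := Subgroup.card_le_of_le hP.1; omega
    exact ⟨fun _ _ => 1, fun P _ _ hP hc _ _ => (habs P hP hc).elim,
      fun P _ _ hP hc _ _ => (habs P hP hc).elim, fun P _ _ hP hc _ _ => (habs P hP hc).elim,
      fun P _ _ hP hc _ _ _ => (habs P hP hc).elim⟩
  | succ n ih =>
    obtain ⟨θ, hθ⟩ := ih (by omega)
    rw [show Nat.card S + 1 - n = Nat.card S + 1 - (n + 1) + 1 by omega] at hθ
    exact ⟨_, isTheta_down hS hw hker hΔ hθ⟩

end Main

end CfsgLib.Comp.Fus
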