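import Cfsg.Agent.Lib.Comp.LimitPrime
import Cfsg.Agent.Lib.Comp.BaseValue
import Cfsg.Agent.Lib.Comp.FusionThetaStep
import Cfsg.Agent.Lib.Fusion.StronglyClosedMod
import Cfsg.Agent.Lib.Fusion.PSolvableAut
import Cfsg.Agent.Lib.Fusion.SubsystemCentric

/-!
The normal subsystem over `T C_S(T)` reached through a `p`-solvable quotient of the automizer of a
normal subsystem over `T`.
-/

set_option autoImplicit false
set_option linter.unusedVariables false
set_option linter.unusedSectionVars false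
set_option linter.style.haveILetI false

namespace CfsgLib.Comp.SQ

open Cfsg Cfsg.FusionSystem Subgroup CfsgLib.Fusion CfsgLib.Comp.Fus

universe u

variable {Ω : Type u} [Group Ω] {S T : Subgroup Ω} {F : FusionSystem S} {E : FusionSystem T}
  {p : ℕ} [Fact p.Prime]

/-- A nontrivial `p`-solvable group has a proper normal subgroup of index `p` or prime to `p`. -/
theorem exists_normal_step {Q : Type*} [Group Q] [Finite Q] (h : Cfsg.IsPSolvable p Q)
    (hne : Nontrivial Q) :
    ∃ M : Subgroup Q, M.Normal ∧ M ≠ ⊤ ∧ (M.index = p ∨ M.index.Coprime p) := by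
  obtain ⟨n, H, h0, hlast, -, hnorm, hidx⟩ := h
  obtain ⟨i, hi, hi'⟩ : ∃ i : Fin n, H i.castSucc ≠ ⊤ ∧ H i.succ = ⊤ := by
    by_contra hno
    push Not at hno
    have hall : ∀ j, H j = ⊤ := fun j => by
      induction j using Fin.reverseInduction with
      | last => exact hlast
      | cast i ih => exact by_contra fun hc => hno i hc ih
    exact bot_ne_top (h0.symm.trans (hall 0))
  haveI := hnorm i.castSucc
  have h' := hidx i
  rw [hi', Subgroup.relIndex_top_right] at h'
  rcases h' with ⟨m, hm⟩ | hc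
  · set K := H i.castSucc
    have hm0 : m ≠ 0 := fun h0 => hi (Subgroup.index_eq_one.1 (by rw [hm, h0, pow_zero]))
    have hcard : Nat.card (Q ⧸ K) = p ^ m := by rw [← Subgroup.index_eq_card, hm]
    obtain ⟨M, hM⟩ := Sylow.exists_subgroup_card_pow_prime p (G := Q ⧸ K)
      (n := m - 1) (hcard ▸ pow_dvd_pow p (Nat.sub_le m 1))
    have hMi : M.index = p := by
      have h1 := Subgroup.card_mul_index M
      rw [hM, hcard, show m = (m - 1) + 1 by omega, pow_succ, Nat.add_sub_cancel] at h1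
      exact Nat.eq_of_mul_eq_mul_left (pow_pos (Fact.out : p.Prime).pos _) h1
    haveI : M.Normal := Subgroup.normal_of_index_eq_minFac_card (by
      rw [hMi, hcard, Nat.Prime.pow_minFac Fact.out hm0])
    refine ⟨M.comap (QuotientGroup.mk' K), inferInstance, fun htop => ?_, Or.inl ?_⟩
    · have h2 := Subgroup.index_comap_of_surjective M (QuotientGroup.mk'_surjective K)
      rw [htop, Subgroup.index_top, hMi] at h2
      exact (Fact.out : p.Prime).ne_one h2.symm
    · rw [Subgroup.index_comap_of_surjective M (QuotientGroup.mk'_surjective K), hMi]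
  · exact ⟨_, hnorm _, hi, Or.inr hc⟩

/-- The automizer of an invariant subsystem on its subgroup is normal. -/
theorem normal_autGroup [Finite S] (hinv : E.IsInvariantIn F) :
    ((E.autGroup T).subgroupOf (F.autGroup T)).Normal := by
  have hTS := hinv.2.1.1
  haveI := finite_of_le hTS
  refine ⟨fun m hm δ => ?_⟩
  obtain ⟨g, hg, hgx⟩ := IsInvariantIn.transport hinv δ.2
    (isMap_of_autGroup le_rfl (show (m : MulAut T) ∈ E.autGroup T from hm))
  rw [img_autFun] at hg
  show ((δ * m * δ⁻¹ : F.autGroup T) : MulAut T) ∈ E.autGroup T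
  refine (autGroup_iff_isMap le_rfl fun x => ?_).2 hg
  have h1 := hgx (((δ : MulAut T)⁻¹ x : T) : Ω) (Subtype.mem _)
  rw [autFun_apply _ (Subtype.mem _), toFun_aut_apply _ (Subtype.mem _),
    autFun_apply _ (Subtype.mem _)] at h1
  simp only [Subtype.coe_eta, MulAut.apply_inv_self] at h1
  rw [h1]
  rfl

theorem fullyNormalized_of_closed [Finite S] (hsc : F.StronglyClosed T) :
    F.IsFullyNormalized T := ⟨hsc.1, fun Q hQ => by
  obtain ⟨f, hf, hi⟩ := isConj_iff.1 hQ
  haveI := finite_of_le hsc.1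
  rw [StronglyClosed.img_eq hsc hf le_rfl] at hi
  subst hi
  rfl⟩

/-- An element of a `p`-power order lies in a normal subgroup containing a Sylow subgroup. -/
theorem mem_of_sylow_le_normal {A : Type*} [Group A] [Finite A] (W : Sylow p A) (M : Subgroup A)
    [M.Normal] (hW : (W : Subgroup A) ≤ M) {x : A} {k : ℕ} (hx : x ^ p ^ k = 1) : x ∈ M := by
  have hz : IsPGroup p ↥(Subgroup.zpowers x) := by
    obtain ⟨j, -, hj⟩ := (Nat.dvd_prime_pow (Fact.out : p.Prime)).1 (orderOf_dvd_of_pow_eq_one hx)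
    exact IsPGroup.of_card (n := j) (by rw [Nat.card_zpowers, hj])
  obtain ⟨W', hW'⟩ := hz.exists_le_sylow
  obtain ⟨c, hc⟩ := MulAction.exists_smul_eq A W W'
  have h1 : x ∈ (W' : Subgroup A) := hW' (Subgroup.mem_zpowers _)
  rw [← hc] at h1
  obtain ⟨w, hw, hwe⟩ := h1
  rw [← hwe]
  exact Subgroup.Normal.conj_mem inferInstance w (hW hw) c

/-- What one step, and the whole chain, gives. -/
structure Out (E : FusionSystem T) (C : Subgroup Ω) {S' U : Subgroup Ω} (F' : FusionSystem S')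
    (G : FusionSystem U) (p : ℕ) : Prop where
  sat : G.IsSaturated p
  sub : G.IsSubsystemOf F'
  base : E.IsSubsystemOf G
  le : T ⊔ C ≤ U
  frat : ∀ P f, P ≤ T ⊔ C → IsMap F' P f →
    ∃ a, IsMap F' (T ⊔ C) a ∧ ∃ g, IsMap G P g ∧ ∀ x ∈ P, f x = a (g x)
  spec : ∀ (P : Subgroup Ω) (α : MulAut P), P ≤ T ⊔ C → E.IsCentric (P ⊓ T) → α ∈ F'.autGroup P →
    (orderOf α).Coprime p → (∃ e, IsMap E (P ⊓ T) e ∧ ∀ x ∈ P ⊓ T, autFun α x = e x) →
    α ∈ G.autGroup P
  lim : ∀ {A B : Subgroup Ω} (X : FusionSystem A) (L : FusionSystem B),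
    X.IsResidualLimitOf F' p → L.IsResidualLimitOf G p → SameMaps X L

theorem Out.trans [Finite S] {C U V : Subgroup Ω} {G : FusionSystem U} {H : FusionSystem V}
    (hS : IsPGroup p S) (hsc : F.StronglyClosed (T ⊔ C)) (h : Out E C F G p) (h' : Out E C G H p) :
    Out E C F H p := by
  have hU : U ≤ S := le_of_isSubsystemOf h.sub
  haveI := finite_of_le hU
  refine ⟨h'.sat, fun P φ hφ => h.sub P (h'.sub P hφ), h'.base, h'.le, fun P f hP hf => ?_,
    fun P α hP hc hα hco he => h'.spec P α hP hc (h.spec P α hP hc hα hco he) hco he,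
    fun X L hX hL => ?_⟩
  · obtain ⟨a, ha, g, hg, hfx⟩ := h.frat P f hP hf
    obtain ⟨b, hb, k, hk, hgx⟩ := h'.frat P g hP hg
    have hb' := isSubsystemOf_iff.1 h.sub _ b hb
    refine ⟨fun x => a (b x), hb'.comp ha fun x hx => StronglyClosed.apply_mem hsc hb' hx hx,
      k, hk, fun x hx => ?_⟩
    show f x = a (b (k x))
    rw [← hgx x hx, hfx x hx]
  · obtain ⟨W, M, hM⟩ := exists_limit (hS.to_le hU) h.sat
    exact fun P => (h.lim X M hX hM P).trans (h'.lim M L hM hL P)

variable [Finite S]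

/-- The step of order prime to `p`. -/
theorem step_coprime (hS : IsPGroup p S) (hw : E.IsWeaklyNormalIn F p) {Δ : Type*} [Group Δ]
    [Finite Δ] [Nontrivial Δ] (hΔ : (Nat.card Δ).Coprime p) (χ : ↥(F.autGroup T) →* Δ)
    (hχ : Function.Surjective χ) (hker : (E.autGroup T).subgroupOf (F.autGroup T) ≤ χ.ker) :
    ∃ G : FusionSystem S, Out E (centralizerIn S T) F G p ∧
      ∃ a ∈ F.autGroup T, a ∉ G.autGroup T := by
  obtain ⟨hEsat, hF, hinv⟩ := id hw
  obtain ⟨hsub, hsc, -, -⟩ := isInvariantIn_iff.1 hinv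
  have hTS := hsc.1
  haveI := finite_of_le hTS
  have hTp := hS.to_le hTS
  obtain ⟨θ, hθ⟩ := exists_theta hS hw hker hΔ
  set G := indexSys hS hF (charAut hw.2.2.2.1 χ) (charAut_le _) with hG
  have hL : linkAut F p ≤ charAut hw.2.2.2.1 χ := linkAut_le_charAut hS hw hΔ hθ
  have hGn : G.IsNormalIn F p := isNormalIn_indexSys hS hw hL
  have hmem : ∀ {P : Subgroup Ω} {f : Ω → Ω}, IsMap F P f → E.IsCentric (P ⊓ T) →
      IsBase E χ P f 1 → IsMap G P f := fun hf hc hb => mem_indexSys_of_isBase hS hw hker hΔ hf hc hb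
  have hT1 : T ⊔ centralizerIn S T ≤ S := sup_le hTS inf_le_left
  have hsc1 : F.StronglyClosed (T ⊔ centralizerIn S T) := stronglyClosed_sup_centralizerIn hS hF hsc
  have hbase : E.IsSubsystemOf G := by
    have hle : E ≤ meetSys E G hTS := by
      refine alperin hTp hEsat fun R hR => ?_
      have hRc : E.IsCentric R := hR.elim (fun h => h ▸ centric_top hTp hEsat) fun h => h.1
      intro α hα
      refine (autGroup_mem_iff hRc.1).2 ⟨(autGroup_mem_iff hRc.1).1 hα, ?_⟩
      have hm := isMap_of_autGroup hRc.1 hα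
      have hint : R ⊓ T = R := inf_eq_left.2 hRc.1
      refine (hmem (Pre.isMap_of_sub' hsub hm) (by rwa [hint])
        ⟨1, _, (by rwa [hint]), fun x hx => ?_, map_one χ⟩).mem_hom
        fun x => (toFun_apply _ x).symm
      rw [Subgroup.coe_one, autFun_one (hm.mem hx.1)]
    exact fun P φ hφ => (hle P hφ).2
  refine ⟨G, ⟨isSaturated_indexSys hS hF _ _ hL, indexSys_le hS hF _ _, hbase, hT1,
    fun P f hP hf => ?_, fun P α hP hc hα hco he => ?_, fun X L hX hLl => ?_⟩, ?_⟩
  · obtain ⟨-, -, -, hfr⟩ := isInvariantIn_iff.1 hGn.1.2.2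
    obtain ⟨a, ha, g, hg, hfx⟩ := hfr P f (hP.trans hT1) hf
    exact ⟨a, ha.mono hT1, g, hg, hfx⟩
  · obtain ⟨e, he, hex⟩ := he
    refine (autGroup_mem_iff (hP.trans hT1)).2 ((hmem (isMap_autFun (hP.trans hT1) hα) hc
      ⟨1, e, he, fun x hx => ?_, map_one χ⟩).mem_hom fun x => (autFun_apply α x.2).symm)
    rw [hex x hx, Subgroup.coe_one, autFun_one (he.mem hx)]
  · exact limit_eq_of_primeIndex hS hF (isSaturated_indexSys hS hF _ _ hL)
      (hasPrimeToPIndex_indexSys hS hF _ _) hX hLl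
  · obtain ⟨d, hd⟩ := exists_ne (1 : Δ)
    obtain ⟨a, rfl⟩ := hχ d
    refine ⟨a, a.2, fun haG => hd ?_⟩
    obtain ⟨haF, β, hβ, g, hg, hgx⟩ :=
      (isMap_indexSys_iff hS hF _ _).1 (isMap_autFun hTS haG)
    have hcT : E.IsCentric (T ⊓ T) := (inf_idem T).symm ▸ centric_top hTp hEsat
    obtain ⟨φ, hφ, hφx⟩ := le_iff_isMap.1 (genSys_le_baseSys hS hw hker hΔ) T g hg
    have hgF := le_iff_isMap.1 genSys_le T g hg
    have hg1 : IsBase E χ T g 1 := IsBase.congr hS hw (hφ.2 T le_rfl hcT) fun x hx =>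
      (toFun_of_mem φ hx).trans (hφx ⟨x, hx⟩)
    have hβF := charAut_le _ hβ
    have hβb : IsBase E χ (img T g) (autFun β) 1 :=
      ⟨_, id, isMap_id E inf_le_right, fun x hx => by
        rw [id_eq, autFun_apply _ hx.2, coe_resT hw.2.2.2.1 ⟨β, hβF⟩ ⟨x, hx.2⟩],
        (mem_charAut _ hβF).1 hβ⟩
    have h1 := IsBase.comp hS hw hgF hg1 hβb
    rw [mul_one] at h1
    refine IsBase.unique hS hw hker hΔ hcT
      (⟨a, id, isMap_id E inf_le_right, fun x _ => rfl, rfl⟩ : IsBase E χ T (autFun (a : MulAut T)) _)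
      (IsBase.congr hS hw h1 fun x hx => (hgx x hx).symm)

/-- The step of index `p`. -/
theorem step_p (hS : IsPGroup p S) (hw : E.IsWeaklyNormalIn F p) {Δ : Type*} [Group Δ]
    [Finite Δ] (hΔ : Nat.card Δ = p) (χ : ↥(F.autGroup T) →* Δ)
    (hχ : Function.Surjective χ) (hker : (E.autGroup T).subgroupOf (F.autGroup T) ≤ χ.ker) :
    ∃ (U : Subgroup Ω) (G : FusionSystem U), Out E (centralizerIn S T) F G p ∧
      ∃ a ∈ F.autGroup T, a ∉ G.autGroup T := by
  obtain ⟨hEsat, hF, hinv⟩ := id hw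
  obtain ⟨hsub, hsc, -, -⟩ := isInvariantIn_iff.1 hinv
  have hTS := hsc.1
  haveI := finite_of_le hTS
  have hTp := hS.to_le hTS
  have hn : S ≤ normalizer (T : Set Ω) := StronglyClosed.le_normalizer hsc
  have hcomm : ∀ a b : Δ, a * b = b * a := fun a b => by
    haveI : IsCyclic Δ := isCyclic_of_prime_card hΔ
    letI : CommGroup Δ := IsCyclic.commGroup
    exact mul_comm a b
  let c : S →* ↥(F.autGroup T) :=
    { toFun := fun s => ⟨T.normalizerMonoidHom ⟨s, hn s.2⟩, autInducedBy_le_autGroup hTS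
        (mem_autInducedBy_iff.2 ⟨s, s.2, fun x => rfl⟩)⟩
      map_one' := Subtype.ext (map_one T.normalizerMonoidHom)
      map_mul' := fun a b => Subtype.ext (map_mul T.normalizerMonoidHom ⟨a, hn a.2⟩ ⟨b, hn b.2⟩) }
  have hcx : ∀ (s : S) (x : T), ((((c s : ↥(F.autGroup T)) : MulAut T) x : T) : Ω) =
      (s : Ω) * x * (s : Ω)⁻¹ := fun s x => rfl
  set M := (χ.comp c).ker.map S.subtype with hMdef
  have hMS : M ≤ S := Subgroup.map_subtype_le _
  haveI := finite_of_le hMS
  have hMmem : ∀ {x : Ω} (hx : x ∈ S), x ∈ M ↔ χ (c ⟨x, hx⟩) = 1 := fun {x} hx =>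
    ⟨fun ⟨s, hs, e⟩ => by obtain rfl : s = ⟨x, hx⟩ := Subtype.ext e; exact hs,
      fun h => ⟨⟨x, hx⟩, h, rfl⟩⟩
  have hMn : (M.subgroupOf S).Normal := ⟨fun n hn' a => by
    have h1 : χ (c n) = 1 := (hMmem n.2).1 hn'
    show (((a * n * a⁻¹ : S) : S) : Ω) ∈ M
    refine (hMmem (a * n * a⁻¹).2).2 ?_
    show χ (c (a * n * a⁻¹)) = 1
    rw [map_mul, map_mul, map_inv, map_mul, map_mul, map_inv, h1, mul_one, mul_inv_cancel]⟩
  have hC : centralizerIn S T ≤ M := fun z hz => (hMmem hz.1).2 (by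
    rw [show c ⟨z, hz.1⟩ = 1 from Subtype.ext (MulEquiv.ext fun x => Subtype.ext (by
      rw [hcx]; show z * (x : Ω) * z⁻¹ = x; rw [← hz.2 x x.2, mul_inv_cancel_right])), map_one])
  have hTM : T ≤ M := fun t ht => (hMmem (hTS ht)).2 (hker (by
    show ((c ⟨t, hTS ht⟩ : ↥(F.autGroup T)) : MulAut T) ∈ E.autGroup T
    exact autInducedBy_le_autGroup le_rfl (mem_autInducedBy_iff.2 ⟨t, ht, fun x => rfl⟩)))
  have hT1 : T ⊔ centralizerIn S T ≤ M := sup_le hTM hC
  have hsc1 : F.StronglyClosed (T ⊔ centralizerIn S T) := stronglyClosed_sup_centralizerIn hS hF hsc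
  have hhyp : F.hyperfocalSubgroup p ≤ M := hyperfocal_le_of _ fun P hP α hα hco x => by
    set f := toFun (P.subtype.comp α.toMonoidHom) with hfdef
    have hf : IsMap F P f := isMap_of_autGroup hP hα
    obtain ⟨g, hg, hgx⟩ := exists_map_mod hS hF hsc1 hf
    have hxU : (x : Ω) ∈ P ⊔ (T ⊔ centralizerIn S T) := mem_sup_left x.2
    have hTU : T ≤ P ⊔ (T ⊔ centralizerIn S T) := le_sup_left.trans le_sup_right
    have hgT : IsMap F T g := hg.mono hTU
    have hgi : img T g = T := StronglyClosed.img_eq hsc hgT le_rfl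
    set a : ↥(F.autGroup T) := ⟨hgT.toAut hgi, hgT.toAut_mem hgi⟩ with ha
    have hgxS : g x ∈ S := hg.mem hxU
    have hconj : c ⟨g x, hgxS⟩ * a = a * c ⟨x, hP x.2⟩ := by
      refine Subtype.ext (MulEquiv.ext fun y => Subtype.ext ?_)
      show g x * (((hgT.toAut hgi) y : T) : Ω) * (g x)⁻¹ =
        (((hgT.toAut hgi) ((c ⟨x, hP x.2⟩ : MulAut T) y) : T) : Ω)
      rw [IsMap.toAut_apply, IsMap.toAut_apply, hcx]
      exact (hg.map_conj hxU (hTU y.2)).symm
    have h1 : χ (c ⟨g x, hgxS⟩) = χ (c ⟨x, hP x.2⟩) := by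
      have h := congrArg χ hconj
      rw [map_mul, map_mul, hcomm (χ a)] at h
      exact mul_right_cancel h
    have hfx : f x = ((α x : P) : Ω) := toFun_aut_apply α x.2
    have hzS : (x : Ω)⁻¹ * g x ∈ S := S.mul_mem (S.inv_mem (hP x.2)) hgxS
    have h2 : (x : Ω)⁻¹ * g x ∈ M := (hMmem hzS).2 (by
      rw [show (⟨(x : Ω)⁻¹ * g x, hzS⟩ : S) = (⟨x, hP x.2⟩ : S)⁻¹ * ⟨g x, hgxS⟩ from rfl, map_mul,
        map_inv, map_mul, map_inv, h1, inv_mul_cancel])
    have h3 := M.mul_mem h2 (hT1 (hgx x x.2))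
    rw [hfx] at h3
    simpa [mul_assoc] using h3
  obtain ⟨G, hGs, hGi⟩ := exists_pPowerIndex (Nat.card S) S hS F hF M hMS hhyp (by omega)
  have hGn : G.IsNormalIn F p := isNormalIn_of_pPower hS hF hMS hMn hGs hGi
  have hbase : E.IsSubsystemOf G := by
    have hle : E ≤ meetSys E G hTM := le_of_coprime_aut hTp hEsat fun P hP α hα hco =>
      (autGroup_mem_iff hP).2 ⟨(autGroup_mem_iff hP).1 hα, (autGroup_mem_iff (hP.trans hTM)).1
        (coprime_mem_autGroup hGi (hP.trans hTM) ((autGroup_mem_iff (hP.trans hTS)).2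
          (hsub P ((autGroup_mem_iff hP).1 hα))) hco)⟩
    exact fun P φ hφ => (hle P hφ).2
  refine ⟨M, G, ⟨hGs, hGi.1, hbase, hT1, fun P f hP hf => ?_,
    fun P α hP hc hα hco he => coprime_mem_autGroup hGi (hP.trans hT1) hα hco,
    fun X L hX hL => limit_eq_of_pPowerIndex hS hF hGn hGi hX hL⟩, ?_⟩
  · obtain ⟨-, -, -, hfr⟩ := isInvariantIn_iff.1 hGn.1.2.2
    obtain ⟨a, ha, g, hg, hfx⟩ := hfr P f (hP.trans hT1) hf
    exact ⟨a, ha.mono hT1, g, hg, hfx⟩
  · haveI : Nontrivial Δ := Finite.one_lt_card_iff_nontrivial.1 (hΔ ▸ (Fact.out : p.Prime).one_lt)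
    obtain ⟨d, hd⟩ := exists_ne (1 : Δ)
    obtain ⟨a, rfl⟩ := hχ d
    refine ⟨a, a.2, fun haG => hd ?_⟩
    have hMp : IsPGroup p M := hS.to_le hMS
    have hscG : G.StronglyClosed T := stronglyClosed_of_sub hGi.1 hsc hTM
    obtain ⟨W, hW⟩ :=
      (fullyAutomized_of_fullyNormalized hMp hGs (fullyNormalized_of_closed hscG)).2
    have hGF : G.autGroup T ≤ F.autGroup T := fun β hβ =>
      (autGroup_mem_iff hTS).2 (hGi.1 T ((autGroup_mem_iff hTM).1 hβ))
    let L : Subgroup (G.autGroup T) := χ.ker.comap (Subgroup.inclusion hGF)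
    have hWL : (W : Subgroup (G.autGroup T)) ≤ L := by
      rw [hW]
      intro w hw
      obtain ⟨m, hm, hmx⟩ := mem_autInducedBy_iff.1 hw
      show χ (Subgroup.inclusion hGF w) = 1
      rw [show Subgroup.inclusion hGF w = c ⟨m, hMS hm⟩ from
        Subtype.ext (MulEquiv.ext fun x => Subtype.ext (hmx x))]
      exact (hMmem (hMS hm)).1 hm
    have htop : L = ⊤ := eq_top_of_sylow_le W hWL fun y hy => by
      show χ (Subgroup.inclusion hGF y) = 1
      refine orderOf_eq_one_iff.1 (Nat.eq_one_of_dvd_coprimes hy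
        ((orderOf_map_dvd (χ.comp (Subgroup.inclusion hGF)) y))
        (hΔ ▸ orderOf_dvd_natCard _))
    have h := htop.ge (Subgroup.mem_top (⟨a, haG⟩ : ↥(G.autGroup T)))
    exact h

/-- The chain. -/
theorem exists_chain (hS : IsPGroup p S) (hw : E.IsWeaklyNormalIn F p)
    (hsolv : ∀ [((E.autGroup T).subgroupOf (F.autGroup T)).Normal],
      Cfsg.IsPSolvable p (↥(F.autGroup T) ⧸ (E.autGroup T).subgroupOf (F.autGroup T))) :
    ∃ G : FusionSystem (T ⊔ centralizerIn S T), Out E (centralizerIn S T) F G p ∧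
      G.autGroup T = E.autGroup T := by
  suffices key : ∀ (n : ℕ) (S : Subgroup Ω) [Finite S] (F : FusionSystem S), IsPGroup p S →
      E.IsWeaklyNormalIn F p → Nat.card (F.autGroup T) = n →
      (∀ [((E.autGroup T).subgroupOf (F.autGroup T)).Normal],
        Cfsg.IsPSolvable p (↥(F.autGroup T) ⧸ (E.autGroup T).subgroupOf (F.autGroup T))) →
      ∃ G : FusionSystem (T ⊔ centralizerIn S T), Out E (centralizerIn S T) F G p ∧
        G.autGroup T = E.autGroup T from key _ S F hS hw rfl hsolv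
  clear hsolv hw hS
  intro n
  induction n using Nat.strong_induction_on with
  | _ n ih =>
    intro S hfin F hS hw hn hsolv
    obtain ⟨hEsat, hF, hinv⟩ := id hw
    obtain ⟨hsub, hsc, -, -⟩ := isInvariantIn_iff.1 hinv
    have hTS := hsc.1
    haveI := finite_of_le hTS
    have hTp := hS.to_le hTS
    haveI hN := normal_autGroup hinv
    have hEF : E.autGroup T ≤ F.autGroup T := fun β hβ =>
      (autGroup_mem_iff hTS).2 (hsub T ((autGroup_mem_iff le_rfl).1 hβ))
    by_cases hle : F.autGroup T ≤ E.autGroup T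
    · -- nothing left
      have heq : S = T ⊔ centralizerIn S T := by
        refine le_antisymm (fun s hs => ?_) (sup_le hTS inf_le_left)
        have hn' : s ∈ normalizer (T : Set Ω) := StronglyClosed.le_normalizer hsc hs
        have hσ : T.normalizerMonoidHom ⟨s, hn'⟩ ∈ E.autGroup T :=
          hle (autInducedBy_le_autGroup hTS (mem_autInducedBy_iff.2 ⟨s, hs, fun x => rfl⟩))
        obtain ⟨W, hW⟩ :=
          (fullyAutomized_of_fullyNormalized hTp hEsat (fullyNormalized_top E)).2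
        let M : Subgroup (E.autGroup T) := (autInducedBy T T).subgroupOf (E.autGroup T)
        haveI : M.Normal := ⟨fun m hm δ => by
          obtain ⟨t, ht, htx⟩ := mem_autInducedBy_iff.1 hm
          refine mem_autInducedBy_iff.2 ⟨(((δ : MulAut T) ⟨t, ht⟩ : T) : Ω), Subtype.mem _,
            fun x => ?_⟩
          show ((((δ : MulAut T) * m * (δ : MulAut T)⁻¹) x : T) : Ω) = _
          rw [MulAut.mul_apply, MulAut.mul_apply]
          have e : (m : MulAut T) ((δ : MulAut T)⁻¹ x) =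
              ⟨t, ht⟩ * (δ : MulAut T)⁻¹ x * ⟨t, ht⟩⁻¹ := Subtype.ext (htx _)
          rw [e, map_mul, map_mul, map_inv, MulAut.apply_inv_self]
          rfl⟩
        obtain ⟨k, hk⟩ := hS.exists_card_eq
        have hpow : (⟨_, hσ⟩ : E.autGroup T) ^ p ^ k = 1 := by
          refine Subtype.ext ?_
          show T.normalizerMonoidHom ⟨s, hn'⟩ ^ p ^ k = 1
          rw [← map_pow, show (⟨s, hn'⟩ : normalizer (T : Set Ω)) ^ p ^ k = 1 from Subtype.ext (by
              show s ^ p ^ k = 1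
              rw [← hk]
              exact congrArg Subtype.val (pow_card_eq_one' (x := (⟨s, hs⟩ : S)))),
            map_one]
        obtain ⟨t, ht, htx⟩ := mem_autInducedBy_iff.1
          (mem_of_sylow_le_normal W M (by rw [hW]) hpow)
        have hz : t⁻¹ * s ∈ centralizerIn S T := by
          refine ⟨S.mul_mem (S.inv_mem (hTS ht)) hs, fun x hx => ?_⟩
          have h1 : s * x * s⁻¹ = t * x * t⁻¹ := htx ⟨x, hx⟩
          calc x * (t⁻¹ * s) = t⁻¹ * (t * x * t⁻¹) * s := by group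
            _ = t⁻¹ * (s * x * s⁻¹) * s := by rw [h1]
            _ = t⁻¹ * s * x := by group
        rw [show s = t * (t⁻¹ * s) by group]
        exact mul_mem (mem_sup_left ht) (mem_sup_right hz)
      have hgoal : ∀ {A : Subgroup Ω}, A = T ⊔ centralizerIn S T → ∀ G : FusionSystem A,
          Out E (centralizerIn S T) F G p → G.autGroup T = E.autGroup T →
          ∃ G' : FusionSystem (T ⊔ centralizerIn S T), Out E (centralizerIn S T) F G' p ∧
            G'.autGroup T = E.autGroup T := by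
        rintro _ rfl G h h'
        exact ⟨G, h, h'⟩
      exact hgoal heq F ⟨hF, fun P => subset_rfl, hsub, heq.ge,
        fun P f hP hf => ⟨id, isMap_id F heq.ge, f, hf, fun x _ => rfl⟩,
        fun P α _ _ hα _ _ => hα, fun X L hX hL => limit_unique hS hX hL⟩ (le_antisymm hle hEF)
    -- a step
    set N := (E.autGroup T).subgroupOf (F.autGroup T) with hNdef
    have hne : Nontrivial (↥(F.autGroup T) ⧸ N) := by
      obtain ⟨a, ha, haE⟩ := SetLike.not_le_iff_exists.1 hle
      exact ⟨⟨QuotientGroup.mk' N ⟨a, ha⟩, 1, fun h => haE ((QuotientGroup.eq_one_iff (⟨a, ha⟩ : ↥(F.autGroup T))).1 h)⟩⟩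
    obtain ⟨M, hM, hMtop, hMi⟩ := exists_normal_step hsolv hne
    haveI := hM
    let χ : ↥(F.autGroup T) →* (↥(F.autGroup T) ⧸ N) ⧸ M :=
      (QuotientGroup.mk' M).comp (QuotientGroup.mk' N)
    have hχ : Function.Surjective χ :=
      (QuotientGroup.mk'_surjective M).comp (QuotientGroup.mk'_surjective N)
    have hker : N ≤ χ.ker := fun x hx => by
      show QuotientGroup.mk' M (QuotientGroup.mk' N x) = 1
      rw [show QuotientGroup.mk' N x = 1 from (QuotientGroup.eq_one_iff x).2 hx, map_one]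
    have hcard : Nat.card ((↥(F.autGroup T) ⧸ N) ⧸ M) = M.index := M.index_eq_card.symm
    have hsc1 := stronglyClosed_sup_centralizerIn hS hF hsc
    obtain ⟨U, G, hG, a, ha, haG⟩ : ∃ (U : Subgroup Ω) (G : FusionSystem U),
        Out E (centralizerIn S T) F G p ∧ ∃ a ∈ F.autGroup T, a ∉ G.autGroup T := by
      rcases hMi with hMi | hMi
      · exact step_p hS hw (hcard.trans hMi) χ hχ hker
      · haveI : Nontrivial ((↥(F.autGroup T) ⧸ N) ⧸ M) := by
          refine Finite.one_lt_card_iff_nontrivial.1 ?_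
          rw [hcard]
          exact lt_of_le_of_ne (Nat.one_le_iff_ne_zero.2 M.index_ne_zero_of_finite)
            (fun h => hMtop (Subgroup.index_eq_one.1 h.symm))
        exact ⟨S, step_coprime hS hw (hcard ▸ hMi) χ hχ hker⟩
    have hUS : U ≤ S := le_of_isSubsystemOf hG.sub
    haveI := finite_of_le hUS
    have hUp : IsPGroup p U := hS.to_le hUS
    have hTU : T ≤ U := le_sup_left.trans hG.le
    have hwG : E.IsWeaklyNormalIn G p := isWeaklyNormalIn_between hS hw hG.sat hG.sub hG.base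
    have hGF : G.autGroup T ≤ F.autGroup T := fun β hβ =>
      (autGroup_mem_iff hTS).2 (hG.sub T ((autGroup_mem_iff hTU).1 hβ))
    haveI hN' := normal_autGroup hwG.2.2
    have hlt : Nat.card (G.autGroup T) < n := by
      rw [← hn]
      exact lt_of_not_ge fun h => haG ((eq_of_le_of_card_le hGF h).symm ▸ ha)
    have hCU : centralizerIn U T = centralizerIn S T :=
      le_antisymm (inf_le_inf_right _ hUS) fun z hz => ⟨hG.le (mem_sup_right hz), hz.2⟩
    have hsolv' : ∀ [((E.autGroup T).subgroupOf (G.autGroup T)).Normal],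
        Cfsg.IsPSolvable p (↥(G.autGroup T) ⧸ (E.autGroup T).subgroupOf (G.autGroup T)) := by
      intro _
      refine isPSolvable_of_hom (QuotientGroup.map _ N (Subgroup.inclusion hGF)
        (fun x hx => hx)) hsolv fun y hy _ => ?_
      obtain ⟨x, rfl⟩ := QuotientGroup.mk'_surjective _ y
      exact (QuotientGroup.eq_one_iff x).2
        (show Subgroup.inclusion hGF x ∈ N from (QuotientGroup.eq_one_iff _).1 hy)
    obtain ⟨H, hH, hHT⟩ := ih _ hlt U G hUp hwG rfl hsolv'
    have hgoal : ∀ {C : Subgroup Ω}, C = centralizerIn S T → ∀ H : FusionSystem (T ⊔ C),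
        Out E C G H p → H.autGroup T = E.autGroup T →
        ∃ H : FusionSystem (T ⊔ centralizerIn S T), Out E (centralizerIn S T) F H p ∧
          H.autGroup T = E.autGroup T := by
      rintro _ rfl H h h'
      exact ⟨H, hG.trans hS hsc1 h, h'⟩
    exact hgoal hCU H hH hHT

end CfsgLib.Comp.SQ
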