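import Cfsg.Agent.Lib.Comp.BetweenNormal
import Cfsg.Agent.Lib.Comp.SolvableQuotient
import Cfsg.Agent.Lib.Comp.CentralizerClosed
import Cfsg.Agent.Lib.Fusion.PPowerNormal
import Cfsg.Agent.Lib.Fusion.NormalizerSaturated
import Cfsg.Agent.S5293
import Cfsg.Agent.S5141

/-!
A normal subsystem over the largest subgroup centralized by a normal subsystem, inside the
centralizer system of its subgroup.
-/

set_option autoImplicit false
set_option linter.unusedVariables false
set_option linter.unusedSectionVars false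
set_option linter.style.haveILetI false

namespace CfsgLib.Comp.NCent

open Cfsg Cfsg.FusionSystem Subgroup CfsgLib.Fusion CfsgLib.Comp.Fus CfsgLib.Comp.CExt

variable {Ω : Type*} [Group Ω] {S T Y : Subgroup Ω} {F : FusionSystem S} {E : FusionSystem T}
  {p : ℕ} [Fact p.Prime] [Finite S]

/-- A map between subgroups of a strongly closed subgroup commuting with `T` extends to `T`. -/
theorem exists_ext_map (hS : IsPGroup p S) (hF : F.IsSaturated p) (hsc : F.StronglyClosed T)
    (hY : F.StronglyClosed Y) (hYT : Y ≤ centralizerIn S T) {P : Subgroup Ω} {f : Ω → Ω}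
    (hP : P ≤ Y) (hf : IsMap F P f) :
    ∃ g, IsMap F (P ⊔ T) g ∧ ∀ x ∈ P, g x = f x := by
  have hfP : img P f ≤ Y := fun y hy => by
    obtain ⟨x, hx, rfl⟩ := hf.mem_img.1 hy
    exact StronglyClosed.apply_mem hY hf hx (hP hx)
  have hTC : ∀ {R : Subgroup Ω}, R ≤ Y → T ≤ centralizerIn S R := fun hR t ht =>
    ⟨hsc.1 ht, fun r hr => ((hYT (hR hr)).2 t ht).symm⟩
  obtain ⟨R, hR, hRn⟩ := exists_fullyNormalized_conj F hf.img_le
  obtain ⟨g₂, hg₂, hg₂i, -⟩ := exists_map_normalizerIn_of_fullyNormalized hS hF hRn hR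
  have hPf : img P f ≤ normalizerIn S (img P f) := le_normalizerIn hf.img_le
  have hcomp : IsMap F P (fun x => g₂ (f x)) :=
    hf.comp (hg₂.mono hPf) fun x hx => hf.apply_mem_img hx
  have hi : img P (fun x => g₂ (f x)) = R := by
    rw [img_comp_eq hf (hg₂.mono hPf) fun x hx => hf.apply_mem_img hx, hg₂i]
  obtain ⟨G, hG, hGx⟩ :=
    receptive_extend_centralizer (receptive_of_fullyNormalized hS hF hRn) hcomp hi
  have hPT : P ⊔ T ≤ P ⊔ centralizerIn S P := sup_le_sup_left (hTC hP) P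
  have hTN : T ≤ normalizerIn S (img P f) := (hTC hfP).trans centralizerIn_le_normalizerIn
  have hdom : img P f ⊔ T ≤ normalizerIn S (img P f) := sup_le hPf hTN
  obtain ⟨j, hj, hjx, hjy, -⟩ := (hg₂.mono hdom).exists_inv
  have hmem : ∀ x ∈ P ⊔ T, G x ∈ img (img P f ⊔ T) g₂ := fun x hx => by
    refine (hG.mono hPT).img_sup_le le_sup_left le_sup_right ?_ ?_ ((hG.mono hPT).apply_mem_img hx)
    · intro z hz
      obtain ⟨w, hw, rfl⟩ := (hG.mono le_sup_left).mem_img.1 hz
      rw [hGx w hw]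
      exact (hg₂.mono hdom).apply_mem_img (mem_sup_left (hf.apply_mem_img hw))
    · exact (StronglyClosed.img_eq hsc (hG.mono hPT) (le_sup_right (a := P) (b := T))).le.trans
        ((StronglyClosed.img_eq hsc (hg₂.mono hdom)
          (le_sup_right (a := img P f) (b := T))).ge.trans (img_mono le_sup_right))
  refine ⟨fun x => j (G x), (hG.mono hPT).comp hj hmem, fun x hx => ?_⟩
  show j (G x) = f x
  rw [hGx x hx, hjx _ (mem_sup_left (hf.apply_mem_img hx))]

/-- The normal subsystem over the subgroup centralized by a normal subsystem. -/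
theorem exists_normal_centralizer (hS : IsPGroup p S) (hF : F.IsSaturated p)
    (hE : E.IsNormalIn F p) (hY : Y ≤ centralizerIn S T)
    (hEY : ∀ P : Subgroup Ω, E.Hom P ⊆ F.centralizerHom Y P)
    (hmax : ∀ Y' : Subgroup Ω, Y' ≤ centralizerIn S T →
      (∀ P : Subgroup Ω, E.Hom P ⊆ F.centralizerHom Y' P) → Y' ≤ Y) :
    ∃ D : FusionSystem Y, D.IsNormalIn F p ∧ ∀ P : Subgroup Ω, D.Hom P ⊆ F.centralizerHom T P := by
  have hsc : F.StronglyClosed T := hE.1.2.2.2.1
  have hTS := hsc.1
  obtain ⟨Y', hY'le, hY'hom, hY'max, hY'sc⟩ := exists_centralizer hS hF hE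
  obtain rfl : Y' = Y := le_antisymm (hmax Y' hY'le hY'hom) (hY'max Y hY hEY)
  have hYS : Y' ≤ S := hY.trans inf_le_left
  haveI := finite_of_le hYS
  haveI := finite_of_le hTS
  have hCS : centralizerIn S T ≤ S := inf_le_left
  haveI := finite_of_le hCS
  have hTfn := CfsgLib.Comp.SQ.fullyNormalized_of_closed hsc
  have hCsys := isCentralizerSystem_centralizerSys F T hTS
  set C := centralizerSys F T hTS with hCdef
  have hCs : C.IsSaturated p :=
    isSaturated_centralizerSystem hS hF (fullyCentralized_of_fullyNormalized hS hF hTfn) hCsys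
  have hCp : IsPGroup p ↥(centralizerIn S T) := hS.to_le hCS
  have hfoc : C.focalSubgroup ≤ Y' := Cfsg.Agent.S5293.result p hS F hF E hE Y'
    (le_antisymm (le_sSup ⟨hY, hEY⟩) (sSup_le fun X hX => hmax X hX.1 hX.2)) C hCsys
  have hhyp : C.hyperfocalSubgroup p ≤ Y' := (hyperfocal_le_focal C p).trans hfoc
  obtain ⟨D, hDs, hDi⟩ :=
    exists_pPowerIndex (Nat.card (centralizerIn S T)) _ hCp C hCs Y' hY hhyp (by omega)
  have hYn : (Y'.subgroupOf (centralizerIn S T)).Normal := ⟨fun n hn a => by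
    exact ((StronglyClosed.le_normalizer hY'sc) a.2.1 _).1 hn⟩
  have hDn : D.IsNormalIn C p := isNormalIn_of_pPower hCp hCs hY hYn hDs hDi
  obtain ⟨-, -, hDconj, hDfr⟩ := isInvariantIn_iff.1 hDn.1.2.2
  have hCF : ∀ {P : Subgroup Ω} {f : Ω → Ω}, IsMap C P f → IsMap F P f := by
    intro P f hf
    obtain ⟨-, -, g, hg, hgx, -⟩ := (isMap_centralizerSystem_iff hCsys).1 hf
    exact (hg.mono le_sup_left).congr hgx
  have hDF : D.IsSubsystemOf F :=
    isSubsystemOf_iff.2 fun P f hf => hCF (Pre.isMap_of_sub' hDi.1 hf)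
  set W := T ⊔ centralizerIn S T with hW
  have hWS : W ≤ S := sup_le hTS hCS
  have hscW : F.StronglyClosed W := stronglyClosed_sup_centralizerIn hS hF hsc
  have hYW : Y' ≤ W := hY.trans le_sup_right
  have hTY : ∀ {P : Subgroup Ω}, P ≤ Y' → P ⊔ T ≤ W := fun hP =>
    sup_le (hP.trans hYW) le_sup_left
  -- splitting off an automorphism of `T C_S(T)`
  have split : ∀ (P : Subgroup Ω) (f : Ω → Ω), P ≤ Y' → IsMap F P f →
      ∃ b, IsMap F W b ∧ ∃ h, IsMap C P h ∧ (∀ x ∈ P, h x ∈ Y') ∧ ∀ x ∈ P, f x = b (h x) := by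
    intro P f hP hf
    obtain ⟨g, hg, hgx⟩ := exists_ext_map hS hF hsc hY'sc hY hP hf
    have hgT : IsMap F T g := hg.mono le_sup_right
    obtain ⟨b, hb, hbx⟩ := receptive_extend_centralizer
      (receptive_of_fullyNormalized hS hF hTfn) hgT (StronglyClosed.img_eq hsc hgT le_rfl)
    obtain ⟨j, hj, hjx, hjy, -⟩ := hb.exists_inv
    rw [StronglyClosed.img_eq hscW hb le_rfl] at hj hjy
    have hgW : ∀ z ∈ P ⊔ T, g z ∈ W := fun z hz =>
      StronglyClosed.apply_mem hscW hg hz (hTY hP hz)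
    have hh : IsMap F (P ⊔ T) (fun z => j (g z)) := hg.comp hj hgW
    have hhT : ∀ t ∈ T, j (g t) = t := fun t ht => by
      rw [← hbx t ht, hjx t (mem_sup_left ht)]
    have hhY : ∀ x ∈ P, j (g x) ∈ Y' := fun x hx =>
      StronglyClosed.apply_mem hY'sc hh (mem_sup_left hx) (hP hx)
    refine ⟨b, hb, fun z => j (g z), (isMap_centralizerSystem_iff hCsys).2
      ⟨hP.trans hY, fun x hx => hY (hhY x hx), _, hh, fun _ _ => rfl, hhT⟩, hhY, fun x hx => ?_⟩
    show f x = b (j (g x))
    rw [(hjy _ (hgW x (mem_sup_left hx))).2, hgx x hx]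
  -- invariance under the automorphisms of `T C_S(T)`
  have htw : ∀ b, IsMap F W b → ∀ P f, IsMap D P f →
      ∃ g, IsMap D (img P b) g ∧ ∀ x ∈ P, g (b x) = b (f x) := by
    intro b hb
    have hbY : IsMap F Y' b := hb.mono hYW
    have hiY : img Y' b = Y' := StronglyClosed.img_eq hY'sc hbY le_rfl
    set α := hbY.toAut hiY with hαdef
    have hαb : ∀ x ∈ Y', autFun α x = b x := fun x hx => by
      rw [autFun_apply α hx, hαdef, IsMap.toAut_apply]
    have hα : α ∈ F.autGroup Y' := hbY.toAut_mem hiY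
    have hαm := isMap_autFun hYS hα
    have hm : IsMap (subgroupSys F hYS) Y' (autFun α) :=
      ⟨hαm.toHom, ⟨hαm.toHom_mem, le_rfl, fun x => autFun_mem α x.2⟩, fun _ => rfl⟩
    have hle : D ≤ twistSys D hm := by
      refine le_of_coprime_aut (hS.to_le hYS) hDs fun P hP β hβ hc => ?_
      have hPa : IsMap F P (autFun α) := hαm.mono hP
      set β' := MulAut.congr hPa.equivImg β with hβ'
      have hQY : img P (autFun α) ≤ Y' := fun y hy => by
        obtain ⟨x, hx, rfl⟩ := hPa.mem_img.1 hy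
        exact autFun_mem α (hP hx)
      have hval : ∀ x : P, ((β' ⟨autFun α x, hPa.apply_mem_img x.2⟩ : img P (autFun α)) : Ω) =
          autFun α ((β x : P) : Ω) := fun x => by
        have e : (⟨autFun α x, hPa.apply_mem_img x.2⟩ : img P (autFun α)) = hPa.equivImg x :=
          Subtype.ext (IsMap.coe_equivImg hPa x).symm
        rw [e, hβ']
        show ((hPa.equivImg (β (hPa.equivImg.symm (hPa.equivImg x))) : img P (autFun α)) : Ω) = _
        rw [MulEquiv.symm_apply_apply, IsMap.coe_equivImg]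
      obtain ⟨-, -, g, hg, hgx, hgT⟩ := (isMap_centralizerSystem_iff hCsys).1
        (Pre.isMap_of_sub' hDi.1 (isMap_autFun hP hβ))
      obtain ⟨j, hj, hjx, hjy, -⟩ := hb.exists_inv
      rw [StronglyClosed.img_eq hscW hb le_rfl] at hj hjy
      have hdom : img P (autFun α) ⊔ T ≤ img (P ⊔ T) b := by
        refine sup_le ?_ ((StronglyClosed.img_eq hsc (hb.mono (hTY hP)) le_sup_right).ge.trans
          (img_mono le_sup_right))
        rw [img_congr fun x hx => hαb x (hP hx)]
        exact img_mono le_sup_left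
      have hjmem : ∀ z ∈ img P (autFun α) ⊔ T, j z ∈ P ⊔ T := fun z hz => by
        obtain ⟨w, hw, rfl⟩ := (hb.mono (hTY hP)).mem_img.1 (hdom hz)
        rwa [hjx w (hTY hP hw)]
      have hgW : ∀ z ∈ P ⊔ T, g z ∈ W := fun z hz =>
        StronglyClosed.apply_mem hscW hg hz (hTY hP hz)
      have hmap : IsMap F (img P (autFun α) ⊔ T) (fun z => b (g (j z))) :=
        ((hj.mono (sup_le (hQY.trans hYW) le_sup_left)).comp hg hjmem).comp hb
          fun z hz => hgW _ (hjmem z hz)
      have hβ'C : β' ∈ C.autGroup (img P (autFun α)) := by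
        refine (autGroup_iff_isMap (hQY.trans hY) fun y => ?_).2
          ((isMap_centralizerSystem_iff hCsys).2 ⟨hQY.trans hY, fun z hz => ?_, _, hmap,
            fun _ _ => rfl, fun t ht => ?_⟩)
        · obtain ⟨x, hx, hxy⟩ := hPa.mem_img.1 y.2
          rw [show y = ⟨autFun α x, hPa.apply_mem_img hx⟩ from Subtype.ext hxy.symm, hval ⟨x, hx⟩]
          show _ = b (g (j (autFun α x)))
          rw [hαb x (hP hx), hjx x (hYW (hP hx)), hgx x hx, autFun_apply β hx,
            hαb _ (hP (β _).2)]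
        · exact hY (StronglyClosed.apply_mem hY'sc hmap (mem_sup_left hz) (hQY hz))
        · show b (g (j t)) = t
          have h1 : j t ∈ T := by
            obtain ⟨w, hw, hwt⟩ := (hb.mono (le_sup_left : T ≤ W)).mem_img.1
              ((StronglyClosed.img_eq hsc hb le_sup_left).ge ht)
            rw [← hwt, hjx w (mem_sup_left hw)]
            exact hw
          rw [hgT _ h1, (hjy t (mem_sup_left ht)).2]
      have hβ'D : β' ∈ D.autGroup (img P (autFun α)) :=
        coprime_mem_autGroup hDi hQY hβ'C (by rw [hβ', MulEquiv.orderOf_eq]; exact hc)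
      refine (autGroup_mem_iff hP).2 ⟨hP, fun x => hP (β x).2, _,
        isMap_autFun hQY hβ'D, fun x => ?_⟩
      rw [autFun_apply β' (hPa.apply_mem_img x.2), hval]
      rfl
    intro P f hf
    obtain ⟨-, -, g, hg, hgx⟩ := hle P hf.toHom_mem
    have hi : img P (autFun α) = img P b := img_congr fun x hx => hαb x (hf.le hx)
    refine ⟨g, hi ▸ hg, fun x hx => ?_⟩
    rw [← hαb x (hf.le hx), ← hαb _ (hf.mem hx)]
    exact (hgx ⟨x, hx⟩).symm
  have hw : D.IsWeaklyNormalIn F p := by
    refine ⟨hDs, hF, isInvariantIn_iff.2 ⟨hDF, hY'sc, fun a ha P f hf => ?_, fun P f hP hf => ?_⟩⟩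
    · obtain ⟨b, hb, h, hh, hhY, hah⟩ := split Y' a le_rfl ha
      obtain ⟨k, hk, hkx⟩ := hDconj h hh P f hf
      obtain ⟨g, hg, hgx⟩ := htw b hb _ _ hk
      have hle : img P a ≤ img (img P h) b := fun y hy => by
        obtain ⟨x, hx, rfl⟩ := (ha.mono hf.le).mem_img.1 hy
        rw [hah x (hf.le hx)]
        exact (hb.mono ((hk.le).trans hYW)).apply_mem_img ((hh.mono hf.le).apply_mem_img hx)
      refine ⟨g, hg.mono hle, fun x hx => ?_⟩
      rw [hah x (hf.le hx), hgx _ ((hh.mono hf.le).apply_mem_img hx), hkx x hx,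
        hah _ (hf.mem hx)]
    · obtain ⟨b, hb, h, hh, hhY, hfh⟩ := split P f hP hf
      obtain ⟨a, ha, d, hd, hhx⟩ := hDfr P h hP hh
      refine ⟨fun y => b (a y), (hCF ha).comp hb fun y hy =>
        hYW (StronglyClosed.apply_mem hY'sc (hCF ha) hy hy), d, hd, fun x hx => ?_⟩
      rw [hfh x hx, hhx x hx]
  obtain ⟨D', hD'⟩ := exists_pPrimeResidual (hS.to_le hYS) hDs
  exact ⟨D', Cfsg.Agent.S5141.result p hS F hF D hw D' hD',
    fun P φ hφ => hDi.1 P (hD'.2.1.1 P hφ)⟩

end CfsgLib.Comp.NCent
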