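import Cfsg.Agent.Lib.Comp.CommutingNormal
import Cfsg.Agent.Lib.Comp.ComponentCore
import Cfsg.Agent.Lib.Comp.ConstrainedComponent
import Cfsg.Agent.Lib.Comp.NormalCentralizer
import Cfsg.Prelude.Def_FusionFitting

/-!
The generalized Fitting subsystem is normal and contains its centralizer.
-/

set_option autoImplicit false
set_option linter.unusedVariables false
set_option linter.unusedSectionVars false
set_option linter.style.haveILetI false

namespace CfsgLib.Comp.GFit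

open Cfsg Cfsg.FusionSystem Subgroup CfsgLib.Fusion CfsgLib.Comp.Fus CfsgLib.Comp.CProd

variable {Ω : Type*} [Group Ω] {S T T₁ T₂ U : Subgroup Ω} {F : FusionSystem S} {E : FusionSystem T}
  {E₁ : FusionSystem T₁} {E₂ : FusionSystem T₂} {p : ℕ} [Fact p.Prime] [Finite S]

theorem hom_ext' {D D' : FusionSystem U} (h : ∀ P, D.Hom P = D'.Hom P) : D = D' := by
  cases D; cases D'; simp only [FusionSystem.mk.injEq]; exact funext h

theorem isMap_inner_iff {Q P : Subgroup Ω} {f : Ω → Ω} :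
    IsMap (innerFusionSystem Q) P f ↔ P ≤ Q ∧ ∃ q ∈ Q, ∀ x ∈ P, f x = q * x * q⁻¹ := by
  constructor
  · rintro ⟨φ, ⟨hP, q, hq, hφ⟩, hφf⟩
    exact ⟨hP, q, hq, fun x hx => (hφf ⟨x, hx⟩).symm.trans (hφ ⟨x, hx⟩)⟩
  · rintro ⟨hP, q, hq, hf⟩
    exact ⟨conjHom P q, ⟨hP, q, hq, fun x => rfl⟩, fun x => (hf x x.2).symm⟩

/-- A central product with given positions is the system of pairs of maps. -/
theorem eq_prodSys (hD : Setup F E₁ E₂ p) {D : FusionSystem U}
    (h : IsCentralProductOf E₁ E₂ D) :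
    ∃ e : T₁ ⊔ T₂ = U, castSys e (prodSys hD) = D := by
  obtain ⟨D₀, hD₀, Z, θ, -, -, -, hθ₁, hθ₂, hfac⟩ := h
  have hθ : θ = mulHom hD.comm := by
    refine MonoidHom.ext fun ⟨⟨a, b⟩, ha, hb⟩ => ?_
    have h₁ : ((a, 1) : Ω × Ω) ∈ T₁.prod T₂ := ⟨ha, T₂.one_mem⟩
    have h₂ : ((1, b) : Ω × Ω) ∈ T₁.prod T₂ := ⟨T₁.one_mem, hb⟩
    have e : (⟨(a, b), ha, hb⟩ : ↥(T₁.prod T₂)) = ⟨(a, 1), h₁⟩ * ⟨(1, b), h₂⟩ :=
      Subtype.ext (by simp)
    rw [e, map_mul, hθ₁ a h₁, hθ₂ b h₂]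
    simp [mulHom]
  subst hθ
  obtain ⟨hZle, hker, hran, hhom⟩ := hfac
  have e : T₁ ⊔ T₂ = U := (range_mulHom hD.comm).symm.trans hran
  refine ⟨e, ?_⟩
  subst e
  have h0 : ∀ P, D₀.Hom P = (productSys E₁ E₂).Hom P := fun P =>
    Set.ext fun φ => (hD₀ P φ).trans (isProductSystem_productSys P φ).symm
  obtain ⟨-, -, -, hhom'⟩ := hD.isFactorSystem
  refine hom_ext' fun P => Set.ext fun φ => ?_
  rw [castSys_hom, hhom, hhom', h0]

/-- The product of the core and the layer. -/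
theorem setup_core_layer (hS : IsPGroup p S) (hF : F.IsSaturated p) (hE : E.IsLayerOf F p) :
    Setup F (innerFusionSystem F.core) E p := by
  have hQ : F.IsNormal F.core := core_isNormal
  have hsub := CoreCent.layer_le_centralizerSys hS hF hE
  have hTC : T ≤ centralizerIn S F.core := fun t ht => by
    have h := isSubsystemOf_iff.1 hsub T _ (isMap_id E le_rfl)
    exact h.le ht
  refine ⟨hS, hF, CoreCent.isNormalIn_innerFusionSystem hS hF hQ, hE.1,
    fun a ha b hb => (hTC hb).2 a ha, fun P f hf => ?_, fun P f hf => ?_⟩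
  · obtain ⟨hP, q, hq, hfq⟩ := isMap_inner_iff.1 hf
    refine ⟨fun x => q * x * q⁻¹, isMap_inner_iff.2 ⟨sup_le hP inf_le_left, q, hq, fun _ _ => rfl⟩,
      fun x hx => (hfq x hx).symm, fun z hz => ?_⟩
    show q * z * q⁻¹ = z
    rw [(hTC hz.2).2 q hq, mul_inv_cancel_right]
  · have hTS : T ≤ S := hE.1.1.2.2.2.1.1
    haveI := finite_of_le hTS
    have hZ : E.IsNormal (F.core ⊓ T) := CoreAct.isNormal_inf hS hF hE.1 hQ
    obtain ⟨g, hg, hgx, -⟩ := (isNormal_iff.1 hZ).2 P f hf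
    refine ⟨g, hg, hgx, fun z hz => ?_⟩
    obtain ⟨φ, hφ, hφx⟩ := hg
    obtain ⟨-, -, h, -, hhx, hhQ⟩ :=
      (mem_centralizerHom_iff (f := g) hφx).1 (hsub _ hφ)
    rw [← hhx z (mem_sup_right hz)]
    exact hhQ z hz.1

theorem isNormalIn_generalizedFitting (hS : IsPGroup p S) (hF : F.IsSaturated p)
    {D : FusionSystem U} (hD : D.IsGeneralizedFittingOf F p) : D.IsNormalIn F p := by
  obtain ⟨T', E', hE, hcp⟩ := hD
  obtain ⟨e, rfl⟩ := eq_prodSys (setup_core_layer hS hF hE) hcp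
  subst e
  exact (setup_core_layer hS hF hE).isNormalIn

theorem center_le_centralizes (hS : IsPGroup p S) (hF : F.IsSaturated p)
    {D : FusionSystem U} (hD : D.IsGeneralizedFittingOf F p) :
    D.center ≤ centralizerIn S U ∧ ∀ P : Subgroup Ω, D.Hom P ⊆ F.centralizerHom D.center P := by
  have hN := isNormalIn_generalizedFitting hS hF hD
  have hUS : U ≤ S := hN.1.2.2.2.1.1
  haveI := finite_of_le hUS
  have hZC : D.center ≤ centralizerIn S U := fun z hz =>
    ⟨hUS (center_le D hz), D.center_le_centralizer hz⟩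
  have hUZ : U ≤ centralizerIn S D.center := fun u hu =>
    ⟨hUS hu, fun z hz => ((hZC hz).2 u hu).symm⟩
  refine ⟨hZC, fun P φ hφ => ?_⟩
  have hm := isMap_of_hom hφ
  obtain ⟨g, hg, hgx, hgz⟩ := (isCentral_iff.1 (center_isCentral (F := D))).2 P _ hm
  exact (mem_centralizerHom_iff (f := toFun φ) fun x => (toFun_apply φ x).symm).2
    ⟨hm.le.trans hUZ, fun x hx => hUZ (hm.mem hx), g, isSubsystemOf_iff.1 hN.1.2.2.1 _ _ hg,
      hgx, hgz⟩

/-- A subgroup centralized by the generalized Fitting subsystem lies in its centre. -/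
theorem le_center_of_centralized (hS : IsPGroup p S) (hF : F.IsSaturated p)
    {D : FusionSystem U} (hD : D.IsGeneralizedFittingOf F p) {Y : Subgroup Ω}
    (hY : Y ≤ centralizerIn S U) (hDY : ∀ P : Subgroup Ω, D.Hom P ⊆ F.centralizerHom Y P) :
    Y ≤ D.center := by
  obtain ⟨T', E', hE, hcp⟩ := hD
  have hSet := setup_core_layer hS hF hE
  obtain ⟨e, rfl⟩ := eq_prodSys hSet hcp
  subst e
  have hTS : T' ≤ S := hSet.swap.le₁
  haveI := finite_of_le hTS
  -- the layer is contained in the product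
  have hEY : ∀ P : Subgroup Ω, E'.Hom P ⊆ F.centralizerHom Y P := fun P φ hφ => by
    refine hDY P ?_
    show φ ∈ (prodSys hSet).Hom P
    have hm := isMap_of_hom hφ
    obtain ⟨g, hg, hgx, -⟩ := hSet.fix₂ P _ hm
    have hP : P ≤ F.core ⊔ T' := hm.le.trans le_sup_right
    have hp₂ : part T' F.core P ≤ P ⊔ (F.core ⊓ T') := fun b hb => by
      obtain ⟨hbT, a, ha, hba⟩ :=
        (mem_part_iff hSet.swap.comm (hP.trans (sup_comm F.core T').le)).1 hb
      have haT : a ∈ T' := by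
        have h := T'.mul_mem (T'.inv_mem hbT) (hm.le hba)
        rwa [inv_mul_cancel_left] at h
      have h := mul_mem (mem_sup_left hba : b * a ∈ P ⊔ (F.core ⊓ T'))
        (mem_sup_right ((F.core ⊓ T').inv_mem ⟨ha, haT⟩))
      rwa [mul_inv_cancel_right] at h
    obtain ⟨k, hk, hkx⟩ := hSet.exists_map_of_pair hP
      (isMap_id (innerFusionSystem F.core) inf_le_right) (hg.mono hp₂)
    refine (hk.congr fun x hx => ?_).mem_hom fun x => (toFun_apply φ x).symm
    have h := hkx 1 (one_mem _) x (hm.le hx) (by rwa [one_mul])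
    simp only [id_eq, one_mul] at h
    exact h.trans (hgx x hx)
  obtain ⟨Y₀, hY₀C, hEY₀, hmax, hY₀sc⟩ := CExt.exists_centralizer hS hF hE.1
  have hYT : Y ≤ centralizerIn S T' := hY.trans
    (inf_le_inf_left S (Subgroup.centralizer_le fun x hx => mem_sup_right hx))
  have hYY₀ : Y ≤ Y₀ := hmax Y hYT hEY
  obtain ⟨C, hC, hCT⟩ := NCent.exists_normal_centralizer hS hF hE.1 hY₀C hEY₀ hmax
  have hY₀S : Y₀ ≤ S := hY₀sc.1
  haveI := finite_of_le hY₀S
  have hY₀p : IsPGroup p Y₀ := hS.to_le hY₀S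
  -- the centralizing subsystem has no component
  have hcon : C.IsConstrained p := by
    refine (CC.constrained_iff_no_component hY₀p hC.1.1).2 ?_
    rintro ⟨W, K, hK⟩
    have hWY : W ≤ Y₀ := le_of_subnormal hK.1
    have hKE : K.IsSubsystemOf E' := hE.2.1 W K ⟨.step hK.1 hC, hK.2⟩
    have hWT : W ≤ T' := (isSubsystemOf_iff.1 hKE W _ (isMap_id K le_rfl)).le
    haveI := finite_of_le (hWY.trans hY₀S)
    refine Cfsg.Agent.S5148.result p (hS.to_le (hWY.trans hY₀S))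
      K hK.2 ⟨⟨fun a b => Subtype.ext ?_⟩⟩
    exact (hY₀C (hWY b.2)).2 a (hWT a.2)
  obtain ⟨-, R₀, hR₀, hR₀c⟩ := hcon
  have hR₀core : R₀ ≤ C.core := IsNormal.le_core hR₀
  have hRQ : C.core ≤ F.core :=
    IsNormal.le_core (CC.isNormal_core_of_invariant hS hF hC.1.2.2)
  have hYQ : Y ≤ F.core := fun y hy => by
    refine hRQ (hR₀core (hR₀c.2 R₀ (isConj_refl hR₀.1) ⟨hYY₀ hy, fun r hr => ?_⟩))
    exact (hY hy).2 r (mem_sup_left (hRQ (hR₀core hr)))
  haveI : Finite (F.core ⊔ T' : Subgroup Ω) := finite_of_le hSet.le_sup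
  refine IsCentral.le_center (isCentral_iff.2 ⟨hYQ.trans le_sup_left, fun P f hf => ?_⟩)
  rw [castSys] at hf ⊢
  obtain ⟨hP, f₁, f₂, h₁, h₂, hfx⟩ := hSet.isMap_iff.1 hf
  obtain ⟨-, q, hq, hf₁⟩ := isMap_inner_iff.1 h₁
  have hPY : P ⊔ Y ≤ F.core ⊔ T' := sup_le hP (hYQ.trans le_sup_left)
  have hp₁ : IsMap (innerFusionSystem F.core) (part F.core T' (P ⊔ Y))
      (fun x => q * x * q⁻¹) := isMap_inner_iff.2 ⟨inf_le_right, q, hq, fun _ _ => rfl⟩
  have hp₂ : part T' F.core (P ⊔ Y) ≤ part T' F.core P :=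
    inf_le_inf_right _ (sup_le (sup_le_sup_left hYQ P) le_sup_right)
  obtain ⟨g, hg, hgx⟩ := hSet.exists_map_of_pair hPY hp₁ (h₂.mono hp₂)
  refine ⟨g, hg, fun x hx => ?_, fun y hy => ?_⟩
  · obtain ⟨a, ha, b, hb, rfl⟩ := exists_split hSet.comm (hP hx)
    rw [hgx a ha b hb (mem_sup_left hx), hfx a ha b hb hx,
      hf₁ a (part_mem_left hSet.comm hP ha hb hx)]
  · have h := hgx y (hYQ hy) 1 (one_mem _) (by rw [mul_one]; exact mem_sup_right hy)
    rw [mul_one, h₂.map_one, mul_one] at h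
    rw [h, (hY hy).2 q (mem_sup_left hq), mul_inv_cancel_right]

end CfsgLib.Comp.GFit
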