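import Cfsg.Agent.Lib.Invol.BrauerSuzuki
import Cfsg.Agent.Lib.Invol.Isolated
import Cfsg.Agent.Lib.Transfer.AlperinTame
import Cfsg.Agent.Lib.Comp.PComponent
import Mathlib.GroupTheory.SemidirectProduct
import Mathlib.GroupTheory.Transfer

/-!
A perfect group of automorphisms fixing a Sylow 2-subgroup of a core-free group pointwise
contains no involution (Glauberman, via the Z*-theorem).
-/

set_option autoImplicit false
open Subgroup
open scoped commutatorElement

namespace CfsgLib.Comp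

variable {M : Type*} [Group M] [Finite M]

theorem exists_conj_le_sylow (S : Sylow 2 M) {F T : Subgroup M} (hSF : (S : Subgroup M) ≤ F)
    (hTF : T ≤ F) (hT : IsPGroup 2 T) : ∃ f ∈ F, ∀ t ∈ T, f * t * f⁻¹ ∈ (S : Subgroup M) := by
  obtain ⟨W, hW⟩ := (hT.of_equiv (subgroupOfEquivOfLe hTF).symm).exists_le_sylow
  obtain ⟨y, hy⟩ := MulAction.exists_smul_eq F W (S.subtype hSF)
  refine ⟨y, y.2, fun t ht => ?_⟩
  have h1 : (y * ⟨t, hTF ht⟩ * y⁻¹ : F) ∈ (S.subtype hSF : Subgroup F) := by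
    rw [← hy, Sylow.coe_subgroup_smul, mem_pointwise_smul_iff_inv_smul_mem]
    have h2 : (MulAut.conj y)⁻¹ • (y * ⟨t, hTF ht⟩ * y⁻¹ : F) = ⟨t, hTF ht⟩ := by
      rw [MulAut.smul_def, MulAut.conj_inv_apply]; group
    rw [h2]
    exact hW (show (⟨t, hTF ht⟩ : F) ∈ T.subgroupOf F from ht)
  exact h1

/-- If all 2-elements of `C` lie in `Z` and `Z` is centralized by `C`, then `c ↦ c ^ b`, with `b`
the odd part of `|C|`, is multiplicative on `C` with values of 2-power order. -/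
theorem oddPow_hom {C : Subgroup M} {Z : Subgroup M} (hc : ∀ c ∈ C, ∀ z ∈ Z, c * z = z * c)
    (h2 : ∀ x ∈ C, (∃ k : ℕ, x ^ 2 ^ k = 1) → x ∈ Z) :
    ∃ b : ℕ, Odd b ∧ (∀ x ∈ C, x ^ b ∈ Z) ∧
      ∀ x ∈ C, ∀ y ∈ C, (x * y) ^ b = x ^ b * y ^ b := by
  have : Fact (Nat.Prime 2) := ⟨Nat.prime_two⟩
  obtain ⟨a, b, hb, hab⟩ := Nat.exists_eq_two_pow_mul_odd (Nat.card_pos (α := ↥C)).ne'
  have hpow : ∀ x ∈ C, (x ^ b) ^ 2 ^ a = 1 := fun x hx => by
    rw [← pow_mul, mul_comm b, ← hab]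
    have h := congrArg Subtype.val (pow_card_eq_one' (x := (⟨x, hx⟩ : ↥C)))
    rwa [coe_pow, coe_one] at h
  refine ⟨b, hb, fun x hx => h2 _ (pow_mem hx b) ⟨a, hpow x hx⟩, ?_⟩
  have hcen : (center ↥C).index.Coprime 2 := coprime_index_of_mem fun x ⟨k, hk⟩ => by
    rw [mem_center_iff]
    intro c
    exact Subtype.ext (hc c c.2 x (h2 x x.2 ⟨k, by simpa using congrArg Subtype.val hk⟩))
  obtain ⟨t, ht⟩ : (center ↥C).index ∣ b :=
    (hcen.pow_right a).dvd_of_dvd_mul_left (hab ▸ index_dvd_card _)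
  intro x hx y hy
  have h : ∀ g : ↥C, ((MonoidHom.transferCenterPow ↥C g : ↥(center ↥C)) : ↥C) = g ^ (center ↥C).index :=
    fun g => MonoidHom.transferCenterPow_apply g
  have h1 := congrArg (fun g : ↥(center ↥C) => (((g ^ t : ↥(center ↥C)) : ↥C) : M))
    (map_mul (MonoidHom.transferCenterPow ↥C) ⟨x, hx⟩ ⟨y, hy⟩)
  simp only [coe_mul, coe_pow, h] at h1
  have hcm : Commute (x ^ (center ↥C).index) (y ^ (center ↥C).index) := by
    have := congrArg (fun g : ↥C => (g : M))
      (mem_center_iff.1 ((h ⟨x, hx⟩) ▸ (MonoidHom.transferCenterPow ↥C ⟨x, hx⟩).2) (⟨y, hy⟩ ^ (center ↥C).index))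
    simp only [coe_mul, coe_pow] at this
    exact this.symm
  rw [hcm.mul_pow, ← pow_mul x, ← pow_mul y, ← pow_mul (x * y), ← ht] at h1
  exact h1

variable {S : Sylow 2 M} {W : Subgroup (MulAut M)} (hW : ⁅W, W⁆ = W)
  (hS : ∀ w ∈ W, ∀ s ∈ (S : Subgroup M), w s = s) {u : MulAut M} (hu : u ∈ W) (hu2 : u * u = 1)
include hW hS hu hu2

theorem exists_fixed_of_centric {R : Subgroup M} (hR : R ≤ (S : Subgroup M))
    (h2 : ∀ x ∈ centralizer (R : Set M), (∃ k : ℕ, x ^ 2 ^ k = 1) → x ∈ R)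
    {n : M} (hn : n ∈ normalizer (R : Set M)) :
    ∃ y : M, u y = y ∧ ∀ r ∈ R, y * r * y⁻¹ = n * r * n⁻¹ := by
  set C := centralizer (R : Set M) with hC
  obtain ⟨b, hb, hbR, hbm⟩ := oddPow_hom (C := C) (Z := R)
    (fun c hc z hz => (mem_centralizer_iff.1 hc z hz).symm) h2
  have hd : ∀ w ∈ W, w n * n⁻¹ ∈ C := by
    intro w hw
    refine mem_centralizer_iff.2 fun r hr => ?_
    have hr' : n⁻¹ * r * n ∈ R := by
      simpa using (mem_normalizer_iff.1 (inv_mem hn) r).1 hr
    have h1 : w n * (n⁻¹ * r * n) * (w n)⁻¹ = r := by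
      have := hS w hw r (hR hr)
      rw [show r = n * (n⁻¹ * r * n) * n⁻¹ by group, map_mul, map_mul, map_inv,
        hS w hw _ (hR hr')] at this
      rwa [show n * (n⁻¹ * r * n) * n⁻¹ = r by group] at this
    calc r * (w n * n⁻¹) = (w n * (n⁻¹ * r * n) * (w n)⁻¹) * (w n * n⁻¹) := by rw [h1]
      _ = w n * n⁻¹ * r := by group
  have hwC : ∀ w ∈ W, ∀ c ∈ C, w c ∈ C := fun w hw c hc => mem_centralizer_iff.2 fun r hr => by
    have := congrArg w (mem_centralizer_iff.1 hc r hr)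
    rwa [map_mul, map_mul, hS w hw r (hR hr)] at this
  let F : ↥W →* ↥C :=
    { toFun := fun w => ⟨((w : MulAut M) n * n⁻¹) ^ b, pow_mem (hd w w.2) b⟩
      map_one' := Subtype.ext (by simp)
      map_mul' := fun w v => Subtype.ext (by
        show (((w * v : ↥W) : MulAut M) n * n⁻¹) ^ b
          = ((w : MulAut M) n * n⁻¹) ^ b * ((v : MulAut M) n * n⁻¹) ^ b
        have e : ((w * v : ↥W) : MulAut M) n * n⁻¹
            = (w : MulAut M) ((v : MulAut M) n * n⁻¹) * ((w : MulAut M) n * n⁻¹) := by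
          rw [Subgroup.coe_mul, MulAut.mul_apply, map_mul, map_inv]; group
        rw [e, hbm _ (hwC w w.2 _ (hd v v.2)) _ (hd w w.2), ← map_pow,
          hS w w.2 _ (hR (hbR _ (hd v v.2)))]
        exact mem_centralizer_iff.1 (pow_mem (hd w w.2) b) _ (hbR _ (hd v v.2))) }
  have hker : W ≤ F.ker.map W.subtype := by
    conv_lhs => rw [← hW]
    rw [commutator_le]
    intro w hw v hv
    refine ⟨⁅(⟨w, hw⟩ : ↥W), ⟨v, hv⟩⁆, ?_, by simp⟩
    rw [SetLike.mem_coe, MonoidHom.mem_ker, map_commutatorElement,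
      commutatorElement_eq_one_iff_commute]
    exact Subtype.ext (mem_centralizer_iff.1 (F ⟨v, hv⟩).2 _ (hbR _ (hd w hw)))
  obtain ⟨v, hv, rfl⟩ := hker hu
  have h0 : ((v : MulAut M) n * n⁻¹) ^ b = 1 := congrArg Subtype.val (MonoidHom.mem_ker.1 hv)
  set d := (v : MulAut M) n * n⁻¹ with hddef
  have hdinv : (v : MulAut M) d = d⁻¹ := by
    have : (v : MulAut M) ((v : MulAut M) n) = n := by
      rw [← MulAut.mul_apply]; exact DFunLike.congr_fun hu2 n
    rw [hddef, map_mul, map_inv, this]; group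
  obtain ⟨k, hk⟩ := hb
  refine ⟨d ^ (k + 1) * n, ?_, fun r hr => ?_⟩
  · show (v : MulAut M) (d ^ (k + 1) * n) = _
    have e : d⁻¹ ^ (k + 1) * d = d ^ (k + 1) := by
      rw [inv_pow, inv_mul_eq_iff_eq_mul, ← pow_add, show k + 1 + (k + 1) = b + 1 by omega,
        pow_succ, h0, one_mul]
    rw [map_mul, map_pow, hdinv, show (v : MulAut M) n = d * n by rw [hddef]; group, ← mul_assoc, e]
  · have hnr : n * r * n⁻¹ ∈ R := (mem_normalizer_iff.1 hn r).1 hr
    have hdC : d ∈ C := hd v v.2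
    have h1 := mem_centralizer_iff.1 (pow_mem hdC (k + 1)) _ hnr
    calc d ^ (k + 1) * n * r * (d ^ (k + 1) * n)⁻¹
        = d ^ (k + 1) * (n * r * n⁻¹) * (d ^ (k + 1))⁻¹ := by group
      _ = n * r * n⁻¹ := by rw [← h1]; group

theorem exists_fixed_of_tame {Q : Sylow 2 M} (hT : CfsgLib.Transfer.Tame S Q) {n : M}
    (hn : n ∈ normalizer ((((S : Subgroup M) ⊓ (Q : Subgroup M)) : Subgroup M) : Set M)) :
    ∃ y : M, u y = y ∧ ∀ r ∈ (S : Subgroup M) ⊓ (Q : Subgroup M), y * r * y⁻¹ = n * r * n⁻¹ := by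
  have : Fact (Nat.Prime 2) := ⟨Nat.prime_two⟩
  obtain ⟨hT1, -⟩ := hT
  revert hT1 hn
  generalize hRdef : (S : Subgroup M) ⊓ (Q : Subgroup M) = R
  intro hn hT1
  have hRS : R ≤ (S : Subgroup M) := hRdef ▸ inf_le_left
  set N := normalizer (R : Set M) with hN
  set C := centralizer (R : Set M) with hC
  have hCN : C ≤ N := centralizer_le_normalizer _
  have hnC : ∀ g ∈ N, ∀ c ∈ C, g * c * g⁻¹ ∈ C := fun g hg c hc =>
    mem_centralizer_iff.2 fun r hr => by
      have hr' : g⁻¹ * r * g ∈ R := by simpa using (mem_normalizer_iff.1 (inv_mem hg) r).1 hr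
      have := mem_centralizer_iff.1 hc _ hr'
      calc r * (g * c * g⁻¹) = g * (g⁻¹ * r * g * c) * g⁻¹ := by group
        _ = g * (c * (g⁻¹ * r * g)) * g⁻¹ := by rw [this]
        _ = g * c * g⁻¹ * r := by group
  set T := (S : Subgroup M) ⊓ C with hT
  have hTC : ¬ 2 ∣ T.relIndex C := by
    intro hd
    apply hT1
    have hnorm : (C.subgroupOf N).Normal :=
      ⟨fun c hc g => hnC g g.2 c hc⟩
    have h1 : T.relIndex C = ((((S : Subgroup M) ⊓ N).subgroupOf N)).relIndex (C.subgroupOf N) := by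
      rw [relIndex_subgroupOf hCN, ← inf_relIndex_right ((S : Subgroup M) ⊓ N) C, inf_assoc,
        inf_eq_right.2 hCN]
    set T' := ((S : Subgroup M) ⊓ N).subgroupOf N
    set C' := C.subgroupOf N
    have h2 : T'.relIndex C' = T'.relIndex (T' ⊔ C') := by
      have e1 := relIndex_mul_relIndex (T' ⊓ C') C' (T' ⊔ C') inf_le_right le_sup_right
      have e2 := relIndex_mul_relIndex (T' ⊓ C') T' (T' ⊔ C') inf_le_left le_sup_left
      rw [inf_relIndex_right, relIndex_sup_right] at e1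
      rw [inf_comm, inf_relIndex_right, inf_comm] at e2
      have hne : C'.relIndex T' ≠ 0 := Nat.pos_iff_ne_zero.1 (Nat.pos_of_ne_zero Subgroup.index_ne_zero_of_finite)
      refine Nat.eq_of_mul_eq_mul_right (Nat.pos_of_ne_zero hne) ?_
      rw [e1, ← e2, mul_comm]
    rw [h1, h2] at hd
    exact hd.trans (relIndex_dvd_index_of_le le_sup_left)
  have hTp : IsPGroup 2 T := S.2.to_le inf_le_left
  let T0 : Sylow 2 ↥C := (hTp.of_equiv (subgroupOfEquivOfLe (inf_le_right : T ≤ C)).symm).toSylow hTC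
  have hT0 : ∀ Y : Subgroup M, Y ≤ C → IsPGroup 2 Y → T ≤ Y → Y ≤ T := by
    intro Y hY hYp hTY y hy
    have h2 := T0.is_maximal' (hYp.of_equiv (subgroupOfEquivOfLe hY).symm)
      (show T.subgroupOf C ≤ Y.subgroupOf C from fun z hz => hTY hz)
    have h3 : (⟨y, hY hy⟩ : ↥C) ∈ (T0 : Subgroup ↥C) := h2.le (show (⟨y, hY hy⟩ : ↥C) ∈ Y.subgroupOf C from hy)
    exact h3
  -- Frattini
  obtain ⟨c, hc, hcT⟩ : ∃ c ∈ C, ∀ t : M, t ∈ T ↔ c⁻¹ * (n * t * n⁻¹) * c ∈ T := by
    set T' := T.map (MulAut.conj n).toMonoidHom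
    have hT'C : T' ≤ C := by
      rintro _ ⟨t, ht, rfl⟩
      simpa using hnC n hn t ht.2
    obtain ⟨W', hW'⟩ := ((hTp.map (MulAut.conj n).toMonoidHom).of_equiv
      (subgroupOfEquivOfLe hT'C).symm).exists_le_sylow
    obtain ⟨y, hy⟩ := MulAction.exists_smul_eq ↥C W' T0
    refine ⟨((y⁻¹ : ↥C) : M), (y⁻¹).2, ?_⟩
    have h1 : ∀ t ∈ T, ((y⁻¹ : ↥C) : M)⁻¹ * (n * t * n⁻¹) * ((y⁻¹ : ↥C) : M) ∈ T := by
      intro t ht
      have hmem : n * t * n⁻¹ ∈ T' := ⟨t, ht, rfl⟩
      have h2 : (y * ⟨_, hT'C hmem⟩ * y⁻¹ : ↥C) ∈ (T0 : Subgroup ↥C) := by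
        rw [← hy, Sylow.coe_subgroup_smul, mem_pointwise_smul_iff_inv_smul_mem]
        have h2 : (MulAut.conj y)⁻¹ • (y * ⟨_, hT'C hmem⟩ * y⁻¹ : ↥C) = ⟨_, hT'C hmem⟩ := by
          rw [MulAut.smul_def, MulAut.conj_inv_apply]; group
        rw [h2]
        exact hW' (show (⟨_, hT'C hmem⟩ : ↥C) ∈ T'.subgroupOf C from hmem)
      have h3 : (y : M) * (n * t * n⁻¹) * (y : M)⁻¹ ∈ T := h2
      simpa using h3
    intro t
    refine ⟨h1 t, fun ht => ?_⟩
    let f : ↥T → ↥T := fun t => ⟨_, h1 t t.2⟩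
    have hf : Function.Surjective f := Finite.surjective_of_injective fun a b hab => by
      have := congrArg Subtype.val hab
      simp only [f] at this
      exact Subtype.ext (by simpa using this)
    obtain ⟨t', ht'⟩ := hf ⟨_, ht⟩
    have := congrArg Subtype.val ht'
    simp only [f] at this
    have e : (t' : M) = t := by simpa using this
    exact e ▸ t'.2
  set n' := c⁻¹ * n with hn'
  have hn'R : n' ∈ N := mul_mem (inv_mem (hCN hc)) hn
  have hn'T : n' ∈ normalizer (T : Set M) := mem_normalizer_iff.2 fun t => by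
    rw [hcT t]
    simp [hn', mul_assoc]
  have hn'S : n' ∈ normalizer ((R ⊔ T : Subgroup M) : Set M) :=
    (CfsgLib.Comp.le_normalizer_sup (zpowers_le.2 hn'R) (zpowers_le.2 hn'T)) (mem_zpowers n')
  have h2 : ∀ x ∈ centralizer ((R ⊔ T : Subgroup M) : Set M),
      (∃ k : ℕ, x ^ 2 ^ k = 1) → x ∈ R ⊔ T := by
    intro x hx ⟨k, hk⟩
    have hxC : x ∈ C := centralizer_le (SetLike.coe_subset_coe.2 le_sup_left) hx
    have hxT : zpowers x ≤ normalizer (T : Set M) := by
      refine le_trans ?_ (centralizer_le_normalizer _)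
      rw [zpowers_le]
      exact centralizer_le (SetLike.coe_subset_coe.2 le_sup_right) hx
    have hxp : IsPGroup 2 ↥(zpowers x) := fun ⟨z, hz⟩ => by
      obtain ⟨i, rfl⟩ := hz
      exact ⟨k, Subtype.ext (by
        show (x ^ i) ^ 2 ^ k = 1
        rw [← zpow_natCast, ← zpow_mul, mul_comm, zpow_mul, zpow_natCast, hk, one_zpow])⟩
    exact mem_sup_right (hT0 (T ⊔ zpowers x) (sup_le inf_le_right (zpowers_le.2 hxC))
      (IsPGroup.to_sup_of_normal_left' hTp hxp hxT) le_sup_left (mem_sup_right (mem_zpowers x)))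
  obtain ⟨y, hy, hyr⟩ := exists_fixed_of_centric hW hS hu hu2 (sup_le hRS inf_le_left) h2 hn'S
  refine ⟨y, hy, fun r hr => ?_⟩
  rw [hyr r (mem_sup_left hr)]
  have hnr : n' * r * n'⁻¹ ∈ R := (mem_normalizer_iff.1 hn'R r).1 hr
  have := mem_centralizer_iff.1 hc _ hnr
  calc n' * r * n'⁻¹ = c * (n' * r * n'⁻¹) * c⁻¹ := by rw [← this]; group
    _ = n * r * n⁻¹ := by rw [hn']; group

theorem exists_fixed_of_le {D : Subgroup M} {g : M} (hD : D ≤ (S : Subgroup M))
    (hg : ∀ d ∈ D, g * d * g⁻¹ ∈ (S : Subgroup M)) :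
    ∃ y : M, u y = y ∧ ∀ d ∈ D, y * d * y⁻¹ = g * d * g⁻¹ := by
  have : Fact (Nat.Prime 2) := ⟨Nat.prime_two⟩
  suffices h : ∀ {D : Subgroup M} {g : M}, CfsgLib.Transfer.Reach S D g →
      ∃ y : M, u y = y ∧ ∀ d ∈ D, y * d * y⁻¹ = g⁻¹ * d * g by
    have := h (CfsgLib.Transfer.reach_of_le S D g⁻¹ hD fun x hx => by
      have h1 := hg _ (CfsgLib.Transfer.mem_rconj.1 hx)
      simpa [mul_assoc] using h1)
    simpa using this
  intro D g h
  induction h with
  | one D => exact ⟨1, map_one u, fun d _ => by simp⟩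
  | cons D Q x g hT hx hD _ ih =>
    obtain ⟨y1, hy1, hy1'⟩ := exists_fixed_of_tame hW hS hu hu2 hT (inv_mem hx)
    obtain ⟨y2, hy2, hy2'⟩ := ih
    refine ⟨y2 * y1, by rw [map_mul, hy1, hy2], fun d hd => ?_⟩
    have hd' : x⁻¹ * d * x ∈ CfsgLib.Transfer.rconj x D := by
      rw [CfsgLib.Transfer.mem_rconj]; simpa [mul_assoc] using hd
    have h1 := hy1' d (hD hd)
    rw [inv_inv] at h1
    calc y2 * y1 * d * (y2 * y1)⁻¹ = y2 * (y1 * d * y1⁻¹) * y2⁻¹ := by group
      _ = g⁻¹ * (x⁻¹ * d * x) * g := by rw [h1]; exact hy2' _ hd'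
      _ = (x * g)⁻¹ * d * (x * g) := by group

theorem twist_eq_one {m : M} (hm : m * (u m)⁻¹ ∈ (S : Subgroup M)) : m * (u m)⁻¹ = 1 := by
  have : Fact (Nat.Prime 2) := ⟨Nat.prime_two⟩
  induction hk : Nat.card ↥(S : Subgroup M) - Nat.card ↥((S : Subgroup M) ⊓ centralizer {m * (u m)⁻¹})
    using Nat.strong_induction_on generalizing m with
  | _ k ih =>
  subst hk
  set s := m * (u m)⁻¹ with hs
  set D := (S : Subgroup M) ⊓ centralizer {s} with hD
  have hsD : s ∈ D := ⟨hm, mem_centralizer_singleton_iff.2 rfl⟩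
  let F : Subgroup M :=
    { carrier := {x | u x = x}
      one_mem' := map_one u
      mul_mem' := fun {a b} ha hb => by
        show u (a * b) = a * b
        rw [map_mul, ha, hb]
      inv_mem' := fun {a} ha => by
        show u a⁻¹ = a⁻¹
        rw [map_inv, ha] }
  have hSF : (S : Subgroup M) ≤ F := fun x hx => hS u hu x hx
  have hDS : D ≤ (S : Subgroup M) := inf_le_left
  have hTF : D.map (MulAut.conj m⁻¹).toMonoidHom ≤ F := by
    rintro _ ⟨d, hd, rfl⟩
    show u ((MulAut.conj m⁻¹) d) = _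
    have hds : d * s = s * d := mem_centralizer_singleton_iff.1 hd.2
    have hum : u m = s⁻¹ * m := by rw [hs]; group
    rw [MulEquiv.coe_toMonoidHom, MulAut.conj_apply, inv_inv, map_mul, map_mul, map_inv, hum,
      hS u hu d (hDS hd)]
    calc (s⁻¹ * m)⁻¹ * d * (s⁻¹ * m) = m⁻¹ * (s * d) * s⁻¹ * m := by group
      _ = m⁻¹ * d * m := by rw [← hds]; group
  obtain ⟨f, hf, hfT⟩ := exists_conj_le_sylow S hSF hTF ((S.2.to_le hDS).map _)
  obtain ⟨y, hy, hyD⟩ := exists_fixed_of_le hW hS hu hu2 hDS (g := f * m⁻¹) fun d hd => by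
    have := hfT _ (mem_map_of_mem _ hd)
    simpa [mul_assoc] using this
  -- `e` centralizes `D` and has the same twist
  set e := m * f⁻¹ * y with he
  have heD : e ∈ centralizer (D : Set M) := mem_centralizer_iff.2 fun d hd => by
    have h1 := hyD d hd
    calc d * e = (m * f⁻¹) * ((f * m⁻¹) * d * (f * m⁻¹)⁻¹) * y := by rw [he]; group
      _ = (m * f⁻¹) * (y * d * y⁻¹) * y := by rw [h1]
      _ = e * d := by rw [he]; group
  have hes : e * (u e)⁻¹ = s := by
    rw [he, map_mul, map_mul, map_inv, hy, show u f = f from hf, hs]; group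
  by_cases hcen : ∀ x ∈ centralizer (D : Set M), (∃ k : ℕ, x ^ 2 ^ k = 1) → x ∈ D
  · obtain ⟨b, hb, hbD, hbm⟩ := oddPow_hom (C := centralizer (D : Set M)) (Z := D)
      (fun c hc z hz => (mem_centralizer_iff.1 hc z hz).symm) hcen
    have hue : u e ∈ centralizer (D : Set M) := by
      have : u e = s⁻¹ * e := by rw [← hes]; group
      rw [this]
      refine mul_mem (inv_mem (mem_centralizer_iff.2 fun d hd => ?_)) heD
      exact mem_centralizer_singleton_iff.1 (hd : d ∈ D).2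
    have h1 : s ^ b = 1 := by
      rw [← hes, hbm _ heD _ (inv_mem hue), inv_pow, ← map_pow, hS u hu _ (hDS (hbD e heD)),
        mul_inv_cancel]
    obtain ⟨j, hj⟩ := S.2 ⟨s, hm⟩
    have hj' : s ^ 2 ^ j = 1 := by simpa using congrArg Subtype.val hj
    have h3 : s ^ Nat.gcd b (2 ^ j) = 1 := pow_gcd_eq_one.2 ⟨h1, hj'⟩
    rwa [(Nat.Coprime.pow_right j (Nat.coprime_two_right.2 hb)).gcd_eq_one, pow_one] at h3
  · push Not at hcen
    obtain ⟨z, hz, ⟨j, hj⟩, hzD⟩ := hcen
    have hzp : IsPGroup 2 ↥(zpowers z) := fun ⟨w, hw⟩ => by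
      obtain ⟨i, rfl⟩ := hw
      exact ⟨j, Subtype.ext (by
        show (z ^ i) ^ 2 ^ j = 1
        rw [← zpow_natCast, ← zpow_mul, mul_comm, zpow_mul, zpow_natCast, hj, one_zpow])⟩
    have hzn : zpowers z ≤ normalizer (D : Set M) :=
      le_trans (zpowers_le.2 hz) (centralizer_le_normalizer _)
    set Y := D ⊔ zpowers z
    obtain ⟨h, -, hY⟩ := exists_conj_le_sylow S (F := ⊤) le_top le_top
      (IsPGroup.to_sup_of_normal_left' (S.2.to_le hDS) hzp hzn : IsPGroup 2 Y)
    obtain ⟨y', hy', hy'D⟩ := exists_fixed_of_le hW hS hu hu2 hDS (g := h)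
      fun d hd => hY d (mem_sup_left hd)
    have hs' : (y' * m) * (u (y' * m))⁻¹ = h * s * h⁻¹ := by
      rw [← hy'D s hsD, map_mul, hy', hs]; group
    have hmem : (y' * m) * (u (y' * m))⁻¹ ∈ (S : Subgroup M) := hs' ▸ hY s (mem_sup_left hsD)
    have hle : Y.map (MulAut.conj h).toMonoidHom ≤
        (S : Subgroup M) ⊓ centralizer {(y' * m) * (u (y' * m))⁻¹} := by
      rintro _ ⟨w, hw, rfl⟩
      refine ⟨hY w hw, mem_centralizer_singleton_iff.2 ?_⟩
      have hws : w * s = s * w := by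
        have : Y ≤ centralizer {s} := sup_le inf_le_right (zpowers_le.2
          (mem_centralizer_singleton_iff.2 (mem_centralizer_iff.1 hz s hsD).symm))
        exact mem_centralizer_singleton_iff.1 (this hw)
      rw [hs']
      show h * w * h⁻¹ * (h * s * h⁻¹) = h * s * h⁻¹ * (h * w * h⁻¹)
      calc h * w * h⁻¹ * (h * s * h⁻¹) = h * (w * s) * h⁻¹ := by group
        _ = h * (s * w) * h⁻¹ := by rw [hws]
        _ = h * s * h⁻¹ * (h * w * h⁻¹) := by group
    have hlt : Nat.card ↥D < Nat.card ↥((S : Subgroup M) ⊓ centralizer {(y' * m) * (u (y' * m))⁻¹}) := by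
      refine lt_of_lt_of_le ?_ (card_le_of_le hle)
      rw [card_map_of_injective (MulAut.conj h).injective]
      refine lt_of_not_ge fun hge => hzD ?_
      rw [eq_of_le_of_card_ge (le_sup_left : D ≤ Y) hge]
      exact mem_sup_right (mem_zpowers z)
    have hle2 : Nat.card ↥((S : Subgroup M) ⊓ centralizer {(y' * m) * (u (y' * m))⁻¹}) ≤
        Nat.card ↥(S : Subgroup M) := card_le_of_le inf_le_left
    have := ih _ (by omega) hmem rfl
    rw [hs'] at this
    simpa using this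

/-- **Glauberman**: such an involutory automorphism is trivial. -/
theorem eq_one_of_fixes_sylow (hO : Cfsg.oddCore M = ⊥) : u = 1 := by
  by_contra hne
  have : Fact (Nat.Prime 2) := ⟨Nat.prime_two⟩
  have huo : orderOf u = 2 := orderOf_eq_prime (by rw [pow_two]; exact hu2) hne
  let φ : ↥(zpowers u) →* MulAut M := (zpowers u).subtype
  let H := M ⋊[φ] ↥(zpowers u)
  have : Finite H := Finite.of_equiv _ SemidirectProduct.equivProd.symm
  have hZW : zpowers u ≤ W := zpowers_le.2 hu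
  let z : H := SemidirectProduct.inr ⟨u, mem_zpowers u⟩
  have hzo : orderOf z = 2 := by
    rw [orderOf_injective _ SemidirectProduct.inr_injective, ← orderOf_coe, huo]
  let P0 : Subgroup H :=
    { carrier := {x : H | x.left ∈ (S : Subgroup M)}
      one_mem' := one_mem (S : Subgroup M)
      mul_mem' := fun {a b} ha hb => by
        show (a * b).left ∈ (S : Subgroup M)
        rw [SemidirectProduct.mul_left]
        exact mul_mem ha (by rw [show φ a.right b.left = b.left from hS _ (hZW a.right.2) _ hb]; exact hb)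
      inv_mem' := fun {a} ha => by
        show a⁻¹.left ∈ (S : Subgroup M)
        rw [SemidirectProduct.inv_left,
          show φ a.right⁻¹ a.left⁻¹ = a.left⁻¹ from hS _ (hZW (a.right⁻¹).2) _ (inv_mem ha)]
        exact inv_mem ha }
  have hZ : Nat.card ↥(zpowers u) = 2 := by rw [Nat.card_zpowers, huo]
  have hc0 : Nat.card ↥P0 = Nat.card ↥(S : Subgroup M) * 2 := by
    rw [← congrArg (Nat.card ↥(S : Subgroup M) * ·) hZ, ← Nat.card_prod]
    exact Nat.card_congr
      { toFun := fun x => (⟨x.1.left, x.2⟩, x.1.right)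
        invFun := fun q => ⟨⟨q.1, q.2⟩, q.1.2⟩
        left_inv := fun x => rfl
        right_inv := fun q => rfl }
  have hcH : Nat.card H = Nat.card M * 2 := by
    rw [SemidirectProduct.card, Nat.card_zpowers, huo]
  have hP0 : Nat.card ↥P0 = 2 ^ (Nat.card H).factorization 2 := by
    rw [hc0, S.card_eq_multiplicity, hcH, Nat.factorization_mul Nat.card_pos.ne' two_ne_zero,
      Finsupp.add_apply, Nat.prime_two.factorization_self, pow_succ]
  let P : Sylow 2 H := Sylow.ofCard P0 hP0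
  have hiso : Cfsg.IsIsolatedInvolution z := by
    refine CfsgLib.Invol.isolated_of_sylow P hzo (show z.left ∈ (S : Subgroup M) from one_mem _)
      fun g hg => ?_
    have e : g * z * g⁻¹ = ⟨g.left * (u g.left)⁻¹, ⟨u, mem_zpowers u⟩⟩ := by
      rw [← SemidirectProduct.inl_left_mul_inr_right g, mul_inv_rev,
        show SemidirectProduct.inl g.left * SemidirectProduct.inr g.right * z *
          ((SemidirectProduct.inr g.right)⁻¹ * (SemidirectProduct.inl g.left)⁻¹)
          = SemidirectProduct.inl g.left * (SemidirectProduct.inr g.right * z *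
          (SemidirectProduct.inr g.right)⁻¹) * (SemidirectProduct.inl g.left : H)⁻¹ by group]
      have hc : SemidirectProduct.inr g.right * z * (SemidirectProduct.inr g.right : H)⁻¹ = z := by
        rw [← map_inv, ← map_mul, ← map_mul]
        congr 1
        rw [show g.right * ⟨u, mem_zpowers u⟩ = ⟨u, mem_zpowers u⟩ * g.right from
          IsMulCommutative.is_comm.comm _ _, mul_inv_cancel_right]
      rw [hc, ← map_inv]
      ext <;> simp [z, φ]
    have hg' : (g * z * g⁻¹).left ∈ (S : Subgroup M) := hg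
    rw [e] at hg' ⊢
    have h1 := twist_eq_one hW hS hu hu2 hg'
    ext <;> simp [z, h1]
  -- the core of `H` is trivial
  have hcore : Cfsg.oddCore H = ⊥ := by
    set O := Cfsg.oddCore H
    have : O.Normal := Cfsg.pPrimeCore_normal 2 H
    have hodd := CfsgLib.Invol.odd_card_oddCore H
    have hright : ∀ x ∈ O, x.right = 1 := by
      intro x hx
      have h1 : orderOf x.right ∣ Nat.card ↥O :=
        (orderOf_map_dvd SemidirectProduct.rightHom x).trans (Subgroup.orderOf_dvd_natCard O hx)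
      have h2 : orderOf x.right ∣ 2 := hZ ▸ _root_.orderOf_dvd_natCard x.right
      exact orderOf_eq_one_iff.1 (Nat.eq_one_of_dvd_coprimes (Nat.coprime_two_right.2 hodd) h1 h2)
    have hcomap : O.comap SemidirectProduct.inl ≤ Cfsg.oddCore M := by
      refine le_sSup ⟨inferInstance, ?_⟩
      refine Nat.Coprime.coprime_dvd_left ?_ (Nat.coprime_two_right.2 hodd)
      have e := Nat.card_congr ((O.comap (SemidirectProduct.inl : M →* H)).equivMapOfInjective _
        (SemidirectProduct.inl_injective (φ := φ))).toEquiv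
      rw [e]
      exact card_dvd_of_le (map_comap_le _ _)
    rw [hO, le_bot_iff] at hcomap
    rw [eq_bot_iff]
    intro x hx
    have ex : x = SemidirectProduct.inl x.left := by
      ext
      · simp
      · simp [hright x hx]
    have : x.left ∈ O.comap SemidirectProduct.inl := by rw [mem_comap, ← ex]; exact hx
    rw [hcomap, mem_bot] at this
    rw [mem_bot, ex, this, map_one]
  refine hne (MulEquiv.ext fun m => ?_)
  have h := CfsgLib.Invol.zstar H hiso (SemidirectProduct.inl m)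
  rw [hcore, mem_bot, mul_inv_eq_one] at h
  rw [show z * SemidirectProduct.inl m * z⁻¹ = SemidirectProduct.inl (φ ⟨u, mem_zpowers u⟩ m) from
    by rw [SemidirectProduct.inl_aut, map_inv]] at h
  exact SemidirectProduct.inl_injective h

end CfsgLib.Comp
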