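import Cfsg.Agent.Lib.Comp.BalanceReduce
import Cfsg.Agent.Lib.Comp.Signalizer

/-!
Local `k`-balance of the simple quotients of components gives `k`-balance.
-/

set_option autoImplicit false
set_option linter.style.haveILetI false
set_option linter.unusedSectionVars false

namespace CfsgLib.Comp

open Subgroup
open scoped commutatorElement

/-- The map from the normalizer of a subgroup to the automorphism group of its central quotient. -/
noncomputable def normalizerModCenterHom {G : Type*} [Group G] (L : Subgroup G) :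
    ↥(normalizer (L : Set G)) →* MulAut (↥L ⧸ center ↥L) where
  toFun n := QuotientGroup.congr (center ↥L) (center ↥L) (normalizerMonoidHom L n)
    (Subgroup.characteristic_iff_map_eq.1 inferInstance _)
  map_one' := MulEquiv.ext fun y => by
    obtain ⟨y, rfl⟩ := QuotientGroup.mk'_surjective _ y
    simp
  map_mul' a b := MulEquiv.ext fun y => by
    obtain ⟨y, rfl⟩ := QuotientGroup.mk'_surjective _ y
    simp only [MulAut.mul_apply, map_mul]
    rfl

theorem normalizerModCenterHom_apply {G : Type*} [Group G] (L : Subgroup G)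
    (n : ↥(normalizer (L : Set G))) (y : ↥L) :
    normalizerModCenterHom L n (QuotientGroup.mk' (center ↥L) y) =
      QuotientGroup.mk' (center ↥L)
        ⟨(n : G) * y * (n : G)⁻¹, (mem_normalizer_iff.1 n.2 y).1 y.2⟩ :=
  rfl

theorem ker_normalizerModCenterHom {G : Type*} [Group G] [Finite G] {L : Subgroup G}
    (hL : Cfsg.IsQuasisimple L) :
    (normalizerModCenterHom L).ker = (centralizer (L : Set G)).subgroupOf (normalizer (L : Set G)) := by
  ext n
  constructor
  · intro hn
    refine mem_subgroupOf.2 (mem_centralizer_component hL n.2 fun l hl => ?_)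
    have h1 := DFunLike.congr_fun (MonoidHom.mem_ker.1 hn) (QuotientGroup.mk' (center ↥L) ⟨l, hl⟩)
    rw [normalizerModCenterHom_apply, MulAut.one_apply, QuotientGroup.mk'_apply,
      QuotientGroup.mk'_apply, QuotientGroup.eq_iff_div_mem, mem_center_iff] at h1
    refine mem_centralizer_iff.2 fun z hz => ?_
    have h2 := congrArg Subtype.val (h1 ⟨z, hz⟩)
    simp only [Subgroup.coe_mul, div_eq_mul_inv, InvMemClass.coe_inv] at h2
    rwa [commutatorElement_def]
  · intro hn
    refine MonoidHom.mem_ker.2 (MulEquiv.ext fun y => ?_)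
    obtain ⟨y, rfl⟩ := QuotientGroup.mk'_surjective _ y
    rw [normalizerModCenterHom_apply, MulAut.one_apply]
    congr 1
    refine Subtype.ext ?_
    have h := mem_centralizer_iff.1 (mem_subgroupOf.1 hn) y y.2
    change (n : G) * y * (n : G)⁻¹ = y
    rw [← h, mul_inv_cancel_right]

variable {G : Type*} [Group G] [Finite G] {p : ℕ} [hp : Fact p.Prime]

/-- If the group of automorphisms induced on a component `L` is locally `k`-balanced, then a subgroup of
`O_{p'}(C_G(a))` for all `a ∈ A#` centralizes `L`, for `A` of order `p ^ k` moving `L` faithfully. -/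
theorem le_centralizer_of_isLocallyKBalanced (hO : Cfsg.pPrimeCore p G = ⊥) {k : ℕ}
    {A : Subgroup G} (hA : Cfsg.IsElementaryAbelian p A) (hAk : Nat.card A = p ^ k)
    {L : Subgroup G} (hL : Cfsg.IsComponent L) {D : Subgroup G}
    (hmove : ∀ a ∈ A, a ≠ 1 → a ∈ normalizer (L : Set G) ∧ a ∉ centralizer (L : Set G))
    (hAN : A ≤ normalizer (L : Set G)) (hDN : D ≤ normalizer (L : Set G))
    (hD : ∀ a ∈ A, a ≠ 1 → D ≤ Cfsg.centralizerPPrimeCore p a)
    {Z : Type*} [Group Z] [Finite Z] (F : ↥(normalizer (L : Set G)) →* MulAut Z)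
    (hF : F.ker = (centralizer (L : Set G)).subgroupOf (normalizer (L : Set G)))
    (hsur : ∀ z : Z, ∃ l : ↥L, F ⟨l, le_normalizer l.2⟩ = MulAut.conj z)
    (hZ : Cfsg.IsLocallyKBalanced p k Z) : D ≤ centralizer (L : Set G) := by
  have hord : ∀ a ∈ A, a ≠ 1 → orderOf a = p := fun a ha ha1 => orderOf_eq_prime (hA.2 a ha) ha1
  set H := L ⊔ (A ⊔ D) with hH
  have hLH : L ≤ H := le_sup_left
  have hHN : H ≤ normalizer (L : Set G) := sup_le le_normalizer (sup_le hAN hDN)
  have hAH : A ≤ H := le_sup_left.trans le_sup_right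
  have hDH : D ≤ H := le_sup_right.trans le_sup_right
  have hHle : ∀ a ∈ A, a ≠ 1 → H ≤ L ⊔ (normalizer (L : Set G) ⊓ centralizer ({a} : Set G)) := by
    intro a ha ha1
    refine sup_le_sup_left (le_inf (sup_le hAN hDN) (sup_le (fun b hb => ?_)
      ((hD a ha ha1).trans (centralizerPPrimeCore_le a)))) _
    exact mem_centralizer_singleton_iff.2
      (congrArg (fun z : ↥A => (z : G)) (hA.1.is_comm.comm ⟨b, hb⟩ ⟨a, ha⟩))
  set ψ := F.comp (inclusion hHN) with hψ
  have hker : ψ.rangeRestrict.ker = (centralizer (L : Set G)).subgroupOf H := by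
    rw [MonoidHom.ker_rangeRestrict, hψ, ← MonoidHom.comap_ker, hF]
    rfl
  have hinn : (MulAut.conj : Z →* MulAut Z).range ≤ ψ.range := by
    rintro _ ⟨z, rfl⟩
    obtain ⟨y, hy⟩ := hsur z
    exact ⟨⟨(y : G), hLH y.2⟩, hy⟩
  set φ := ψ.rangeRestrict with hφ
  have hAinj : ∀ a : ↥H, (a : G) ∈ A → φ a = 1 → a = 1 := by
    intro a ha h1
    have h2 : a ∈ φ.ker := MonoidHom.mem_ker.2 h1
    rw [hker, mem_subgroupOf] at h2
    by_contra ha1
    exact (hmove a ha fun e => ha1 (Subtype.ext e)).2 h2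
  set A' := (A.subgroupOf H).map φ with hA'
  have hA'el : Cfsg.IsElementaryAbelian p A' := by
    refine ⟨⟨⟨fun x y => Subtype.ext ?_⟩⟩, ?_⟩
    · obtain ⟨a, ha, hax⟩ := x.2
      obtain ⟨b, hb, hby⟩ := y.2
      rw [Subgroup.coe_mul, Subgroup.coe_mul, ← hax, ← hby, ← map_mul, ← map_mul]
      congr 1
      exact Subtype.ext (congrArg (fun z : ↥A => (z : G))
        (hA.1.is_comm.comm ⟨(a : G), ha⟩ ⟨(b : G), hb⟩))
    · rintro _ ⟨a, ha, rfl⟩
      rw [← map_pow]
      have e : a ^ p = 1 := Subtype.ext (hA.2 a ha)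
      rw [e, map_one]
  have hA'card : Nat.card A' = p ^ k := by
    have hinj : Function.Injective (φ.comp (A.subgroupOf H).subtype) := by
      rw [← MonoidHom.ker_eq_bot_iff, eq_bot_iff]
      intro a ha
      exact Subtype.ext (hAinj a a.2 (MonoidHom.mem_ker.1 ha))
    have h1 := Nat.card_congr (MonoidHom.ofInjective hinj).toEquiv
    rw [MonoidHom.range_comp φ (A.subgroupOf H).subtype, range_subtype (A.subgroupOf H)] at h1
    rw [hA', ← h1, Nat.card_congr (subgroupOfEquivOfLe hAH).toEquiv, hAk]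
  have hΔ := hZ ψ.range hinn A' hA'el hA'card
  have hle : (D.subgroupOf H).map φ ≤ Cfsg.signalizerDelta p A' := by
    refine le_iInf ?_
    rintro ⟨_, ⟨⟨a, haH⟩, ha, rfl⟩, hne1⟩
    have ha1 : a ≠ 1 := fun e => hne1 (by
      have e' : (⟨a, haH⟩ : ↥H) = 1 := Subtype.ext e
      rw [e', map_one])
    refine le_trans (map_mono fun d hd => ?_) (map_le_centralizerPPrimeCore (hord a ha ha1) hO hL
      (hHle a ha ha1) φ ψ.rangeRestrict_surjective hker haH)
    exact mem_subgroupOf.2 (hD a ha ha1 hd)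
  rw [hΔ] at hle
  intro d hd
  have h2 : φ ⟨d, hDH hd⟩ = 1 := mem_bot.1 (hle (mem_map_of_mem φ (mem_subgroupOf.2 hd)))
  have h3 : (⟨d, hDH hd⟩ : ↥H) ∈ φ.ker := MonoidHom.mem_ker.2 h2
  rwa [hker, mem_subgroupOf] at h3


/-- If the components are locally `k`-balanced and the `p'`-core is trivial, then `Δ(A) = 1`. -/
theorem eq_bot_of_le_centralizerPPrimeCore (hO : Cfsg.pPrimeCore p G = ⊥) {k : ℕ}
    (h : ∀ K : Subgroup G, Cfsg.IsComponent K → Cfsg.IsLocallyKBalanced p k (↥K ⧸ center ↥K))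
    {A : Subgroup G} (hA : Cfsg.IsElementaryAbelian p A) (hAk : Nat.card A = p ^ k) (hA1 : A ≠ ⊥)
    {D : Subgroup G} (hD : ∀ a ∈ A, a ≠ 1 → D ≤ Cfsg.centralizerPPrimeCore p a) : D = ⊥ := by
  by_contra hne
  have hord : ∀ a ∈ A, a ≠ 1 → orderOf a = p := fun a ha ha1 => orderOf_eq_prime (hA.2 a ha) ha1
  have hpg : ∀ a ∈ A, a ≠ 1 → IsPGroup p (zpowers a) := fun a ha ha1 =>
    isPGroup_zpowers_of_orderOf (k := 1) (by rw [pow_one, hord a ha ha1])
  obtain ⟨a0, ha0, ha01⟩ := (bot_or_exists_ne_one A).resolve_left hA1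
  obtain ⟨L, hL, hDL⟩ := exists_component_not_le_centralizer (hpg a0 ha0 ha01) hO (hD a0 ha0 ha01) hne
  have hDN : D ≤ normalizer (L : Set G) :=
    (hD a0 ha0 ha01).trans (centralizerPPrimeCore_le_normalizer_component (hpg a0 ha0 ha01) hO hL)
  have hmove : ∀ a ∈ A, a ≠ 1 → a ∈ normalizer (L : Set G) ∧ a ∉ centralizer (L : Set G) := by
    intro a ha ha1
    refine ⟨?_, fun h1 => ?_⟩
    · by_contra h1
      exact hDL ((hD a ha ha1).trans
        (centralizerPPrimeCore_le_centralizer_of_moved (hpg a ha ha1) hO (hord a ha ha1) hL h1))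
    · refine hDL ((hD a ha ha1).trans
        (centralizerPPrimeCore_le_centralizer_of_le hO a hL fun l hl => ?_))
      exact mem_centralizer_singleton_iff.2 (mem_centralizer_iff.1 h1 l hl)
  have hAN : A ≤ normalizer (L : Set G) := fun a ha => by
    by_cases ha1 : a = 1
    · exact ha1 ▸ one_mem _
    · exact (hmove a ha ha1).1
  refine hDL (le_centralizer_of_isLocallyKBalanced hO hA hAk hL hmove hAN hDN hD
    (normalizerModCenterHom L) (ker_normalizerModCenterHom hL.2) (fun z => ?_) (h L hL))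
  obtain ⟨y, rfl⟩ := QuotientGroup.mk'_surjective _ z
  refine ⟨y, MulEquiv.ext fun z => ?_⟩
  obtain ⟨z, rfl⟩ := QuotientGroup.mk'_surjective _ z
  rw [normalizerModCenterHom_apply, MulAut.conj_apply]
  rfl

/-- The same with the hypothesis on the components themselves: if they are locally `k`-balanced and the `p'`-core is trivial, then `Δ(A) = 1`. -/
theorem eq_bot_of_le_centralizerPPrimeCore' (hO : Cfsg.pPrimeCore p G = ⊥) {k : ℕ}
    (h : ∀ K : Subgroup G, Cfsg.IsComponent K → Cfsg.IsLocallyKBalanced p k ↥K)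
    {A : Subgroup G} (hA : Cfsg.IsElementaryAbelian p A) (hAk : Nat.card A = p ^ k) (hA1 : A ≠ ⊥)
    {D : Subgroup G} (hD : ∀ a ∈ A, a ≠ 1 → D ≤ Cfsg.centralizerPPrimeCore p a) : D = ⊥ := by
  by_contra hne
  have hord : ∀ a ∈ A, a ≠ 1 → orderOf a = p := fun a ha ha1 => orderOf_eq_prime (hA.2 a ha) ha1
  have hpg : ∀ a ∈ A, a ≠ 1 → IsPGroup p (zpowers a) := fun a ha ha1 =>
    isPGroup_zpowers_of_orderOf (k := 1) (by rw [pow_one, hord a ha ha1])
  obtain ⟨a0, ha0, ha01⟩ := (bot_or_exists_ne_one A).resolve_left hA1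
  obtain ⟨L, hL, hDL⟩ := exists_component_not_le_centralizer (hpg a0 ha0 ha01) hO (hD a0 ha0 ha01) hne
  have hDN : D ≤ normalizer (L : Set G) :=
    (hD a0 ha0 ha01).trans (centralizerPPrimeCore_le_normalizer_component (hpg a0 ha0 ha01) hO hL)
  have hmove : ∀ a ∈ A, a ≠ 1 → a ∈ normalizer (L : Set G) ∧ a ∉ centralizer (L : Set G) := by
    intro a ha ha1
    refine ⟨?_, fun h1 => ?_⟩
    · by_contra h1
      exact hDL ((hD a ha ha1).trans
        (centralizerPPrimeCore_le_centralizer_of_moved (hpg a ha ha1) hO (hord a ha ha1) hL h1))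
    · refine hDL ((hD a ha ha1).trans
        (centralizerPPrimeCore_le_centralizer_of_le hO a hL fun l hl => ?_))
      exact mem_centralizer_singleton_iff.2 (mem_centralizer_iff.1 h1 l hl)
  have hAN : A ≤ normalizer (L : Set G) := fun a ha => by
    by_cases ha1 : a = 1
    · exact ha1 ▸ one_mem _
    · exact (hmove a ha ha1).1
  refine hDL (le_centralizer_of_isLocallyKBalanced hO hA hAk hL hmove hAN hDN hD
    (normalizerMonoidHom L) (normalizerMonoidHom_ker L) (fun z => ⟨z, ?_⟩) (h L hL))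
  exact MulEquiv.ext fun y => Subtype.ext rfl

/-- The image in `C/O` of `O_{p'}(C_G(a)) ∩ C` lies in the `p'`-core of the centralizer of the image of `a`. -/
theorem map_centralizerPPrimeCore_le {C : Subgroup G} {O : Subgroup ↥C} [O.Normal]
    (hO : (Nat.card O).Coprime p) {a : ↥C} (ha : IsPGroup p (zpowers a)) :
    ((Cfsg.centralizerPPrimeCore p (a : G)).subgroupOf C).map (QuotientGroup.mk' O) ≤
      Cfsg.centralizerPPrimeCore p (QuotientGroup.mk' O a) := by
  set q := QuotientGroup.mk' O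
  set K := (Cfsg.centralizerPPrimeCore p (a : G)).subgroupOf C
  have hKC : K ≤ centralizer ({a} : Set ↥C) := fun y hy => mem_centralizer_singleton_iff.2
    (Subtype.ext (mem_centralizer_singleton_iff.1 (centralizerPPrimeCore_le (a : G) hy)))
  have hCK : centralizer ({a} : Set ↥C) ≤ normalizer (K : Set ↥C) := by
    intro g hg
    have h1 := centralizer_le_normalizer_centralizerPPrimeCore (p := p) (a : G)
      (mem_centralizer_singleton_iff.2 (congrArg Subtype.val (mem_centralizer_singleton_iff.1 hg)))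
    rw [mem_normalizer_iff]
    intro y
    simp only [K, mem_subgroupOf, Subgroup.coe_mul, InvMemClass.coe_inv]
    exact mem_normalizer_iff.1 h1 y
  have hcent : centralizer ({q a} : Set (↥C ⧸ O)) = (centralizer ({a} : Set ↥C)).map q := by
    rw [← centralizer_zpowers, ← centralizer_zpowers, map_centralizer_eq hO ha, MonoidHom.map_zpowers]
  refine le_centralizerPPrimeCore ?_ ?_ ?_
  · rw [hcent]; exact map_mono hKC
  · rw [hcent]; exact (map_mono hCK).trans (le_normalizer_map _)
  · refine Nat.Coprime.coprime_dvd_left ((card_map_dvd K q).trans ?_)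
      (coprime_card_centralizerPPrimeCore (p := p) (a : G))
    rw [← card_map_of_injective C.subtype_injective, subgroupOf_map_subtype]
    exact card_dvd_of_le inf_le_left

/-- `Δ(A) ∩ C(b) ≤ O_{p'}(C(b))` when the components of `C(b)/O_{p'}(C(b))`, or their central quotients,
are locally `k`-balanced. -/
theorem delta_inf_centralizer_le {k : ℕ} (hk : 1 ≤ k) {A : Subgroup G}
    (hA : Cfsg.IsElementaryAbelian p A) (hAk : Nat.card A = p ^ k) {b : G} (hb : orderOf b = p)
    (hcomm : ∀ a ∈ A, a * b = b * a)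
    (h : (∀ K : Subgroup (↥(centralizer ({b} : Set G)) ⧸ Cfsg.pPrimeCore p ↥(centralizer ({b} : Set G))),
        Cfsg.IsComponent K → Cfsg.IsLocallyKBalanced p k (↥K ⧸ center ↥K)) ∨
      ∀ K : Subgroup (↥(centralizer ({b} : Set G)) ⧸ Cfsg.pPrimeCore p ↥(centralizer ({b} : Set G))),
        Cfsg.IsComponent K → Cfsg.IsLocallyKBalanced p k ↥K) :
    Cfsg.signalizerDelta p A ⊓ centralizer ({b} : Set G) ≤ Cfsg.centralizerPPrimeCore p b := by
  set C := centralizer ({b} : Set G) with hC
  have hAC : A ≤ C := fun a ha => mem_centralizer_singleton_iff.2 (hcomm a ha)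
  haveI := Cfsg.pPrimeCore_normal p ↥C
  set O := Cfsg.pPrimeCore p ↥C with hOdef
  set q := QuotientGroup.mk' O
  set D := (Cfsg.signalizerDelta p A ⊓ C).subgroupOf C with hD
  have hAinj : ∀ a : ↥C, (a : G) ∈ A → q a = 1 → a = 1 := by
    intro a ha h1
    rw [QuotientGroup.mk'_apply, QuotientGroup.eq_one_iff] at h1
    have h2 : a ∈ A.subgroupOf C ⊓ O := ⟨ha, h1⟩
    rwa [inf_eq_bot_of_isPGroup (show IsPGroup p (A.subgroupOf C) from (isPGroup_of_elemAb hA).comap_subtype)
      (coprime_card_pPrimeCore p ↥C), mem_bot] at h2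
  set A' := (A.subgroupOf C).map q with hA'
  have hA'el : Cfsg.IsElementaryAbelian p A' := by
    refine ⟨⟨⟨fun x y => Subtype.ext ?_⟩⟩, ?_⟩
    · obtain ⟨a, ha, hax⟩ := x.2
      obtain ⟨c, hc, hcy⟩ := y.2
      rw [Subgroup.coe_mul, Subgroup.coe_mul, ← hax, ← hcy, ← map_mul, ← map_mul]
      congr 1
      exact Subtype.ext (congrArg (fun z : ↥A => (z : G))
        (hA.1.is_comm.comm ⟨(a : G), ha⟩ ⟨(c : G), hc⟩))
    · rintro _ ⟨a, ha, rfl⟩
      rw [← map_pow]
      have e : a ^ p = 1 := Subtype.ext (hA.2 a ha)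
      rw [e, map_one]
  have hA'card : Nat.card A' = p ^ k := by
    have hinj : Function.Injective (q.comp (A.subgroupOf C).subtype) := by
      rw [← MonoidHom.ker_eq_bot_iff, eq_bot_iff]
      intro a ha
      exact Subtype.ext (hAinj a a.2 (MonoidHom.mem_ker.1 ha))
    have h1 := Nat.card_congr (MonoidHom.ofInjective hinj).toEquiv
    rw [MonoidHom.range_comp, range_subtype] at h1
    rw [hA', ← h1, Nat.card_congr (subgroupOfEquivOfLe hAC).toEquiv, hAk]
  have hA'1 : A' ≠ ⊥ := fun e => by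
    have h1 : Nat.card A' = 1 := by rw [e, card_bot]
    rw [hA'card] at h1
    exact (Nat.one_lt_pow (by omega : k ≠ 0) hp.out.one_lt).ne' h1
  have hDbot : D.map q = ⊥ := by
    refine h.elim
      (fun h => eq_bot_of_le_centralizerPPrimeCore (pPrimeCore_quotient_eq_bot p ↥C) h hA'el hA'card hA'1 ?_)
      (fun h => eq_bot_of_le_centralizerPPrimeCore' (pPrimeCore_quotient_eq_bot p ↥C) h hA'el hA'card hA'1 ?_)
    all_goals
      rintro _ ⟨a, ha, rfl⟩ hne
      have ha1 : (a : G) ≠ 1 := fun e => hne (by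
        have e' : a = 1 := Subtype.ext e
        rw [e', map_one])
      refine le_trans (map_mono fun d hd => ?_) (map_centralizerPPrimeCore_le (p := p)
        (coprime_card_pPrimeCore p ↥C) ((isPGroup_of_elemAb hA).comap_subtype.to_le
          (zpowers_le.2 (show a ∈ A.subgroupOf C from ha))))
      exact mem_subgroupOf.2 (iInf_le (fun c : {c : G // c ∈ A ∧ c ≠ 1} =>
        Cfsg.centralizerPPrimeCore p (c : G)) ⟨(a : G), ha, ha1⟩ hd.1)
  intro d hd
  have h1 : (⟨d, hd.2⟩ : ↥C) ∈ O := by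
    rw [Subgroup.map_eq_bot_iff, QuotientGroup.ker_mk'] at hDbot
    exact hDbot hd
  exact ⟨⟨d, hd.2⟩, h1, rfl⟩

/-- Local `k`-balance of components of centralizers gives `k`-balance. -/
theorem isKBalanced_of_components {k : ℕ} (hk : 1 ≤ k)
    (h : ∀ x : G, orderOf x = p → ∀ K : Subgroup (↥(centralizer ({x} : Set G)) ⧸
      Cfsg.pPrimeCore p ↥(centralizer ({x} : Set G))),
      Cfsg.IsComponent K → Cfsg.IsLocallyKBalanced p k (↥K ⧸ center ↥K)) :
    Cfsg.IsKBalanced p k G :=
  fun A hA hAk b hb hcomm => delta_inf_centralizer_le hk hA hAk hb hcomm (Or.inl (h b hb))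

/-- `1`-balance for the prime 2 is local balance. -/
theorem isLocallyKBalanced_one_of_isLocallyBalanced {K : Type*} [Group K] [Finite K]
    (h : Cfsg.IsLocallyBalanced K) : Cfsg.IsLocallyKBalanced 2 1 K := by
  intro H hH A hA hcard
  obtain ⟨⟨a, haA⟩, hane, -⟩ := (Nat.card_eq_two_iff' (1 : ↥A)).1 (by simpa using hcard)
  have ha1 : a ≠ 1 := fun e => hane (Subtype.ext e)
  rw [eq_bot_iff, ← h H hH a (orderOf_eq_prime (hA.2 a haA) ha1)]
  exact iInf_le_of_le ⟨a, haA, ha1⟩ le_rfl

end CfsgLib.Comp
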