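import Cfsg.Agent.Lib.Comp.MeetAut
import Cfsg.Agent.Lib.Comp.BetweenNormal
import Cfsg.Agent.Lib.Comp.ConstrainedComponent

/-!
Normal subsystems of a quasisimple fusion system.
-/

set_option autoImplicit false
set_option linter.unusedVariables false
set_option linter.unusedSectionVars false
set_option linter.style.haveILetI false

namespace CfsgLib.Comp.QSN

open Cfsg Cfsg.FusionSystem Subgroup CfsgLib.Fusion CfsgLib.Comp.Fus

variable {Ω Ω' : Type*} [Group Ω] [Group Ω'] {S T Z : Subgroup Ω} {S' : Subgroup Ω'}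
  {F : FusionSystem S} {θ : S →* Ω'} {E : FusionSystem S'} {p : ℕ}

/-- A map induces a map along a morphism. -/
theorem descend (h : F.IsMorphism E θ) {P : Subgroup Ω} {g : Ω → Ω} (hg : IsMap F P g) :
    ∃ g', IsMap E (imageAlong θ P) g' ∧
      ∀ (x : Ω) (hx : x ∈ P), g' (θ ⟨x, hg.le hx⟩) = θ ⟨g x, hg.mem hx⟩ := by
  obtain ⟨φ, hφ, hφx⟩ := hg
  have hle := (F.le_of_mem hφ).1
  obtain ⟨φ', hφ', hind⟩ := h.2 P φ hφ
  refine ⟨toFun φ', isMap_of_hom hφ', fun x hx => ?_⟩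
  have hmem : θ ⟨x, hle hx⟩ ∈ imageAlong θ P := mem_imageAlong.2 ⟨x, hle hx, hx, rfl⟩
  rw [toFun_of_mem φ' hmem, inducedAlong_apply hind hx (hle hx) ((F.le_of_mem hφ).2 _) hmem]
  exact congrArg θ (Subtype.ext (hφx ⟨x, hx⟩))

section

variable [Fact p.Prime] [Finite S]

/-- The image of a normal subsystem in a factor system is weakly normal. -/
theorem exists_image (hS : IsPGroup p S) (hF : F.IsSaturated p) {D : FusionSystem T}
    (hD : D.IsWeaklyNormalIn F p) (hZ : F.StronglyClosed Z) (hE : F.IsFactorSystem Z θ E) :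
    ∃ D' : FusionSystem (imageAlong θ T), D'.IsWeaklyNormalIn E p ∧
      ∀ (P' : Subgroup Ω') (f : Ω' → Ω'), IsMap D' P' f → ∃ g, IsMap D (preimageAlong θ P' ⊓ T) g ∧
        ∀ (x : Ω) (hx : x ∈ preimageAlong θ P' ⊓ T) (hgx : g x ∈ S),
          f (θ ⟨x, preimageAlong_le hx.1⟩) = θ ⟨g x, hgx⟩ := by
  obtain ⟨hDsat, -, hinv⟩ := hD
  obtain ⟨hsub, hsc, hconj, hfrat⟩ := isInvariantIn_iff.1 hinv
  have hTS := hsc.1
  haveI := finite_of_le hTS
  have hTp : IsPGroup p T := hS.to_le hTS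
  have hsur := isSurjectiveMorphism_factor hS hF hZ hE
  have hEsat : E.IsSaturated p := isSaturated_image hS hF hsur
  haveI : Finite S' := by
    have : Finite θ.range := Finite.of_surjective _ θ.rangeRestrict_surjective
    rwa [hE.2.2.1] at this
  set θT : T →* Ω' := θ.comp (Subgroup.inclusion hTS) with hθT
  have hθTx : ∀ (x : Ω) (hx : x ∈ T), θT ⟨x, hx⟩ = θ ⟨x, hTS hx⟩ := fun x hx => rfl
  have hZTF : F.StronglyClosed (T ⊓ Z) := stronglyClosed_iff.2 ⟨inf_le_left.trans hTS,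
    fun P f hP hf x hx => ⟨StronglyClosed.apply_mem hsc hf hx (hP hx).1,
      StronglyClosed.apply_mem hZ hf hx (hP hx).2⟩⟩
  have hZT : D.StronglyClosed (T ⊓ Z) := stronglyClosed_of_sub hsub hZTF inf_le_left
  have hker : ∀ s : T, θT s = 1 ↔ (s : Ω) ∈ T ⊓ Z := fun s =>
    ⟨fun h => ⟨s.2, (hE.2.1 _).1 h⟩, fun h => (hE.2.1 _).2 h.2⟩
  have hran : θT.range = imageAlong θ T := by
    ext y
    rw [mem_imageAlong]
    exact ⟨fun ⟨t, ht⟩ => ⟨t, hTS t.2, t.2, ht⟩, fun ⟨x, hx, hxT, h⟩ => ⟨⟨x, hxT⟩, h⟩⟩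
  set D' := castSys hran (factorSys D hZT θT hker) with hD'
  have hfac : D.IsFactorSystem (T ⊓ Z) θT D' := by
    refine ⟨inf_le_left, hker, hran, fun P' φ' => ?_⟩
    rw [hD', castSys_hom]
    exact ⟨fun h => ⟨hran ▸ h.1, h.2⟩, fun h => ⟨hran.symm ▸ h.1, h.2⟩⟩
  have hD'sat : D'.IsSaturated p :=
    isSaturated_image hTp hDsat (isSurjectiveMorphism_factor hTp hDsat hZT hfac)
  have hWS : imageAlong θ T ≤ S' := fun y hy => by
    obtain ⟨x, hx, -, rfl⟩ := mem_imageAlong.1 hy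
    exact hE.2.2.1 ▸ ⟨_, rfl⟩
  have hW : E.StronglyClosed (imageAlong θ T) := by
    refine stronglyClosed_iff.2 ⟨hWS, fun P' f hP' hf y hy => ?_⟩
    obtain ⟨-, g, hg, hgx⟩ := (isMap_induced_iff hE.2.2.2 hE.2.2.1).1 hf
    obtain ⟨x, hxS, hxT, rfl⟩ := mem_imageAlong.1 (hP' hy)
    have hxP : x ∈ preimageAlong θ P' := mem_preimageAlong.2 ⟨hxS, hy⟩
    rw [hgx x hxP]
    exact mem_imageAlong.2 ⟨g x, hg.mem hxP, StronglyClosed.apply_mem hsc hg hxP hxT, rfl⟩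
  have hpre : ∀ P', preimageAlong θT P' = preimageAlong θ P' ⊓ T := fun P' => by
    ext x
    rw [mem_preimageAlong, Subgroup.mem_inf, mem_preimageAlong]
    exact ⟨fun ⟨hx, h⟩ => ⟨⟨hTS hx, h⟩, hx⟩, fun ⟨⟨_, h⟩, hx⟩ => ⟨hx, h⟩⟩
  refine ⟨D', ⟨hD'sat, hEsat, isInvariantIn_iff.2 ⟨?_, hW, fun a ha P' f hf => ?_,
    fun P' f hP' hf => ?_⟩⟩, fun P' f hf => ?_⟩
  · refine isSubsystemOf_iff.2 fun P' f hf => ?_
    obtain ⟨hP', g, hg, hgx⟩ := (isMap_induced_iff hfac.2.2.2 hfac.2.2.1).1 hf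
    obtain ⟨g', hg', hg'x⟩ := descend hsur.1 (isSubsystemOf_iff.1 hsub _ _ hg)
    have hle : P' ≤ imageAlong θ (preimageAlong θT P') := fun y hy => by
      obtain ⟨x, hxS, hxT, rfl⟩ := mem_imageAlong.1 (hP' hy)
      exact mem_imageAlong.2 ⟨x, hxS, mem_preimageAlong.2 ⟨hxT, hy⟩, rfl⟩
    refine (hg'.mono hle).congr fun y hy => ?_
    obtain ⟨x, hxS, hxQ, rfl⟩ := mem_imageAlong.1 (hle hy)
    rw [hg'x x hxQ]
    exact (hgx x hxQ).symm
  · obtain ⟨-, a₀, ha₀, ha₀x⟩ := (isMap_induced_iff hE.2.2.2 hE.2.2.1).1 ha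
    have hTpre : T ≤ preimageAlong θ (imageAlong θ T) := fun x hx =>
      mem_preimageAlong.2 ⟨hTS hx, mem_imageAlong.2 ⟨x, hTS hx, hx, rfl⟩⟩
    have haT : IsMap F T a₀ := ha₀.mono hTpre
    obtain ⟨hP', g, hg, hgx⟩ := (isMap_induced_iff hfac.2.2.2 hfac.2.2.1).1 hf
    obtain ⟨k, hk, hkx⟩ := hconj a₀ haT _ g hg
    obtain ⟨ai, hai, haix, -, -⟩ := ha.exists_inv
    have haQ : ∀ x ∈ preimageAlong θT P', a₀ x ∈ T := fun x hx =>
      StronglyClosed.apply_mem hsc haT (hg.le hx) (hg.le hx)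
    refine ⟨fun y => a (f (ai y)), ?_, fun y hy => ?_⟩
    swap
    · show a (f (ai (a y))) = a (f y)
      rw [haix y (hP' hy)]
    refine (isMap_induced_iff hfac.2.2.2 hfac.2.2.1).2 ⟨fun y hy => ?_, k, ?_, ?_⟩
    · obtain ⟨u, hu, rfl⟩ := (ha.mono hP').mem_img.1 hy
      exact StronglyClosed.apply_mem hW ha (hP' hu) (hP' hu)
    · refine hk.mono fun x hx => ?_
      obtain ⟨hxT, hx'⟩ := mem_preimageAlong.1 hx
      obtain ⟨u, hu, hue⟩ := (ha.mono hP').mem_img.1 hx'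
      obtain ⟨q, hqS, hqT, rfl⟩ := mem_imageAlong.1 (hP' hu)
      have hqQ : q ∈ preimageAlong θT P' := mem_preimageAlong.2 ⟨hqT, hu⟩
      rw [ha₀x q (hTpre hqT)] at hue
      have hz : (a₀ q)⁻¹ * x ∈ T ⊓ Z := (hker (⟨a₀ q, haQ q hqQ⟩⁻¹ * ⟨x, hxT⟩)).1 (by
        rw [map_mul, map_inv, inv_mul_eq_one]
        exact hue)
      have hz' : (a₀ q)⁻¹ * x ∈ img (preimageAlong θT P') a₀ := by
        have h := (StronglyClosed.img_eq hZTF haT inf_le_left).ge hz
        refine img_mono ?_ h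
        exact le_preimageAlong_of_ker hker inf_le_left
      have h := mul_mem ((haT.mono hg.le).apply_mem_img hqQ) hz'
      rwa [mul_inv_cancel_left] at h
    · intro x hx
      obtain ⟨hxT, hx'⟩ := mem_preimageAlong.1 hx
      obtain ⟨u, hu, hue⟩ := (ha.mono hP').mem_img.1 hx'
      -- write `x` as the image of a representative
      have hxQ : x ∈ img (preimageAlong θT P') a₀ := by
        obtain ⟨q, hqS, hqT, rfl⟩ := mem_imageAlong.1 (hP' hu)
        have hqQ : q ∈ preimageAlong θT P' := mem_preimageAlong.2 ⟨hqT, hu⟩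
        rw [ha₀x q (hTpre hqT)] at hue
        have hz : (a₀ q)⁻¹ * x ∈ T ⊓ Z := (hker (⟨a₀ q, haQ q hqQ⟩⁻¹ * ⟨x, hxT⟩)).1 (by
          rw [map_mul, map_inv, inv_mul_eq_one]
          exact hue)
        have h := mul_mem ((haT.mono hg.le).apply_mem_img hqQ) (img_mono (f := a₀)
          (le_preimageAlong_of_ker hker inf_le_left) ((StronglyClosed.img_eq hZTF haT inf_le_left).ge hz))
        rwa [mul_inv_cancel_left] at h
      obtain ⟨q, hq, rfl⟩ := (haT.mono hg.le).mem_img.1 hxQ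
      show a (f (ai (θ ⟨a₀ q, _⟩))) = θT ⟨k (a₀ q), _⟩
      rw [← ha₀x q (hTpre (hg.le hq)),
        haix _ (mem_imageAlong.2 ⟨q, hTS (hg.le hq), hg.le hq, rfl⟩)]
      have e : f (θ ⟨q, hTS (hg.le hq)⟩) = θ ⟨g q, hTS (hg.mem hq)⟩ := hgx q hq
      rw [e, ha₀x _ (hTpre (hg.mem hq))]
      exact congrArg θ (Subtype.ext (hkx q hq).symm)
  · obtain ⟨-, g, hg, hgx⟩ := (isMap_induced_iff hE.2.2.2 hE.2.2.1).1 hf
    obtain ⟨a, ha, d, hd, hgad⟩ := hfrat (preimageAlong θT P') g preimageAlong_le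
      (hg.mono (by rw [hpre]; exact inf_le_left))
    obtain ⟨a', ha', ha'x⟩ := descend hsur.1 ha
    obtain ⟨d', hd', hd'x⟩ := descend (isSurjectiveMorphism_factor hTp hDsat hZT hfac).1 hd
    have hle : P' ≤ imageAlong θT (preimageAlong θT P') :=
      (imageAlong_preimageAlong (hran ▸ hP')).ge
    refine ⟨a', ha', d', hd'.mono hle, fun y hy => ?_⟩
    obtain ⟨x, hxT, hxQ, rfl⟩ := mem_imageAlong.1 (hle hy)
    rw [hd'x x hxQ]
    show f (θ ⟨x, hTS hxT⟩) = a' (θ ⟨d x, hTS (hd.mem hxQ)⟩)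
    rw [ha'x (d x) (hd.mem hxQ), hgx x ((hpre P' ▸ hxQ : x ∈ preimageAlong θ P' ⊓ T).1)]
    exact congrArg θ (Subtype.ext (hgad x hxQ))
  · obtain ⟨hP', g, hg, hgx⟩ := (isMap_induced_iff hfac.2.2.2 hfac.2.2.1).1 hf
    refine ⟨g, hpre P' ▸ hg, fun x hx hgS => ?_⟩
    exact hgx x (hpre P' ▸ hx : x ∈ preimageAlong θT P')

/-- The `p`-elements of every automorphism group of centric subgroups lie in an invariant system
over the whole of `S`. -/
theorem genSys_le_invariant (hS : IsPGroup p S) (hF : F.IsSaturated p) {D : FusionSystem S}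
    (hD : D.IsInvariantIn F) : genSys F p ≤ D := by
  refine genSys_le_of fun P hP => ?_
  rw [Subgroup.map_le_iff_le_comap]
  refine (Subgroup.closure_le _).2 ?_
  rintro ⟨β, hβ⟩ ⟨n, hn⟩
  rw [Subgroup.orderOf_mk] at hn
  haveI := finite_of_le hP.1
  obtain ⟨Q, hPQ, hQn⟩ := exists_fullyNormalized_conj F hP.1
  obtain ⟨ψ, hψ, rfl⟩ := isConj_iff.1 hPQ
  set δ := MulAut.congr hψ.equivImg β with hδ
  have hzp : IsPGroup p (Subgroup.zpowers δ) := IsPGroup.of_card (n := n) (by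
    rw [Nat.card_zpowers, hδ, MulEquiv.orderOf_eq, hn])
  obtain ⟨η, hη, hη'⟩ := exists_conj_le_autInducedBy (fullyAutomized_of_fullyNormalized hS hF hQn)
    _ hzp (Subgroup.zpowers_le.2 (hψ.congr_mem_autGroup hβ))
  obtain ⟨t, ht, htx⟩ := mem_autInducedBy_iff.1 (hη' δ (Subgroup.mem_zpowers _))
  have hm : IsMap F (img P ψ) (autFun η) := isMap_autFun hψ.img_le hη
  refine Meet.autGroup_of_innerShift hD hD (le_inf hP.1 hP.1)
    ⟨_, hψ.comp hm fun x hx => hψ.apply_mem_img hx, t, ⟨ht, ht⟩, ?_, fun x => ?_⟩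
  · rw [img_comp_eq hψ hm fun x hx => hψ.apply_mem_img hx, Fus.img_autFun]
    exact mem_normalizer_of_aut htx
  · have h := htx (η (hψ.equivImg x))
    rw [MulAut.mul_apply, MulAut.mul_apply, MulAut.inv_apply_self] at h
    show autFun η (ψ _) = t * autFun η (ψ x) * t⁻¹
    rw [autFun_apply η (hψ.apply_mem_img (Subtype.mem _)),
      autFun_apply η (hψ.apply_mem_img x.2)]
    refine Eq.trans ?_ h
    congr 2
    exact Subtype.ext (Meet.coe_congr_equivImg hψ β x).symm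

/-- A normal subsystem of a quasisimple system is central or everything. -/
theorem normal_central_or_all (hS : IsPGroup p S) (hq : F.Quasisimple p) {D : FusionSystem T}
    (hD : D.IsNormalIn F p) :
    T ≤ F.center ∨ (T = S ∧ ∀ P f, IsMap F P f → IsMap D P f) := by
  obtain ⟨hF, hperf, hsimple⟩ := hq
  have hZn : F.IsCentral F.center := center_isCentral
  have hZsc : F.StronglyClosed F.center := IsNormal.stronglyClosed (IsCentral.isNormal hZn)
  set θ := QuotientGroup.mk' ((F.center).subgroupOf S) with hθ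
  have hker : ∀ s : S, θ s = 1 ↔ (s : Ω) ∈ F.center := fun s => QuotientGroup.eq_one_iff s
  have hrange : θ.range = ⊤ := MonoidHom.range_eq_top.2 (QuotientGroup.mk'_surjective _)
  set E := castSys hrange (factorSys F hZsc θ hker) with hEdef
  have hE : F.IsFactorSystem F.center θ E := by
    refine ⟨center_le F, hker, hrange, fun P' φ' => ?_⟩
    rw [hEdef, castSys_hom]
    exact ⟨fun h => ⟨le_top, h.2⟩, fun h => ⟨hrange.ge.trans' le_top, h.2⟩⟩
  obtain ⟨hEsat, hEne, hEsimple⟩ := hsimple E hE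
  have hQp : IsPGroup p (⊤ : Subgroup (S ⧸ (F.center).subgroupOf S)) :=
    (hS.to_quotient _).to_subgroup ⊤
  obtain ⟨D', hD', hD'm⟩ := exists_image hS hF hD.1 hZsc hE
  have hTS : T ≤ S := hD.1.2.2.2.1.1
  haveI := finite_of_le hTS
  haveI : Finite (imageAlong θ T) := inferInstance
  rcases hEsimple _ _ (isNormalIn_ppSys hQp hD' (hQp.to_le le_top)) with hbot | ⟨htop, hhom⟩
  · left
    intro x hx
    have h : θ ⟨x, hTS hx⟩ ∈ imageAlong θ T := mem_imageAlong.2 ⟨x, hTS hx, hx, rfl⟩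
    rw [hbot, Subgroup.mem_bot] at h
    exact (hker _).1 h
  right
  have hrep : ∀ (x : Ω) (hx : x ∈ S), ∃ t ∈ T, t⁻¹ * x ∈ F.center := fun x hx => by
    obtain ⟨t, htS, htT, ht⟩ := mem_imageAlong.1 (htop.ge (Subgroup.mem_top (θ ⟨x, hx⟩)))
    refine ⟨t, htT, (hker (⟨t, htS⟩⁻¹ * ⟨x, hx⟩)).1 ?_⟩
    rw [map_mul, map_inv, ht, inv_mul_cancel]
  have hT : T = S := by
    refine le_antisymm hTS (hperf.ge.trans (hyperfocal_le_of _ fun P hP α hα hco x => ?_))
    obtain ⟨h, hh, hhx, hhz⟩ := (isCentral_iff.1 hZn).2 P _ (isMap_autFun hP hα)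
    obtain ⟨t, ht, htz⟩ := hrep x (hP x.2)
    have hz : t⁻¹ * (x : Ω) ∈ P ⊔ F.center := mem_sup_right htz
    have htm : t ∈ P ⊔ F.center := by
      have h := mul_mem (mem_sup_left (T := F.center) x.2) (Subgroup.inv_mem _ hz)
      rwa [mul_inv_rev, inv_inv, mul_inv_cancel_left] at h
    have hht : h t ∈ T := StronglyClosed.apply_mem hD.1.2.2.2.1 hh htm ht
    have e : ((α x : P) : Ω) = h t * (t⁻¹ * x) := by
      rw [← hhz _ htz, ← hh.map_mul htm hz, mul_inv_cancel_left, hhx x x.2, autFun_apply α x.2]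
    have hc := F.center_le_centralizer htz (t⁻¹ * h t)
      (S.mul_mem (S.inv_mem (hTS ht)) (hTS hht))
    rw [e]
    have e2 : (x : Ω)⁻¹ * (h t * (t⁻¹ * (x : Ω))) = t⁻¹ * h t := by
      calc (x : Ω)⁻¹ * (h t * (t⁻¹ * (x : Ω)))
          = (t⁻¹ * (x : Ω))⁻¹ * ((t⁻¹ * h t) * (t⁻¹ * (x : Ω))) := by group
        _ = t⁻¹ * h t := by rw [hc, inv_mul_cancel_left]
    rw [e2]
    exact T.mul_mem (T.inv_mem ht) hht
  subst hT
  refine ⟨rfl, fun P f hf => ?_⟩
  have hDinv := hD.1.2.2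
  have hgen := genSys_le_invariant hS hF hDinv
  obtain ⟨α, hα, g, hg, hfx⟩ := exists_frattini hS hF hf
  suffices hαD : IsMap D T (autFun α) from
    ((le_iff_isMap.1 hgen P g hg).comp hαD fun x hx => hg.mem hx).congr fun x hx => (hfx x hx).symm
  have hαF := isMap_autFun (le_refl T) hα
  obtain ⟨a', ha', ha'x⟩ := descend (isSurjectiveMorphism_factor hS hF hZsc hE).1 hαF
  have ha'D : IsMap D' (imageAlong θ T) a' := by
    obtain ⟨φ', hφ', hφ'x⟩ := ha'
    rw [← hhom] at hφ'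
    exact ⟨φ', ppSys_le (hQp.to_le le_top) hD'.1 _ hφ', hφ'x⟩
  obtain ⟨d, hd, hdx⟩ := hD'm _ a' ha'D
  have hTle : T ≤ preimageAlong θ (imageAlong θ T) ⊓ T := fun x hx =>
    ⟨mem_preimageAlong.2 ⟨hx, mem_imageAlong.2 ⟨x, hx, hx, rfl⟩⟩, hx⟩
  have hdT := hd.mono hTle
  have hdi : img T d = T := eq_of_le_of_card_le hdT.img_le hdT.card_img.ge
  set β := hdT.toAut hdi with hβ
  have hβD : β ∈ D.autGroup T := hdT.toAut_mem hdi
  have hβF : β ∈ F.autGroup T := (autGroup_mem_iff le_rfl).2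
    (hDinv.1 T ((autGroup_mem_iff le_rfl).1 hβD))
  have hfix : ∀ γ ∈ F.autGroup T, ∀ y : T, (y : Ω) ∈ F.center → γ y = y := fun γ hγ y hy => by
    obtain ⟨h, hh, hhx, hhz⟩ := (isCentral_iff.1 hZn).2 T _ (isMap_autFun le_rfl hγ)
    refine Subtype.ext ?_
    rw [← autFun_apply γ y.2, ← hhx y y.2, hhz y hy]
  set δ := β⁻¹ * α with hδ
  have hδF : δ ∈ F.autGroup T := mul_mem (inv_mem hβF) hα
  have hαβ : ∀ x : T, ((β x)⁻¹ * α x : T).1 ∈ F.center := fun x => by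
    refine (hker _).1 ?_
    rw [map_mul, map_inv, inv_mul_eq_one]
    have h1 := hdx x (hTle x.2) (hdT.mem x.2)
    rw [ha'x x x.2] at h1
    refine Eq.trans ?_ (Eq.trans h1.symm ?_)
    · exact congrArg θ (Subtype.ext (hdT.toAut_apply hdi x))
    · exact congrArg θ (Subtype.ext (autFun_apply α x.2))
  obtain ⟨m, hm⟩ := hS.exists_card_eq
  have hδpow : δ ^ p ^ m = 1 := by
    refine MulEquiv.ext fun x => ?_
    set z : T := (β x)⁻¹ * α x with hz
    have hzf : δ z = z := hfix δ hδF z (hαβ x)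
    have hx : δ x = x * z := by
      have e : α x = β x * z := by rw [hz, mul_inv_cancel_left]
      rw [hδ, MulAut.mul_apply, e, map_mul, MulAut.inv_apply_self,
        hfix β⁻¹ (inv_mem hβF) z (hαβ x)]
    rw [pow_apply_of_fixed hx hzf (p ^ m), ← hm, pow_card_eq_one', mul_one, MulAut.one_apply]
  obtain ⟨i, -, hi⟩ := (Nat.dvd_prime_pow Fact.out).1 (orderOf_dvd_of_pow_eq_one hδpow)
  have hδD : δ ∈ D.autGroup T :=
    autInducedBy_le_autGroup le_rfl (mem_autInducedBy_of_pow hS hF hδF hi)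
  have hαD' : α ∈ D.autGroup T := by
    have h := mul_mem hβD hδD
    rwa [hδ, mul_inv_cancel_left] at h
  exact isMap_autFun le_rfl hαD'

end

end CfsgLib.Comp.QSN
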