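import Cfsg.Agent.Lib.Comp.MeetNormal
import Cfsg.Agent.Lib.Comp.QuasisimpleNormal
import Cfsg.Agent.Lib.Comp.CentralPart

/-!
Systems with their subgroups, components inside normal subsystems, normal subsystems generated by
components.
-/

set_option autoImplicit false
set_option linter.unusedVariables false
set_option linter.unusedSectionVars false
set_option linter.style.haveILetI false

universe u

namespace CfsgLib.Comp.Lay

open Cfsg Cfsg.FusionSystem Subgroup CfsgLib.Fusion CfsgLib.Comp.Fus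

variable {Ω : Type u} [Group Ω] {S T U : Subgroup Ω} {F : FusionSystem S} {E : FusionSystem T}
  {C : FusionSystem U} {p : ℕ}

/-- A fusion system together with its subgroup. -/
abbrev Sys (Ω : Type u) [Group Ω] : Type u := Σ T : Subgroup Ω, FusionSystem T

theorem sys_ext (h₁ : C.IsSubsystemOf E) (h₂ : E.IsSubsystemOf C) :
    (⟨U, C⟩ : Sys Ω) = ⟨T, E⟩ := by
  obtain rfl : U = T := le_antisymm (le_of_isSubsystemOf h₁) (le_of_isSubsystemOf h₂)
  have e : C = E := CfsgLib.Comp.Fus.fusionSystem_ext fun P f =>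
    ⟨isSubsystemOf_iff.1 h₁ P f, isSubsystemOf_iff.1 h₂ P f⟩
  rw [e]

theorem sub_refl (E : FusionSystem T) : E.IsSubsystemOf E := fun _ _ h => h

theorem sub_trans {W : Subgroup Ω} {D : FusionSystem W} (h₁ : C.IsSubsystemOf E)
    (h₂ : E.IsSubsystemOf D) : C.IsSubsystemOf D := fun P φ h => h₂ P (h₁ P h)

theorem sub_of_normal (h : E.IsNormalIn F p) : E.IsSubsystemOf F := h.1.2.2.1

theorem sub_of_subnormal (h : C.IsSubnormalIn F p) : C.IsSubsystemOf F := by
  induction h with
  | refl F p => exact sub_refl F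
  | step _ h₂ ih => exact sub_trans ih (sub_of_normal h₂)

/-- The maps of a system. -/
def mapSet (E : FusionSystem T) : Set ((P : Subgroup Ω) × (P →* Ω)) := {x | x.2 ∈ E.Hom x.1}

theorem finite_mapSet [Finite T] (E : FusionSystem T) : (mapSet E).Finite := by
  have h : mapSet E ⊆ ⋃ P ∈ {P : Subgroup Ω | P ≤ T}, Sigma.mk P '' E.Hom P := fun x hx =>
    Set.mem_biUnion (E.le_of_mem hx).1 ⟨x.2, hx, rfl⟩
  refine (Set.Finite.biUnion (finite_subgroups_le T) fun P hP => Set.Finite.image _ ?_).subset h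
  haveI := finite_of_le (show P ≤ T from hP)
  have hinj : Function.Injective (fun φ : E.Hom P => fun x : P =>
      (⟨(φ : P →* Ω) x, (E.le_of_mem φ.2).2 x⟩ : T)) := fun a b hab =>
    Subtype.ext (MonoidHom.ext fun x => congrArg Subtype.val (congrFun hab x))
  exact Set.finite_coe_iff.1 (Finite.of_injective _ hinj)

/-- The number of maps. -/
noncomputable def mapCount (E : FusionSystem T) : ℕ := (mapSet E).ncard

theorem mapCount_le [Finite T] (h : C.IsSubsystemOf E) : mapCount C ≤ mapCount E :=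
  Set.ncard_le_ncard (fun x hx => h x.1 hx) (finite_mapSet E)

theorem sub_of_mapCount_le [Finite T] (h : C.IsSubsystemOf E) (hc : mapCount E ≤ mapCount C) :
    E.IsSubsystemOf C := by
  have e : mapSet C = mapSet E :=
    Set.eq_of_subset_of_ncard_le (fun x hx => h x.1 hx) hc (finite_mapSet E)
  intro P φ hφ
  exact (Set.ext_iff.1 e ⟨P, φ⟩).2 hφ

theorem mapCount_lt [Finite T] (h : C.IsSubsystemOf E) (hn : ¬ E.IsSubsystemOf C) :
    mapCount C < mapCount E :=
  lt_of_not_ge fun hc => hn (sub_of_mapCount_le h hc)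

/-- A proper subnormal subsystem lies in a proper normal one. -/
theorem exists_proper_step (h : C.IsSubnormalIn F p) (hn : ¬ F.IsSubsystemOf C) :
    ∃ (V : Subgroup Ω) (D : FusionSystem V),
      D.IsNormalIn F p ∧ C.IsSubnormalIn D p ∧ ¬ F.IsSubsystemOf D := by
  suffices H : ∀ {U S : Subgroup Ω} {C : FusionSystem U} {F : FusionSystem S} {p : ℕ},
      C.IsSubnormalIn F p → F.IsSubsystemOf C ∨ ∃ (V : Subgroup Ω) (D : FusionSystem V),
        D.IsNormalIn F p ∧ C.IsSubnormalIn D p ∧ ¬ F.IsSubsystemOf D from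
    (H h).resolve_left hn
  intro U S C F p h
  induction h with
  | refl F p => exact .inl (sub_refl F)
  | step h₁ h₂ ih =>
    rename_i U₁ S₁ E₁ D₁ F₁ p₁
    rcases Classical.em (F₁.IsSubsystemOf D₁) with hFD | hFD
    · cases sys_ext (sub_of_normal h₂) hFD
      exact ih
    · exact .inr ⟨_, _, h₂, h₁, hFD⟩

/-- A subsystem normal in a normal subsystem. -/
theorem subnormal_step {W : Subgroup Ω} {D : FusionSystem W} (h₁ : C.IsSubnormalIn E p)
    (h₂ : E.IsNormalIn D p) : C.IsSubnormalIn D p := .step h₁ h₂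

theorem le_of_component (h : C.IsComponentIn F p) : U ≤ S := le_of_subnormal h.1

section

variable [Fact p.Prime] [Finite S]

theorem not_comm_of_component (hS : IsPGroup p S) (h : C.IsComponentIn F p) :
    ¬ ∀ a ∈ U, ∀ b ∈ U, a * b = b * a := by
  intro hc
  have hUS := le_of_component h
  haveI := finite_of_le hUS
  exact Cfsg.Agent.S5148.result p (hS.to_le hUS) C h.2
    ⟨⟨fun a b => Subtype.ext (hc a a.2 b b.2)⟩⟩

/-- A component fixes every strongly closed central subgroup of its subgroup. -/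
theorem component_fix (hS : IsPGroup p S) (h : C.IsComponentIn F p) {Z : Subgroup Ω}
    (hZ : C.StronglyClosed Z) (hab : ∀ a ∈ Z, ∀ b ∈ Z, a * b = b * a) {P : Subgroup Ω}
    {f : Ω → Ω} (hf : IsMap C P f) {z : Ω} (hzP : z ∈ P) (hz : z ∈ Z) : f z = z := by
  have hUS := le_of_component h
  haveI := finite_of_le hUS
  have hUp : IsPGroup p U := hS.to_le hUS
  have hle : Z ≤ C.center := (IsNormal.le_core (isNormal_of_abelian_closed hUp h.2.1 hZ hab)).trans
    (CoreCent.core_le_center_of_quasisimple hUp h.2)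
  obtain ⟨g, hg, hgx, hgz⟩ := (isCentral_iff.1 (center_isCentral (F := C))).2 P f hf
  rw [← hgx z hzP]
  exact hgz z (hle hz)

end

/-- A component in a normal subsystem is a component of it. -/
theorem subnormal_of_le_aux : ∀ (n : ℕ) {S : Subgroup Ω} (F : FusionSystem S) [Finite S]
    [Fact p.Prime], IsPGroup p S → F.IsSaturated p → mapCount F ≤ n →
    ∀ {U : Subgroup Ω} (C : FusionSystem U), C.IsComponentIn F p →
    ∀ {T : Subgroup Ω} (D : FusionSystem T), D.IsNormalIn F p → U ≤ T → C.IsSubnormalIn D p := by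
  intro n
  induction n using Nat.strong_induction_on with
  | _ n ih =>
  intro S F _ _ hS hF hn U C hC T D hD hUT
  by_cases hFC : F.IsSubsystemOf C
  · cases sys_ext (sub_of_subnormal hC.1) hFC
    rcases QSN.normal_central_or_all hS hC.2 hD with hz | ⟨rfl, hall⟩
    · exact absurd (fun a ha b hb => FusionSystem.center_le_centralizer _ (hz (hUT hb)) a ha)
        (not_comm_of_component hS hC)
    · cases sys_ext (sub_of_normal hD) (isSubsystemOf_iff.2 hall)
      exact .refl _ p
  · obtain ⟨T₁, D₁, hD₁, hCD₁, hne⟩ := exists_proper_step hC.1 hFC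
    obtain ⟨M, ⟨hM, hM₁, hM₂⟩, -⟩ := Meet.exists_meet hS hD₁ hD
    have hT₁ : T₁ ≤ S := hD₁.1.2.2.2.1.1
    haveI := finite_of_le hT₁
    have hlt := mapCount_lt (sub_of_normal hD₁) hne
    exact .step (ih (mapCount D₁) (lt_of_lt_of_le hlt hn) D₁ (hS.to_le hT₁) hD₁.1.1 le_rfl C
      ⟨hCD₁, hC.2⟩ M hM₁ (le_inf (le_of_subnormal hCD₁) hUT)) hM₂

variable [Fact p.Prime] [Finite S]

theorem subnormal_of_le (hS : IsPGroup p S) (hC : C.IsComponentIn F p) (hD : E.IsNormalIn F p)
    (hUT : U ≤ T) : C.IsSubnormalIn E p :=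
  subnormal_of_le_aux (mapCount F) F hS hD.1.2.1 le_rfl C hC E hD hUT

theorem sub_of_le (hS : IsPGroup p S) (hC : C.IsComponentIn F p) (hD : E.IsNormalIn F p)
    (hUT : U ≤ T) : C.IsSubsystemOf E := sub_of_subnormal (subnormal_of_le hS hC hD hUT)

/-- `E` is the least normal subsystem containing the systems in `O`. -/
def IsGen (F : FusionSystem S) (p : ℕ) (O : Sys Ω → Prop) (E : FusionSystem T) : Prop :=
  E.IsNormalIn F p ∧ (∀ X, O X → X.2.IsSubsystemOf E) ∧
    ∀ (R : Subgroup Ω) (D : FusionSystem R), D.IsNormalIn F p →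
      (∀ X, O X → X.2.IsSubsystemOf D) → E.IsSubsystemOf D

theorem isNormalIn_self (hS : IsPGroup p S) (hF : F.IsSaturated p) : F.IsNormalIn F p := by
  refine isNormalIn_iff.2 ⟨CC.isWeaklyNormalIn_self hF, fun a ha => ?_⟩
  have hle : S ⊔ centralizerIn S S ≤ S := sup_le le_rfl inf_le_left
  refine ⟨a, ha.mono hle, fun x _ => rfl, fun c hc => ⟨S.mul_mem (S.inv_mem hc.1) (ha.mem hc.1), ?_⟩⟩
  have hi : img S a = S := eq_of_le_of_card_le ha.img_le ha.card_img.ge
  have h := ha.apply_mem_centralizerIn le_rfl hc.1 hc.2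
  rw [hi] at h
  exact mul_mem (Subgroup.inv_mem _ hc.2) h.2

/-- Existence of the normal subsystem generated by components. -/
theorem exists_gen (hS : IsPGroup p S) (hF : F.IsSaturated p) {O : Sys Ω → Prop}
    (hO : ∀ X, O X → X.2.IsComponentIn F p) :
    ∃ (T : Subgroup Ω) (E : FusionSystem T), IsGen F p O E := by
  classical
  have hex : ∃ m, ∃ (T : Subgroup Ω) (E : FusionSystem T), E.IsNormalIn F p ∧
      (∀ X, O X → X.2.IsSubsystemOf E) ∧ mapCount E = m :=
    ⟨_, S, F, isNormalIn_self hS hF, fun X hX => sub_of_subnormal (hO X hX).1, rfl⟩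
  obtain ⟨T, E, hE, hOE, hm⟩ := Nat.find_spec hex
  refine ⟨T, E, hE, hOE, fun R D hD hOD => ?_⟩
  obtain ⟨M, ⟨hM, hM₁, hM₂⟩, -⟩ := Meet.exists_meet hS hE hD
  haveI := finite_of_le hE.1.2.2.2.1.1
  have hOM : ∀ X, O X → X.2.IsSubsystemOf M := fun X hX => sub_of_le hS (hO X hX) hM
    (le_inf (le_of_isSubsystemOf (hOE X hX)) (le_of_isSubsystemOf (hOD X hX)))
  have hmin : Nat.find hex ≤ mapCount M := Nat.find_min' hex ⟨_, M, hM, hOM, rfl⟩
  exact sub_trans (sub_of_mapCount_le (sub_of_normal hM₁) (hm ▸ hmin)) (sub_of_normal hM₂)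

theorem gen_unique {T' : Subgroup Ω} {E' : FusionSystem T'} {O : Sys Ω → Prop}
    (h : IsGen F p O E) (h' : IsGen F p O E') : (⟨T, E⟩ : Sys Ω) = ⟨T', E'⟩ :=
  sys_ext (h.2.2 _ _ h'.1 h'.2.1) (h'.2.2 _ _ h.1 h.2.1)

/-- `O` is invariant under the maps of `F` on `T`. -/
def IsInvariantFamily (F : FusionSystem S) (T : Subgroup Ω) (O : Sys Ω → Prop) : Prop :=
  ∀ (a c : Ω → Ω), IsMap F T a → (∀ x ∈ T, c (a x) = x) → ∀ X : Sys Ω, O X →
    ∀ P f, IsMap X.2 P f →
      ∃ Y : Sys Ω, O Y ∧ IsMap Y.2 (img P a) (fun y => a (f (c y)))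

/-- The inverse of an isomorphism given by a map of the system is a map of the system. -/
theorem isMap_inv_of_iso (hT : F.StronglyClosed T) {a c : Ω → Ω} (ha : IsMap F T a)
    (hiso : IsIso E E a c) : IsMap F T c := by
  haveI := finite_of_le hT.1
  obtain ⟨k, hk, hkx, hky, -⟩ := ha.exists_inv
  rw [StronglyClosed.img_eq hT ha le_rfl] at hk hky
  refine hk.congr fun y hy => ?_
  obtain ⟨x, hx, rfl⟩ := ha.mem_img.1 ((StronglyClosed.img_eq hT ha le_rfl).ge hy)
  rw [hkx x hx, hiso.left x hx]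

/-- A family generating a normal subsystem and invariant in the whole system generates it as a
subsystem of itself. -/
theorem gen_self (hS : IsPGroup p S) {O : Sys Ω → Prop} (hO : ∀ X, O X → X.2.IsComponentIn F p)
    (hE : IsGen F p O E) (hinvO : IsInvariantFamily F T O) {T' : Subgroup Ω}
    {E' : FusionSystem T'} (hE' : IsGen E p O E') : E.IsSubsystemOf E' := by
  have hF := hE.1.1.2.1
  obtain ⟨hEF, hTsc, -, hEfrat⟩ := isInvariantIn_iff.1 hE.1.1.2.2
  have hTS := hTsc.1
  haveI := finite_of_le hTS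
  obtain ⟨hsub', hsc', hconj', hfrat'⟩ := isInvariantIn_iff.1 hE'.1.1.2.2
  have hT'T := hsc'.1
  haveI := finite_of_le hT'T
  -- invariance under the maps on `T`
  have key : ∀ a c, IsMap F T a → IsIso E E a c → ∀ P f, IsMap E' P f →
      IsMap E' (push c P) fun x => c (f (a x)) := by
    intro a c ha hiso
    obtain ⟨E'', hE''⟩ := exists_mapSys hiso E' hT'T
    have hn := isNormalIn_transport hiso hE'' hE'.1
    have hsubO : ∀ X, O X → X.2.IsSubsystemOf E'' := fun X hX => by
      refine isSubsystemOf_iff.2 fun P f hf => ?_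
      have hc : IsMap F T c := isMap_inv_of_iso hTsc ha hiso
      have hPT : P ≤ T := hf.le.trans (le_of_isSubsystemOf (hE.2.1 X hX))
      obtain ⟨Y, hY, hYm⟩ := hinvO c a hc hiso.right X hX P f hf
      have h1 := hE''.map _ _ (isSubsystemOf_iff.1 (hE'.2.1 Y hY) _ _ hYm)
      have e : push a (img P c) = P := hiso.symm.push_push hPT
      rw [e] at h1
      refine h1.congr fun y hy => ?_
      show a (c (f (a (c y)))) = f y
      rw [hiso.right y (hPT hy), hiso.right _ (isSubsystemOf_iff.1 (hE.2.1 X hX) _ _ hf |>.mem hy)]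
    intro P f hf
    exact hE''.map' _ _ (isSubsystemOf_iff.1 (hE'.2.2 _ _ hn hsubO) _ _ hf)
  have hclosed : ∀ a, IsMap F T a → ∀ x ∈ T', a x ∈ T' := by
    intro a ha x hx
    obtain ⟨c, hiso⟩ := exists_iso_invariant hE.1.1.2.2 ha
    have hc : IsMap F T c := isMap_inv_of_iso hTsc ha hiso
    exact (key c a hc hiso.symm T' id (isMap_id E' le_rfl)).le (hiso.apply_mem hx)
  have hsc : F.StronglyClosed T' := by
    refine stronglyClosed_iff.2 ⟨hT'T.trans hTS, fun P f hP hf x hx => ?_⟩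
    obtain ⟨a, ha, e, he, hfx⟩ := hEfrat P f (hP.trans hT'T) hf
    rw [hfx x hx]
    exact hclosed a ha _ (StronglyClosed.apply_mem hsc' he hx (hP hx))
  have hw : E'.IsWeaklyNormalIn F p := by
    refine ⟨hE'.1.1.1, hF, isInvariantIn_iff.2 ⟨sub_trans hsub' hEF, hsc, fun a ha P f hf => ?_,
      fun P f hP hf => ?_⟩⟩
    · -- extend the map to `T` by the Frattini condition
      obtain ⟨a₁, ha₁, e, he, hax⟩ := hEfrat T' a hT'T ha
      have hei : img T' e = T' := eq_of_le_of_card_le (fun y hy => by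
        obtain ⟨x, hx, rfl⟩ := he.mem_img.1 hy
        exact StronglyClosed.apply_mem hsc' he hx hx) he.card_img.ge
      obtain ⟨g, hg, hgx⟩ := hconj' e he P f hf
      obtain ⟨c₁, hiso⟩ := exists_iso_invariant hE.1.1.2.2 ha₁
      have hc₁ : IsMap F T c₁ := isMap_inv_of_iso hTsc ha₁ hiso
      have h1 := key c₁ a₁ hc₁ hiso.symm _ g hg
      have hPT' := hf.le
      have hle : img P a ≤ push a₁ (img P e) := fun y hy => by
        obtain ⟨x, hx, rfl⟩ := (ha.mono hPT').mem_img.1 hy
        rw [hax x (hPT' hx)]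
        exact hiso.apply_mem ((he.mono hPT').apply_mem_img hx)
      refine ⟨_, h1.mono hle, fun x hx => ?_⟩
      show a₁ (g (c₁ (a x))) = a (f x)
      rw [hax x (hPT' hx), hiso.left _ (hT'T (hei.le (he.apply_mem_img (hPT' hx)))), hgx x hx,
        hax _ (hf.mem hx)]
    · obtain ⟨a, ha, e, he, hfx⟩ := hEfrat P f (hP.trans hT'T) hf
      obtain ⟨b, hb, g, hg, hex⟩ := hfrat' P e hP he
      refine ⟨fun x => a (b x), ((isSubsystemOf_iff.1 hEF _ _ hb).comp ha fun x hx =>
        hT'T (StronglyClosed.apply_mem hsc' hb hx hx)), g, hg,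
        fun x hx => ?_⟩
      rw [hfx x hx, hex x hx]
  have hp' : IsPGroup p T' := hS.to_le (hT'T.trans hTS)
  refine sub_trans (hE.2.2 _ _ (isNormalIn_ppSys hS hw hp') fun X hX => sub_of_le hS (hO X hX)
    (isNormalIn_ppSys hS hw hp') (le_of_isSubsystemOf (hE'.2.1 X hX))) ?_
  exact ppSys_le hp' hw.1

end CfsgLib.Comp.Lay
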