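import Cfsg.Agent.Lib.Comp.SystemTransport

/-!
The layer of a fusion system is invariant under the automorphisms of the system.
-/

set_option autoImplicit false
set_option linter.unusedVariables false
set_option linter.unusedSectionVars false
set_option linter.style.haveILetI false

namespace CfsgLib.Comp.Fus

open Cfsg Cfsg.FusionSystem Subgroup CfsgLib.Fusion

variable {Ω : Type*} [Group Ω] {S T : Subgroup Ω} {F : FusionSystem S} {E : FusionSystem T}
  {j k : Ω → Ω} {P : Subgroup Ω} {p : ℕ}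

section Iso

variable (α : S ≃* S)

theorem funOf_apply_equiv {x : Ω} (hx : x ∈ S) :
    funOf (S.subtype.comp α.toMonoidHom) x = (α ⟨x, hx⟩ : S) :=
  funOf_of_mem _ hx

theorem imageAlong_eq_push (hP : P ≤ S) :
    imageAlong (S.subtype.comp α.toMonoidHom) P = push (funOf (S.subtype.comp α.toMonoidHom)) P := by
  refine le_antisymm ?_ ((Subgroup.closure_le _).2 ?_)
  · rintro _ ⟨x, hx, rfl⟩
    exact Subgroup.subset_closure ⟨x, hx, funOf_apply _ x⟩
  · rintro _ ⟨x, hx, rfl⟩
    exact ⟨⟨x, hP hx⟩, hx, (funOf_apply_equiv α (hP hx)).symm⟩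

theorem isMap_of_morphism (hα : F.IsMorphism F (S.subtype.comp α.toMonoidHom))
    {f : Ω → Ω} (hf : IsMap F P f) :
    IsMap F (push (funOf (S.subtype.comp α.toMonoidHom)) P) (fun y =>
      funOf (S.subtype.comp α.toMonoidHom) (f (funOf (S.subtype.comp α.symm.toMonoidHom) y))) := by
  obtain ⟨φ', hφ', hP, hv, hP', hx⟩ := hα.2 P hf.toHom hf.toHom_mem
  rw [← imageAlong_eq_push α hf.le]
  refine ⟨φ', hφ', ?_⟩
  rintro ⟨_, x, hxP, rfl⟩
  have h1 := hx ⟨x, hxP⟩
  refine h1.trans ?_
  show (α ⟨f x, _⟩ : Ω) = funOf _ (f (funOf _ ((α x : S) : Ω)))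
  rw [funOf_apply_equiv α.symm (α x).2, Subtype.coe_eta, MulEquiv.symm_apply_apply,
    funOf_apply_equiv α (hf.mem (show (x : Ω) ∈ P from hxP))]

theorem isIso_of_morphism (hα : F.IsMorphism F (S.subtype.comp α.toMonoidHom))
    (hα' : F.IsMorphism F (S.subtype.comp α.symm.toMonoidHom)) :
    IsIso F F (funOf (S.subtype.comp α.toMonoidHom)) (funOf (S.subtype.comp α.symm.toMonoidHom)) where
  mem x hx := by rw [funOf_apply_equiv α hx]; exact (α _).2
  mem' x hx := by rw [funOf_apply_equiv α.symm hx]; exact (α.symm _).2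
  left x hx := by
    rw [funOf_apply_equiv α hx, funOf_apply_equiv α.symm (α _).2, Subtype.coe_eta,
      MulEquiv.symm_apply_apply]
  right x hx := by
    rw [funOf_apply_equiv α.symm hx, funOf_apply_equiv α (α.symm _).2, Subtype.coe_eta,
      MulEquiv.apply_symm_apply]
  mul x hx y hy := by
    rw [funOf_apply_equiv α hx, funOf_apply_equiv α hy, funOf_apply_equiv α (S.mul_mem hx hy)]
    show _ = ((α ⟨x, hx⟩ * α ⟨y, hy⟩ : S) : Ω)
    rw [← map_mul]
    rfl
  map P f hf := isMap_of_morphism α hα hf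
  map' P f hf := isMap_of_morphism α.symm hα' hf

end Iso

variable [Finite S] [Fact p.Prime]

theorem layer_le_image (hS : IsPGroup p S) (hE : E.IsLayerOf F p) (h : IsIso F F j k)
    {E' : FusionSystem (push j T)} (hE' : IsIso E E' j k) : E.IsSubsystemOf E' := by
  obtain ⟨hn, hcomp, hmin⟩ := hE
  refine hmin _ E' (isNormalIn_transport h hE' hn) fun U C hC => ?_
  obtain ⟨U₀, C₀, hC₀, hC₀n⟩ := isSubnormalIn_transport hC.1 h.symm
  have hUS := le_of_subnormal hC.1
  haveI := finite_of_le hUS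
  have hsub := isSubsystemOf_iff.1
    (hcomp U₀ C₀ ⟨hC₀n, isQuasisimple_transport (hS.to_le hUS) hC₀ hC.2⟩)
  refine isSubsystemOf_iff.2 fun P f hf => ?_
  have h1 := hE'.map _ _ (hsub _ _ (hC₀.map P f hf))
  rw [h.symm.push_push (hf.le.trans hUS)] at h1
  refine h1.congr fun y hy => ?_
  show j (k (f (j (k y)))) = f y
  rw [h.right y (hf.le.trans hUS hy), h.right _ (hUS (hf.mem hy))]

theorem layer_invariant (hS : IsPGroup p S) (hE : E.IsLayerOf F p) (h : IsIso F F j k) :
    push j T = T ∧ IsIso E E j k := by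
  have hTS : T ≤ S := hE.1.1.2.2.2.1.1
  haveI := finite_of_le hTS
  obtain ⟨E', hE'⟩ := exists_mapSys h E hTS
  obtain ⟨E'', hE''⟩ := exists_mapSys h.symm E hTS
  have hsub := isSubsystemOf_iff.1 (layer_le_image hS hE h hE')
  have hsub' := isSubsystemOf_iff.1 (layer_le_image hS hE h.symm hE'')
  have hle : T ≤ push j T := (hsub T id (isMap_id E le_rfl)).le
  haveI : Finite (push j T) := finite_of_le (h.push_le hTS)
  have heq : push j T = T :=
    (eq_of_le_of_card_le hle (Nat.card_congr (h.equiv hTS).toEquiv).ge).symm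
  refine ⟨heq, ⟨fun x hx => heq.le (hE'.mem x hx), fun y hy => hE'.mem' y (heq.ge hy), hE'.left,
    fun y hy => hE'.right y (heq.ge hy), hE'.mul, fun P f hf => ?_, fun P f hf => ?_⟩⟩
  · have h2 := hE''.map' _ _ (hsub' P f hf)
    exact h2
  · exact hE'.map' _ _ (hsub P f hf)

end CfsgLib.Comp.Fus
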