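import Cfsg.Agent.Lib.Comp.LayerProduct

/-!
A strongly closed subgroup meeting a perfect normal subsystem centrally commutes with its subgroup.
-/

set_option autoImplicit false
set_option linter.unusedVariables false
set_option linter.unusedSectionVars false
set_option linter.style.haveILetI false

universe u

namespace CfsgLib.Comp.Lay

open Cfsg Cfsg.FusionSystem Subgroup CfsgLib.Fusion CfsgLib.Comp.Fus CfsgLib.Comp.CExt

variable {Ω : Type u} [Group Ω] {S T W : Subgroup Ω} {F : FusionSystem S} {E : FusionSystem T}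
  {p : ℕ} [Fact p.Prime] [Finite S] (hS : IsPGroup p S) (hE : E.IsNormalIn F p)
  (hW : F.StronglyClosed W) (hA : ∀ z ∈ W ⊓ T, ∀ x ∈ T, x * z = z * x)

include hS hE hW hA

/-- An inner automorphism also induced by the closed subgroup commutes with the automorphisms
having canonical extensions. -/
theorem commute_of_canExt {Q : Subgroup Ω} (hQT : Q ≤ T) {α : MulAut Q} {G : Ω → Ω}
    (hG : CanExt F p Q α G) {v : Q} {s : Ω} (hs : s ∈ W)
    (hsv : ∀ y ∈ Q, s * y * s⁻¹ = (v : Ω) * y * (v : Ω)⁻¹) :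
    ∀ y ∈ Q, ((α v : Q) : Ω) * y * ((α v : Q) : Ω)⁻¹ = (v : Ω) * y * (v : Ω)⁻¹ := by
  have hT : T ≤ S := hE.1.2.2.2.1.1
  set w : Ω := (v : Ω)⁻¹ * s with hw
  have hwC : w ∈ centralizerIn S Q := by
    refine ⟨S.mul_mem (S.inv_mem (hT (hQT v.2))) (hW.1 hs), fun y hy => ?_⟩
    calc y * w = (v : Ω)⁻¹ * ((v : Ω) * y * (v : Ω)⁻¹) * s := by rw [hw]; group
      _ = (v : Ω)⁻¹ * (s * y * s⁻¹) * s := by rw [hsv y hy]
      _ = w * y := by rw [hw]; group
  have hsm : s ∈ Q ⊔ centralizerIn S Q := by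
    have h := mul_mem (mem_sup_left (T := centralizerIn S Q) v.2) (mem_sup_right hwC)
    rwa [hw, mul_inv_cancel_left] at h
  have hGs : G s ∈ W := StronglyClosed.apply_mem hW hG.map hsm hs
  set r : Ω := w⁻¹ * G w with hr
  have hrQ : r ∈ Q := hG.triv w hwC
  have hGw : G w ∈ centralizerIn S Q := by
    have h := hG.map.apply_mem_centralizerIn le_sup_left (mem_sup_right hwC) hwC.2
    refine ⟨h.1, fun y hy => h.2 y ?_⟩
    obtain ⟨x, hx⟩ := α.surjective ⟨y, hy⟩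
    refine (hG.map.mono le_sup_left).mem_img.2 ⟨x, x.2, ?_⟩
    rw [hG.val x, hx]
  have hrC : ∀ y ∈ Q, y * r = r * y := fun y hy => mul_mem (Subgroup.inv_mem _ hwC.2) hGw.2 y hy
  set a : Ω := ((α v : Q) : Ω) * r * (v : Ω)⁻¹ with ha
  have hGv : G s = ((α v : Q) : Ω) * (w * r) := by
    have e : s = (v : Ω) * w := by rw [hw, mul_inv_cancel_left]
    conv_lhs => rw [e]
    rw [hG.map.map_mul (mem_sup_left v.2) (mem_sup_right hwC), hG.val v, hr, mul_inv_cancel_left]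
  have haW : a ∈ W := by
    have h := W.mul_mem hGs (W.inv_mem hs)
    have e : G s * s⁻¹ = a := by
      have hrw : w * r = r * w := (hwC.2 r hrQ).symm
      have es : s = (v : Ω) * w := by rw [hw, mul_inv_cancel_left]
      rw [hGv, hrw, es, ha]
      group
    rwa [e] at h
  have haQ : a ∈ Q := Q.mul_mem (Q.mul_mem (α v).2 hrQ) (Q.inv_mem v.2)
  intro y hy
  have hav : ((α v : Q) : Ω) = a * (v : Ω) * r⁻¹ := by rw [ha]; group
  rw [hav]
  have h1 : r⁻¹ * y * r = y := by rw [mul_assoc, hrC y hy, inv_mul_cancel_left]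
  have h2 : ∀ q ∈ Q, a * q * a⁻¹ = q := fun q hq => by
    rw [← hA a ⟨haW, hQT haQ⟩ q (hQT hq), mul_inv_cancel_right]
  calc a * (v : Ω) * r⁻¹ * y * (a * (v : Ω) * r⁻¹)⁻¹
      = a * ((v : Ω) * (r⁻¹ * y * r) * (v : Ω)⁻¹) * a⁻¹ := by group
    _ = (v : Ω) * y * (v : Ω)⁻¹ := by
      rw [h1, h2 _ (Q.mul_mem (Q.mul_mem v.2 hy) (Q.inv_mem v.2))]

/-- The commutator of an automorphism of order prime to `p` with the conjugation by an element of
the closed subgroup commutes with it, if it is inner. -/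
theorem commute_of_inner {R : Subgroup Ω} (hR : R ≤ T) {α : MulAut R} (hα : α ∈ E.autGroup R)
    (hcan : ∀ (f : Ω → Ω) (hf : IsMap F R f), IsMap F R f →
      ∃ G, CanExt F p (img R f) (MulAut.congr hf.equivImg α) G)
    {t : Ω} (ht : t ∈ W) (htn : t ∈ normalizer (R : Set Ω)) {v : R}
    (hv : ∀ x : R, ((α ⟨t * x * t⁻¹, (htn x).1 x.2⟩ : R) : Ω) =
      (v : Ω) * (t * (α x : R) * t⁻¹) * (v : Ω)⁻¹) :
    ∀ y ∈ R, ((α v : R) : Ω) * y * ((α v : R) : Ω)⁻¹ = (v : Ω) * y * (v : Ω)⁻¹ := by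
  obtain ⟨⟨hEs, hF, hinv⟩, -⟩ := id hE
  have hT : T ≤ S := hinv.2.1.1
  have hRS : R ≤ S := hR.trans hT
  haveI := finite_of_le hRS
  obtain ⟨Q, hconj, hQn⟩ := exists_fullyNormalized_conj F hRS
  obtain ⟨ψ, hψ, hψi, hψN⟩ := exists_map_normalizerIn_of_fullyNormalized hS hF hQn hconj
  subst hψi
  set N := normalizerIn S R
  have hRN : R ≤ N := le_normalizerIn hRS
  have hψR := hψ.mono hRN
  have htN : t ∈ N := ⟨hW.1 ht, htn⟩
  obtain ⟨G, hG⟩ := hcan ψ hψR hψR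
  set α' := MulAut.congr hψR.equivImg α with hα'
  have hQT : img R ψ ≤ T := fun y hy => by
    obtain ⟨x, hx, rfl⟩ := hψR.mem_img.1 hy
    exact StronglyClosed.apply_mem hinv.2.1 hψR hx (hR hx)
  have hα'F : α' ∈ F.autGroup (img R ψ) := hψR.congr_mem_autGroup
    ((autGroup_mem_iff hRS).2 (hinv.1 R ((autGroup_mem_iff hR).1 hα)))
  have hval : ∀ x : R, autFun α' (ψ x) = ψ (α x : R) := fun x => by
    rw [autFun_apply _ (hψR.apply_mem_img x.2)]
    exact Meet.coe_congr_equivImg hψR α x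
  set t' := ψ t with ht'
  have ht'W : t' ∈ W := StronglyClosed.apply_mem hW hψ htN ht
  have ht'N := hψN t htN
  have hm := isMap_autFun hψR.img_le hα'F
  -- extend `α'` to `t'`
  have hrel : ∀ y ∈ img R ψ, autFun α' (t' * y * t'⁻¹) =
      (ψ v * t') * autFun α' y * (ψ v * t')⁻¹ := by
    intro y hy
    obtain ⟨x, hx, rfl⟩ := hψR.mem_img.1 hy
    have hxt : t * x * t⁻¹ ∈ R := (htn x).1 hx
    rw [ht', ← hψ.map_conj htN (hRN hx), hval ⟨_, hxt⟩, hval ⟨x, hx⟩, hv ⟨x, hx⟩]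
    have hαx : ((α ⟨x, hx⟩ : R) : Ω) ∈ N := hRN (Subtype.mem _)
    rw [hψ.map_conj (hRN v.2) (N.mul_mem (N.mul_mem htN hαx) (N.inv_mem htN)),
      hψ.map_conj htN hαx]
    group
  have hvS : ψ v * t' ∈ S := S.mul_mem (hψR.mem v.2) (hW.1 ht'W)
  set K := extender S (img R ψ) hm.toHom
  have htK : t' ∈ K := (mem_extender_iff hm hm.toHom_apply).2
    ⟨ht'N.1, ht'N.2, _, hvS, fun y hy => hrel y hy⟩
  have hQK : img R ψ ⊔ zpowers t' ≤ K := sup_le (fun a ha =>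
    sup_centralizerIn_le_extender hm hm.toHom_apply (mem_sup_left ha)) (zpowers_le.2 htK)
  obtain ⟨H, hH, hHx⟩ := receptive_extend (receptive_of_fullyNormalized hS hF hQn) hm img_autFun
    (le_sup_left : img R ψ ≤ img R ψ ⊔ zpowers t') fun a ha =>
      (mem_extender_iff hm hm.toHom_apply).1 (hQK ha)
  have htm : t' ∈ img R ψ ⊔ zpowers t' := mem_sup_right (mem_zpowers t')
  set e := H t' with he
  have heW : e ∈ W := StronglyClosed.apply_mem hW hH htm ht'W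
  have hs : ∀ y ∈ img R ψ, e * t'⁻¹ * y * (e * t'⁻¹)⁻¹ = ψ v * y * (ψ v)⁻¹ := by
    intro y hy
    have hy' : t'⁻¹ * y * t' ∈ img R ψ := (mem_normalizer_iff''.1 ht'N.2 y).1 hy
    set u := autFun α'⁻¹ (t'⁻¹ * y * t') with hu
    have hu' : u ∈ img R ψ := autFun_mem _ hy'
    have hau : autFun α' u = t'⁻¹ * y * t' := autFun_apply_inv α' hy'
    have h1 := hH.map_conj htm (mem_sup_left hu')
    rw [hHx _ ((ht'N.2 u).1 hu'), hHx u hu', hrel u hu', hau] at h1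
    calc e * t'⁻¹ * y * (e * t'⁻¹)⁻¹ = e * (t'⁻¹ * y * t') * e⁻¹ := by group
      _ = ψ v * t' * (t'⁻¹ * y * t') * (ψ v * t')⁻¹ := h1.symm
      _ = ψ v * y * (ψ v)⁻¹ := by group
  have hc := commute_of_canExt hS hE hW hA hQT hG (v := ⟨ψ v, hψR.apply_mem_img v.2⟩)
    (W.mul_mem heW (W.inv_mem ht'W)) hs
  intro y hy
  have h1 := hc (ψ y) (hψR.apply_mem_img hy)
  rw [← autFun_apply α' (hψR.apply_mem_img v.2), hval v, ← hψR.map_conj v.2 hy,
    ← hψR.map_conj (α v).2 hy] at h1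
  exact hψR.inj (R.mul_mem (R.mul_mem (α v).2 hy) (R.inv_mem (α v).2))
    (R.mul_mem (R.mul_mem v.2 hy) (R.inv_mem v.2)) h1

/-- The maps compatible with the conjugations by the closed subgroup. -/
def commSys : FusionSystem T where
  Hom P := {φ | φ ∈ E.Hom P ∧ ∀ t ∈ W, ∀ x : P,
    (φ x)⁻¹ * (t * φ x * t⁻¹) = (x : Ω)⁻¹ * (t * (x : Ω) * t⁻¹)}
  le_of_mem h := E.le_of_mem h.1
  injective_of_mem h := E.injective_of_mem h.1
  conj_mem {P g} hP hg := by
    refine ⟨E.conj_mem hP hg, fun t ht x => ?_⟩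
    have hT : T ≤ S := hE.1.2.2.2.1.1
    have hWn : S ≤ normalizer (W : Set Ω) := StronglyClosed.le_normalizer hW
    have hTn : S ≤ normalizer (T : Set Ω) := StronglyClosed.le_normalizer hE.1.2.2.2.1
    have hz : ∀ y ∈ T, y⁻¹ * (t * y * t⁻¹) ∈ W ⊓ T := fun y hy => by
      refine ⟨?_, T.mul_mem (T.inv_mem hy) ((hTn (hW.1 ht) y).1 hy)⟩
      rw [← mul_assoc, ← mul_assoc]
      exact W.mul_mem (by simpa using (hWn (S.inv_mem (hT hy)) t).1 ht) (W.inv_mem ht)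
    show (g * (x : Ω) * g⁻¹)⁻¹ * (t * (g * (x : Ω) * g⁻¹) * t⁻¹) = _
    have hx := hP x.2
    set zg := g⁻¹ * (t * g * t⁻¹) with hzg
    set zx := (x : Ω)⁻¹ * (t * (x : Ω) * t⁻¹) with hzx
    have c1 : ∀ y ∈ T, y * zg = zg * y := fun y hy => hA _ (hz g hg) y hy
    have c2 : ∀ y ∈ T, y * zx = zx * y := fun y hy => hA _ (hz x hx) y hy
    have e : t * (g * (x : Ω) * g⁻¹) * t⁻¹ = g * zg * ((x : Ω) * zx) * (g * zg)⁻¹ := by
      rw [hzg, hzx]; group
    rw [e]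
    have e2 : g * zg * ((x : Ω) * zx) * (g * zg)⁻¹ = g * (x : Ω) * g⁻¹ * zx := by
      calc g * zg * ((x : Ω) * zx) * (g * zg)⁻¹
          = g * (zg * ((x : Ω) * zx)) * zg⁻¹ * g⁻¹ := by group
        _ = g * ((x : Ω) * zx * zg) * zg⁻¹ * g⁻¹ := by
            rw [← c1 _ (T.mul_mem hx (hz x hx).2)]
        _ = g * (x : Ω) * (zx * g⁻¹) := by group
        _ = g * (x : Ω) * g⁻¹ * zx := by rw [← c2 _ (T.inv_mem hg), ← mul_assoc]
    rw [e2, inv_mul_cancel_left]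
  comp_mem {P Q φ ψ} hφ hψ h := ⟨E.comp_mem hφ.1 hψ.1 h, fun t ht x =>
    (hψ.2 t ht ⟨φ x, h x⟩).trans (hφ.2 t ht x)⟩
  inv_mem {P φ} hφ := by
    obtain ⟨ψ, hψ, hψx⟩ := E.inv_mem hφ.1
    refine ⟨ψ, ⟨hψ, fun t ht y => ?_⟩, hψx⟩
    obtain ⟨_, x, rfl⟩ := y
    rw [hψx]
    exact (hφ.2 t ht x).symm

theorem isMap_commSys_iff {P : Subgroup Ω} {f : Ω → Ω} :
    IsMap (commSys hE hW hA) P f ↔ IsMap E P f ∧ ∀ t ∈ W, ∀ x ∈ P,
      (f x)⁻¹ * (t * f x * t⁻¹) = x⁻¹ * (t * x * t⁻¹) := by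
  constructor
  · rintro ⟨φ, ⟨hφ, h⟩, hf⟩
    refine ⟨⟨φ, hφ, hf⟩, fun t ht x hx => ?_⟩
    rw [← hf ⟨x, hx⟩]
    exact h t ht ⟨x, hx⟩
  · rintro ⟨⟨φ, hφ, hf⟩, h⟩
    refine ⟨φ, ⟨hφ, fun t ht x => ?_⟩, hf⟩
    rw [hf x]
    exact h t ht x x.2

/-- Automorphisms of order prime to `p` with canonical extensions are compatible. -/
theorem mem_commSys_of_canExt (hz : ZFix E) {R : Subgroup Ω} (hRc : E.IsCentric R)
    (hkn : ∀ u ∈ normalizerIn T R, (∀ x ∈ R, x⁻¹ * (u * x * u⁻¹) ∈ W ⊓ T) →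
      (∀ x ∈ W ⊓ T, u * x * u⁻¹ = x) → u ∈ R)
    (hRn : E.IsFullyNormalized R) {α : MulAut R} (hα : α ∈ E.autGroup R)
    (hco : (orderOf α).Coprime p)
    (hcan : ∀ (f : Ω → Ω) (hf : IsMap F R f), IsMap F R f →
      ∃ G, CanExt F p (img R f) (MulAut.congr hf.equivImg α) G) :
    α ∈ (commSys hE hW hA).autGroup R := by
  obtain ⟨⟨hEs, hF, hinv⟩, -⟩ := id hE
  obtain ⟨hsub, hTsc, -, -⟩ := id hinv
  have hT : T ≤ S := hTsc.1
  have hRT := hRc.1
  have hRS : R ≤ S := hRT.trans hT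
  haveI := finite_of_le hT
  haveI := finite_of_le hRS
  have hTp : IsPGroup p T := hS.to_le hT
  have hAR : W ⊓ T ≤ R := fun z hz' =>
    hRc.2 R (isConj_refl hRT) ⟨hz'.2, fun x hx => hA z hz' x (hRT hx)⟩
  have hAE : E.StronglyClosed (W ⊓ T) := by
    refine stronglyClosed_iff.2 ⟨inf_le_right, fun P f hP hf x hx => ?_⟩
    exact ⟨StronglyClosed.apply_mem hW (isSubsystemOf_iff.1 hsub _ _ hf) hx (hP hx).1, hf.mem hx⟩
  have hfixA : ∀ β ∈ E.autGroup R, ∀ x : R, (x : Ω) ∈ W ⊓ T → β x = x := fun β hβ x hx => by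
    refine Subtype.ext ?_
    rw [← autFun_apply β x.2]
    exact hz (W ⊓ T) hAE hA R _ (isMap_autFun hRT hβ) x x.2 hx
  have hWn : S ≤ normalizer (W : Set Ω) := StronglyClosed.le_normalizer hW
  have hTn : S ≤ normalizer (T : Set Ω) := StronglyClosed.le_normalizer hTsc
  refine (autGroup_iff_isMap hRT fun x => (autFun_apply α x.2).symm).2
    ((isMap_commSys_iff hS hE hW hA).2 ⟨isMap_autFun hRT hα, fun t ht x hx => ?_⟩)
  have hzmem : ∀ y ∈ T, y⁻¹ * (t * y * t⁻¹) ∈ W ⊓ T := fun y hy => by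
    refine ⟨?_, T.mul_mem (T.inv_mem hy) ((hTn (hW.1 ht) y).1 hy)⟩
    rw [← mul_assoc, ← mul_assoc]
    exact W.mul_mem (by simpa using (hWn (S.inv_mem (hT hy)) t).1 ht) (W.inv_mem ht)
  have htn : t ∈ normalizer (R : Set Ω) := by
    rw [mem_normalizer_iff]
    refine fun y => ⟨fun hy => ?_, fun hy => ?_⟩
    · have h := R.mul_mem hy (hAR (hzmem y (hRT hy)))
      rwa [mul_inv_cancel_left] at h
    · have hyT : y ∈ T := (hTn (hW.1 ht) y).2 (hRT hy)
      have h := R.mul_mem hy (R.inv_mem (hAR (hzmem y hyT)))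
      have e : t * y * t⁻¹ * (y⁻¹ * (t * y * t⁻¹))⁻¹ = y := by group
      rwa [e] at h
  set g : MulAut R := R.normalizerMonoidHom ⟨t, htn⟩ with hg
  have hgv : ∀ x : R, ((g x : R) : Ω) = t * x * t⁻¹ := fun x => rfl
  have hgF : g ∈ F.autGroup R := autInducedBy_le_autGroup hRS
    (mem_autInducedBy_iff.2 ⟨t, hW.1 ht, fun x => rfl⟩)
  set κ := α * g * α⁻¹ * g⁻¹ with hκ
  have hκE : κ ∈ E.autGroup R := by
    rw [hκ, show α * g * α⁻¹ * g⁻¹ = α * (g * α⁻¹ * g⁻¹) by group]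
    exact mul_mem hα (autGroup_conj_mem hinv hRT hgF (inv_mem hα))
  have hgA : ∀ x : R, (x : Ω)⁻¹ * ((g x : R) : Ω) ∈ W ⊓ T := fun x => hzmem x (hRT x.2)
  have hgiA : ∀ x : R, (x : Ω)⁻¹ * ((g⁻¹ x : R) : Ω) ∈ W ⊓ T := fun x => by
    have h := (W ⊓ T).inv_mem (hgA (g⁻¹ x))
    rwa [MulAut.apply_inv_self, mul_inv_rev, inv_inv] at h
  have hκc : κ ∈ chainAut E (W ⊓ T) R := by
    refine mem_chainAut.2 ⟨hκE, fun x hx => ?_, fun x => ?_⟩
    · have h1 : ((g⁻¹ x : R) : Ω) ∈ W ⊓ T := by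
        have := (W ⊓ T).mul_mem hx (hgiA x)
        rwa [mul_inv_cancel_left] at this
      rw [hκ, MulAut.mul_apply, MulAut.mul_apply, MulAut.mul_apply,
        hfixA α⁻¹ (inv_mem hα) _ h1, MulAut.apply_inv_self, hfixA α hα x hx]
    · set u := g⁻¹ x with hu
      set y := α⁻¹ u with hy
      set z : R := y⁻¹ * g y with hzdef
      have hzA : (z : Ω) ∈ W ⊓ T := hgA y
      have e : κ x = α y * z := by
        rw [hκ, MulAut.mul_apply, MulAut.mul_apply, MulAut.mul_apply]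
        rw [show g y = y * z by rw [hzdef, mul_inv_cancel_left], map_mul, hfixA α hα z hzA]
      rw [e, hy, MulAut.apply_inv_self, Subgroup.coe_mul, ← mul_assoc]
      exact (W ⊓ T).mul_mem (hgiA x) hzA
  -- the chain automorphisms are inner
  have hinner : ∀ β ∈ chainAut E (W ⊓ T) R, ∃ v : R, ∀ x : R,
      ((β x : R) : Ω) = (v : Ω) * x * (v : Ω)⁻¹ := by
    intro β hβ
    have hc : chainAut E (W ⊓ T) R ≤ E.autGroup R := fun _ h => (mem_chainAut.1 h).1
    obtain ⟨η, hη, hη'⟩ := exists_conj_le_autInducedBy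
      (fullyAutomized_of_fullyNormalized hTp hEs hRn) (chainAut E (W ⊓ T) R)
      (isPGroup_chainAut hTp hAE.1) hc
    have hβ' : η⁻¹ * β * η⁻¹⁻¹ ∈ chainAut E (W ⊓ T) R := chainAut_normal hAE hRT (inv_mem hη) hβ
    have h1 := hη' _ hβ'
    rw [show η * (η⁻¹ * β * η⁻¹⁻¹) * η⁻¹ = β by group] at h1
    obtain ⟨u, hu, hux⟩ := mem_autInducedBy_iff.1 h1
    obtain ⟨-, hb1, hb2⟩ := mem_chainAut.1 hβ
    exact ⟨⟨u, hkn u ⟨hu, mem_normalizer_of_aut hux⟩ (fun x hx => hux ⟨x, hx⟩ ▸ hb2 ⟨x, hx⟩)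
      (fun x hx => by rw [← hux ⟨x, hAR hx⟩, hb1 ⟨x, hAR hx⟩ hx])⟩, hux⟩
  obtain ⟨v, hv⟩ := hinner κ hκc
  have hcom := commute_of_inner hS hE hW hA hRT hα hcan ht htn (v := v) fun y => by
    have h := hv (g (α y))
    have e : κ (g (α y)) = α (g y) := by simp [hκ]
    rw [e] at h
    exact h
  have hακ : α * κ = κ * α := MulEquiv.ext fun y => Subtype.ext (by
    show ((α (κ y) : R) : Ω) = ((κ (α y) : R) : Ω)
    have e : κ y = v * y * v⁻¹ := Subtype.ext (hv y)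
    rw [e, hv (α y), map_mul, map_mul, map_inv]
    exact hcom (α y) (α y).2)
  have hcg : ∀ k : ℕ, α ^ k * g = κ ^ k * g * α ^ k := by
    intro k
    induction k with
    | zero => simp
    | succ k ih =>
      have h1 : α * g = κ * g * α := by rw [hκ]; group
      have h2 : α * κ ^ k = κ ^ k * α := (Commute.pow_right hακ k).eq
      calc α ^ (k + 1) * g = α * (α ^ k * g) := by rw [pow_succ', mul_assoc]
        _ = α * κ ^ k * g * α ^ k := by rw [ih]; group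
        _ = κ ^ k * (α * g) * α ^ k := by rw [h2]; group
        _ = κ ^ k * κ * g * (α * α ^ k) := by rw [h1]; group
        _ = κ ^ (k + 1) * g * α ^ (k + 1) := by rw [← pow_succ, ← pow_succ']
  have hκ1 : κ = 1 := by
    have h := hcg (orderOf α)
    rw [pow_orderOf_eq_one, mul_one, one_mul, eq_comm, mul_eq_right] at h
    obtain ⟨k, hk⟩ := isPGroup_chainAut hTp hAE.1 ⟨κ, hκc⟩
    exact orderOf_eq_one_iff.1 (Nat.eq_one_of_dvd_coprimes (hco.pow_right k)
      (orderOf_dvd_of_pow_eq_one h) (orderOf_dvd_of_pow_eq_one (congrArg Subtype.val hk)))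
  rw [hκ, mul_inv_eq_one, mul_inv_eq_iff_eq_mul] at hκ1
  set y : R := ⟨x, hx⟩
  set z : R := y⁻¹ * g y with hzdef
  have h1 : α (g y) = g (α y) := by
    rw [← MulAut.mul_apply, hκ1, MulAut.mul_apply]
  rw [show g y = y * z by rw [hzdef, mul_inv_cancel_left], map_mul,
    hfixA α hα z (hgA y), eq_comm, ← inv_mul_eq_iff_eq_mul] at h1
  rw [autFun_apply α hx]
  exact congrArg Subtype.val h1

/-- The conjugations by the closed subgroup are compatible with the whole subsystem. -/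
theorem le_commSys (hz : ZFix E) : E ≤ commSys hE hW hA := by
  obtain ⟨⟨hEs, hF, hinv⟩, -⟩ := id hE
  obtain ⟨hsub, hTsc, -, -⟩ := id hinv
  have hT : T ≤ S := hTsc.1
  haveI := finite_of_le hT
  have hTp : IsPGroup p T := hS.to_le hT
  set D₀ := commSys hE hW hA
  refine alperin_inductive hTp hEs fun R hR hlarge => ?_
  have hRT := hR.1
  haveI := finite_of_le hRT
  have hbig : ∀ α : MulAut R, IsExtendable E R α → α ∈ D₀.autGroup R := by
    rintro α ⟨R', hR', g, hg, hgx⟩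
    haveI := finite_of_le hg.le
    exact (autGroup_iff_isMap hRT fun x => (hgx x).symm).2 ((hlarge _ _ hg
      (lt_of_not_ge fun h => hR'.ne (eq_of_le_of_card_le hR'.le h))).mono hR'.le)
  by_cases hc : E.IsCentric R
  swap
  · rw [← extAut_eq_of_not_centric hTp hEs hR hc]
    exact (Subgroup.closure_le _).2 hbig
  have hRfc := fullyCentralized_of_fullyNormalized hTp hEs hR
  have hAE : E.StronglyClosed (W ⊓ T) := by
    refine stronglyClosed_iff.2 ⟨inf_le_right, fun P f hP hf x hx => ?_⟩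
    exact ⟨StronglyClosed.apply_mem hW (isSubsystemOf_iff.1 hsub _ _ hf) hx (hP hx).1, hf.mem hx⟩
  have hAR : W ⊓ T ≤ R := fun z hz' =>
    hc.2 R (isConj_refl hRT) ⟨hz'.2, fun x hx => hA z hz' x (hRT hx)⟩
  -- extending automorphisms along the kernel
  by_cases hkn : ∀ u ∈ normalizerIn T R, (∀ x ∈ R, x⁻¹ * (u * x * u⁻¹) ∈ W ⊓ T) →
      (∀ x ∈ W ⊓ T, u * x * u⁻¹ = x) → u ∈ R
  swap
  · push Not at hkn
    obtain ⟨u, hu, hu1, hu2, huR⟩ := hkn
    intro ν hν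
    refine hbig ν ?_
    have hcm : (R.normalizerMonoidHom ⟨u, hu.2⟩ : MulAut R) ∈ chainAut E (W ⊓ T) R :=
      mem_chainAut.2 ⟨autInducedBy_le_autGroup hRT (mem_autInducedBy_iff.2 ⟨u, hu.1, fun x => rfl⟩),
        fun x hx => Subtype.ext (hu2 x hx), fun x => hu1 x x.2⟩
    have h2 := chainAut_normal hAE hRT hν hcm
    obtain ⟨η, hη, hη'⟩ := exists_conj_le_autInducedBy
      (fullyAutomized_of_fullyNormalized hTp hEs hR) (chainAut E (W ⊓ T) R)
      (isPGroup_chainAut hTp hAE.1) fun _ h => (mem_chainAut.1 h).1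
    have h3 := hη' _ (chainAut_normal hAE hRT (inv_mem hη) h2)
    obtain ⟨b, hb, hbx⟩ := mem_autInducedBy_iff.1 h3
    refine isExtendable_of_meet hTp hEs hRfc hν hu huR hb fun x => ?_
    rw [← hbx (ν x)]
    simp
  obtain ⟨Wy, hWy⟩ := (fullyAutomized_of_fullyNormalized hTp hEs hR).2
  set L := (D₀.autGroup R).subgroupOf (E.autGroup R) with hL
  have hWL : (Wy : Subgroup (E.autGroup R)) ≤ L := by
    rw [hWy]
    exact Subgroup.comap_mono (autInducedBy_le_autGroup hRT)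
  rcases eq_or_lt_of_le hRT with rfl | hlt
  · refine Subgroup.subgroupOf_eq_top.1 (eq_top_of_sylow_le Wy hWL fun x hx => ?_)
    refine mem_commSys_of_canExt hS hE hW hA hz hc hkn hR (α := (x : MulAut R)) x.2
      (by rwa [Subgroup.orderOf_coe])
      fun f hf _ => ?_
    have hi : img R f = R := StronglyClosed.img_eq hTsc hf le_rfl
    have h := congr_mem_of_invariant hinv hf le_rfl (α := (x : MulAut R)) x.2
    have hord : (orderOf (MulAut.congr hf.equivImg (x : MulAut R))).Coprime p := by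
      rwa [MulEquiv.orderOf_eq, Subgroup.orderOf_coe]
    revert h hord
    generalize MulAut.congr hf.equivImg (x : MulAut R) = β
    revert β
    rw [hi]
    exact fun β h hord => exists_canExt_top hS hF hE h hord
  set A := pGenAut E p R with hAdef
  have hWA : (Wy : Subgroup (E.autGroup R)) ≤ A := fun w hw => by
    obtain ⟨i, hi⟩ := IsPGroup.iff_orderOf.1 Wy.isPGroup' ⟨w, hw⟩
    exact Subgroup.subset_closure ⟨i, by rwa [← Subgroup.orderOf_coe] at hi⟩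
  obtain ⟨V, hV⟩ := CfsgLib.Transfer.exists_sylow_eq_subgroupOf Wy A
  have hAL : A ≤ L := by
    refine Subgroup.subgroupOf_eq_top.1 (eq_top_of_sylow_le V ?_ fun a ha => ?_)
    · rw [hV]
      exact Subgroup.comap_mono hWL
    refine mem_commSys_of_canExt hS hE hW hA hz hc hkn hR (α := ((a : E.autGroup R) : MulAut R))
      a.1.2 (by rwa [Subgroup.orderOf_coe, Subgroup.orderOf_coe]) fun f hf _ => ?_
    have hQc := centric_img_of_map hS hE.1 hf hc
    let Θ : E.autGroup R →* E.autGroup (img R f) :=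
      ((MulAut.congr hf.equivImg).toMonoidHom.comp (E.autGroup R).subtype).codRestrict _
        fun b => congr_mem_of_invariant hinv hf hRT b.2
    have hΘ : A ≤ (pGenAut E p (img R f)).comap Θ := by
      refine (Subgroup.closure_le _).2 ?_
      rintro b ⟨i, hi⟩
      refine Subgroup.subset_closure ⟨i, ?_⟩
      rw [← Subgroup.orderOf_coe] at hi ⊢
      show orderOf (MulAut.congr hf.equivImg (b : MulAut R)) = _
      rw [MulEquiv.orderOf_eq, hi]
    exact exists_canExt hS hF hE hQc (α := Θ a) (hΘ a.2) (by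
      rw [← Subgroup.orderOf_coe]
      show (orderOf (MulAut.congr hf.equivImg ((a : E.autGroup R) : MulAut R))).Coprime p
      rwa [MulEquiv.orderOf_eq, Subgroup.orderOf_coe, Subgroup.orderOf_coe])
  have hsup := V.normalizer_sup_eq_top
  rw [hV, Subgroup.subgroupOf_map_subtype, inf_eq_left.2 hWA] at hsup
  refine Subgroup.subgroupOf_eq_top.1 (top_le_iff.1 (hsup.ge.trans (sup_le (fun ν hν => ?_) hAL)))
  obtain ⟨u, hu, huR⟩ := SetLike.exists_of_lt (lt_normalizerIn hTp hlt)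
  set c : E.autGroup R := ⟨R.normalizerMonoidHom ⟨u, hu.2⟩, autInducedBy_le_autGroup hRT
    (mem_autInducedBy_iff.2 ⟨u, hu.1, fun x => rfl⟩)⟩ with hcdef
  have hcW : c ∈ (Wy : Subgroup (E.autGroup R)) := by
    rw [hWy]
    exact mem_autInducedBy_iff.2 ⟨u, hu.1, fun x => rfl⟩
  have h1 := (Subgroup.mem_normalizer_iff.1 hν c).1 hcW
  rw [hWy] at h1
  obtain ⟨b, hb, hbx⟩ := mem_autInducedBy_iff.1 h1
  refine hbig _ (isExtendable_of_meet hTp hEs hRfc (α := (ν : MulAut R)) ν.2 hu huR hb fun x => ?_)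
  rw [← hbx ((ν : MulAut R) x)]
  simp [hcdef]

/-- The closed subgroup commutes with the subgroup of the perfect subsystem. -/
theorem commute_of_closed (hz : ZFix E) (hperf : T ≤ E.hyperfocalSubgroup p) :
    ∀ t ∈ W, ∀ x ∈ T, t * x = x * t := by
  intro t ht
  have hT : T ≤ S := hE.1.2.2.2.1.1
  haveI := finite_of_le hT
  suffices h : E.hyperfocalSubgroup p ≤ centralizer {t} from
    fun x hx => h (hperf hx) t rfl
  refine hyperfocal_le_of _ fun P hP α hα hco x => ?_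
  obtain ⟨-, h⟩ := (isMap_commSys_iff hS hE hW hA).1
    (le_iff_isMap.1 (le_commSys hS hE hW hA hz) P _ (isMap_autFun hP hα))
  have h1 := h t ht ((x : Ω)⁻¹) (P.inv_mem x.2)
  have ea : autFun α (x : Ω)⁻¹ = ((α x : P) : Ω)⁻¹ := by
    rw [autFun_apply α (P.inv_mem x.2)]
    show ((α x⁻¹ : P) : Ω) = _
    rw [map_inv]
    rfl
  rw [ea] at h1
  set a := ((α x : P) : Ω)
  rintro s (rfl : s = t)
  have h2 : a * s * a⁻¹ = (x : Ω) * s * (x : Ω)⁻¹ := by
    calc a * s * a⁻¹ = a⁻¹⁻¹ * (s * a⁻¹ * s⁻¹) * s := by group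
      _ = (x : Ω)⁻¹⁻¹ * (s * (x : Ω)⁻¹ * s⁻¹) * s := by rw [h1]
      _ = _ := by group
  calc s * ((x : Ω)⁻¹ * a) = (x : Ω)⁻¹ * ((x : Ω) * s * (x : Ω)⁻¹) * a := by group
    _ = (x : Ω)⁻¹ * a * s := by rw [← h2]; group

end CfsgLib.Comp.Lay
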