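import Cfsg.Agent.Lib.Comp.LayerBasic
import Cfsg.Agent.Lib.Comp.CommutingNormal

/-!
Products of finitely many commuting normal subsystems.
-/

set_option autoImplicit false
set_option linter.unusedVariables false
set_option linter.unusedSectionVars false
set_option linter.style.haveILetI false

universe u

namespace CfsgLib.Comp.Lay

open Cfsg Cfsg.FusionSystem Subgroup CfsgLib.Fusion CfsgLib.Comp.Fus CfsgLib.Comp.CProd

variable {Ω : Type u} [Group Ω] {S T T₁ T₂ W : Subgroup Ω} {F : FusionSystem S}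
  {E : FusionSystem T} {E₁ : FusionSystem T₁} {E₂ : FusionSystem T₂} {p : ℕ}

/-- The maps fix every strongly closed subgroup of the centre of `T`. -/
def ZFix (E : FusionSystem T) : Prop :=
  ∀ Z : Subgroup Ω, E.StronglyClosed Z → (∀ z ∈ Z, ∀ t ∈ T, t * z = z * t) →
    ∀ (P : Subgroup Ω) (f : Ω → Ω), IsMap E P f → ∀ z ∈ P, z ∈ Z → f z = z

/-- Finitely many subsystems. -/
theorem finite_subsystems [Finite S] (F : FusionSystem S) :
    {X : Sys Ω | X.2.IsSubsystemOf F}.Finite := by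
  refine Set.Finite.of_finite_image (f := fun X : Sys Ω => mapSet X.2) ?_ ?_
  · refine (finite_mapSet F).finite_subsets.subset ?_
    rintro _ ⟨X, hX, rfl⟩
    exact fun x hx => hX x.1 hx
  · intro X hX Y hY h
    exact sys_ext (C := X.2) (E := Y.2) (fun P φ hφ => (Set.ext_iff.1 h ⟨P, φ⟩).1 hφ)
      (fun P φ hφ => (Set.ext_iff.1 h ⟨P, φ⟩).2 hφ)

section

variable [Fact p.Prime] [Finite S]

theorem zfix_component (hS : IsPGroup p S) (h : E.IsComponentIn F p) : ZFix E :=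
  fun Z hZ hc P f hf z hzP hz => component_fix hS h hZ (fun a ha b hb => hc b hb a (hZ.1 ha)) hf hzP hz

theorem zfix_ext (hT : IsPGroup p T) [Finite T] (hEs : E.IsSaturated p) (hE : ZFix E)
    {Z : Subgroup Ω} (hZ : E.StronglyClosed Z) (hc : ∀ z ∈ Z, ∀ t ∈ T, t * z = z * t)
    {P : Subgroup Ω} {f : Ω → Ω} (hf : IsMap E P f) :
    ∃ g, IsMap E (P ⊔ Z) g ∧ (∀ x ∈ P, g x = f x) ∧ ∀ z ∈ Z, g z = z := by
  obtain ⟨g, hg, hgx, -⟩ := (isNormal_iff.1 (isNormal_of_abelian_closed hT hEs hZ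
    fun a ha b hb => hc b hb a (hZ.1 ha))).2 P f hf
  exact ⟨g, hg, hgx, fun z hz => hE Z hZ hc _ g hg z (mem_sup_right hz) hz⟩

/-- Commuting normal subsystems fixing their central closed subgroups form a setup. -/
theorem setup_of_zfix (hS : IsPGroup p S) (h₁ : E₁.IsNormalIn F p) (h₂ : E₂.IsNormalIn F p)
    (z₁ : ZFix E₁) (z₂ : ZFix E₂) (hc : ∀ a ∈ T₁, ∀ b ∈ T₂, a * b = b * a) :
    Setup F E₁ E₂ p := by
  have hA : F.StronglyClosed (T₁ ⊓ T₂) := Meet.stronglyClosed_inf h₁.1.2.2 h₂.1.2.2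
  have hT₁ : T₁ ≤ S := h₁.1.2.2.2.1.1
  have hT₂ : T₂ ≤ S := h₂.1.2.2.2.1.1
  haveI := finite_of_le hT₁
  haveI := finite_of_le hT₂
  exact ⟨hS, h₁.1.2.1, h₁, h₂, hc,
    fun P f hf => zfix_ext (hS.to_le hT₁) h₁.1.1 z₁
      (stronglyClosed_of_sub h₁.1.2.2.1 hA inf_le_left) (fun z hz t ht => hc t ht z hz.2) hf,
    fun P f hf => zfix_ext (hS.to_le hT₂) h₂.1.1 z₂
      (stronglyClosed_of_sub h₂.1.2.2.1 hA inf_le_right)
      (fun z hz t ht => (hc z hz.1 t ht).symm) hf⟩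

/-- A normal subsystem of a central factor is normal in the whole. -/
theorem isNormalIn_of_factor [Finite T] (hEs : E.IsSaturated p) (hle : T = T₁ ⊔ T₂)
    (hc : ∀ a ∈ T₁, ∀ b ∈ T₂, a * b = b * a)
    (hres : ∀ P f, P ≤ T₁ → IsMap E P f → IsMap E₁ P f)
    (hext : ∀ P f, IsMap E₁ P f →
      ∃ g, IsMap E (P ⊔ T₂) g ∧ (∀ x ∈ P, g x = f x) ∧ ∀ z ∈ T₂, g z = z)
    {X : FusionSystem W} (hX : X.IsNormalIn E₁ p) : X.IsNormalIn E p := by
  haveI : Finite T₁ := finite_of_le (S := T) (hle.symm ▸ le_sup_left)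
  have hsubE : ∀ P f, IsMap E₁ P f → IsMap E P f := fun P f hf => by
    obtain ⟨g, hg, hgx, -⟩ := hext P f hf
    exact (hg.mono le_sup_left).congr hgx
  obtain ⟨⟨hXs, hE₁s, hinv⟩, hXext⟩ := isNormalIn_iff.1 hX
  obtain ⟨hsub, hsc, hconj, hfrat⟩ := isInvariantIn_iff.1 hinv
  have hW : W ≤ T₁ := hsc.1
  have hWT : W ≤ T := hW.trans (hle.symm ▸ le_sup_left)
  refine isNormalIn_iff.2 ⟨⟨hXs, hEs, isInvariantIn_iff.2 ⟨isSubsystemOf_iff.2 fun P f hf =>
    hsubE P f (isSubsystemOf_iff.1 hsub P f hf), stronglyClosed_iff.2 ⟨hWT, fun P f hP hf x hx =>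
      StronglyClosed.apply_mem hsc (hres P f (hP.trans hW) hf) hx (hP hx)⟩,
    fun a ha P f hf => hconj a (hres W a hW ha) P f hf, fun P f hP hf => ?_⟩⟩, fun a ha => ?_⟩
  · obtain ⟨a, ha, g, hg, hfx⟩ := hfrat P f hP (hres P f (hP.trans hW) hf)
    exact ⟨a, hsubE _ _ ha, g, hg, hfx⟩
  · obtain ⟨b, hb, hbx, hbc⟩ := hXext a ha
    obtain ⟨g, hg, hgx, hgz⟩ := hext _ b hb
    have hdec : ∀ c ∈ centralizerIn T W, ∃ x ∈ centralizerIn T₁ W, ∃ y ∈ T₂, x * y = c := by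
      intro c hc'
      obtain ⟨x, hx, y, hy, rfl⟩ := exists_split hc (hle ▸ hc'.1 : c ∈ T₁ ⊔ T₂)
      refine ⟨x, ⟨hx, fun w hw => ?_⟩, y, hy, rfl⟩
      have h1 : w * (x * y) = x * y * w := hc'.2 w hw
      rw [mul_assoc x y w, ← hc w (hW hw) y hy, ← mul_assoc, ← mul_assoc] at h1
      exact mul_right_cancel h1
    have hle' : W ⊔ centralizerIn T W ≤ W ⊔ centralizerIn T₁ W ⊔ T₂ := by
      refine sup_le (le_sup_left.trans le_sup_left) fun c hc' => ?_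
      obtain ⟨x, hx, y, hy, rfl⟩ := hdec c hc'
      exact mul_mem (mem_sup_left (mem_sup_right hx)) (mem_sup_right hy)
    refine ⟨g, hg.mono hle', fun w hw => (hgx w (mem_sup_left hw)).trans (hbx w hw),
      fun c hc' => ?_⟩
    obtain ⟨x, hx, y, hy, rfl⟩ := hdec c hc'
    have hm : x⁻¹ * b x ∈ W ⊓ centralizer (W : Set Ω) := hbc x hx
    rw [hg.map_mul (mem_sup_left (mem_sup_right hx)) (mem_sup_right hy), hgx x (mem_sup_right hx),
      hgz y hy]
    have e : (x * y)⁻¹ * (b x * y) = x⁻¹ * b x := by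
      have hxb : x⁻¹ * b x ∈ T₁ := hW hm.1
      calc (x * y)⁻¹ * (b x * y) = y⁻¹ * ((x⁻¹ * b x) * y) := by group
        _ = _ := by rw [hc _ hxb y hy, inv_mul_cancel_left]
    rw [e]
    exact hm

end

section Prod

variable [Fact p.Prime] [Finite S] (hD : Setup F E₁ E₂ p)

include hD

theorem prod_res₁ {P : Subgroup Ω} {f : Ω → Ω} (hP : P ≤ T₁) (hf : IsMap (prodSys hD) P f) :
    IsMap E₁ P f := by
  obtain ⟨hPT, f₁, f₂, h₁, h₂, hfx⟩ := hD.isMap_iff.1 hf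
  have hle : P ≤ part T₁ T₂ P := le_inf le_sup_left hP
  refine (h₁.mono hle).congr fun x hx => ?_
  have h := hfx x (hP hx) 1 T₂.one_mem (by rwa [mul_one])
  rw [mul_one, h₂.map_one, mul_one] at h
  exact h.symm

theorem prod_res₂ {P : Subgroup Ω} {f : Ω → Ω} (hP : P ≤ T₂) (hf : IsMap (prodSys hD) P f) :
    IsMap E₂ P f := by
  obtain ⟨hPT, f₁, f₂, h₁, h₂, hfx⟩ := hD.isMap_iff.1 hf
  have hle : P ≤ part T₂ T₁ P := le_inf le_sup_left hP
  refine (h₂.mono hle).congr fun x hx => ?_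
  have h := hfx 1 T₁.one_mem x (hP hx) (by rwa [one_mul])
  rw [one_mul, h₁.map_one, one_mul] at h
  exact h.symm

theorem prod_ext₁ {P : Subgroup Ω} {f : Ω → Ω} (hf : IsMap E₁ P f) :
    ∃ g, IsMap (prodSys hD) (P ⊔ T₂) g ∧ (∀ x ∈ P, g x = f x) ∧ ∀ z ∈ T₂, g z = z := by
  obtain ⟨h, hh, hhx, hhz⟩ := hD.fix₁ P f hf
  have hle : part T₁ T₂ (P ⊔ T₂) ≤ P ⊔ (T₁ ⊓ T₂) := by
    intro a ha
    obtain ⟨haT, b, hb, hab⟩ := (mem_part_iff hD.comm (sup_le (hf.le.trans le_sup_left) le_sup_right)).1 ha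
    have ha' : a ∈ P ⊔ T₂ := by
      have := mul_mem hab (Subgroup.inv_mem _ (mem_sup_right hb))
      rwa [mul_inv_cancel_right] at this
    obtain ⟨x, hx, y, hy, rfl⟩ := exists_split (A := P) (B := T₂)
      (fun u hu v hv => hD.comm u (hf.le hu) v hv) ha'
    refine mul_mem (mem_sup_left hx) (mem_sup_right ⟨?_, hy⟩)
    have h1 := T₁.mul_mem (T₁.inv_mem (hf.le hx)) haT
    rwa [inv_mul_cancel_left] at h1
  obtain ⟨g, hg, hgx⟩ := hD.exists_map_of_pair (P := P ⊔ T₂)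
    (sup_le (hf.le.trans le_sup_left) le_sup_right) (hh.mono hle)
    (isMap_id E₂ (inf_le_right : part T₂ T₁ (P ⊔ T₂) ≤ T₂))
  refine ⟨g, hg, fun x hx => ?_, fun z hz => ?_⟩
  · have h1 := hgx x (hf.le hx) 1 T₂.one_mem (by rw [mul_one]; exact mem_sup_left hx)
    simpa [hhx x hx] using h1
  · have h1 := hgx 1 T₁.one_mem z hz (by rw [one_mul]; exact mem_sup_right hz)
    simpa [hh.map_one] using h1

theorem prod_ext₂ {P : Subgroup Ω} {f : Ω → Ω} (hf : IsMap E₂ P f) :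
    ∃ g, IsMap (prodSys hD) (P ⊔ T₁) g ∧ (∀ x ∈ P, g x = f x) ∧ ∀ z ∈ T₁, g z = z := by
  obtain ⟨h, hh, hhx, hhz⟩ := hD.fix₂ P f hf
  have hle : part T₂ T₁ (P ⊔ T₁) ≤ P ⊔ (T₁ ⊓ T₂) := by
    intro a ha
    obtain ⟨haT, b, hb, hab⟩ := (mem_part_iff hD.swap.comm (sup_le (hf.le.trans le_sup_left) le_sup_right)).1 ha
    have ha' : a ∈ P ⊔ T₁ := by
      have := mul_mem hab (Subgroup.inv_mem _ (mem_sup_right hb))
      rwa [mul_inv_cancel_right] at this
    obtain ⟨x, hx, y, hy, rfl⟩ := exists_split (A := P) (B := T₁)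
      (fun u hu v hv => hD.swap.comm u (hf.le hu) v hv) ha'
    refine mul_mem (mem_sup_left hx) (mem_sup_right ⟨hy, ?_⟩)
    have h1 := T₂.mul_mem (T₂.inv_mem (hf.le hx)) haT
    rwa [inv_mul_cancel_left] at h1
  obtain ⟨g, hg, hgx⟩ := hD.exists_map_of_pair (P := P ⊔ T₁)
    (sup_le (hf.le.trans le_sup_right) le_sup_left)
    (isMap_id E₁ (inf_le_right : part T₁ T₂ (P ⊔ T₁) ≤ T₁)) (hh.mono hle)
  refine ⟨g, hg, fun x hx => ?_, fun z hz => ?_⟩
  · have h1 := hgx 1 T₁.one_mem x (hf.le hx) (by rw [one_mul]; exact mem_sup_left hx)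
    simpa [hhx x hx] using h1
  · have h1 := hgx z hz 1 T₂.one_mem (by rw [mul_one]; exact mem_sup_right hz)
    simpa [hh.map_one] using h1

theorem prod_sub₁ : E₁.IsSubsystemOf (prodSys hD) := isSubsystemOf_iff.2 fun P f hf => by
  obtain ⟨g, hg, hgx, -⟩ := prod_ext₁ hD hf
  exact (hg.mono le_sup_left).congr hgx

theorem prod_sub₂ : E₂.IsSubsystemOf (prodSys hD) := isSubsystemOf_iff.2 fun P f hf => by
  obtain ⟨g, hg, hgx, -⟩ := prod_ext₂ hD hf
  exact (hg.mono le_sup_left).congr hgx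

theorem prod_normal₁ {X : FusionSystem W} (hX : X.IsNormalIn E₁ p) :
    X.IsNormalIn (prodSys hD) p := by
  haveI : Finite (T₁ ⊔ T₂ : Subgroup Ω) := finite_of_le hD.le_sup
  exact isNormalIn_of_factor hD.isSaturated_prodSys rfl hD.comm (fun P f hP => prod_res₁ hD hP)
    (fun P f => prod_ext₁ hD) hX

theorem prod_normal₂ {X : FusionSystem W} (hX : X.IsNormalIn E₂ p) :
    X.IsNormalIn (prodSys hD) p := by
  haveI : Finite (T₁ ⊔ T₂ : Subgroup Ω) := finite_of_le hD.le_sup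
  exact isNormalIn_of_factor hD.isSaturated_prodSys (sup_comm T₁ T₂) hD.swap.comm
    (fun P f hP => prod_res₂ hD hP) (fun P f => prod_ext₂ hD) hX

theorem zfix_prod (z₁ : ZFix E₁) (z₂ : ZFix E₂) : ZFix (prodSys hD) := by
  intro Z hZ hc P f hf z hzP hz
  have hZT : Z ≤ T₁ ⊔ T₂ := hZ.1
  obtain ⟨hP, f₁, f₂, h₁, h₂, hfx⟩ := hD.isMap_iff.1 hf
  obtain ⟨a, ha, b, hb, rfl⟩ := exists_split hD.comm (hP hzP)
  have hP' : P ≤ T₂ ⊔ T₁ := hP.trans (sup_comm T₁ T₂).le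
  have hZT' : Z ≤ T₂ ⊔ T₁ := hZT.trans (sup_comm T₁ T₂).le
  have e₁ : f₁ a = a := by
    refine z₁ (part T₁ T₂ Z) (stronglyClosed_iff.2 ⟨inf_le_right, fun R g hR hg x hx => ?_⟩)
      (fun x hx t ht => ?_) _ f₁ h₁ a (part_mem_left hD.comm hP ha hb hzP)
      (part_mem_left hD.comm hZT ha hb hz)
    · obtain ⟨hxT, y, hy, hxy⟩ := (mem_part_iff hD.comm hZT).1 (hR hx)
      obtain ⟨G, hG, hGx, hGz⟩ := prod_ext₁ hD hg
      have hm := StronglyClosed.apply_mem hZ hG (mul_mem (mem_sup_left hx) (mem_sup_right hy)) hxy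
      rw [hG.map_mul (mem_sup_left hx) (mem_sup_right hy), hGx x hx, hGz y hy] at hm
      exact part_mem_left hD.comm hZT (hg.mem hx) hy hm
    · obtain ⟨hxT, y, hy, hxy⟩ := (mem_part_iff hD.comm hZT).1 hx
      have h1 := hc _ hxy t (mem_sup_left ht)
      rw [mul_assoc x y t, ← hD.comm t ht y hy, ← mul_assoc, ← mul_assoc] at h1
      exact mul_right_cancel h1
  have e₂ : f₂ b = b := by
    refine z₂ (part T₂ T₁ Z) (stronglyClosed_iff.2 ⟨inf_le_right, fun R g hR hg x hx => ?_⟩)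
      (fun x hx t ht => ?_) _ f₂ h₂ b
      (part_mem_left hD.swap.comm hP' hb ha (hD.comm a ha b hb ▸ hzP))
      (part_mem_left hD.swap.comm hZT' hb ha (hD.comm a ha b hb ▸ hz))
    · obtain ⟨hxT, y, hy, hxy⟩ := (mem_part_iff hD.swap.comm hZT').1 (hR hx)
      obtain ⟨G, hG, hGx, hGz⟩ := prod_ext₂ hD hg
      have hm := StronglyClosed.apply_mem hZ hG (mul_mem (mem_sup_left hx) (mem_sup_right hy)) hxy
      rw [hG.map_mul (mem_sup_left hx) (mem_sup_right hy), hGx x hx, hGz y hy] at hm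
      exact part_mem_left hD.swap.comm hZT' (hg.mem hx) hy hm
    · obtain ⟨hxT, y, hy, hxy⟩ := (mem_part_iff hD.swap.comm hZT').1 hx
      have h1 := hc _ hxy t (mem_sup_right ht)
      rw [mul_assoc x y t, hD.comm y hy t ht, ← mul_assoc, ← mul_assoc] at h1
      exact mul_right_cancel h1
  rw [hfx a ha b hb hzP, e₁, e₂]

end Prod

section Family

variable [Fact p.Prime] [Finite S]

/-- The product of a family of commuting normal subsystems. -/
theorem exists_product (hS : IsPGroup p S) : ∀ l : List (Sys Ω), l ≠ [] →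
    (∀ X ∈ l, X.2.IsNormalIn F p ∧ ZFix X.2) →
    l.Pairwise (fun X Y => ∀ a ∈ X.1, ∀ b ∈ Y.1, a * b = b * a) →
    ∃ (T : Subgroup Ω) (Q : FusionSystem T), Q.IsNormalIn F p ∧ ZFix Q ∧
      (∀ X ∈ l, X.2.IsSubsystemOf Q) ∧ (∀ K : Subgroup Ω, (∀ X ∈ l, X.1 ≤ K) → T ≤ K) ∧
      ∀ X ∈ l, ∀ (W : Subgroup Ω) (Y : FusionSystem W), Y.IsNormalIn X.2 p → Y.IsNormalIn Q p
  | [], h, _, _ => absurd rfl h
  | [X], _, hX, _ => by
    refine ⟨X.1, X.2, (hX X List.mem_cons_self).1, (hX X List.mem_cons_self).2, ?_, ?_, ?_⟩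
    · intro Y hY
      rw [List.mem_singleton.1 hY]
      exact sub_refl _
    · exact fun K hK => hK X List.mem_cons_self
    · intro Y hY W Z hZ
      rw [List.mem_singleton.1 hY] at hZ
      exact hZ
  | X :: X' :: l, _, hX, hpw => by
    obtain ⟨hpX, hpl⟩ := List.pairwise_cons.1 hpw
    obtain ⟨T, Q, hQ, hQz, hsub, hgen, hnorm⟩ := exists_product hS (X' :: l) (by simp)
      (fun Y hY => hX Y (List.mem_cons_of_mem _ hY)) hpl
    obtain ⟨hXn, hXz⟩ := hX X List.mem_cons_self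
    have hcomm : ∀ a ∈ X.1, ∀ b ∈ T, a * b = b * a := fun a ha b hb =>
      hgen (centralizer (X.1 : Set Ω)) (fun Y hY y hy a' ha' => hpX Y hY a' ha' y hy) hb a ha
    have hD := setup_of_zfix hS hXn hQ hXz hQz hcomm
    refine ⟨_, prodSys hD, hD.isNormalIn, zfix_prod hD hXz hQz, ?_, ?_, ?_⟩
    · intro Y hY
      rcases List.mem_cons.1 hY with rfl | hY
      · exact prod_sub₁ hD
      · exact sub_trans (hsub Y hY) (prod_sub₂ hD)
    · exact fun K hK => sup_le (hK X List.mem_cons_self)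
        (hgen K fun Y hY => hK Y (List.mem_cons_of_mem _ hY))
    · intro Y hY W Z hZ
      rcases List.mem_cons.1 hY with rfl | hY
      · exact prod_normal₁ hD hZ
      · exact prod_normal₂ hD (hnorm Y hY W Z hZ)

/-- The product of a set of commuting normal subsystems. -/
theorem exists_product_set (hS : IsPGroup p S) {O : Sys Ω → Prop} (hne : ∃ X, O X)
    (hO : ∀ X, O X → X.2.IsNormalIn F p ∧ ZFix X.2)
    (hcomm : ∀ X Y, O X → O Y → X ≠ Y → ∀ a ∈ X.1, ∀ b ∈ Y.1, a * b = b * a) :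
    ∃ (T : Subgroup Ω) (Q : FusionSystem T), Q.IsNormalIn F p ∧ ZFix Q ∧
      (∀ X, O X → X.2.IsSubsystemOf Q) ∧ (∀ K : Subgroup Ω, (∀ X, O X → X.1 ≤ K) → T ≤ K) ∧
      ∀ X, O X → ∀ (W : Subgroup Ω) (Y : FusionSystem W), Y.IsNormalIn X.2 p →
        Y.IsNormalIn Q p := by
  classical
  have hfin : {X : Sys Ω | O X}.Finite :=
    (finite_subsystems F).subset fun X hX => sub_of_normal (hO X hX).1
  set l := hfin.toFinset.toList with hl
  have hmem : ∀ X, X ∈ l ↔ O X := fun X => by simp [hl]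
  have hlne : l ≠ [] := by
    obtain ⟨X, hX⟩ := hne
    exact fun h => List.not_mem_nil (h ▸ (hmem X).2 hX)
  obtain ⟨T, Q, hQ, hz, hsub, hgen, hnorm⟩ := exists_product hS l hlne
    (fun X hX => hO X ((hmem X).1 hX))
    ((Finset.nodup_toList _).imp_of_mem fun {X Y} hX hY hne =>
      hcomm X Y ((hmem X).1 hX) ((hmem Y).1 hY) hne)
  exact ⟨T, Q, hQ, hz, fun X hX => hsub X ((hmem X).2 hX),
    fun K hK => hgen K fun X hX => hK X ((hmem X).1 hX),
    fun X hX => hnorm X ((hmem X).2 hX)⟩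

end Family

end CfsgLib.Comp.Lay
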