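import Cfsg.Agent.Lib.Comp.ResidualLimit
import Cfsg.Agent.Lib.Comp.BetweenNormal
import Cfsg.Agent.Lib.Comp.ConstrainedComponent
import Cfsg.Agent.Lib.Fusion.PPowerNormal
import Cfsg.Agent.Lib.Fusion.PPrimeResidual
import Cfsg.Agent.S5141

/-!
Existence of residual limits and their invariance under subsystems of index prime to `p`.
-/

set_option autoImplicit false
set_option linter.unusedVariables false
set_option linter.unusedSectionVars false
set_option linter.style.haveILetI false

namespace CfsgLib.Comp.Fus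

open Cfsg Cfsg.FusionSystem Subgroup CfsgLib.Fusion

universe u

variable {Ω : Type u} [Group Ω] {S T U : Subgroup Ω} {F : FusionSystem S} {p : ℕ} [Fact p.Prime]

/-- Subsystems of index prime to `p` have the same residual subsystem. -/
theorem residual_eq_of_primeIndex {A B X Y : FusionSystem S} (hAB : A.HasPrimeToPIndexIn B p)
    (hA : A.IsSaturated p) (hY : A.IsPPrimeResidual p Y) (hX : B.IsPPrimeResidual p X) : Y = X := by
  have hXA : X ≤ A := hX.2.2 A hA hAB
  refine le_antisymm_sys (hY.2.2 X hX.1 ⟨hXA, fun P hP => ?_⟩)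
    (hX.2.2 Y hY.1 ⟨fun P φ hφ => hAB.1 P (hY.2.1.1 P hφ), fun P hP => ?_⟩)
  · rw [Subgroup.map_le_iff_le_comap]
    refine (Subgroup.closure_le _).2 ?_
    rintro ⟨α, hα⟩ ⟨k, hk⟩
    rw [Subgroup.orderOf_mk] at hk
    exact hX.2.1.2 P hP ⟨⟨α, (autGroup_mem_iff hP).2 (hAB.1 P ((autGroup_mem_iff hP).1 hα))⟩,
      Subgroup.subset_closure ⟨k, by rw [Subgroup.orderOf_mk, hk]⟩, rfl⟩
  · rw [Subgroup.map_le_iff_le_comap]
    refine (Subgroup.closure_le _).2 ?_
    rintro ⟨α, hα⟩ ⟨k, hk⟩
    rw [Subgroup.orderOf_mk] at hk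
    exact hY.2.1.2 P hP ⟨⟨α, hAB.2 P hP ⟨⟨α, hα⟩,
      Subgroup.subset_closure ⟨k, by rw [Subgroup.orderOf_mk, hk]⟩, rfl⟩⟩,
      Subgroup.subset_closure ⟨k, by rw [Subgroup.orderOf_mk, hk]⟩, rfl⟩

theorem residual_idem {X Y : FusionSystem S} (hX : F.IsPPrimeResidual p X)
    (hY : X.IsPPrimeResidual p Y) : Y = X := residual_eq_of_primeIndex hX.2.1 hX.1 hY hX

/-- A residual limit exists. -/
theorem exists_limit [Finite S] (hS : IsPGroup p S) (hF : F.IsSaturated p) :
    ∃ (U : Subgroup Ω) (L : FusionSystem U), L.IsResidualLimitOf F p := by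
  suffices key : ∀ (n : ℕ) (S : Subgroup Ω) [Finite S], IsPGroup p S → Nat.card S = n →
      ∀ F : FusionSystem S, F.IsSaturated p →
      ∃ (U : Subgroup Ω) (L : FusionSystem U), L.IsResidualLimitOf F p from key _ S hS rfl F hF
  clear hF hS
  intro n
  induction n using Nat.strong_induction_on with
  | _ n ih =>
    intro S hfin hS hn
    have aux : ∀ F : FusionSystem S, F.IsSaturated p → F.hyperfocalSubgroup p ≠ S →
        ∃ (U : Subgroup Ω) (L : FusionSystem U), L.IsResidualLimitOf F p := by
      intro F hF hne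
      have hle := hyperfocal_le F p
      haveI := finite_of_le hle
      obtain ⟨D, hD, hDi⟩ := exists_pPowerIndex (Nat.card S) S hS F hF _ hle le_rfl (by omega)
      obtain ⟨D', hD'⟩ := exists_pPrimeResidual (hS.to_le hle) hD
      have hlt : Nat.card (F.hyperfocalSubgroup p) < n :=
        hn ▸ lt_of_not_ge fun h => hne (eq_of_le_of_card_le hle h)
      obtain ⟨U, L, hL⟩ := ih _ hlt _ (hS.to_le hle) rfl D' hD'.1
      exact ⟨U, L, .step F p D D' ⟨hD, hDi⟩ hD' hL⟩
    intro F hF
    by_cases hne : F.hyperfocalSubgroup p = S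
    · obtain ⟨R, hR⟩ := exists_pPrimeResidual hS hF
      by_cases hRF : R = F
      · exact ⟨S, F, .stable F p hne (hRF ▸ hR)⟩
      · have hle := hyperfocal_le F p
        haveI := finite_of_le hle
        obtain ⟨D, hD, hDi⟩ := exists_pPowerIndex (Nat.card S) S hS F hF _ hle le_rfl (by omega)
        obtain ⟨D', hD'⟩ := exists_pPrimeResidual (hS.to_le hle) hD
        obtain ⟨D'', hD''⟩ := exists_pPrimeResidual (hS.to_le hle) hD'.1
        obtain rfl := residual_idem hD' hD''
        by_cases hne' : D''.hyperfocalSubgroup p = F.hyperfocalSubgroup p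
        · exact ⟨_, D'', .step F p D D'' ⟨hD, hDi⟩ hD' (.stable D'' p hne' hD'')⟩
        · have h' : ∀ {A : Subgroup Ω}, A = S → ∀ G : FusionSystem A, G.IsSaturated p →
              G.hyperfocalSubgroup p ≠ A →
              ∃ (U : Subgroup Ω) (L : FusionSystem U), L.IsResidualLimitOf G p := by
            rintro _ rfl G hG hG'
            exact aux G hG hG'
          obtain ⟨U, L, hL⟩ := h' hne D'' hD'.1 hne'
          exact ⟨U, L, .step F p D D'' ⟨hD, hDi⟩ hD' hL⟩
    · exact aux F hF hne

/-- A residual limit is a subsystem. -/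
theorem limit_le {E : FusionSystem T} (h : E.IsResidualLimitOf F p) : E.IsSubsystemOf F := by
  clear ‹Fact p.Prime›
  induction h with
  | stable => exact fun P => subset_rfl
  | step F p D D' hD hD' _ ih => exact fun P φ hφ => hD.2.1 P (hD'.2.1.1 P (ih P hφ))

/-- The system and its residual of index prime to `p` have the same residual limits. -/
theorem limit_eq_residual [Finite S] (hS : IsPGroup p S) (hF : F.IsSaturated p)
    {R : FusionSystem S} (hR : F.IsPPrimeResidual p R) {Finf : FusionSystem T}
    (hFinf : Finf.IsResidualLimitOf F p) {Rinf : FusionSystem U}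
    (hRinf : Rinf.IsResidualLimitOf R p) : SameMaps Finf Rinf := by
  suffices key : ∀ (n : ℕ) (S : Subgroup Ω) [Finite S], IsPGroup p S → Nat.card S = n →
      ∀ F : FusionSystem S, F.IsSaturated p → ∀ R : FusionSystem S, F.IsPPrimeResidual p R →
      ∀ {T U : Subgroup Ω} (Finf : FusionSystem T) (Rinf : FusionSystem U),
      Finf.IsResidualLimitOf F p → Rinf.IsResidualLimitOf R p → SameMaps Finf Rinf from
    key _ S hS rfl F hF R hR Finf Rinf hFinf hRinf
  clear hS hF hR hFinf hRinf
  intro n
  induction n using Nat.strong_induction_on with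
  | _ n ih =>
    intro S hfin hS hn F hF R hR T U Finf Rinf hFinf hRinf
    cases hFinf with
    | stable _ _ h1 h2 =>
      obtain rfl := pPrimeResidual_unique hR h2
      exact (limit_of_stable hS h1 h2 hRinf).symm
    | step _ _ D D' hD hD' hlim =>
      by_cases hne : F.hyperfocalSubgroup p = S
      · have hcast : ∀ {A : Subgroup Ω}, A = S → ∀ D₁ D₁' : FusionSystem A, SameMaps D₁ F →
            D₁.IsPPrimeResidual p D₁' → Finf.IsResidualLimitOf D₁' p → SameMaps Finf Rinf := by
          rintro _ rfl D₁ D₁' h hD₁' hl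
          obtain rfl := h.eq
          obtain rfl := pPrimeResidual_unique hD₁' hR
          exact limit_unique hS hl hRinf
        exact hcast hne D D' (pResidual_self hS hF hne hD) hD' hlim
      have hHS : (F.hyperfocalSubgroup p) ≤ S := hyperfocal_le F p
      haveI := finite_of_le hHS
      have hHp : IsPGroup p (F.hyperfocalSubgroup p) := hS.to_le hHS
      have hHn : ((F.hyperfocalSubgroup p).subgroupOf S).Normal :=
        ⟨fun x hx a => conj_mem_hyperfocal a.2 hx⟩
      have hHsc : F.StronglyClosed (F.hyperfocalSubgroup p) := stronglyClosed_of_pPower hS hF hHS hHn hD.1 hD.2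
      have hRF : R.IsSubsystemOf F := hR.2.1.1
      have hautRF : ∀ {P : Subgroup Ω}, P ≤ S → R.autGroup P ≤ F.autGroup P := fun {P} hP α hα =>
        (autGroup_mem_iff hP).2 (hRF P ((autGroup_mem_iff hP).1 hα))
      have hRH : R.hyperfocalSubgroup p ≤ (F.hyperfocalSubgroup p) := hyperfocal_le_of _ fun P hP α hα hc x =>
        sub_mem_hyperfocal_of_coprime hP (hautRF hP hα) hc x
      obtain ⟨RH, hRHs, hRHi⟩ := exists_pPowerIndex (Nat.card S) S hS R hR.1 (F.hyperfocalSubgroup p) hHS hRH (by omega)
      have hRHn : RH.IsNormalIn R p := isNormalIn_of_pPower hS hR.1 hHS hHn hRHs hRHi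
      have hRn : R.IsNormalIn F p :=
        Cfsg.Agent.S5141.result p hS F hF F (CfsgLib.Comp.CC.isWeaklyNormalIn_self hF) R hR
      have hgenR : genSys F p ≤ R := genSys_le_of fun P hP => hR.2.1.2 P hP.1
      -- `RH` is invariant under the automorphisms of `F`
      have htw : ∀ γ ∈ F.autGroup S, ∀ P f, IsMap RH P f →
          ∃ g, IsMap RH (img P (autFun γ)) g ∧ ∀ x ∈ P, g (autFun γ x) = autFun γ (f x) := by
        intro γ hγ
        have hγm : IsMap F (F.hyperfocalSubgroup p) (autFun γ) := (isMap_autFun le_rfl hγ).mono hHS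
        have hiH : img (F.hyperfocalSubgroup p) (autFun γ) = (F.hyperfocalSubgroup p) := StronglyClosed.img_eq hHsc hγm le_rfl
        set α := hγm.toAut hiH with hαdef
        have hαγ : ∀ x ∈ (F.hyperfocalSubgroup p), autFun α x = autFun γ x := fun x hx => by
          rw [autFun_apply α hx, hαdef, IsMap.toAut_apply]
        have hα : α ∈ F.autGroup (F.hyperfocalSubgroup p) := hγm.toAut_mem hiH
        have hαm := isMap_autFun hHS hα
        have hm : IsMap (subgroupSys F hHS) (F.hyperfocalSubgroup p) (autFun α) :=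
          ⟨hαm.toHom, ⟨hαm.toHom_mem, le_rfl, fun x => autFun_mem α x.2⟩, fun _ => rfl⟩
        have hle : RH ≤ twistSys RH hm := by
          refine le_of_coprime_aut hHp hRHs fun P hP β hβ hc => ?_
          have hPa : IsMap F P (autFun α) := hαm.mono hP
          set β' := MulAut.congr hPa.equivImg β with hβ'
          have hQH : img P (autFun α) ≤ (F.hyperfocalSubgroup p) := fun y hy => by
            obtain ⟨x, hx, rfl⟩ := hPa.mem_img.1 hy
            exact autFun_mem α (hP hx)
          have hval : ∀ x : P, ((β' ⟨autFun α x, hPa.apply_mem_img x.2⟩ : img P (autFun α)) : Ω) =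
              autFun α ((β x : P) : Ω) := fun x => by
            have e : (⟨autFun α x, hPa.apply_mem_img x.2⟩ : img P (autFun α)) = hPa.equivImg x :=
              Subtype.ext (IsMap.coe_equivImg hPa x).symm
            rw [e, hβ']
            show ((hPa.equivImg (β (hPa.equivImg.symm (hPa.equivImg x))) : img P (autFun α)) : Ω) = _
            rw [MulEquiv.symm_apply_apply, IsMap.coe_equivImg]
          have hmR : IsMap R P (toFun (P.subtype.comp β.toMonoidHom)) :=
            Pre.isMap_of_sub' hRHi.1 (isMap_of_autGroup hP hβ)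
          obtain ⟨g, hg, hgx⟩ := IsInvariantIn.transport hRn.1.2.2 hγ hmR
          have hi : img P (autFun γ) = img P (autFun α) :=
            img_congr fun x hx => (hαγ x (hP hx)).symm
          rw [hi] at hg
          have hβ'R : β' ∈ R.autGroup (img P (autFun α)) := by
            refine (autGroup_iff_isMap (hQH.trans hHS) fun y => ?_).2 hg
            obtain ⟨x, hx, hxy⟩ := hPa.mem_img.1 y.2
            rw [show y = ⟨autFun α x, hPa.apply_mem_img hx⟩ from Subtype.ext hxy.symm,
              hval ⟨x, hx⟩]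
            show _ = g (autFun α x)
            rw [hαγ x (hP hx), hgx x hx, toFun_aut_apply _ hx, hαγ _ (hP (β _).2)]
          have hβ'H : β' ∈ RH.autGroup (img P (autFun α)) :=
            coprime_mem_autGroup hRHi hQH hβ'R (by rw [hβ', MulEquiv.orderOf_eq]; exact hc)
          refine (autGroup_mem_iff hP).2 ⟨hP, fun x => hP (β x).2, _,
            isMap_of_autGroup hQH hβ'H, fun x => ?_⟩
          rw [toFun_aut_apply _ (hPa.apply_mem_img x.2), hval]
          rfl
        intro P f hf
        obtain ⟨-, -, g, hg, hgx⟩ := hle P hf.toHom_mem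
        have hi : img P (autFun α) = img P (autFun γ) :=
          img_congr fun x hx => hαγ x (hf.le hx)
        refine ⟨g, hi ▸ hg, fun x hx => ?_⟩
        rw [← hαγ x (hf.le hx), ← hαγ _ (hf.mem hx)]
        exact (hgx ⟨x, hx⟩).symm
      have hstr : StrongInv RH F := by
        intro P Q f g hPQ hQH hf hfQ hg
        obtain ⟨γ, hγ, r, hr, hgx⟩ := exists_frattini hS hF hg
        obtain ⟨k, hk, hkx⟩ := strongInv_of_invariant hRHn.1.2.2 P Q f r hPQ hQH hf hfQ
          (le_iff_isMap.1 hgenR Q r hr)
        obtain ⟨g', hg', hg'x⟩ := htw γ hγ _ _ hk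
        have hle : img P g ≤ img (img P r) (autFun γ) := fun y hy => by
          obtain ⟨x, hx, rfl⟩ := (hg.mono hPQ).mem_img.1 hy
          rw [hgx x (hPQ hx)]
          exact ((isMap_autFun le_rfl hγ).mono (hr.mono hPQ).img_le).apply_mem_img
            ((hr.mono hPQ).apply_mem_img hx)
        refine ⟨g', hg'.mono hle, fun x hx => ?_⟩
        rw [hgx x (hPQ hx), hg'x _ ((hr.mono hPQ).apply_mem_img hx), hkx x hx,
          hgx _ (hfQ x hx)]
      have hautDF : ∀ {P : Subgroup Ω}, P ≤ (F.hyperfocalSubgroup p) → D.autGroup P ≤ F.autGroup P := fun {P} hP α hα =>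
        (autGroup_mem_iff (hP.trans hHS)).2 (hD.2.1 P ((autGroup_mem_iff hP).1 hα))
      have hRHD : RH ≤ D := le_of_coprime_aut hHp hRHs fun P hP α hα hc =>
        coprime_mem_autGroup hD.2 hP (hautRF (hP.trans hHS)
          ((autGroup_mem_iff (hP.trans hHS)).2 (hRHi.1 P ((autGroup_mem_iff hP).1 hα)))) hc
      have hRHidx : RH.HasPrimeToPIndexIn D p := by
        refine ⟨hRHD, fun P hP => ?_⟩
        rw [Subgroup.map_le_iff_le_comap]
        refine (Subgroup.closure_le _).2 ?_
        rintro ⟨β, hβ⟩ ⟨k, hk⟩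
        rw [Subgroup.orderOf_mk] at hk
        show β ∈ RH.autGroup P
        obtain ⟨Q, hPQ, hQ⟩ := exists_fullyNormalized_conj D hP
        obtain ⟨f, hf, rfl⟩ := isConj_iff.1 hPQ
        have hQH := hf.img_le
        haveI := finite_of_le hQH
        let β' : MulAut (img P f) := MulAut.congr hf.equivImg β
        have hβ' : β' ∈ D.autGroup (img P f) := hf.congr_mem_autGroup hβ
        let A := D.autGroup (img P f)
        let M : Subgroup A := (RH.autGroup (img P f)).subgroupOf A
        haveI : M.Normal := ⟨fun m hm δ => by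
          have hδm := isMap_of_autGroup (hQH.trans hHS) (hautDF hQH δ.2)
          obtain ⟨g, hg, hgx⟩ := hstr _ (img P f) _ _ le_rfl hQH
            (isMap_of_autGroup hQH (show (m : MulAut (img P f)) ∈ RH.autGroup (img P f) from hm))
            (fun x hx => by rw [toFun_aut_apply _ hx]; exact Subtype.mem _) hδm
          rw [img_toFun_aut] at hg
          show ((δ * m * δ⁻¹ : A) : MulAut (img P f)) ∈ RH.autGroup (img P f)
          refine (autGroup_iff_isMap hQH fun x => ?_).2 hg
          have h1 := hgx (((δ : MulAut (img P f))⁻¹ x : img P f) : Ω) (Subtype.mem _)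
          rw [toFun_aut_apply _ (Subtype.mem _), toFun_aut_apply _ (Subtype.mem _)] at h1
          simp only [Subtype.coe_eta, MulAut.apply_inv_self] at h1
          rw [h1, toFun_aut_apply _ (Subtype.mem _)]
          rfl⟩
        obtain ⟨W, hW⟩ := (fullyAutomized_of_fullyNormalized hHp hD.1 hQ).2
        have hWM : (W : Subgroup A) ≤ M := by
          rw [hW]
          exact Subgroup.comap_mono (autInducedBy_le_autGroup hQH)
        have hβ'M : β' ∈ RH.autGroup (img P f) := by
          have hord : orderOf (⟨β', hβ'⟩ : A) = p ^ k := by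
            rw [Subgroup.orderOf_mk, MulEquiv.orderOf_eq, hk]
          have hz : IsPGroup p ↥(Subgroup.zpowers (⟨β', hβ'⟩ : A)) :=
            IsPGroup.of_card (n := k) (by rw [Nat.card_zpowers, hord])
          obtain ⟨W', hW'⟩ := hz.exists_le_sylow
          obtain ⟨c, hc⟩ := MulAction.exists_smul_eq A W W'
          have h1 : (⟨β', hβ'⟩ : A) ∈ (W' : Subgroup A) := hW' (Subgroup.mem_zpowers _)
          rw [← hc] at h1
          obtain ⟨w, hw, hwe⟩ := h1
          have h2 : (⟨β', hβ'⟩ : A) ∈ M := by
            rw [← hwe]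
            exact Subgroup.Normal.conj_mem inferInstance w (hWM hw) c
          exact h2
        obtain ⟨j, hj, hjx, hjy, hji⟩ := hf.exists_inv
        obtain ⟨g, hg, hgx⟩ := hstr _ (img P f) _ j le_rfl hQH
          (isMap_of_autGroup hQH hβ'M) (fun x hx => by rw [toFun_aut_apply _ hx]; exact Subtype.mem _)
          (Pre.isMap_of_sub' hD.2.1 hj)
        rw [hji] at hg
        refine (autGroup_iff_isMap hP fun x => ?_).2 hg
        have h1 := hgx _ (hf.apply_mem_img x.2)
        rw [hjx x x.2, toFun_aut_apply _ (hf.apply_mem_img x.2)] at h1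
        rw [h1]
        have e : (⟨f x, hf.apply_mem_img x.2⟩ : img P f) = hf.equivImg x :=
          Subtype.ext (IsMap.coe_equivImg hf x).symm
        rw [e]
        show _ = j ((hf.equivImg (β (hf.equivImg.symm (hf.equivImg x))) : img P f) : Ω)
        rw [MulEquiv.symm_apply_apply, IsMap.coe_equivImg, hjx _ (β x).2]
      obtain ⟨Y, hY⟩ := exists_pPrimeResidual hHp hRHs
      obtain rfl := residual_eq_of_primeIndex hRHidx hRHs hY hD'
      obtain ⟨W, X, hX⟩ := exists_limit hHp hRHs
      have h1 : SameMaps Rinf X := limit_eq_of_pPowerIndex hS hR.1 hRHn hRHi hRinf hX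
      have hlt : Nat.card (F.hyperfocalSubgroup p) < n :=
        hn ▸ lt_of_not_ge fun h => hne (eq_of_le_of_card_le hHS h)
      have h2 : SameMaps X Finf := ih _ hlt (F.hyperfocalSubgroup p) hHp rfl RH hRHs _ hY X Finf hX hlim
      exact fun P => ((h1 P).trans (h2 P)).symm

/-- A saturated subsystem of index prime to `p` has the same residual limits. -/
theorem limit_eq_of_primeIndex [Finite S] (hS : IsPGroup p S) (hF : F.IsSaturated p)
    {G : FusionSystem S} (hG : G.IsSaturated p) (hi : G.HasPrimeToPIndexIn F p)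
    {Finf : FusionSystem T} (hFinf : Finf.IsResidualLimitOf F p) {Ginf : FusionSystem U}
    (hGinf : Ginf.IsResidualLimitOf G p) : SameMaps Finf Ginf := by
  obtain ⟨X, hX⟩ := exists_pPrimeResidual hS hF
  obtain ⟨Y, hY⟩ := exists_pPrimeResidual hS hG
  obtain rfl := residual_eq_of_primeIndex hi hG hY hX
  obtain ⟨W, L, hL⟩ := exists_limit hS hX.1
  exact fun P => ((limit_eq_residual hS hF hX hFinf hL) P).trans
    ((limit_eq_residual hS hG hY hGinf hL) P).symm

end CfsgLib.Comp.Fus
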