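import Cfsg.Agent.Lib.Comp.AutKernel
import Cfsg.Agent.Lib.Comp.FusionFocalNormal

/-!
Automorphisms of a centric subgroup in a normal subsystem over `T` extend to the product with its
centralizer, acting on the centralizer trivially modulo `T`.
-/

set_option autoImplicit false
set_option linter.unusedVariables false
set_option linter.unusedSectionVars false
set_option linter.style.haveILetI false

namespace CfsgLib.Comp.Fus

open Cfsg Cfsg.FusionSystem Subgroup CfsgLib.Fusion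

variable {Ω : Type*} [Group Ω] {S T V L : Subgroup Ω} {F : FusionSystem S} {E : FusionSystem T}
  {p : ℕ}

/-- An element is the product of powers of it of `p`-power order and of order prime to `p`. -/
theorem exists_powers_pPart [Fact p.Prime] {G : Type*} [Group G] [Finite G] (a : G) :
    ∃ i j : ℕ, a ^ i * a ^ j = a ∧ (∃ k : ℕ, orderOf (a ^ i) = p ^ k) ∧
      (orderOf (a ^ j)).Coprime p := by
  have hp : p.Prime := Fact.out
  obtain ⟨k, m, hm, hkm⟩ := Nat.exists_eq_pow_mul_and_not_dvd (orderOf_pos a).ne' p hp.ne_one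
  have hco : Nat.Coprime (p ^ k) m := (hp.coprime_iff_not_dvd.2 hm).pow_left k
  obtain ⟨i, hi1, hi0⟩ := Nat.chineseRemainder hco 1 0
  obtain ⟨j, hj0, hj1⟩ := Nat.chineseRemainder hco 0 1
  refine ⟨i, j, ?_, ?_, ?_⟩
  · have h : i + j ≡ 1 [MOD p ^ k * m] :=
      (Nat.modEq_and_modEq_iff_modEq_mul hco).1
        ⟨by simpa using hi1.add hj0, by simpa using hi0.add hj1⟩
    rw [← pow_add]
    conv_rhs => rw [← pow_one a]
    rw [pow_eq_pow_iff_modEq, hkm]
    exact h
  · obtain ⟨c, hc⟩ := Nat.modEq_zero_iff_dvd.1 hi0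
    obtain ⟨l, -, hl⟩ := (Nat.dvd_prime_pow hp).1 (orderOf_dvd_of_pow_eq_one (n := p ^ k)
      (x := a ^ i) (by rw [← pow_mul, hc, show m * c * p ^ k = orderOf a * c by rw [hkm]; ring,
        pow_mul, pow_orderOf_eq_one, one_pow]))
    exact ⟨l, hl⟩
  · obtain ⟨c, hc⟩ := Nat.modEq_zero_iff_dvd.1 hj0
    exact (hp.coprime_iff_not_dvd.2 hm).symm.coprime_dvd_left (orderOf_dvd_of_pow_eq_one
      (by rw [← pow_mul, hc, show p ^ k * c * m = orderOf a * c by rw [hkm]; ring,
        pow_mul, pow_orderOf_eq_one, one_pow]))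

/-- `N_S(L)` normalizes `L C_S(L)`. -/
theorem mem_normalizer_sup_centralizerIn {u : Ω} (hu : u ∈ S) (hn : u ∈ normalizer (L : Set Ω)) :
    u ∈ normalizer ((L ⊔ centralizerIn S L : Subgroup Ω) : Set Ω) :=
  CfsgLib.Comp.le_normalizer_sup (M := normalizerIn S L) inf_le_right
    (CfsgLib.Comp.le_normalizer_inf (inf_le_left.trans Subgroup.le_normalizer)
      (inf_le_right.trans (CfsgLib.Comp.normalizer_le_normalizer_centralizer L))) ⟨hu, hn⟩

/-- `α` extends to `V C_S(V)`, trivially on `C_S(V)` modulo `T`. -/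
def Lifts (F : FusionSystem S) (T V : Subgroup Ω) (α : MulAut V) : Prop :=
  ∃ g, IsMap F (V ⊔ centralizerIn S V) g ∧ (∀ x : V, g x = ((α x : V) : Ω)) ∧
    ∀ c ∈ centralizerIn S V, c⁻¹ * g c ∈ T

theorem lift_apply_centralizer {g : Ω → Ω} {α : MulAut V}
    (hg : IsMap F (V ⊔ centralizerIn S V) g) (hgx : ∀ x : V, g x = ((α x : V) : Ω)) {c : Ω}
    (hc : c ∈ centralizerIn S V) : g c ∈ centralizerIn S V := by
  have h := hg.apply_mem_centralizerIn le_sup_left (mem_sup_right hc) hc.2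
  have e : img V g = V :=
    (img_congr fun x hx => (hgx ⟨x, hx⟩).trans (autFun_apply α hx).symm).trans img_autFun
  rwa [e] at h

theorem lift_maps_into {g : Ω → Ω} {α : MulAut V}
    (hg : IsMap F (V ⊔ centralizerIn S V) g) (hgx : ∀ x : V, g x = ((α x : V) : Ω)) {x : Ω}
    (hx : x ∈ V ⊔ centralizerIn S V) : g x ∈ V ⊔ centralizerIn S V := by
  refine hg.img_sup_le le_sup_left le_sup_right ?_ ?_ (hg.apply_mem_img hx)
  · intro y hy
    obtain ⟨z, hz, rfl⟩ := (hg.mono le_sup_left).mem_img.1 hy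
    exact mem_sup_left (hgx ⟨z, hz⟩ ▸ (α _).2)
  · intro y hy
    obtain ⟨z, hz, rfl⟩ := (hg.mono le_sup_right).mem_img.1 hy
    exact mem_sup_right (lift_apply_centralizer hg hgx hz)

theorem lifts_mul {α β : MulAut V} (hα : Lifts F T V α) (hβ : Lifts F T V β) :
    Lifts F T V (α * β) := by
  obtain ⟨g, hg, hgx, hgc⟩ := hα
  obtain ⟨h, hh, hhx, hhc⟩ := hβ
  refine ⟨fun x => g (h x), hh.comp hg fun x hx => lift_maps_into hh hhx hx, fun x => ?_,
    fun c hc => ?_⟩
  · show g (h x) = _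
    rw [hhx, hgx, MulAut.mul_apply]
  · show c⁻¹ * g (h c) ∈ T
    rw [show c⁻¹ * g (h c) = (c⁻¹ * h c) * ((h c)⁻¹ * g (h c)) by group]
    exact T.mul_mem (hhc c hc) (hgc _ (lift_apply_centralizer hh hhx hc))

theorem lifts_one (hV : V ≤ S) : Lifts F T V 1 :=
  ⟨id, isMap_id F (sup_le hV inf_le_left), fun x => by simp, fun c _ => by simp⟩

section

variable [Fact p.Prime] [Finite S]

/-- The liftable automorphisms in `Aut_E(V)`. -/
def liftGroup (hV : V ≤ S) (E : FusionSystem T) : Subgroup (E.autGroup V) :=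
  haveI := finite_of_le hV
  { carrier := {α | Lifts F T V (α : MulAut V)}
    one_mem' := lifts_one hV
    mul_mem' := fun {α β} h h' => lifts_mul h h'
    inv_mem' := fun {α} hα => by
      have hpow : ∀ i : ℕ, Lifts F T V ((α : MulAut V) ^ i) := fun i => by
        induction i with
        | zero => exact lifts_one hV
        | succ i ih => rw [pow_succ]; exact lifts_mul ih hα
      have h := hpow (orderOf (α : MulAut V) - 1)
      rwa [pow_sub _ (Nat.one_le_iff_ne_zero.2 (orderOf_pos _).ne'), pow_orderOf_eq_one,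
        pow_one, one_mul] at h }

variable (hS : IsPGroup p S) (hE : E.IsNormalIn F p)

include hS hE

omit hS hE in
/-- For fully normalized `L ≤ T` containing `C_T(L)`, the product `L C_S(L)` is fully normalized,
meets `T` in `L` and contains its centralizer. -/
theorem fullyNormalized_sup (hsc : F.StronglyClosed T) (hLT : L ≤ T)
    (hCL : centralizerIn T L ≤ L) (hL : F.IsFullyNormalized L) :
    F.IsFullyNormalized (L ⊔ centralizerIn S L) ∧
      (∀ w ∈ L ⊔ centralizerIn S L, w ∈ T → w ∈ L) ∧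
      centralizerIn S (L ⊔ centralizerIn S L) ≤ L ⊔ centralizerIn S L ∧
      normalizerIn S (L ⊔ centralizerIn S L) = normalizerIn S L := by
  set CL := centralizerIn S L with hCLdef
  set W := L ⊔ CL with hWdef
  have hLW : L ≤ W := le_sup_left
  have hWS : W ≤ S := sup_le hL.1 inf_le_left
  have hCLn : CL ≤ normalizer (L : Set Ω) :=
    inf_le_right.trans (Subgroup.centralizer_le_normalizer (s := (L : Set Ω)))
  have hWT : ∀ w ∈ W, w ∈ T → w ∈ L := fun w hw hwT => by
    have h : w ∈ ((L ⊔ CL : Subgroup Ω) : Set Ω) := hw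
    rw [Subgroup.coe_mul_of_right_le_normalizer_left L CL hCLn, Set.mem_mul] at h
    obtain ⟨l, hl, c, hc, rfl⟩ := h
    have hcT : c ∈ T := by simpa using T.mul_mem (T.inv_mem (hLT hl)) hwT
    exact L.mul_mem hl (hCL ⟨hcT, hc.2⟩)
  have h2 : normalizerIn S L ≤ normalizerIn S W := fun u hu =>
    ⟨hu.1, mem_normalizer_sup_centralizerIn hu.1 hu.2⟩
  have h3 : ∀ (R : Subgroup Ω) (f : Ω → Ω), IsMap F W f → img W f = R →
      normalizerIn S R ≤ normalizerIn S (img L f) := by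
    intro R f hf hfi u hu
    have e : img L f = R ⊓ T := by
      rw [← hfi]
      ext y
      constructor
      · intro hy
        refine ⟨img_mono hLW hy, ?_⟩
        obtain ⟨x, hx, rfl⟩ := (hf.mono hLW).mem_img.1 hy
        exact StronglyClosed.apply_mem hsc hf (hLW hx) (hLT hx)
      · rintro ⟨hy, hyT⟩
        obtain ⟨x, hx, rfl⟩ := hf.mem_img.1 hy
        obtain ⟨k, hk, hkx, -, -⟩ := hf.exists_inv
        have hxT := StronglyClosed.apply_mem hsc hk hy hyT
        rw [hkx x hx] at hxT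
        exact (hf.mono hLW).apply_mem_img (hWT x hx hxT)
    refine ⟨hu.1, ?_⟩
    rw [e]
    exact CfsgLib.Comp.le_normalizer_inf (M := normalizerIn S R) inf_le_right
      (inf_le_left.trans (StronglyClosed.le_normalizer hsc)) hu
  refine ⟨⟨hWS, fun R hR => ?_⟩, hWT,
    fun x hx => mem_sup_right ⟨hx.1, Subgroup.centralizer_le hLW hx.2⟩, le_antisymm ?_ h2⟩
  · obtain ⟨f, hf, hfi⟩ := isConj_iff.1 hR
    haveI : Finite (normalizerIn S (img L f)) := finite_normalizerIn
    haveI : Finite (normalizerIn S W) := finite_normalizerIn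
    exact (Subgroup.card_le_of_le (h3 R f hf hfi)).trans
      ((hL.2 _ (hf.mono hLW).isConj).trans (Subgroup.card_le_of_le h2))
  · have h := h3 W id (isMap_id F hWS) (by rw [img]; simp)
    rwa [show img L id = L by rw [img]; simp] at h

/-- An automorphism of a fully normalized `L` with self-centralization in `T` and a lift, whose
conjugates by `C_S(V)` differ from it by elements of `L`, extends to `L C_S(V)` trivially modulo
`T` on `C_S(V)`. -/
theorem exists_ext_centralizer (hVL : V ≤ L) (hLT : L ≤ T) (hCL : centralizerIn T L ≤ L)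
    (hL : F.IsFullyNormalized L) (hC : centralizerIn S V ≤ normalizer (L : Set Ω)) {a : MulAut L}
    (hlift : Lifts F T L a) {n : ℕ} (hn : n.Coprime p) (han : a ^ n = 1)
    (hkey : ∀ c (hc : c ∈ centralizerIn S V), ∃ z ∈ L, ∀ x : L,
      ((a (L.normalizerMonoidHom ⟨c, hC hc⟩ x) : L) : Ω) = c * z * ((a x : L) : Ω) * (c * z)⁻¹) :
    ∃ g, IsMap F (L ⊔ centralizerIn S V) g ∧ (∀ x : L, g x = ((a x : L) : Ω)) ∧
      ∀ c ∈ centralizerIn S V, c⁻¹ * g c ∈ T := by
  obtain ⟨⟨hEsat, hF, hinv⟩, -⟩ := id hE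
  have hsc : F.StronglyClosed T := hinv.2.1
  have hTS := hsc.1
  haveI := finite_of_le hTS
  have hTn : ∀ s ∈ S, ∀ t ∈ T, s * t * s⁻¹ ∈ T := fun s hs t ht =>
    StronglyClosed.conj_mem hsc hs ht
  have hLS : L ≤ S := hLT.trans hTS
  haveI := finite_of_le hLS
  set C := centralizerIn S V with hCdef
  set CL := centralizerIn S L with hCLdef
  set W := L ⊔ CL with hWdef
  have hLW : L ≤ W := le_sup_left
  have hWS : W ≤ S := sup_le hLS inf_le_left
  haveI := finite_of_le hWS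
  have hCLn : CL ≤ normalizer (L : Set Ω) :=
    inf_le_right.trans (Subgroup.centralizer_le_normalizer (s := (L : Set Ω)))
  obtain ⟨hWn, hWT, hCW, -⟩ := fullyNormalized_sup hsc hLT hCL hL
  have hWrec := receptive_of_fullyNormalized hS hF hWn
  have hWaut := fullyAutomized_of_fullyNormalized hS hF hWn
  -- the lift of `a`, made periodic
  obtain ⟨G₀, hG₀, hG₀x, hG₀c⟩ := hlift
  have hacop : (orderOf a).Coprime p := hn.coprime_dvd_left (orderOf_dvd_of_pow_eq_one han)
  obtain ⟨e₀, n₀, hn₀, hG₀a, hG₀per⟩ :=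
    exists_coprime_power hG₀ (fun x hx => lift_maps_into hG₀ hG₀x hx) le_sup_left hacop hG₀x
  set G := G₀^[e₀] with hGdef
  have hG : IsMap F W G := isMap_iterate hG₀ (fun x hx => lift_maps_into hG₀ hG₀x hx) e₀
  have hGW : ∀ x ∈ W, G x ∈ W := fun x hx =>
    iterate_mem (fun y hy => lift_maps_into hG₀ hG₀x hy) e₀ hx
  have hGc : ∀ c ∈ CL, c⁻¹ * G c ∈ T := fun c hc => by
    have hz : ∀ d ∈ CL, d⁻¹ * G₀ d ∈ CL ⊓ T := fun d hd =>
      ⟨CL.mul_mem (CL.inv_mem hd) (lift_apply_centralizer hG₀ hG₀x hd), hG₀c d hd⟩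
    exact (iterate_trivial_mod hG₀ le_sup_right inf_le_left hz e₀ c hc).2
  have hGmod : ∀ w ∈ W, w⁻¹ * G w ∈ T := fun w hw => by
    have h : w ∈ ((L ⊔ CL : Subgroup Ω) : Set Ω) := hw
    rw [Subgroup.coe_mul_of_right_le_normalizer_left L CL hCLn, Set.mem_mul] at h
    obtain ⟨l, hl, c, hc, rfl⟩ := h
    rw [hG.map_mul (hLW hl) (mem_sup_right hc),
      show (l * c)⁻¹ * (G l * G c) = (c⁻¹ * (l⁻¹ * G l) * c⁻¹⁻¹) * (c⁻¹ * G c) by group]
    have hGl : G l ∈ T := StronglyClosed.apply_mem hsc hG (hLW hl) (hLT hl)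
    exact T.mul_mem (hTn _ (S.inv_mem hc.1) _ (T.mul_mem (T.inv_mem (hLT hl)) hGl)) (hGc c hc)
  have hGi : img W G = W := eq_of_le_of_card_le (fun y hy => by
    obtain ⟨x, hx, rfl⟩ := hG.mem_img.1 hy
    exact hGW x hx) hG.card_img.ge
  -- elements of `C_S(V)` normalize `W`
  have hCnW : ∀ c ∈ C, c ∈ normalizer (W : Set Ω) := fun c hc =>
    mem_normalizer_sup_centralizerIn hc.1 (hC hc)
  -- the key conjugation property
  have key : ∀ c ∈ C, ∃ b ∈ S, c⁻¹ * b ∈ W ∧
      ∀ x ∈ W, G (c * x * c⁻¹) = b * G x * b⁻¹ := by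
    intro c hc
    have hcS : c ∈ S := hc.1
    set κ : MulAut L := L.normalizerMonoidHom ⟨c, hC hc⟩ with hκdef
    obtain ⟨z, hz, hu⟩ := hkey c hc
    have hzW : z ∈ W := hLW hz
    have hzS : z ∈ S := hLS hz
    set u := c * z with hudef
    have huS : u ∈ S := S.mul_mem hcS hzS
    have huW : u ∈ normalizer (W : Set Ω) := mul_mem (hCnW c hc) (W.le_normalizer hzW)
    set σ := hG.toAut hGi with hσdef
    set κW : MulAut W := W.normalizerMonoidHom ⟨c, hCnW c hc⟩ with hκWdef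
    set uW : MulAut W := W.normalizerMonoidHom ⟨u, huW⟩ with huWdef
    set β := uW⁻¹ * σ * κW * σ⁻¹ with hβdef
    have huWi : ∀ y : W, ((uW⁻¹ y : W) : Ω) = u⁻¹ * y * u := fun y => by
      rw [huWdef, ← map_inv]
      show u⁻¹ * (y : Ω) * u⁻¹⁻¹ = _
      rw [inv_inv]
    have hβσ : ∀ x : W, ((β (σ x) : W) : Ω) = u⁻¹ * G (c * x * c⁻¹) * u := fun x => by
      rw [hβdef, MulAut.mul_apply, MulAut.inv_apply_self, MulAut.mul_apply, MulAut.mul_apply,
        huWi, hσdef, IsMap.toAut_apply]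
      rfl
    have hβF : β ∈ F.autGroup W := by
      refine mul_mem (mul_mem (mul_mem (inv_mem ?_) (hG.toAut_mem hGi)) ?_)
        (inv_mem (hG.toAut_mem hGi))
      · exact autInducedBy_le_autGroup hWS (mem_autInducedBy_iff.2 ⟨u, huS, fun x => rfl⟩)
      · exact autInducedBy_le_autGroup hWS (mem_autInducedBy_iff.2 ⟨c, hcS, fun x => rfl⟩)
    have hβc : β ∈ chainAut F T W := by
      refine mem_chainAut.2 ⟨hβF, fun y hy => ?_, fun y => ?_⟩
      · obtain ⟨x, hx⟩ := a.surjective ⟨y, hWT y y.2 hy⟩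
        have hxW : (x : Ω) ∈ W := hLW x.2
        have e : σ ⟨x, hxW⟩ = y := Subtype.ext (by
          rw [hσdef, IsMap.toAut_apply]
          show G x = _
          rw [hG₀a x, hx])
        refine Subtype.ext ?_
        rw [← e, hβσ, hσdef, IsMap.toAut_apply]
        show u⁻¹ * G (c * x * c⁻¹) * u = G x
        rw [show c * (x : Ω) * c⁻¹ = ((κ x : L) : Ω) from rfl, hG₀a, hG₀a, hu]
        group
      · obtain ⟨x, hx⟩ := σ.surjective y
        rw [← hx, hβσ, hσdef, IsMap.toAut_apply]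
        have hxc : c * (x : Ω) * c⁻¹ ∈ W := (hCnW c hc x).1 x.2
        set t₁ := (c * (x : Ω) * c⁻¹)⁻¹ * G (c * (x : Ω) * c⁻¹) with ht₁
        set t₂ := (x : Ω)⁻¹ * G x with ht₂
        have h1 : c⁻¹ * t₁ * c⁻¹⁻¹ ∈ T := hTn _ (S.inv_mem hcS) _ (hGmod _ hxc)
        have h2 : (x : Ω)⁻¹ * z⁻¹ * (x : Ω)⁻¹⁻¹ ∈ T :=
          hTn _ (S.inv_mem (hWS x.2)) _ (T.inv_mem (hLT hz))
        have e : (G x)⁻¹ * (u⁻¹ * G (c * x * c⁻¹) * u) =
            t₂⁻¹ * ((x : Ω)⁻¹ * z⁻¹ * (x : Ω)⁻¹⁻¹) * (c⁻¹ * t₁ * c⁻¹⁻¹) * z := by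
          rw [ht₁, ht₂, hudef]
          group
        rw [e]
        exact T.mul_mem (T.mul_mem (T.mul_mem (T.inv_mem (hGmod _ x.2)) h2) h1) (hLT hz)
    -- the chain stabilizer is induced by `S`
    have hle : chainAut F T W ≤ F.autGroup W := fun _ h => (mem_chainAut.1 h).1
    obtain ⟨δ, hδ, hδ'⟩ :=
      exists_conj_le_autInducedBy hWaut _ (isPGroup_chainAut hS hTS) hle
    have hβS : β ∈ autInducedBy S W := by
      have h := hδ' _ (chainAut_normal hsc hWS (inv_mem hδ) hβc)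
      simpa [mul_assoc] using h
    obtain ⟨s, hs, hsx⟩ := mem_autInducedBy_iff.1 hβS
    have hsW : s ∈ W := by
      refine mem_sup_right ⟨hs, fun l hl => ?_⟩
      have h := congrArg Subtype.val ((mem_chainAut.1 hβc).2.1 ⟨l, hLW hl⟩ (hLT hl))
      rw [hsx] at h
      exact (mul_inv_eq_iff_eq_mul.1 h).symm
    refine ⟨u * s, S.mul_mem huS hs, ?_, fun x hx => ?_⟩
    · rw [hudef, show c⁻¹ * (c * z * s) = z * s by group]
      exact W.mul_mem hzW hsW
    · have h := hsx (σ ⟨x, hx⟩)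
      rw [hβσ, hσdef, IsMap.toAut_apply] at h
      calc G (c * x * c⁻¹) = u * (u⁻¹ * G (c * x * c⁻¹) * u) * u⁻¹ := by group
        _ = _ := by rw [h]; group
  -- extension to `W C_S(V)`
  set M := W ⊔ C with hMdef
  have hWM : W ≤ M := le_sup_left
  obtain ⟨h₀, hh₀, hh₀x⟩ := receptive_extend hWrec hG hGi hWM (by
    have hle : M ≤ extender S W hG.toHom := sup_le
      (le_sup_left.trans (sup_centralizerIn_le_extender hG fun _ => rfl)) fun c hc => by
        obtain ⟨b, hb, -, hbx⟩ := key c hc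
        exact (mem_extender_iff hG fun _ => rfl).2 ⟨hc.1, hCnW c hc, b, hb, hbx⟩
    exact fun m hm => (mem_extender_iff hG fun _ => rfl).1 (hle hm))
  have hext : ∀ h : Ω → Ω, IsMap F M h → (∀ x ∈ W, h x = G x) → ∀ c ∈ C, c⁻¹ * h c ∈ W := by
    intro h hh hhx c hc
    obtain ⟨b, hb, hcb, hbx⟩ := key c hc
    have hhS : h c ∈ S := hh.mem (mem_sup_right hc)
    have hcen : b⁻¹ * h c ∈ centralizerIn S W := by
      refine ⟨S.mul_mem (S.inv_mem hb) hhS, fun y hy => ?_⟩
      obtain ⟨x, hx, rfl⟩ := hG.mem_img.1 (hGi.symm ▸ hy)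
      have h1 := hh.map_conj (mem_sup_right hc) (hWM hx)
      rw [hhx _ ((hCnW c hc x).1 hx), hhx x hx, hbx x hx] at h1
      calc G x * (b⁻¹ * h c) = b⁻¹ * (b * G x * b⁻¹) * h c := by group
        _ = b⁻¹ * (h c * G x * (h c)⁻¹) * h c := by rw [h1]
        _ = b⁻¹ * h c * G x := by group
    rw [show c⁻¹ * h c = (c⁻¹ * b) * (b⁻¹ * h c) by group]
    exact W.mul_mem hcb (hCW hcen)
  have hh₀M : ∀ x ∈ M, h₀ x ∈ M := fun x hx => by
    refine hh₀.img_sup_le hWM le_sup_right ?_ ?_ (hh₀.apply_mem_img hx)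
    · rw [img_congr hh₀x, hGi]
      exact hWM
    · intro y hy
      obtain ⟨c, hc, rfl⟩ := (hh₀.mono le_sup_right).mem_img.1 hy
      simpa using M.mul_mem (mem_sup_right hc) (hWM (hext h₀ hh₀ hh₀x c hc))
  set σ := hG.toAut hGi with hσdef
  have hσn : σ ^ n₀ = 1 := MulEquiv.ext fun x => Subtype.ext (by
    rw [toAut_pow_coe hG hGi]
    exact hG₀per x x.2)
  obtain ⟨e₁, n₁, hn₁, hh₁x, hh₁per⟩ := exists_coprime_power hh₀ hh₀M hWM
    (hn₀.coprime_dvd_left (orderOf_dvd_of_pow_eq_one hσn))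
    (fun x => (hh₀x x x.2).trans (IsMap.toAut_apply hG hGi x).symm)
  set h := h₀^[e₁] with hhdef
  have hh : IsMap F M h := isMap_iterate hh₀ hh₀M e₁
  have hhx : ∀ x ∈ W, h x = G x := fun x hx =>
    (hh₁x ⟨x, hx⟩).trans (IsMap.toAut_apply hG hGi ⟨x, hx⟩)
  refine ⟨h, hh.mono (sup_le (hLW.trans hWM) le_sup_right), fun x => ?_, fun c hc => ?_⟩
  · rw [hhx x (hLW x.2)]
    exact hG₀a x
  · set w := c⁻¹ * h c with hwdef
    have hw : w ∈ W := hext h hh hhx c hc
    have hstep : ∀ i : ℕ, ∃ v ∈ W, h^[i] c = c * v ∧ (w ^ i)⁻¹ * v ∈ T := by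
      intro i
      induction i with
      | zero => exact ⟨1, W.one_mem, by simp, by simp⟩
      | succ i ih =>
        obtain ⟨v, hv, hvc, hvT⟩ := ih
        refine ⟨w * G v, W.mul_mem hw (hGW v hv), ?_, ?_⟩
        · rw [Function.iterate_succ_apply', hvc, hh.map_mul (mem_sup_right hc) (hWM hv), hhx v hv,
            hwdef]
          group
        · rw [show (w ^ (i + 1))⁻¹ * (w * G v) = ((w ^ i)⁻¹ * v) * (v⁻¹ * G v) by
            rw [pow_succ']; group]
          exact T.mul_mem hvT (hGmod v hv)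
    obtain ⟨v, hv, hvc, hvT⟩ := hstep n₁
    rw [hh₁per c (mem_sup_right hc)] at hvc
    have hv1 : v = 1 := mul_eq_left.1 hvc.symm
    rw [hv1, mul_one] at hvT
    have hwn : w ^ n₁ ∈ T := by simpa using T.inv_mem hvT
    obtain ⟨k, hk⟩ := hS ⟨w, hWS hw⟩
    have hk' : w ^ p ^ k = 1 := congrArg Subtype.val hk
    obtain ⟨d, hd0, hd1⟩ := Nat.chineseRemainder (hn₁.pow_right k) 0 1
    obtain ⟨q, rfl⟩ := Nat.modEq_zero_iff_dvd.1 hd0
    have hwd : w ^ (n₁ * q) = w ^ 1 :=
      pow_eq_pow_iff_modEq.2 (hd1.of_dvd (orderOf_dvd_of_pow_eq_one hk'))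
    rw [pow_one, pow_mul] at hwd
    exact hwd ▸ T.pow_mem hwn q

/-- Liftability descends from a fully normalized subgroup `L` to a subgroup normal in it. -/
theorem lifts_restrict (hV : E.IsCentric V) (hVL : V ≤ L) (hLT : L ≤ T)
    (hLn : L ≤ normalizer (V : Set Ω)) (hL : F.IsFullyNormalized L)
    (hC : centralizerIn S V ≤ normalizer (L : Set Ω))
    (hlift : ∀ β ∈ E.autGroup L, Lifts F T L β) {a : MulAut L} (ha : a ∈ E.autGroup L) {n : ℕ}
    (hn : n.Coprime p) (han : a ^ n = 1) {α : MulAut V}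
    (hαa : ∀ x : V, ((a (Subgroup.inclusion hVL x) : L) : Ω) = ((α x : V) : Ω)) :
    Lifts F T V α := by
  obtain ⟨⟨hEsat, hF, hinv⟩, -⟩ := id hE
  have hTp : IsPGroup p T := hS.to_le hinv.2.1.1
  haveI := finite_of_le hinv.2.1.1
  have hLS : L ≤ S := hLT.trans hinv.2.1.1
  obtain ⟨g, hg, hgx, hgc⟩ := exists_ext_centralizer hS hE hVL hLT
    ((centric_of_le hV hVL hLT).2 L (isConj_refl hLT)) hL hC (hlift a ha) hn han fun c hc => by
    set κ : MulAut L := L.normalizerMonoidHom ⟨c, hC hc⟩ with hκdef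
    have hκF : κ ∈ F.autGroup L :=
      autInducedBy_le_autGroup hLS (mem_autInducedBy_iff.2 ⟨c, hc.1, fun x => rfl⟩)
    have hγ : κ⁻¹ * a * κ * a⁻¹ ∈ E.autGroup L := by
      have h := autGroup_conj_mem hinv hLT (inv_mem hκF) ha
      rw [inv_inv] at h
      exact mul_mem h (inv_mem ha)
    set γ := κ⁻¹ * a * κ * a⁻¹ with hγdef
    have hκi : ∀ y : L, ((κ⁻¹ y : L) : Ω) = c⁻¹ * y * c := fun y => by
      rw [hκdef, ← map_inv]
      show c⁻¹ * (y : Ω) * c⁻¹⁻¹ = _
      rw [inv_inv]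
    have hγa : ∀ x : L, ((γ (a x) : L) : Ω) = c⁻¹ * ((a (κ x) : L) : Ω) * c := fun x => by
      rw [hγdef, MulAut.mul_apply, MulAut.inv_apply_self, MulAut.mul_apply, MulAut.mul_apply, hκi]
    have hγV : ∀ v ∈ V, autFun γ v = v := fun v hv => by
      obtain ⟨x, hx⟩ := α.surjective ⟨v, hv⟩
      have e : a (Subgroup.inclusion hVL x) = ⟨v, hVL hv⟩ :=
        Subtype.ext ((hαa x).trans (congrArg Subtype.val hx))
      have e' : κ (Subgroup.inclusion hVL x) = Subgroup.inclusion hVL x := Subtype.ext (by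
        show c * (x : Ω) * c⁻¹ = x
        rw [← hc.2 _ x.2, mul_inv_cancel_right])
      rw [autFun_apply γ (hVL hv), ← e, hγa, e', e]
      show c⁻¹ * v * c = v
      rw [mul_assoc, hc.2 v hv, inv_mul_cancel_left]
    obtain ⟨z, hz, hzc, hzy⟩ := exists_conj_of_agree_id hTp hEsat hV hVL hLn
      (isMap_autFun hLT hγ) img_autFun hγV
    refine ⟨z, hVL hz, fun x => ?_⟩
    have h := hzy _ (a x).2
    rw [autFun_apply γ (a x).2, hγa] at h
    calc ((a (κ x) : L) : Ω) = c * (c⁻¹ * ((a (κ x) : L) : Ω) * c) * c⁻¹ := by group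
      _ = _ := by rw [h]; group
  refine ⟨g, hg.mono (sup_le_sup_right hVL _), fun x => ?_, hgc⟩
  rw [← hαa x]
  exact hgx (Subgroup.inclusion hVL x)

/-- Automorphisms of a fully centralized centric subgroup in a normal subsystem lift. -/
theorem exists_lift (hV : E.IsCentric V) (hVc : F.IsFullyCentralized V) {α : MulAut V}
    (hα : α ∈ E.autGroup V) : Lifts F T V α := by
  obtain ⟨⟨hEsat, hF, hinv⟩, hext⟩ := id hE
  have hsc : F.StronglyClosed T := hinv.2.1
  have hsub : E.IsSubsystemOf F := hinv.1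
  have hTS := hsc.1
  haveI := finite_of_le hTS
  have hTp : IsPGroup p T := hS.to_le hTS
  suffices key : ∀ m, ∀ V : Subgroup Ω, E.IsCentric V → F.IsFullyCentralized V →
      Nat.card T - Nat.card V = m → ∀ α ∈ E.autGroup V, Lifts F T V α from
    key _ V hV hVc rfl α hα
  intro m
  induction m using Nat.strong_induction_on with
  | _ m ih =>
  intro V hV hVc hm α hα
  have hVT := hV.1
  rcases eq_or_lt_of_le hVT with rfl | hlt
  · obtain ⟨β, hβ, hβx, hβc⟩ := hext α hα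
    have hle : V ⊔ centralizerIn S V ≤ S := sup_le hTS inf_le_left
    refine ⟨autFun β, isMap_autFun hle hβ, fun x => ?_, fun c hc => ?_⟩
    · rw [autFun_apply β (mem_sup_left x.2)]
      exact hβx x
    · rw [autFun_apply β (mem_sup_right hc)]
      exact (hβc ⟨c, mem_sup_right hc⟩ hc).1
  have hVS : V ≤ S := hVT.trans hTS
  -- reduction to a fully normalized conjugate
  obtain ⟨Q, hconj, hQn⟩ := exists_fullyNormalized_conj F hVS
  obtain ⟨ψ, hψ, hψi, hψN⟩ := exists_map_normalizerIn_of_fullyNormalized hS hF hQn hconj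
  have hVN : V ≤ normalizerIn S V := le_normalizerIn hVS
  have hψV := hψ.mono hVN
  have hQT : Q ≤ T := hψi ▸ fun z hz => by
    obtain ⟨x, hx, rfl⟩ := hψV.mem_img.1 hz
    exact StronglyClosed.apply_mem hsc hψV hx (hVT hx)
  have hQE : E.IsCentric Q := hψi ▸ centric_img_of_map hS hE.1 hψV hV
  suffices hmain : ∀ β ∈ E.autGroup Q, Lifts F T Q β by
    have hα' := congr_mem_of_invariant hinv hψV hVT hα
    subst hψi
    obtain ⟨g, hg, hgx, hgc⟩ := hmain _ hα'
    set C := centralizerIn S V with hC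
    set D := centralizerIn S (img V ψ) with hD
    have hCN : C ≤ normalizerIn S V := centralizerIn_le_normalizerIn
    have hCD : ∀ c ∈ C, ψ c ∈ D := fun c hc => hψ.apply_mem_centralizerIn hVN (hCN hc) hc.2
    haveI : Finite D := finite_centralizerIn
    have hDi : img C ψ = D := eq_of_le_of_card_le (fun y hy => by
      obtain ⟨c, hc, rfl⟩ := (hψ.mono hCN).mem_img.1 hy
      exact hCD c hc) ((hψ.mono hCN).card_img ▸ hVc.2 _ hψV.isConj)
    have hW : V ⊔ C ≤ normalizerIn S V := sup_le hVN hCN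
    have hψW := hψ.mono hW
    have hi : img (V ⊔ C) ψ = img V ψ ⊔ D := by
      rw [hψW.img_sup le_sup_left le_sup_right, hDi]
    obtain ⟨k, hk, hkx, -, -⟩ := hψW.exists_inv
    have hin : ∀ x ∈ V ⊔ C, ψ x ∈ img V ψ ⊔ D := fun x hx => hi ▸ hψW.apply_mem_img hx
    have hcomp := hψW.comp hg hin
    have hkm : ∀ x ∈ V ⊔ C, g (ψ x) ∈ img (V ⊔ C) ψ := fun x hx =>
      hi.symm ▸ lift_maps_into hg hgx (hin x hx)
    refine ⟨fun x => k (g (ψ x)), hcomp.comp hk hkm, fun x => ?_, fun c hc => ?_⟩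
    · show k (g (ψ x)) = _
      have h1 := hgx (hψV.equivImg x)
      rw [IsMap.coe_equivImg] at h1
      rw [h1]
      show k ((hψV.equivImg (α (hψV.equivImg.symm (hψV.equivImg x))) : img V ψ) : Ω) = _
      rw [MulEquiv.symm_apply_apply, IsMap.coe_equivImg, hkx _ (mem_sup_left (α x).2)]
    · show c⁻¹ * k (g (ψ c)) ∈ T
      have hcW : c ∈ V ⊔ C := mem_sup_right hc
      have h1 := hgc _ (hCD c hc)
      have hm1 : ψ c ∈ img (V ⊔ C) ψ := hψW.apply_mem_img hcW
      have h2 : (ψ c)⁻¹ * g (ψ c) ∈ img (V ⊔ C) ψ :=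
        (img (V ⊔ C) ψ).mul_mem ((img (V ⊔ C) ψ).inv_mem hm1) (hkm c hcW)
      have h3 := StronglyClosed.apply_mem hsc hk h2 h1
      rwa [hk.map_mul ((img (V ⊔ C) ψ).inv_mem hm1) (hkm c hcW), hk.map_inv hm1,
        hkx c hcW] at h3
  -- the fully normalized case
  have hcardQ : Nat.card Q = Nat.card V := hψi ▸ hψV.card_img
  have hQS : Q ≤ S := hQn.1
  haveI := finite_of_le hQS
  haveI := finite_of_le hVS
  have hQlt : Q < T := lt_of_le_of_ne hQT fun h => hlt.ne
    (eq_of_le_of_card_le hVT (by rw [← hcardQ, h]))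
  have hEn := fullyNormalized_subsystem hS hF hsc hsub hQT hQn
  have haut := fullyAutomized_of_fullyNormalized hTp hEsat hEn
  obtain ⟨Sy, hSy⟩ := haut.2
  intro β hβ
  have hgen : pGenAut E p Q ≤ liftGroup (F := F) hQS E := fun δ hδ => by
    obtain ⟨g, hg, hgx, hgc⟩ :=
      exists_ext_of_pGen hS hF hsc hsub hEsat hQn hQE δ hδ
    exact ⟨g, hg, hgx, fun c hc => hQT (hgc c hc).1⟩
  -- elements of order prime to `p` normalizing the Sylow subgroup
  have hnorm : ∀ ν : E.autGroup Q, (orderOf ν).Coprime p →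
      ν ∈ normalizer ((Sy : Subgroup (E.autGroup Q)) : Set (E.autGroup Q)) →
      ν ∈ liftGroup (F := F) hQS E := by
    intro ν hν hνn
    set N := normalizerIn T Q with hN
    have hQN : Q ≤ N := le_normalizerIn hQT
    have hNT : N ≤ T := inf_le_left
    have hνm := isMap_autFun hQT ν.2
    obtain ⟨g, hg, hgx⟩ := receptive_extend (receptive_of_fullyNormalized hTp hEsat hEn) hνm
      img_autFun hQN (R := N) fun t ht => by
        refine ⟨ht.1, ht.2, ?_⟩
        let τ : E.autGroup Q := ⟨Q.normalizerMonoidHom ⟨t, ht.2⟩, autInducedBy_le_autGroup hQT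
          (mem_autInducedBy_iff.2 ⟨t, ht.1, fun x => rfl⟩)⟩
        have hτ : τ ∈ (Sy : Subgroup (E.autGroup Q)) := by
          rw [hSy]
          exact mem_autInducedBy_iff.2 ⟨t, ht.1, fun x => rfl⟩
        have h1 := (hνn τ).1 hτ
        rw [hSy] at h1
        obtain ⟨b, hb, hbx⟩ := mem_autInducedBy_iff.1 h1
        refine ⟨b, hb, fun x hx => ?_⟩
        have h2 := hbx ((ν : MulAut Q) ⟨x, hx⟩)
        rw [autFun_apply _ ((ht.2 x).1 hx), autFun_apply _ hx, ← h2]
        show _ = (((ν : MulAut Q) * (τ : MulAut Q) * (ν : MulAut Q)⁻¹)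
          ((ν : MulAut Q) ⟨x, hx⟩) : Ω)
        rw [MulAut.mul_apply, MulAut.mul_apply, MulAut.inv_apply_self]
        rfl
    have hgQ : img Q g = Q := (img_congr hgx).trans img_autFun
    have hgN : ∀ t ∈ N, g t ∈ N := fun t ht => by
      have h := hg.apply_mem_normalizerIn hQN ht ht.2
      rwa [hgQ] at h
    haveI := finite_of_le hNT
    have hgi : img N g = N := eq_of_le_of_card_le (fun y hy => by
      obtain ⟨x, hx, rfl⟩ := hg.mem_img.1 hy
      exact hgN x hx) hg.card_img.ge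
    obtain ⟨e, k, hk, hge, hper⟩ := exists_coprime_power (F := E) hg hgN hQN
      (α := (ν : MulAut Q)) (by rwa [Subgroup.orderOf_coe])
      fun x => (hgx x x.2).trans (autFun_apply _ x.2)
    have hgem : IsMap E N (g^[e]) := isMap_iterate hg hgN e
    have hgei : img N (g^[e]) = N := eq_of_le_of_card_le (fun y hy => by
      obtain ⟨x, hx, rfl⟩ := hgem.mem_img.1 hy
      exact iterate_mem hgN e hx) hgem.card_img.ge
    -- move the normalizer to a fully normalized subgroup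
    have hNS : N ≤ S := hNT.trans hTS
    obtain ⟨N₁, hN₁, hN₁n⟩ := exists_fullyNormalized_conj F hNS
    obtain ⟨φ, hφ, hφi, hφN⟩ := exists_map_normalizerIn_of_fullyNormalized hS hF hN₁n hN₁
    set C := centralizerIn S Q with hC
    have hCn : C ≤ normalizerIn S N := fun c hc => ⟨hc.1, CfsgLib.Comp.le_normalizer_inf
      (M := normalizerIn S Q) (inf_le_left.trans (StronglyClosed.le_normalizer hsc))
      (inf_le_right.trans Subgroup.le_normalizer) (centralizerIn_le_normalizerIn hc)⟩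
    have hNn : N ≤ normalizerIn S N := le_normalizerIn hNS
    have hφN' := hφ.mono hNn
    have hQn' : Q ≤ normalizerIn S N := hQN.trans hNn
    have hφQ := hφ.mono hQn'
    set Q₁ := img Q φ with hQ₁
    have hQ₁N : Q₁ ≤ N₁ := hφi ▸ img_mono hQN
    have hN₁T : N₁ ≤ T := hφi ▸ fun z hz => by
      obtain ⟨x, hx, rfl⟩ := hφN'.mem_img.1 hz
      exact StronglyClosed.apply_mem hsc hφN' hx (hNT hx)
    have hQ₁E : E.IsCentric Q₁ := centric_img_of_map hS hE.1 hφQ hQE
    have hQ₁n : N₁ ≤ normalizer (Q₁ : Set Ω) := hφi ▸ fun z hz => by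
      obtain ⟨x, hx, rfl⟩ := hφN'.mem_img.1 hz
      exact (hφ.apply_mem_normalizerIn hQn' (hNn hx) hx.2).2
    set D := centralizerIn S Q₁ with hD
    haveI : Finite D := finite_centralizerIn
    have hDi : img C φ = D := eq_of_le_of_card_le (fun y hy => by
      obtain ⟨c, hc, rfl⟩ := (hφ.mono hCn).mem_img.1 hy
      exact hφ.apply_mem_centralizerIn hQn' (hCn hc) hc.2)
      ((hφ.mono hCn).card_img ▸ (fullyCentralized_of_fullyNormalized hS hF hQn).2 _ hφQ.isConj)
    have hDn : D ≤ normalizer (N₁ : Set Ω) := hDi ▸ fun z hz => by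
      obtain ⟨c, hc, rfl⟩ := (hφ.mono hCn).mem_img.1 hz
      exact (hφN c (hCn hc)).2
    have hcard : Nat.card N₁ > Nat.card V := by
      rw [← hcardQ, ← hφi, hφN'.card_img]
      exact lt_of_not_ge fun hc => (lt_normalizerIn hTp hQlt).ne (eq_of_le_of_card_le hQN hc)
    have hN₁le : Nat.card N₁ ≤ Nat.card T := Subgroup.card_le_of_le hN₁T
    have hlift : ∀ δ ∈ E.autGroup N₁, Lifts F T N₁ δ :=
      ih _ (by omega) N₁ (centric_of_le hQ₁E hQ₁N hN₁T)
        (fullyCentralized_of_fullyNormalized hS hF hN₁n) rfl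
    subst hφi
    set a := hgem.toAut hgei with hadef
    have ha : MulAut.congr hφN'.equivImg a ∈ E.autGroup (img N φ) :=
      congr_mem_of_invariant hinv hφN' hNT (hgem.toAut_mem hgei)
    have hak : a ^ k = 1 := MulEquiv.ext fun x => Subtype.ext (by
      rw [toAut_pow_coe hgem hgei]
      exact hper x x.2)
    have hak' : MulAut.congr hφN'.equivImg a ^ k = 1 := by rw [← map_pow, hak, map_one]
    have hval : ∀ x : Q₁, ((MulAut.congr hφN'.equivImg a
        (Subgroup.inclusion hQ₁N x) : img N φ) : Ω) =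
        ((MulAut.congr hφQ.equivImg (ν : MulAut Q) x : Q₁) : Ω) := by
      intro x
      obtain ⟨q, rfl⟩ := hφQ.equivImg.surjective x
      have e1 : (Subgroup.inclusion hQ₁N (hφQ.equivImg q) : img N φ) =
          hφN'.equivImg (Subgroup.inclusion hQN q) := Subtype.ext rfl
      rw [e1]
      show ((hφN'.equivImg (a (hφN'.equivImg.symm (hφN'.equivImg _))) : img N φ) : Ω) =
        ((hφQ.equivImg ((ν : MulAut Q) (hφQ.equivImg.symm (hφQ.equivImg q))) : img Q φ) : Ω)
      rw [MulEquiv.symm_apply_apply, MulEquiv.symm_apply_apply, IsMap.coe_equivImg,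
        IsMap.coe_equivImg, hadef, IsMap.toAut_apply]
      exact congrArg φ (hge q)
    obtain ⟨g₁, hg₁, hg₁x, hg₁c⟩ :=
      lifts_restrict hS hE hQ₁E hQ₁N hN₁T hQ₁n hN₁n hDn hlift ha hk hak' hval
    -- pull back to `Q`
    have hW : Q ⊔ C ≤ normalizerIn S N := sup_le hQn' hCn
    have hφW := hφ.mono hW
    have hi : img (Q ⊔ C) φ = Q₁ ⊔ D := by rw [hφW.img_sup le_sup_left le_sup_right, hDi]
    obtain ⟨j, hj, hjx, -, -⟩ := hφW.exists_inv
    have hin : ∀ x ∈ Q ⊔ C, φ x ∈ Q₁ ⊔ D := fun x hx => hi ▸ hφW.apply_mem_img hx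
    have hjm : ∀ x ∈ Q ⊔ C, g₁ (φ x) ∈ img (Q ⊔ C) φ := fun x hx =>
      hi.symm ▸ lift_maps_into hg₁ hg₁x (hin x hx)
    refine ⟨fun x => j (g₁ (φ x)), (hφW.comp hg₁ hin).comp hj hjm, fun x => ?_, fun c hc => ?_⟩
    · show j (g₁ (φ x)) = _
      have h1 := hg₁x (hφQ.equivImg x)
      rw [IsMap.coe_equivImg] at h1
      rw [h1]
      show j ((hφQ.equivImg ((ν : MulAut Q) (hφQ.equivImg.symm (hφQ.equivImg x))) : Q₁) : Ω) = _
      rw [MulEquiv.symm_apply_apply, IsMap.coe_equivImg, hjx _ (mem_sup_left (Subtype.mem _))]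
    · show c⁻¹ * j (g₁ (φ c)) ∈ T
      have hcW : c ∈ Q ⊔ C := mem_sup_right hc
      have hcD : φ c ∈ D := hDi ▸ (hφ.mono hCn).apply_mem_img hc
      have hm1 : φ c ∈ img (Q ⊔ C) φ := hφW.apply_mem_img hcW
      have h2 : (φ c)⁻¹ * g₁ (φ c) ∈ img (Q ⊔ C) φ :=
        (img (Q ⊔ C) φ).mul_mem ((img (Q ⊔ C) φ).inv_mem hm1) (hjm c hcW)
      have h3 := StronglyClosed.apply_mem hsc hj h2 (hg₁c _ hcD)
      rwa [hj.map_mul ((img (Q ⊔ C) φ).inv_mem hm1) (hjm c hcW), hj.map_inv hm1,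
        hjx c hcW] at h3
  -- generation
  set H := liftGroup (F := F) hQS E with hH
  have hpel : ∀ δ : E.autGroup Q, (∃ i : ℕ, orderOf δ = p ^ i) → δ ∈ H :=
    fun δ hδ => hgen (Subgroup.subset_closure hδ)
  have hSyG : (Sy : Subgroup (E.autGroup Q)) ≤ pGenAut E p Q := fun δ hδ => by
    obtain ⟨i, hi⟩ := IsPGroup.iff_orderOf.1 Sy.isPGroup' ⟨δ, hδ⟩
    exact Subgroup.subset_closure ⟨i, by rw [← hi]; exact (Subgroup.orderOf_coe ⟨δ, hδ⟩)⟩
  have hN : normalizer ((Sy : Subgroup (E.autGroup Q)) : Set (E.autGroup Q)) ≤ H := fun δ hδ => by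
    obtain ⟨i, j, hij, hi, hj⟩ := exists_powers_pPart (p := p) δ
    rw [← hij]
    exact mul_mem (hpel _ hi) (hnorm _ hj (pow_mem hδ j))
  have htop : (⊤ : Subgroup (E.autGroup Q)) ≤ H := by
    rw [← Sylow.normalizer_sup_eq_top' Sy hSyG]
    exact sup_le hN hgen
  exact htop (Subgroup.mem_top ⟨β, hβ⟩)

end

end CfsgLib.Comp.Fus
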