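import Cfsg.Agent.Lib.Comp.MeetSystem
import Cfsg.Agent.Lib.Comp.BetweenNormal
import Cfsg.Agent.Lib.Fusion.PPrimeResidual

/-!
The normal system over the intersection of two normal subsystems.
-/

set_option autoImplicit false
set_option linter.unusedVariables false
set_option linter.unusedSectionVars false
set_option linter.style.haveILetI false

universe u

namespace CfsgLib.Comp.Meet

open Cfsg Cfsg.FusionSystem Subgroup CfsgLib.Fusion CfsgLib.Comp.Fus

variable {Ω : Type u} [Group Ω] {S U A : Subgroup Ω} {F : FusionSystem S} {p : ℕ}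

/-- The automorphisms of `A` extending to `A C_U(A)`, trivially modulo `Z(A)`. -/
def IsExt (X : FusionSystem U) (A : Subgroup Ω) (α : MulAut A) : Prop :=
  ∃ b, IsMap X (A ⊔ centralizerIn U A) b ∧ (∀ x ∈ A, b x = autFun α x) ∧
    ∀ c ∈ centralizerIn U A, c⁻¹ * b c ∈ A ⊓ centralizer (A : Set Ω)

theorem IsExt.mem_autGroup {X : FusionSystem U} (hA : A ≤ U) {α : MulAut A} (h : IsExt X A α) :
    α ∈ X.autGroup A := by
  obtain ⟨b, hb, hbx, -⟩ := h
  exact (autGroup_iff_isMap hA fun x => ((hbx x x.2).trans (autFun_apply α x.2)).symm).2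
    (hb.mono le_sup_left)

theorem isExt_one (X : FusionSystem U) (hA : A ≤ U) : IsExt X A 1 :=
  ⟨id, isMap_id X (sup_le hA inf_le_left), fun x hx => (autFun_one hx).symm,
    fun c _ => by simp [one_mem]⟩

theorem IsExt.mul {X : FusionSystem U} {α β : MulAut A} (hα : IsExt X A α) (hβ : IsExt X A β) :
    IsExt X A (α * β) := by
  obtain ⟨b, hb, hbx, hbc⟩ := hα
  obtain ⟨c, hc, hcx, hcc⟩ := hβ
  have hcA : img A c ≤ A := fun y hy => by
    obtain ⟨x, hx, rfl⟩ := (hc.mono le_sup_left).mem_img.1 hy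
    rw [hcx x hx]
    exact autFun_mem β hx
  have hcC : img (centralizerIn U A) c ≤ A ⊔ centralizerIn U A := fun y hy => by
    obtain ⟨x, hx, rfl⟩ := (hc.mono le_sup_right).mem_img.1 hy
    have := mul_mem (mem_sup_right (S := A) hx) (mem_sup_left (T := centralizerIn U A) (hcc x hx).1)
    rwa [mul_inv_cancel_left] at this
  have hmem : ∀ x ∈ A ⊔ centralizerIn U A, c x ∈ A ⊔ centralizerIn U A := fun x hx =>
    hc.img_sup_le le_sup_left le_sup_right (hcA.trans le_sup_left) hcC (hc.apply_mem_img hx)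
  refine ⟨fun x => b (c x), hc.comp hb hmem, fun x hx => ?_, fun x hx => ?_⟩
  · show b (c x) = _
    rw [hcx x hx, hbx _ (autFun_mem β hx), autFun_mul_apply _ _ hx]
  · show x⁻¹ * b (c x) ∈ _
    set z := x⁻¹ * c x with hz
    have hzA := hcc x hx
    have hzb : b z ∈ A ⊓ centralizer (A : Set Ω) := by
      refine ⟨by rw [hbx z hzA.1]; exact autFun_mem α hzA.1, ?_⟩
      have h := (hb.apply_mem_centralizerIn le_sup_left (mem_sup_left hzA.1) hzA.2).2
      rwa [(img_congr hbx).trans img_autFun] at h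
    have e : b (c x) = b x * b z := by
      rw [← hb.map_mul (mem_sup_right hx) (mem_sup_left hzA.1), mul_inv_cancel_left]
    rw [e, ← mul_assoc]
    exact mul_mem (hbc x hx) hzb

/-- The subgroup of these automorphisms. -/
def extAutA [Finite A] (X : FusionSystem U) (hA : A ≤ U) : Subgroup (MulAut A) where
  carrier := {α | IsExt X A α}
  one_mem' := isExt_one X hA
  mul_mem' := IsExt.mul
  inv_mem' := fun {α} h => by
    haveI : Finite (MulAut A) := Finite.of_injective _ MulEquiv.toEquiv_injective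
    have hp : ∀ n, IsExt X A (α ^ n) := by
      intro n
      induction n with
      | zero => simpa using isExt_one X hA
      | succ n ih => rw [pow_succ]; exact ih.mul h
    show IsExt X A α⁻¹
    have e : α ^ (orderOf α - 1) = α⁻¹ := eq_inv_of_mul_eq_one_left (by
      rw [← pow_succ, Nat.sub_add_cancel (orderOf_pos α), pow_orderOf_eq_one])
    exact e ▸ hp _

/-- Conjugation by the maps of the ambient system. -/
theorem isExt_conj [Fact p.Prime] [Finite S] (hS : IsPGroup p S) (hF : F.IsSaturated p)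
    {X : FusionSystem U} (hUF : F.StronglyClosed U) (hAU : A ≤ U) (hA : F.StronglyClosed A)
    (hconj : ∀ (P : Subgroup Ω) (f k φ : Ω → Ω), IsMap F P f → P ≤ U → (∀ x ∈ P, k (f x) = x) →
      IsMap X P φ → (∀ x ∈ P, φ x ∈ P) → IsMap X (img P f) fun y => f (φ (k y)))
    {α a : MulAut A} (ha : a ∈ F.autGroup A) (hα : IsExt X A α) : IsExt X A (a * α * a⁻¹) := by
  obtain ⟨b, hb, hbx, hbc⟩ := hα
  have hAS := hA.1
  haveI := finite_of_le hAS
  haveI := finite_of_le hUF.1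
  have hAn : F.IsFullyNormalized A := ⟨hAS, fun R hR => by
    obtain ⟨f, hf, rfl⟩ := isConj_iff.1 hR
    rw [StronglyClosed.img_eq hA hf le_rfl]⟩
  obtain ⟨t, ht, htx⟩ := receptive_extend_centralizer (receptive_of_fullyNormalized hS hF hAn)
    (isMap_autFun hAS ha) img_autFun
  set C := centralizerIn U A with hC
  set P := A ⊔ C with hP
  have hCS : C ≤ centralizerIn S A := inf_le_inf_right _ hUF.1
  have hPle : P ≤ A ⊔ centralizerIn S A := sup_le_sup_left hCS _
  have htA : img A t = A := (img_congr htx).trans img_autFun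
  have htC : ∀ c ∈ C, t c ∈ C := fun c hc => by
    have h := ht.apply_mem_centralizerIn le_sup_left (mem_sup_right (hCS hc)) hc.2
    rw [htA] at h
    exact ⟨StronglyClosed.apply_mem hUF ht (mem_sup_right (hCS hc)) hc.1, h.2⟩
  have htP : IsMap F P t := ht.mono hPle
  haveI := finite_of_le (hPle.trans ht.le)
  have hi : img P t = P := eq_of_le_of_card_le (fun y hy => by
    refine htP.img_sup_le le_sup_left le_sup_right (htA.le.trans le_sup_left) ?_ hy
    intro z hz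
    obtain ⟨c, hc, rfl⟩ := (htP.mono le_sup_right).mem_img.1 hz
    exact mem_sup_right (htC c hc)) htP.card_img.ge
  obtain ⟨k, hk, hkx, hky, -⟩ := htP.exists_inv
  rw [hi] at hk hky
  have hPU : P ≤ U := sup_le hAU inf_le_left
  have hbP : ∀ x ∈ P, b x ∈ P := fun x hx => by
    refine hb.img_sup_le le_sup_left le_sup_right ?_ ?_ (hb.apply_mem_img hx)
    · rw [(img_congr hbx).trans img_autFun]; exact le_sup_left
    · intro z hz
      obtain ⟨c, hc, rfl⟩ := (hb.mono le_sup_right).mem_img.1 hz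
      have := mul_mem (mem_sup_right (S := A) hc) (mem_sup_left (T := C) (hbc c hc).1)
      rwa [mul_inv_cancel_left] at this
  have hm := hconj P t k b htP hPU hkx hb hbP
  rw [hi] at hm
  refine ⟨_, hm, fun x hx => ?_, fun c hc => ?_⟩
  · show t (b (k x)) = _
    have e : k x = autFun a⁻¹ x := by
      have h1 : t (autFun a⁻¹ x) = x := by
        rw [htx _ (autFun_mem _ hx), autFun_apply_inv a hx]
      conv_lhs => rw [← h1]
      exact hkx _ (mem_sup_left (autFun_mem _ hx))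
    rw [e, hbx _ (autFun_mem _ hx), htx _ (autFun_mem _ (autFun_mem _ hx)),
      autFun_mul_apply _ _ hx, autFun_mul_apply _ _ (autFun_mem _ hx)]
  · show c⁻¹ * t (b (k c)) ∈ _
    have hcP : c ∈ P := mem_sup_right hc
    have hkC : k c ∈ C := by
      have h := hk.apply_mem_centralizerIn le_sup_left hcP hc.2
      have hkA : img A k = A := by
        refine eq_of_le_of_card_le (fun y hy => ?_) (hk.mono le_sup_left).card_img.ge
        obtain ⟨x, hx, rfl⟩ := (hk.mono le_sup_left).mem_img.1 hy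
        exact StronglyClosed.apply_mem hA hk (mem_sup_left hx) hx
      rw [hkA] at h
      exact ⟨hPU (hky c hcP).1, h.2⟩
    have hz := hbc _ hkC
    have e : c⁻¹ * t (b (k c)) = t ((k c)⁻¹ * b (k c)) := by
      rw [htP.map_mul (P.inv_mem (mem_sup_right hkC)) (hbP _ (mem_sup_right hkC)),
        htP.map_inv (mem_sup_right hkC), (hky c hcP).2]
    rw [e]
    refine ⟨htA.le (((htP.mono le_sup_left).apply_mem_img hz.1)), ?_⟩
    have h := (htP.apply_mem_centralizerIn le_sup_left (mem_sup_left hz.1) hz.2).2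
    rwa [htA] at h

/-- The whole system is invariant under its own maps. -/
theorem conj_map_self {P : Subgroup Ω} {f k φ : Ω → Ω} [Finite S] (hf : IsMap F P f)
    (hkx : ∀ x ∈ P, k (f x) = x) (hφ : IsMap F P φ) (hφP : ∀ x ∈ P, φ x ∈ P) :
    IsMap F (img P f) fun y => f (φ (k y)) := by
  obtain ⟨j, hj, hjx, hjy, -⟩ := hf.exists_inv
  refine ((hj.comp hφ fun y hy => (hjy y hy).1).comp hf fun y hy => hφP _ (hjy y hy).1).congr
    fun y hy => ?_
  obtain ⟨x, hx, rfl⟩ := hf.mem_img.1 hy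
  show f (φ (j (f x))) = f (φ (k (f x)))
  rw [hjx x hx, hkx x hx]

section Main

variable {T₁ T₂ : Subgroup Ω} {E₁ : FusionSystem T₁} {E₂ : FusionSystem T₂}
  [Fact p.Prime] [Finite S] (hS : IsPGroup p S) (h₁ : E₁.IsNormalIn F p)
  (h₂ : E₂.IsNormalIn F p)

include hS h₁ h₂

theorem exists_meet : ∃ D : FusionSystem (T₁ ⊓ T₂),
    (D.IsNormalIn F p ∧ D.IsNormalIn E₁ p ∧ D.IsNormalIn E₂ p) ∧
    ∀ D' : FusionSystem (T₁ ⊓ T₂), D'.IsNormalIn F p → D'.IsNormalIn E₁ p →
      D'.IsNormalIn E₂ p → D'.IsSubsystemOf D := by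
  obtain ⟨J, hJw, hJm, hJK⟩ := exists_meetSys hS h₁ h₂
  obtain ⟨hJsat, hF, hJinv⟩ := id hJw
  obtain ⟨hJsub, hAc, hJconj, hJfrat⟩ := isInvariantIn_iff.1 hJinv
  haveI := finite_of_le hAc.1
  have hAp : IsPGroup p (T₁ ⊓ T₂ : Subgroup Ω) := hS.to_le hAc.1
  have hT₁ : F.StronglyClosed T₁ := h₁.1.2.2.2.1
  have hT₂ : F.StronglyClosed T₂ := h₂.1.2.2.2.1
  haveI := finite_of_le hT₁.1
  haveI := finite_of_le hT₂.1
  have hJ₁ : J.IsSubsystemOf E₁ := isSubsystemOf_iff.2 fun P f hf => (hJm P f hf).1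
  have hJ₂ : J.IsSubsystemOf E₂ := isSubsystemOf_iff.2 fun P f hf => (hJm P f hf).2
  have hJw₁ := isWeaklyNormalIn_between hS hJw h₁.1.1 h₁.1.2.2.1 hJ₁
  have hJw₂ := isWeaklyNormalIn_between hS hJw h₂.1.1 h₂.1.2.2.1 hJ₂
  set R := ppSys hAp hJsat with hR
  have hRF : R.IsNormalIn F p := isNormalIn_ppSys hS hJw hAp
  have hR₁ : R.IsNormalIn E₁ p := isNormalIn_ppSys (hS.to_le hT₁.1) hJw₁ hAp
  have hR₂ : R.IsNormalIn E₂ p := isNormalIn_ppSys (hS.to_le hT₂.1) hJw₂ hAp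
  let M : Subgroup (MulAut (T₁ ⊓ T₂ : Subgroup Ω)) :=
    J.autGroup (T₁ ⊓ T₂) ⊓ (extAutA F hAc.1 ⊓ (extAutA E₁ inf_le_left ⊓ extAutA E₂ inf_le_right))
  have hMJ : M ≤ J.autGroup (T₁ ⊓ T₂) := inf_le_left
  have hext : ∀ {V : Subgroup Ω} {X : FusionSystem V} [Finite V] {Y : FusionSystem (T₁ ⊓ T₂)},
      Y.IsNormalIn X p → ∀ α ∈ Y.autGroup (T₁ ⊓ T₂), IsExt X (T₁ ⊓ T₂) α := fun {V X _ Y} hY α hα =>
    (isNormalIn_iff.1 hY).2 _ (isMap_autFun le_rfl hα)
  have hRM : R.autGroup (T₁ ⊓ T₂) ≤ M := fun α hα => ⟨(autGroup_mem_iff le_rfl).2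
    (ppSys_le hAp hJsat (T₁ ⊓ T₂) ((autGroup_mem_iff le_rfl).1 hα)),
    hext hRF α hα, hext hR₁ α hα, hext hR₂ α hα⟩
  have hgenR : genSys J p ≤ R := le_iff_isMap.2 fun P f hf => isMap_of_genSys hAp hJsat hf
  have hL : linkAut J p ≤ M := (linkAut_le_autGroup hAp hJsat (isSaturated_ppSys hAp hJsat)
    (ppSys_le hAp hJsat) hgenR).trans hRM
  have hMinv : ∀ a ∈ F.autGroup (T₁ ⊓ T₂), ∀ α ∈ M, a * α * a⁻¹ ∈ M := fun a ha α hα =>
    ⟨autGroup_conj_mem hJinv le_rfl ha hα.1,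
      isExt_conj hS hF (stronglyClosed_iff.2 ⟨le_rfl, fun P f _ hf x hx => hf.mem hx⟩) hAc.1 hAc
        (fun P f k φ hf _ hk hφ hφP => conj_map_self hf hk hφ hφP) ha hα.2.1,
      isExt_conj hS hF hT₁ inf_le_left hAc
        (fun P f k φ hf hP hk hφ hφP => conj_map_of_map h₁.1.2.2 hf hP hk hφ hφP) ha hα.2.2.1,
      isExt_conj hS hF hT₂ inf_le_right hAc
        (fun P f k φ hf hP hk hφ hφP => conj_map_of_map h₂.1.2.2 hf hP hk hφ hφP) ha hα.2.2.2⟩
  set D := indexSys hAp hJsat M hMJ with hD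
  have hDsat : D.IsSaturated p := isSaturated_indexSys hAp hJsat M hMJ hL
  have hDJ : D ≤ J := indexSys_le hAp hJsat M hMJ
  have hRD : ∀ P f, IsMap R P f → IsMap D P f := fun P f => le_iff_isMap.1
    (ppSys_le_of_index hAp hJsat hDsat (hasPrimeToPIndex_indexSys hAp hJsat M hMJ)) P f
  have hDM : ∀ α ∈ M, IsMap D (T₁ ⊓ T₂) (autFun α) := fun α hα =>
    isMap_autFun le_rfl (le_autGroup_indexSys hAp hJsat M hMJ hα)
  have hDaut : D.autGroup (T₁ ⊓ T₂) ≤ M := by
    intro β hβ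
    obtain ⟨-, α, hα, g, hg, hgx⟩ := (isMap_indexSys_iff hAp hJsat M hMJ).1
      (isMap_autFun le_rfl hβ)
    have hi : img (T₁ ⊓ T₂) g = (T₁ ⊓ T₂) := eq_of_le_of_card_le hg.img_le hg.card_img.ge
    have e : β = α * hg.toAut hi := MulEquiv.ext fun x => Subtype.ext (by
      rw [MulAut.mul_apply, ← autFun_apply β x.2, hgx x x.2,
        autFun_apply α (hg.mem x.2)]
      congr 2)
    rw [e]
    exact mul_mem hα (hRM ((autGroup_iff_isMap le_rfl (hg.toAut_apply hi)).2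
      (le_iff_isMap.1 hgenR (T₁ ⊓ T₂) g hg)))
  have hDinv : D.IsInvariantIn F := by
    obtain ⟨-, -, hRconj, hRfrat⟩ := isInvariantIn_iff.1 hRF.1.2.2
    refine isInvariantIn_iff.2 ⟨fun P φ hφ => hJsub P (hDJ P hφ), hAc, fun a ha P f hf => ?_,
      fun P f hP hf => ?_⟩
    · obtain ⟨-, α, hα, g, hg, hfx⟩ := (isMap_indexSys_iff hAp hJsat M hMJ).1 hf
      have hi : img (T₁ ⊓ T₂) a = (T₁ ⊓ T₂) := StronglyClosed.img_eq hAc ha le_rfl
      set a' := ha.toAut hi with ha'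
      have hax : ∀ x ∈ (T₁ ⊓ T₂), autFun a' x = a x := fun x hx => by
        rw [autFun_apply _ hx, ha', IsMap.toAut_apply]
      have hα' := hMinv a' (ha.toAut_mem hi) α hα
      obtain ⟨r, hr, hrx⟩ := hRconj a ha P g (le_iff_isMap.1 hgenR P g hg)
      refine ⟨_, (hRD _ _ hr).comp (hDM _ hα') fun y hy => hr.mem hy, fun x hx => ?_⟩
      show autFun (a' * α * a'⁻¹) (r (a x)) = a (f x)
      have hgA : g x ∈ (T₁ ⊓ T₂) := hg.mem hx
      rw [hrx x hx, hfx x hx, ← hax _ hgA, autFun_mul_apply _ _ (autFun_mem _ hgA),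
        autFun_inv_apply a' hgA, autFun_mul_apply _ _ hgA, hax _ (autFun_mem _ hgA)]
    · obtain ⟨a, ha, r, hr, hfx⟩ := hRfrat P f hP hf
      exact ⟨a, ha, r, hRD _ _ hr, hfx⟩
  have hDw : D.IsWeaklyNormalIn F p := ⟨hDsat, hF, hDinv⟩
  have hD₁ : D.IsSubsystemOf E₁ := fun P φ hφ => hJ₁ P (hDJ P hφ)
  have hD₂ : D.IsSubsystemOf E₂ := fun P φ hφ => hJ₂ P (hDJ P hφ)
  have hnorm : ∀ {V : Subgroup Ω} {X : FusionSystem V} [Finite V],
      D.IsWeaklyNormalIn X p → (∀ α ∈ M, IsExt X (T₁ ⊓ T₂) α) → D.IsNormalIn X p := by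
    intro V X _ hw hM
    refine isNormalIn_iff.2 ⟨hw, fun a ha => ?_⟩
    have hi : img (T₁ ⊓ T₂) a = (T₁ ⊓ T₂) := eq_of_le_of_card_le ha.img_le ha.card_img.ge
    obtain ⟨b, hb, hbx, hbc⟩ := hM _ (hDaut (ha.toAut_mem hi))
    exact ⟨b, hb, fun x hx => by rw [hbx x hx, autFun_apply _ hx, IsMap.toAut_apply], hbc⟩
  refine ⟨D, ⟨hnorm hDw fun α hα => hα.2.1,
    hnorm (isWeaklyNormalIn_between hS hDw h₁.1.1 h₁.1.2.2.1 hD₁) fun α hα => hα.2.2.1,
    hnorm (isWeaklyNormalIn_between hS hDw h₂.1.1 h₂.1.2.2.1 hD₂) fun α hα => hα.2.2.2⟩,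
    fun D' hF' h₁' h₂' => ?_⟩
  -- the largest one
  have hD'w := hF'.1
  obtain ⟨hD'sat, -, hD'inv⟩ := id hD'w
  have hkey : ∀ P, D'.IsCentric P → D'.autGroup P ≤ J.autGroup P := by
    intro P hP β hβ
    have hPA : P ≤ (T₁ ⊓ T₂) := hP.1
    have hPS : P ≤ S := hPA.trans hAc.1
    haveI := finite_of_le hPS
    have hM : NMap.MCentric F (T₁ ⊓ T₂) P := ⟨hPA, fun V hV => by
      obtain ⟨f, hf, rfl⟩ := isConj_iff.1 hV
      have h := centric_img_of_map hS hD'w hf hP
      exact h.2 _ (isConj_refl h.1)⟩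
    rw [hJK P hM]
    haveI : Finite (MulAut P) := Finite.of_injective _ MulEquiv.toEquiv_injective
    obtain ⟨i, j, hij, ⟨k, hk⟩, hj⟩ := exists_powers_pPart (p := p) β
    rw [← hij]
    refine mul_mem (Subgroup.subset_closure (Or.inl ?_)) (Subgroup.subset_closure
      (Or.inr ⟨⟨?_, ?_⟩, hj⟩))
    · obtain ⟨Q, hPQ, hQn⟩ := exists_fullyNormalized_conj F hPS
      obtain ⟨ψ, hψ, rfl⟩ := isConj_iff.1 hPQ
      have hQA : img P ψ ≤ (T₁ ⊓ T₂) := fun y hy => by
        obtain ⟨x, hx, rfl⟩ := hψ.mem_img.1 hy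
        exact StronglyClosed.apply_mem hAc hψ hx (hPA hx)
      set δ := MulAut.congr hψ.equivImg (β ^ i) with hδ
      have hδD : δ ∈ D'.autGroup (img P ψ) :=
        congr_mem_of_invariant hD'inv hψ hPA (pow_mem hβ i)
      have hzp : IsPGroup p (Subgroup.zpowers δ) := IsPGroup.of_card (n := k) (by
        rw [Nat.card_zpowers, hδ, MulEquiv.orderOf_eq, hk])
      obtain ⟨η, hη, hη'⟩ := exists_conj_le_autInducedBy (fullyAutomized_of_fullyNormalized hAp
        hD'sat (fullyNormalized_subsystem hS hF hAc hD'inv.1 hQA hQn)) _ hzp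
        (Subgroup.zpowers_le.2 hδD)
      obtain ⟨t, ht, htx⟩ := mem_autInducedBy_iff.1 (hη' δ (Subgroup.mem_zpowers _))
      have hm : IsMap F (img P ψ) (autFun η) :=
        isSubsystemOf_iff.1 hD'inv.1 _ _ (isMap_autFun hQA hη)
      have hi : img P (fun x => autFun η (ψ x)) = img P ψ := by
        rw [img_comp_eq hψ hm fun x hx => hψ.apply_mem_img hx, img_autFun]
      refine ⟨_, hψ.comp hm fun x hx => hψ.apply_mem_img hx, t, ht, ?_, fun x => ?_⟩
      · rw [hi]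
        exact mem_normalizer_of_aut htx
      · have h := htx (η (hψ.equivImg x))
        rw [MulAut.mul_apply, MulAut.mul_apply, MulAut.inv_apply_self] at h
        show autFun η (ψ _) = t * autFun η (ψ x) * t⁻¹
        rw [autFun_apply η (hψ.apply_mem_img (Subtype.mem _)),
          autFun_apply η (hψ.apply_mem_img x.2)]
        refine Eq.trans ?_ h
        congr 2
        exact Subtype.ext (Meet.coe_congr_equivImg hψ (β ^ i) x).symm
    · exact (autGroup_mem_iff (hPA.trans inf_le_left)).2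
        (h₁'.1.2.2.1 P ((autGroup_mem_iff hPA).1 (pow_mem hβ j)))
    · exact (autGroup_mem_iff (hPA.trans inf_le_right)).2
        (h₂'.1.2.2.1 P ((autGroup_mem_iff hPA).1 (pow_mem hβ j)))
  have hD'J : D' ≤ J := alperin hAp hD'sat fun P hP => hkey P (by
    rcases hP with rfl | h
    · exact centric_top hAp hD'sat
    · exact h.1)
  have hgen : genSys D' p ≤ D := genSys_le_of fun P hP γ hγ => by
    refine (autGroup_mem_iff hP.1).2 (genSys_le_indexSys hAp hJsat M hMJ P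
      ((autGroup_mem_iff hP.1).1 (pGenAut_le_genSys hAp hJsat hP.1 ?_)))
    have hle : D'.autGroup P ≤ J.autGroup P := hkey P hP
    refine (?_ : (pGenAut D' p P).map (D'.autGroup P).subtype ≤
      (pGenAut J p P).map (J.autGroup P).subtype) hγ
    rw [Subgroup.map_le_iff_le_comap]
    refine (Subgroup.closure_le _).2 ?_
    rintro ⟨β, hβ⟩ ⟨n, hn⟩
    rw [Subgroup.orderOf_mk] at hn
    exact ⟨⟨β, hle hβ⟩, Subgroup.subset_closure ⟨n, by rwa [Subgroup.orderOf_mk]⟩, rfl⟩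
  refine isSubsystemOf_iff.2 fun P f hf => ?_
  obtain ⟨α, hα, g, hg, hfx⟩ := exists_frattini hAp hD'sat hf
  have hαM : α ∈ M := ⟨(autGroup_mem_iff le_rfl).2 (hD'J (T₁ ⊓ T₂) ((autGroup_mem_iff le_rfl).1 hα)),
    hext hF' α hα, hext h₁' α hα, hext h₂' α hα⟩
  exact ((le_iff_isMap.1 hgen P g hg).comp (hDM α hαM) fun x hx => hg.mem hx).congr
    fun x hx => (hfx x hx).symm

end Main

end CfsgLib.Comp.Meet
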