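import Cfsg.Agent.Lib.Comp.MeetLocal
import Cfsg.Agent.Lib.Comp.NormalMapLevel

/-!
The weakly normal system over the intersection of two normal subsystems.
-/

set_option autoImplicit false
set_option linter.unusedVariables false
set_option linter.unusedSectionVars false
set_option linter.style.haveILetI false

universe u

namespace CfsgLib.Comp.Meet

open Cfsg Cfsg.FusionSystem Subgroup CfsgLib.Fusion CfsgLib.Comp.Fus

variable {Ω : Type u} [Group Ω] {S T₁ T₂ T : Subgroup Ω} {F : FusionSystem S}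
  {E₁ : FusionSystem T₁} {E₂ : FusionSystem T₂} {E : FusionSystem T} {p : ℕ}
  [Fact p.Prime] [Finite S] (hS : IsPGroup p S) (h₁ : E₁.IsNormalIn F p)
  (h₂ : E₂.IsNormalIn F p)

include hS h₁ h₂

theorem meet_res {U R : Subgroup Ω} (hU : NMap.MCentric F (T₁ ⊓ T₂) U) (hUR : U ≤ R)
    (hR : R ≤ T₁ ⊓ T₂) {β : MulAut R} (hβ : β ∈ meetAut F E₁ E₂ p R) {γ : MulAut U}
    (hγ : ∀ x : U, ((γ x : U) : Ω) = autFun β x) : γ ∈ meetAut F E₁ E₂ p U := by
  have hF : F.IsSaturated p := h₁.1.2.1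
  have hA : F.StronglyClosed (T₁ ⊓ T₂) := stronglyClosed_inf h₁.1.2.2 h₂.1.2.2
  set A := T₁ ⊓ T₂ with hAdef
  have hRS : R ≤ S := hR.trans hA.1
  have hUA : U ≤ A := hUR.trans hR
  haveI := finite_of_le hRS
  haveI := finite_of_le (hUR.trans hRS)
  haveI : Finite (MulAut R) := Finite.of_injective _ MulEquiv.toEquiv_injective
  obtain ⟨hβ₁, hβ₂⟩ := meetAut_le h₁.1.2.2 h₂.1.2.2 hR hβ
  have hpow : ∀ (k : ℕ) (x : U), (((γ ^ k) x : U) : Ω) = autFun (β ^ k) x := by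
    intro k
    induction k with
    | zero => intro x; rw [pow_zero, pow_zero, autFun_one (hUR x.2)]; rfl
    | succ k ih =>
      intro x
      rw [pow_succ', pow_succ', MulAut.mul_apply, autFun_mul_apply _ _ (hUR x.2), ← ih x, hγ]
  obtain ⟨i, j, hij, ⟨k, hk⟩, hj⟩ := exists_powers_pPart (p := p) β
  have hsplit : γ ^ i * γ ^ j = γ := MulEquiv.ext fun x => Subtype.ext (by
    rw [← pow_add, hpow, pow_add, hij, hγ])
  rw [← hsplit]
  refine mul_mem ?_ ?_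
  · -- the part of `p`-power order
    have hδK : β ^ i ∈ meetAut F E₁ E₂ p R := pow_mem hβ i
    obtain ⟨Q, hRQ, hQn⟩ := exists_fullyNormalized_conj F hRS
    obtain ⟨ψ, hψ, rfl⟩ := isConj_iff.1 hRQ
    haveI := finite_of_le hQn.1
    have hQA : img R ψ ≤ A := fun y hy => by
      obtain ⟨x, hx, rfl⟩ := hψ.mem_img.1 hy
      exact StronglyClosed.apply_mem hA hψ hx (hR hx)
    set δ := MulAut.congr hψ.equivImg (β ^ i) with hδ
    have hδ' : δ ∈ meetAut F E₁ E₂ p (img R ψ) := meetAut_congr h₁.1.2.2 h₂.1.2.2 hR hψ hδK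
    have hδk : δ ^ p ^ k = 1 := by
      rw [hδ, ← map_pow, ← hk, pow_orderOf_eq_one, map_one]
    have hδF : δ ∈ F.autGroup (img R ψ) := by
      refine hψ.congr_mem_autGroup ((autGroup_mem_iff hRS).2 (h₁.1.2.2.1 R ?_))
      exact (autGroup_mem_iff (hR.trans inf_le_left)).1 (pow_mem hβ₁ i)
    have hzp : IsPGroup p (Subgroup.zpowers δ) := by
      obtain ⟨l, -, hl⟩ := (Nat.dvd_prime_pow Fact.out).1 (orderOf_dvd_of_pow_eq_one hδk)
      exact IsPGroup.of_card (n := l) (by rw [Nat.card_zpowers, hl])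
    obtain ⟨η, hη, hη'⟩ := exists_conj_le_autInducedBy
      (fullyAutomized_of_fullyNormalized hS hF hQn) _ hzp (Subgroup.zpowers_le.2 hδF)
    have hm := isMap_autFun hQn.1 hη
    have hQm : centralizerIn A (img R ψ) ≤ img R ψ :=
      (inf_le_inf_left A (Subgroup.centralizer_le (img_mono hUR))).trans
        ((hU.2 _ (hψ.mono hUR).isConj).trans (img_mono hUR))
    have hconjK : η * δ * η⁻¹ ∈ meetAut F E₁ E₂ p (img R ψ) := by
      have h := meetAut_congr (p := p) h₁.1.2.2 h₂.1.2.2 hQA hm hδ'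
      have key : ∀ (V : Subgroup Ω) (hV : img (img R ψ) (autFun η) = V) (β' : MulAut V),
          (∀ (x : (img R ψ : Subgroup Ω)) (hx : autFun η x ∈ V),
            ((β' ⟨autFun η x, hx⟩ : V) : Ω) = autFun η (δ x : (img R ψ : Subgroup Ω))) →
          β' ∈ meetAut F E₁ E₂ p V := by
        rintro V rfl β' hβ'
        have e : β' = MulAut.congr hm.equivImg δ := by
          refine MulEquiv.ext fun y => ?_
          obtain ⟨x, rfl⟩ := hm.equivImg.surjective y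
          refine Subtype.ext ?_
          rw [coe_congr_equivImg]
          exact hβ' x (hm.equivImg x).2
        exact e ▸ h
      refine key _ img_autFun _ fun x hx => ?_
      rw [MulAut.mul_apply, MulAut.mul_apply, show (⟨autFun η x, hx⟩ : img R ψ) = η x from
        Subtype.ext (autFun_apply _ x.2), MulAut.inv_apply_self, autFun_apply _ (Subtype.mem _)]
    obtain ⟨a, ha, hax⟩ := mem_autInducedBy_iff.1
      (meetAut_inf_le hS h₁ h₂ hQA hQn hQm ⟨hconjK, hη' δ (Subgroup.mem_zpowers δ)⟩)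
    have hf : IsMap F R (fun x => autFun η (ψ x)) :=
      hψ.comp hm fun x hx => hψ.apply_mem_img hx
    have hfx : ∀ x : R, autFun η (ψ (((β ^ i) x : R) : Ω)) = a * autFun η (ψ x) * a⁻¹ := by
      intro x
      have h := hax (η (hψ.equivImg x))
      rw [MulAut.mul_apply, MulAut.mul_apply, MulAut.inv_apply_self] at h
      rw [autFun_apply η (hψ.apply_mem_img (Subtype.mem _)), autFun_apply η (hψ.apply_mem_img x.2)]
      refine Eq.trans ?_ h
      congr 2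
      exact Subtype.ext (coe_congr_equivImg hψ (β ^ i) x).symm
    refine Subgroup.subset_closure (Or.inl ⟨_, hf.mono hUR, a, ha, ?_, fun x => ?_⟩)
    · intro y
      constructor
      · intro hy
        obtain ⟨x, hx, rfl⟩ := (hf.mono hUR).mem_img.1 hy
        rw [SetLike.mem_coe, ← hfx ⟨x, hUR hx⟩, ← autFun_apply (β ^ i) (hUR hx), ← hpow i ⟨x, hx⟩]
        exact (hf.mono hUR).apply_mem_img (Subtype.mem _)
      · intro hy
        obtain ⟨x', hx', he⟩ := (hf.mono hUR).mem_img.1 hy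
        obtain ⟨x, hx⟩ := (γ ^ i).surjective ⟨x', hx'⟩
        have h := hfx ⟨x, hUR x.2⟩
        rw [← autFun_apply (β ^ i) (hUR x.2), ← hpow i x, hx] at h
        have e : y = autFun η (ψ x) := mul_left_cancel (mul_right_cancel (he.symm.trans h))
        rw [e]
        exact (hf.mono hUR).apply_mem_img x.2
    · show autFun η (ψ _) = a * autFun η (ψ x) * a⁻¹
      rw [hpow, autFun_apply _ (hUR x.2)]
      exact hfx ⟨x, hUR x.2⟩
  · -- the part of order prime to `p`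
    refine Subgroup.subset_closure (Or.inr ⟨⟨?_, ?_⟩, ?_⟩)
    · exact (autGroup_iff_isMap (hUA.trans inf_le_left) (hpow j)).2
        ((isMap_autFun (hR.trans inf_le_left) (pow_mem hβ₁ j)).mono hUR)
    · exact (autGroup_iff_isMap (hUA.trans inf_le_right) (hpow j)).2
        ((isMap_autFun (hR.trans inf_le_right) (pow_mem hβ₂ j)).mono hUR)
    · refine hj.coprime_dvd_left (orderOf_dvd_of_pow_eq_one (MulEquiv.ext fun x => Subtype.ext ?_))
      rw [← pow_mul, hpow, pow_mul, pow_orderOf_eq_one, autFun_one (hUR x.2)]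
      rfl

omit h₁ h₂ in
/-- Extension of an automorphism of order prime to `p` inside one subsystem. -/
theorem exists_side_ext (hE : E.IsNormalIn F p) {A Q L : Subgroup Ω} (hA : F.StronglyClosed A)
    (hAT : A ≤ T) (hQn : F.IsFullyNormalized Q) (hQA : Q ≤ A) (hQL : Q ≤ L)
    (hLN : L ≤ normalizerIn A Q) (hCL : centralizerIn A Q ≤ L) {ν : MulAut Q}
    (hν : ν ∈ E.autGroup Q) (hcop : (orderOf ν).Coprime p)
    (hnorm : ∀ κ ∈ autInducedBy L Q, ν * κ * ν⁻¹ ∈ autInducedBy L Q) :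
    ∃ a ∈ E.autGroup L, ∃ n : ℕ, n.Coprime p ∧ a ^ n = 1 ∧
      ∀ x : Q, autFun a x = ((ν x : Q) : Ω) := by
  obtain ⟨⟨hEsat, hF, hinv⟩, -⟩ := id hE
  have hTS := hinv.2.1.1
  haveI := finite_of_le hTS
  haveI := finite_of_le hQn.1
  have hQT : Q ≤ T := hQA.trans hAT
  have hTp : IsPGroup p T := hS.to_le hTS
  have hLT : L ≤ T := hLN.trans (inf_le_left.trans hAT)
  have hrec := receptive_of_fullyNormalized hTp hEsat
    (fullyNormalized_subsystem hS hF hinv.2.1 hinv.1 hQT hQn)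
  have hm := isMap_autFun hQT hν
  obtain ⟨g, hg, hgx⟩ := receptive_extend hrec hm img_autFun hQL fun l hl => by
    refine ⟨hLT hl, (hLN hl).2, ?_⟩
    obtain ⟨b, hb, hbx⟩ := mem_autInducedBy_iff.1
      (hnorm _ (mem_autInducedBy_iff.2 ⟨l, hl,
        fun x => (rfl : ((Q.normalizerMonoidHom ⟨l, (hLN hl).2⟩ x : Q) : Ω) = _)⟩))
    refine ⟨b, hLT hb, fun x hx => ?_⟩
    have h := hbx (ν ⟨x, hx⟩)
    rw [MulAut.mul_apply, MulAut.mul_apply, MulAut.inv_apply_self] at h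
    rw [autFun_apply ν hx, autFun_apply ν (((hLN hl).2 x).1 hx), ← h]
    rfl
  have hgF : IsMap F L g := CfsgLib.Comp.Fus.isSubsystemOf_iff.1 hinv.1 _ _ hg
  have hgQ : img Q g = Q := (img_congr hgx).trans img_autFun
  have hgL : ∀ l ∈ L, g l ∈ L := by
    intro l hl
    obtain ⟨b, hb, hbx⟩ := mem_autInducedBy_iff.1
      (hnorm _ (mem_autInducedBy_iff.2 ⟨l, hl,
        fun x => (rfl : ((Q.normalizerMonoidHom ⟨l, (hLN hl).2⟩ x : Q) : Ω) = _)⟩))
    have hgA : g l ∈ A := StronglyClosed.apply_mem hA hgF hl (hLN hl).1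
    have hc : b⁻¹ * g l ∈ centralizerIn A Q := by
      refine ⟨A.mul_mem (A.inv_mem (hLN hb).1) hgA, fun y hy => ?_⟩
      obtain ⟨x, hx, rfl⟩ := (hg.mono hQL).mem_img.1 (hgQ.symm ▸ hy : y ∈ img Q g)
      have h := hbx (ν ⟨x, hx⟩)
      rw [MulAut.mul_apply, MulAut.mul_apply, MulAut.inv_apply_self,
        ← autFun_apply ν hx, ← autFun_apply ν (Subtype.mem _), ← hgx x hx] at h
      have hlx : l * x * l⁻¹ ∈ Q := ((hLN hl).2 x).1 hx
      have e : g (l * x * l⁻¹) = b * g x * b⁻¹ := by rw [hgx _ hlx]; exact h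
      rw [hg.map_conj hl (hQL hx)] at e
      calc g x * (b⁻¹ * g l) = b⁻¹ * (b * g x * b⁻¹) * g l := by group
        _ = b⁻¹ * (g l * g x * (g l)⁻¹) * g l := by rw [e]
        _ = b⁻¹ * g l * g x := by group
    have := L.mul_mem hb (hCL hc)
    rwa [mul_inv_cancel_left] at this
  obtain ⟨e, n, hn, hex, hper⟩ := exists_coprime_power (F := E) hg hgL hQL hcop
    fun x => (hgx x x.2).trans (autFun_apply ν x.2)
  have hge : IsMap E L (g^[e]) := isMap_iterate hg hgL e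
  haveI := finite_of_le hge.le
  have hgi : img L (g^[e]) = L := eq_of_le_of_card_le (fun y hy => by
    obtain ⟨x, hx, rfl⟩ := hge.mem_img.1 hy
    exact iterate_mem hgL e hx) hge.card_img.ge
  refine ⟨hge.toAut hgi, hge.toAut_mem hgi, n, hn, MulEquiv.ext fun x => Subtype.ext ?_, fun x => ?_⟩
  · rw [toAut_pow_coe hge hgi]
    exact hper x x.2
  · rw [autFun_apply _ (hQL x.2), IsMap.toAut_apply]
    exact hex x

theorem meet_ext {Q L : Subgroup Ω} (hQm : NMap.MCentric F (T₁ ⊓ T₂) Q)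
    (hQn : F.IsFullyNormalized Q) (hQL : Q ≤ L) (hLN : L ≤ normalizerIn (T₁ ⊓ T₂) Q)
    (hCL : centralizerIn (T₁ ⊓ T₂) Q ≤ L) {ν : MulAut Q} (hν : ν ∈ meetAut F E₁ E₂ p Q)
    (hcop : (orderOf ν).Coprime p)
    (hnorm : ∀ κ ∈ autInducedBy L Q, ν * κ * ν⁻¹ ∈ autInducedBy L Q) :
    ∃ a ∈ meetAut F E₁ E₂ p L, ∀ x : Q, autFun a x = ((ν x : Q) : Ω) := by
  have hA : F.StronglyClosed (T₁ ⊓ T₂) := stronglyClosed_inf h₁.1.2.2 h₂.1.2.2
  obtain ⟨hν₁, hν₂⟩ := meetAut_le h₁.1.2.2 h₂.1.2.2 hQm.1 hν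
  obtain ⟨a₁, ha₁, n₁, hn₁, han₁, ha₁x⟩ :=
    exists_side_ext hS h₁ hA inf_le_left hQn hQm.1 hQL hLN hCL hν₁ hcop hnorm
  obtain ⟨a₂, ha₂, n₂, hn₂, han₂, ha₂x⟩ :=
    exists_side_ext hS h₂ hA inf_le_right hQn hQm.1 hQL hLN hCL hν₂ hcop hnorm
  have hLA : L ≤ T₁ ⊓ T₂ := hLN.trans inf_le_left
  have hLS : L ≤ S := hLA.trans hA.1
  have hF₁ : a₁ ∈ F.autGroup L :=
    (autGroup_mem_iff hLS).2 (h₁.1.2.2.1 L ((autGroup_mem_iff (hLA.trans inf_le_left)).1 ha₁))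
  have hF₂ : a₂ ∈ F.autGroup L :=
    (autGroup_mem_iff hLS).2 (h₂.1.2.2.1 L ((autGroup_mem_iff (hLA.trans inf_le_right)).1 ha₂))
  set δ := a₁⁻¹ * a₂ with hδdef
  have hδQ : ∀ x : L, (x : Ω) ∈ Q → δ x = x := fun x hx => by
    have e : a₂ x = a₁ x := Subtype.ext (by
      rw [← autFun_apply a₂ x.2, ← autFun_apply a₁ x.2]
      exact (ha₂x ⟨x, hx⟩).trans (ha₁x ⟨x, hx⟩).symm)
    rw [hδdef, MulAut.mul_apply, e, MulAut.inv_apply_self]
  have hδc : δ ∈ chainAut F Q L := by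
    refine mem_chainAut.2 ⟨mul_mem (inv_mem hF₁) hF₂, hδQ, fun x => ?_⟩
    refine hQm.2 Q (isConj_refl hQn.1)
      ⟨(T₁ ⊓ T₂).mul_mem ((T₁ ⊓ T₂).inv_mem (hLA x.2)) (hLA (δ x).2), fun q hq => ?_⟩
    have hq' : (x : Ω) * q * (x : Ω)⁻¹ ∈ Q := ((hLN x.2).2 q).1 hq
    have h1 : δ x * δ ⟨q, hQL hq⟩ * (δ x)⁻¹ = δ (x * ⟨q, hQL hq⟩ * x⁻¹) := by
      rw [map_mul, map_mul, map_inv]
    rw [hδQ ⟨q, hQL hq⟩ hq, hδQ (x * ⟨q, hQL hq⟩ * x⁻¹) hq'] at h1
    have e : ((δ x : L) : Ω) * q * ((δ x : L) : Ω)⁻¹ = (x : Ω) * q * (x : Ω)⁻¹ :=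
      congrArg Subtype.val h1
    calc q * ((x : Ω)⁻¹ * δ x) = (x : Ω)⁻¹ * ((x : Ω) * q * (x : Ω)⁻¹) * δ x := by group
      _ = (x : Ω)⁻¹ * ((δ x : L) * q * ((δ x : L) : Ω)⁻¹) * δ x := by rw [e]
      _ = (x : Ω)⁻¹ * δ x * q := by group
  obtain ⟨k, hk⟩ := isPGroup_chainAut hS hQn.1 ⟨δ, hδc⟩
  have hk' : δ ^ p ^ k = 1 := congrArg Subtype.val hk
  -- `δ` lies in the first subsystem
  let N : Subgroup (F.autGroup L) := (E₁.autGroup L).subgroupOf (F.autGroup L)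
  haveI : N.Normal := ⟨fun d hd b =>
    autGroup_conj_mem h₁.1.2.2 (hLA.trans inf_le_left) b.2 hd⟩
  let π := QuotientGroup.mk' N
  have hπ₁ : π ⟨a₁, hF₁⟩ = 1 := (QuotientGroup.eq_one_iff _).2 ha₁
  have e₂ : (⟨a₂, hF₂⟩ : F.autGroup L) = ⟨a₁, hF₁⟩ * ⟨δ, (mem_chainAut.1 hδc).1⟩ :=
    Subtype.ext (by show a₂ = a₁ * δ; rw [hδdef, mul_inv_cancel_left])
  have hπn : π ⟨δ, (mem_chainAut.1 hδc).1⟩ ^ n₂ = 1 := by
    have h : π ⟨a₂, hF₂⟩ ^ n₂ = 1 := by
      rw [← map_pow, show (⟨a₂, hF₂⟩ : F.autGroup L) ^ n₂ = 1 from Subtype.ext han₂, map_one]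
    rwa [e₂, map_mul, hπ₁, one_mul] at h
  have hπp : π ⟨δ, (mem_chainAut.1 hδc).1⟩ ^ p ^ k = 1 := by
    rw [← map_pow, show (⟨δ, (mem_chainAut.1 hδc).1⟩ : F.autGroup L) ^ p ^ k = 1 from
      Subtype.ext hk', map_one]
  have hπδ : π ⟨δ, (mem_chainAut.1 hδc).1⟩ = 1 := orderOf_eq_one_iff.1
    (Nat.eq_one_of_dvd_coprimes (hn₂.pow_right k) (orderOf_dvd_of_pow_eq_one hπn)
      (orderOf_dvd_of_pow_eq_one hπp))
  have ha₂₁ : a₂ ∈ E₁.autGroup L := by
    have h : π ⟨a₂, hF₂⟩ = 1 := by rw [e₂, map_mul, hπ₁, hπδ, one_mul]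
    exact (QuotientGroup.eq_one_iff (⟨a₂, hF₂⟩ : F.autGroup L)).1 h
  exact ⟨a₂, Subgroup.subset_closure (Or.inr ⟨⟨ha₂₁, ha₂⟩,
    hn₂.coprime_dvd_left (orderOf_dvd_of_pow_eq_one han₂)⟩), ha₂x⟩

theorem meetDatum : NMap.Datum F (T₁ ⊓ T₂) p (fun U => meetAut F E₁ E₂ p U) where
  closed := stronglyClosed_inf h₁.1.2.2 h₂.1.2.2
  le_aut U hU β hβ := by
    have hUS : U ≤ S := hU.trans (inf_le_left.trans h₁.1.2.2.2.1.1)
    exact (autGroup_mem_iff hUS).2 (h₁.1.2.2.1 U ((autGroup_mem_iff (hU.trans inf_le_left)).1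
      (meetAut_le h₁.1.2.2 h₂.1.2.2 hU hβ).1))
  congr U V f hU hf hi β hβ β' hβ' := by
    subst hi
    have e : β' = MulAut.congr hf.equivImg β := by
      refine MulEquiv.ext fun y => ?_
      obtain ⟨x, rfl⟩ := hf.equivImg.surjective y
      refine Subtype.ext ?_
      rw [coe_congr_equivImg]
      exact hβ' x (hf.equivImg x).2
    exact e ▸ meetAut_congr h₁.1.2.2 h₂.1.2.2 hU hf hβ
  inner U hU := autInducedBy_le_meetAut (hU.trans (inf_le_left.trans h₁.1.2.2.2.1.1))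
  res U R hU hUR hR β hβ γ hγ := meet_res hS h₁ h₂ hU hUR hR hβ hγ
  syl Q hQ hQn := meetAut_inf_le hS h₁ h₂ hQ.1 hQn (hQ.2 Q (isConj_refl hQn.1))
  ext Q L hQ hQn hQL hLN hCL ν hν hcop hnorm := meet_ext hS h₁ h₂ hQ hQn hQL hLN hCL hν hcop hnorm

/-- The weakly normal system over the intersection. -/
theorem exists_meetSys : ∃ D : FusionSystem (T₁ ⊓ T₂), D.IsWeaklyNormalIn F p ∧
    (∀ P f, IsMap D P f → IsMap E₁ P f ∧ IsMap E₂ P f) ∧
    ∀ Q, NMap.MCentric F (T₁ ⊓ T₂) Q → D.autGroup Q = meetAut F E₁ E₂ p Q := by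
  have hd := meetDatum hS h₁ h₂
  have hF : F.IsSaturated p := h₁.1.2.1
  haveI := finite_of_le hd.closed.1
  have hc : 0 < Nat.card (T₁ ⊓ T₂ : Subgroup Ω) := Nat.card_pos
  refine ⟨_, NMap.isWeaklyNormalIn_sys hd hS hF hc, fun P f hf => ?_, fun Q hQ => ?_⟩
  · have h := (NMap.isMap_sys_iff hd hc).1 hf
    induction h with
    | @res P R β f hR hc' hβ hPR hfx =>
      obtain ⟨hb₁, hb₂⟩ := meetAut_le h₁.1.2.2 h₂.1.2.2 hR.1 hβ
      exact ⟨((isMap_autFun (hR.1.trans inf_le_left) hb₁).mono hPR).congr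
          fun x hx => (hfx x hx).symm,
        ((isMap_autFun (hR.1.trans inf_le_right) hb₂).mono hPR).congr fun x hx => (hfx x hx).symm⟩
    | @comp P Q f g h k₁ hmem k₂ hh ih₁ ih₂ =>
      obtain ⟨a₁, a₂⟩ := ih₁ ((NMap.isMap_sys_iff hd hc).2 k₁)
      obtain ⟨b₁, b₂⟩ := ih₂ ((NMap.isMap_sys_iff hd hc).2 k₂)
      exact ⟨(a₁.comp b₁ hmem).congr fun x hx => (hh x hx).symm,
        (a₂.comp b₂ hmem).congr fun x hx => (hh x hx).symm⟩
  · haveI := finite_of_le (hQ.1.trans hd.closed.1)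
    exact NMap.autGroup_sys hd hQ (NMap.level hd hS hF Q hQ).1 hc Nat.card_pos

end CfsgLib.Comp.Meet
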