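import Cfsg.Agent.Lib.Comp.CanonicalExt
import Cfsg.Agent.Lib.Fusion.ModelMain
import Cfsg.Agent.Lib.Fusion.ModelBasic
import Cfsg.Agent.Lib.Fusion.FunctorCenter
import Cfsg.Agent.Lib.Fusion.NormalizerSaturated
import Mathlib.GroupTheory.Focal

/-!
The part of a local model lying over a group of automorphisms of a subgroup of a normal subsystem.
-/

set_option autoImplicit false
set_option linter.unusedVariables false
set_option linter.unusedSectionVars false
set_option linter.style.haveILetI false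
set_option maxHeartbeats 800000

universe u

namespace CfsgLib.Comp.CExt

open Cfsg Cfsg.FusionSystem Subgroup CfsgLib.Fusion CfsgLib.Comp.Fus
open scoped commutatorElement

/-- A subgroup of a Sylow `p`-subgroup containing its focal subgroup is cut out by a normal
subgroup containing the elements of order prime to `p`. -/
theorem exists_normal_cut {H : Type*} [Group H] [Finite H] {p : ℕ} [Fact p.Prime] (P : Sylow p H)
    {N : Subgroup H} (hNP : N ≤ (P : Subgroup H))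
    (hfoc : (P : Subgroup H).focalSubgroup ≤ N) :
    ∃ K : Subgroup H, K.Normal ∧ (∀ x ∈ (P : Subgroup H), x ∈ K ↔ x ∈ N) ∧
      ∀ x : H, (orderOf x).Coprime p → x ∈ K := by
  set τ := (P : Subgroup H).transferFocal
  set q : (P : Subgroup H) →* _ := QuotientGroup.mk' (P : Subgroup H).focalSubgroupOf
  set M := (N.subgroupOf (P : Subgroup H)).map q
  have hp : IsPGroup p ((P : Subgroup H) ⧸ (P : Subgroup H).focalSubgroupOf) :=
    P.2.to_quotient _
  haveI hMn : M.Normal := by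
    refine ⟨fun m hm g => ?_⟩
    obtain ⟨a, rfl⟩ := QuotientGroup.mk'_surjective _ g
    obtain ⟨b, hb, rfl⟩ := hm
    refine ⟨a * b * a⁻¹, ?_, by rw [map_mul, map_mul, map_inv]⟩
    have h1 : ((a * b * a⁻¹ * b⁻¹ : (P : Subgroup H)) : H) ∈ N :=
      hfoc (commutator_le_focalSubgroup _
        (Subgroup.commutator_mem_commutator a.2 b.2))
    have h2 := N.mul_mem h1 hb
    simpa [Subgroup.mem_subgroupOf] using h2
  refine ⟨M.comap τ, inferInstance, fun x hx => ⟨fun h => ?_, fun h => ?_⟩, fun x hx => ?_⟩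
  · have h1 : (QuotientGroup.mk' M) (q ⟨x, hx⟩) ^ (P : Subgroup H).index = 1 := by
      rw [← map_pow, QuotientGroup.mk'_apply, QuotientGroup.eq_one_iff]
      have h2 := transferFocal_eq_pow (P : Subgroup H) ⟨x, hx⟩
      show q ⟨x, hx⟩ ^ (P : Subgroup H).index ∈ M
      exact (show τ x = _ from h2) ▸ h
    have h3 : (QuotientGroup.mk' M) (q ⟨x, hx⟩) = 1 :=
      ((hp.to_quotient M).powEquiv' P.not_dvd_index).injective (by simpa using h1)
    obtain ⟨b, hb, hbx⟩ := (QuotientGroup.eq_one_iff _).1 h3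
    have h4 : ((b⁻¹ * ⟨x, hx⟩ : (P : Subgroup H)) : H) ∈ N :=
      hfoc (Subgroup.mem_subgroupOf.1 (QuotientGroup.eq.1 hbx))
    have h5 := N.mul_mem hb h4
    simpa using h5
  · have h2 := transferFocal_eq_pow (P : Subgroup H) ⟨x, hx⟩
    show τ x ∈ M
    exact (show τ x = _ from h2) ▸ M.pow_mem ⟨⟨x, hx⟩, h, rfl⟩ _
  · obtain ⟨j, hj⟩ := hp (τ x)
    show τ x ∈ M
    have h1 : orderOf (τ x) = 1 := Nat.eq_one_of_dvd_coprimes
      ((hx.coprime_dvd_left (orderOf_map_dvd τ x)).pow_right j) dvd_rfl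
      (orderOf_dvd_of_pow_eq_one hj)
    rw [orderOf_eq_one_iff.1 h1]
    exact M.one_mem

variable {Ω : Type u} [Group Ω] {S T : Subgroup Ω} {F : FusionSystem S} {E : FusionSystem T}

/-- The part of a model of the normalizer of `R C_S(R)` inducing `Γ` on `R`. -/
structure Slice (F : FusionSystem S) (T : Subgroup Ω) (p : ℕ) {R : Subgroup Ω}
    (Γ : Subgroup (MulAut R)) : Type (u + 1) where
  G : Type u
  grp : Group G
  fin : Finite G
  ι : normalizerIn S R →* G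
  inj : Function.Injective ι
  K : Subgroup G
  normalizerIn_le : ∀ t : normalizerIn S R, (t : Ω) ∈ T → ι t ∈ K
  mem_T : ∀ t : normalizerIn S R, ι t ∈ K → (t : Ω) ∈ T
  isSylow : ∃ P : Sylow p K, ∀ k : K, k ∈ (P : Subgroup K) ↔
    ∃ t : normalizerIn S R, (t : Ω) ∈ T ∧ ι t = k
  conj_mem : ∀ (g : G) (v : normalizerIn S R), (v : Ω) ∈ R ⊔ centralizerIn S R →
    ∃ w : normalizerIn S R, (w : Ω) ∈ R ⊔ centralizerIn S R ∧ ι w = g * ι v * g⁻¹
  act : ∀ g ∈ K, ∃ f : Ω → Ω, IsMap F (R ⊔ centralizerIn S R) f ∧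
    (∃ α ∈ Γ, ∀ x : R, f x = ((α x : R) : Ω)) ∧ (∀ c ∈ centralizerIn S R, c⁻¹ * f c ∈ R) ∧
    ∀ v : normalizerIn S R, (v : Ω) ∈ R ⊔ centralizerIn S R →
      ∃ hv : f v ∈ normalizerIn S R, ι ⟨f v, hv⟩ = g * ι v * g⁻¹
  surj : ∀ α ∈ Γ, ∃ g ∈ K, ∀ (x : R) (hx : ((α x : R) : Ω) ∈ normalizerIn S R)
    (hx' : (x : Ω) ∈ normalizerIn S R), ι ⟨_, hx⟩ = g * ι ⟨x, hx'⟩ * g⁻¹
  cent : ∀ g ∈ K, (∀ v : normalizerIn S R, (v : Ω) ∈ R → g * ι v * g⁻¹ = ι v) →
    ∃ c : normalizerIn S R, (c : Ω) ∈ R ⊔ centralizerIn S R ∧ ι c = g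

attribute [instance] Slice.grp Slice.fin

variable {p : ℕ} [Fact p.Prime] [Finite S]
  (hS : IsPGroup p S) (hF : F.IsSaturated p) (hE : E.IsNormalIn F p)

include hS hF hE

theorem exists_slice {R : Subgroup Ω} (hRn : F.IsFullyNormalized R) (hRc : E.IsCentric R)
    {Γ : Subgroup (MulAut R)}
    (hΓ : ∃ W : Sylow p Γ, (W : Subgroup Γ) = (autInducedBy T R).subgroupOf Γ)
    (hΓT : autInducedBy T R ≤ Γ)
    (hcan : ∀ α ∈ Γ, (orderOf α).Coprime p → ∃ G, CanExt F p R α G) :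
    Nonempty (Slice F T p Γ) := by
  have hsc : F.StronglyClosed T := hE.1.2.2.2.1
  have hT : T ≤ S := hsc.1
  have hRT : R ≤ T := hRc.1
  have hRS : R ≤ S := hRn.1
  haveI := finite_of_le hRS
  haveI : Finite (MulAut R) := Finite.of_injective _ MulEquiv.toEquiv_injective
  set N := normalizerIn S R with hNdef
  set V := R ⊔ centralizerIn S R with hVdef
  haveI : Finite N := finite_normalizerIn
  have hRN : R ≤ N := le_normalizerIn hRS
  have hCN : centralizerIn S R ≤ N := centralizerIn_le_normalizerIn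
  have hVN : V ≤ N := sup_le hRN hCN
  have hNp : IsPGroup p N := hS.to_le inf_le_left
  -- the system `N_F(R)` and its constrained part
  have hN₁ := isNormalizerSystem_normalizerSys F R hRS
  set F₁ := normalizerSys F R hRS
  have hF₁ : F₁.IsSaturated p := isSaturated_normalizerSystem hS hF hRn hN₁
  have hNV : N ≤ normalizerIn N V := le_inf le_rfl fun a ha => (normalizerIn_le_sup_centralizer R ha).2
  have hVn : F₁.IsFullyNormalized V := ⟨hVN, fun Q hQ => by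
    refine (Subgroup.card_le_of_le (inf_le_left : normalizerIn N Q ≤ N)).trans ?_
    haveI : Finite (normalizerIn N V) := finite_normalizerIn
    exact Subgroup.card_le_of_le hNV⟩
  have hVc : F₁.IsCentric V := by
    refine centric_of_fullyCentralized hNp hF₁ (fullyCentralized_of_fullyNormalized hNp hF₁ hVn)
      fun c hc => mem_sup_right ⟨hc.1.1, fun x hx => hc.2 x (mem_sup_left hx)⟩
  have hN₂ := isNormalizerSystem_normalizerSys F₁ V hVN
  set F₂ := normalizerSys F₁ V hVN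
  haveI : Finite (normalizerIn N V) := finite_normalizerIn
  obtain ⟨G, _, ι₀, hfin, hreal, ⟨P₀, hP₀⟩, hVGn, hVGc⟩ :=
    Model.exists_model_normalizer F₁ hNp hF₁ hVc hVn hN₂
  set ι : N →* G := ι₀.comp (Subgroup.inclusion hNV) with hιdef
  have hinj : Function.Injective ι := hreal.1.comp (Subgroup.inclusion_injective hNV)
  have hι₀ : ∀ (x : normalizerIn N V), ι₀ x = ι ⟨x, x.2.1⟩ := fun x => rfl
  have hrange : ∀ g ∈ (P₀ : Subgroup G), ∃ t : N, ι t = g := fun g hg => by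
    rw [hP₀] at hg
    obtain ⟨t, rfl⟩ := hg
    exact ⟨⟨t, t.2.1⟩, rfl⟩
  -- conjugation on `V`
  set jV : V →* G := ι.comp (Subgroup.inclusion hVN) with hjV
  have hVGeq : (V.subgroupOf (normalizerIn N V)).map ι₀ = jV.range := by
    ext g
    constructor
    · rintro ⟨x, hx, rfl⟩
      exact ⟨⟨x, hx⟩, rfl⟩
    · rintro ⟨v, rfl⟩
      exact ⟨⟨v, hNV (hVN v.2)⟩, v.2, rfl⟩
  rw [hVGeq] at hVGn hVGc
  set VG := jV.range with hVGdef
  haveI := hVGn
  have hmap : ∀ g : G, ∃ f : Ω → Ω, IsMap F V f ∧ img R f = R ∧ ∀ v : N, (v : Ω) ∈ V →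
      f v ∈ V ∧ ∃ hv : f v ∈ N, ι ⟨f v, hv⟩ = g * ι v * g⁻¹ := by
    intro g
    have hV₂ : V ≤ normalizerIn N V := hVN.trans hNV
    obtain ⟨f, hf, hfx⟩ := realized_exists_map hreal hV₂ g fun x hx => by
      obtain ⟨w, hw⟩ := hVGn.conj_mem (jV ⟨x, hx⟩) ⟨_, rfl⟩ g
      exact ⟨⟨w, hV₂ w.2⟩, hw⟩
    obtain ⟨-, -, g₁, hg₁, hg₁x, -⟩ := (isMap_normalizerSystem_iff hN₂).1 hf
    obtain ⟨-, -, g₂, hg₂, hg₂x, hg₂R⟩ :=
      (isMap_normalizerSystem_iff hN₁).1 (hg₁.mono le_sup_left)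
    have hagree : ∀ x ∈ V, g₂ x = f x := fun x hx => (hg₂x x hx).trans (hg₁x x hx)
    refine ⟨f, (hg₂.mono le_sup_left).congr hagree,
      (img_congr fun x hx => (hagree x (mem_sup_left hx)).symm).trans hg₂R, fun v hv => ?_⟩
    obtain ⟨hfv, e⟩ := hfx v hv
    have e' : ι ⟨f v, hfv.1⟩ = g * ι v * g⁻¹ := e
    refine ⟨?_, hfv.1, e'⟩
    obtain ⟨w, hw⟩ := hVGn.conj_mem (jV ⟨v, hv⟩) ⟨_, rfl⟩ g
    have h1 : ι ⟨w, hVN w.2⟩ = g * ι v * g⁻¹ := hw
    rw [← e'] at h1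
    have h2 : (w : Ω) = f v := congrArg Subtype.val (hinj h1)
    exact h2 ▸ w.2
  -- the image of `R`
  set jR : R →* G := ι.comp (Subgroup.inclusion hRN) with hjR
  have hjRi : Function.Injective jR := hinj.comp (Subgroup.inclusion_injective hRN)
  set RG := jR.range with hRGdef
  haveI hRGn : RG.Normal := ⟨fun _ ⟨x, hx⟩ g => by
    obtain ⟨f, hf, hfR, hfv⟩ := hmap g
    obtain ⟨-, hxN, e⟩ := hfv ⟨x, hRN x.2⟩ (mem_sup_left x.2)
    refine ⟨⟨f x, hfR.le ((hf.mono le_sup_left).apply_mem_img x.2)⟩, ?_⟩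
    rw [← hx]
    exact e⟩
  set ρ : G →* MulAut R :=
    (MulAut.congr (MonoidHom.ofInjective hjRi).symm).toMonoidHom.comp MulAut.conjNormal with hρdef
  have hρ : ∀ (g : G) (x : R), jR (ρ g x) = g * jR x * g⁻¹ := by
    intro g x
    set e := MonoidHom.ofInjective hjRi
    have h1 : e (ρ g x) = MulAut.conjNormal g (e x) := by
      simp [hρdef, MulAut.congr, e]
    exact (congrArg (fun u : RG => (u : G)) h1).trans (MulAut.conjNormal_apply g (e x))
  set H₂ : Subgroup G := (centralizer ((VG.map (QuotientGroup.mk' RG) : Subgroup (G ⧸ RG)) :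
    Set (G ⧸ RG))).comap (QuotientGroup.mk' RG) with hH₂
  have hmemH₂ : ∀ g : G, g ∈ H₂ ↔ ∀ v ∈ VG, v⁻¹ * (g * v * g⁻¹) ∈ RG := by
    intro g
    rw [hH₂, Subgroup.mem_comap, Subgroup.mem_centralizer_iff]
    constructor
    · intro h v hv
      rw [← QuotientGroup.eq_one_iff, ← QuotientGroup.mk'_apply]
      simp only [map_mul, map_inv]
      rw [← h _ ⟨v, hv, rfl⟩]
      group
    · rintro h _ ⟨v, hv, rfl⟩
      have h1 := h v hv
      rw [← QuotientGroup.eq_one_iff, ← QuotientGroup.mk'_apply] at h1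
      simp only [map_mul, map_inv] at h1
      rw [inv_mul_eq_one] at h1
      conv_lhs => rw [h1]
      group
  set H : Subgroup G := H₂ ⊓ Γ.comap ρ with hHdef
  -- the kernel
  have hker : ∀ g ∈ H, ρ g = 1 → ∃ c : N, (c : Ω) ∈ V ∧ ι c = g := by
    intro g hg hg1
    set K₀ : Subgroup G := H₂ ⊓ ρ.ker
    haveI : H₂.Normal := by
      refine ⟨fun a ha b => (hmemH₂ _).2 fun v hv => ?_⟩
      have h1 := (hmemH₂ a).1 ha (b⁻¹ * v * b) (by simpa using hVGn.conj_mem v hv b⁻¹)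
      have h2 := hRGn.conj_mem _ h1 b
      convert h2 using 1
      group
    have hK₀p : IsPGroup p K₀ := by
      intro ⟨k, hk, hk1⟩
      obtain ⟨m, hm⟩ := IsPGroup.iff_card.1 hNp
      have hfix : ∀ r ∈ RG, k * r * k⁻¹ = r := by
        rintro _ ⟨x, rfl⟩
        have h1 : ρ k = 1 := hk1
        rw [← hρ, h1, MulAut.one_apply]
      have hkey : ∀ v ∈ VG, ∀ j : ℕ, k ^ j * v * (k ^ j)⁻¹ = v * (v⁻¹ * (k * v * k⁻¹)) ^ j := by
        intro v hv j
        induction j with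
        | zero => simp
        | succ j ih =>
          set z := v⁻¹ * (k * v * k⁻¹) with hz
          have hzj := hfix _ (RG.pow_mem ((hmemH₂ k).1 hk v hv) j)
          calc k ^ (j + 1) * v * (k ^ (j + 1))⁻¹ = k * (k ^ j * v * (k ^ j)⁻¹) * k⁻¹ := by
                rw [pow_succ']; group
            _ = k * v * k⁻¹ * (k * z ^ j * k⁻¹) := by rw [ih]; group
            _ = v * z * z ^ j := by rw [hzj, hz, mul_inv_cancel_left]
            _ = v * z ^ (j + 1) := by rw [pow_succ', mul_assoc]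
      have hc : k ^ p ^ m ∈ VG := hVGc fun v hv => by
        have h1 := hkey v hv (p ^ m)
        obtain ⟨x, hx⟩ := (hmemH₂ k).1 hk v hv
        have h2 : (v⁻¹ * (k * v * k⁻¹)) ^ p ^ m = 1 := by
          rw [← hx, ← hm, show jR x = ι ⟨x, hRN x.2⟩ from rfl, ← map_pow, pow_card_eq_one', map_one]
        rw [h2, mul_one, mul_inv_eq_iff_eq_mul] at h1
        exact h1.symm
      obtain ⟨v, hv⟩ := hc
      refine ⟨m + m, Subtype.ext ?_⟩
      have h3 : (jV v) ^ p ^ m = 1 := by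
        rw [show jV v = ι ⟨v, hVN v.2⟩ from rfl, ← map_pow, ← hm, pow_card_eq_one', map_one]
      rw [hv] at h3
      simpa [← pow_mul, ← pow_add] using h3
    have hle : K₀ ≤ (P₀ : Subgroup G) :=
      (le_sSup (α := Subgroup G) ⟨inferInstance, hK₀p⟩ : K₀ ≤ Cfsg.pCore p G).trans
        (pCore_le_sylow P₀)
    obtain ⟨t, rfl⟩ := hrange g (hle (Subgroup.mem_inf.2 ⟨(Subgroup.mem_inf.1 hg).1, hg1⟩))
    refine ⟨t, mem_sup_right ⟨t.2.1, fun x hx => ?_⟩, rfl⟩
    have h1 := hρ (ι t) ⟨x, hx⟩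
    rw [hg1, MulAut.one_apply, show jR ⟨x, hx⟩ = ι ⟨x, hRN hx⟩ from rfl, ← map_inv, ← map_mul,
      ← map_mul] at h1
    have h2 : x = (t : Ω) * x * (t : Ω)⁻¹ := congrArg Subtype.val (hinj h1)
    exact eq_mul_inv_iff_mul_eq.1 h2
  -- inner elements
  have hρι : ∀ (t : N), ρ (ι t) = R.normalizerMonoidHom ⟨t, t.2.2⟩ := fun t => MulEquiv.ext fun x => by
    apply hjRi
    rw [hρ, show jR x = ι ⟨x, hRN x.2⟩ from rfl, ← map_inv, ← map_mul, ← map_mul]
    rfl
  have hTmem : ∀ t : N, (t : Ω) ∈ T → ι t ∈ H := by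
    intro t ht
    refine Subgroup.mem_inf.2 ⟨(hmemH₂ _).2 ?_, ?_⟩
    · rintro _ ⟨v, rfl⟩
      have hTn : S ≤ normalizer (T : Set Ω) := StronglyClosed.le_normalizer hsc
      obtain ⟨a, ha, c, hc, e⟩ : ∃ a ∈ R, ∃ c ∈ centralizerIn S R, a * c = (v : Ω) := by
        have h : (v : Ω) ∈ ((R ⊔ centralizerIn S R : Subgroup Ω) : Set Ω) := v.2
        rwa [Subgroup.coe_mul_of_right_le_normalizer_left R _
          (fun x hx => (hCN hx).2), Set.mem_mul] at h
      have h1 : c⁻¹ * ((t : Ω) * c * (t : Ω)⁻¹) ∈ R := by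
        refine hRc.2 R (isConj_refl hRT) ⟨?_, ?_⟩
        · rw [← mul_assoc, ← mul_assoc]
          exact T.mul_mem (by simpa using StronglyClosed.conj_mem hsc (S.inv_mem hc.1) ht)
            (T.inv_mem ht)
        · refine mul_mem ((centralizer (R : Set Ω)).inv_mem hc.2) fun r hr => ?_
          have h2 := hc.2 _ ((Subgroup.mem_normalizer_iff''.1 t.2.2 r).1 hr)
          calc r * ((t : Ω) * c * (t : Ω)⁻¹)
              = (t : Ω) * (((t : Ω)⁻¹ * r * t) * c) * (t : Ω)⁻¹ := by group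
            _ = (t : Ω) * (c * ((t : Ω)⁻¹ * r * t)) * (t : Ω)⁻¹ := by rw [h2]
            _ = _ := by group
      have h2 : (v : Ω)⁻¹ * ((t : Ω) * v * (t : Ω)⁻¹) ∈ R := by
        have h3 : a⁻¹ * ((t : Ω) * a * (t : Ω)⁻¹) ∈ R := R.mul_mem (R.inv_mem ha) ((t.2.2 a).1 ha)
        have h4 := ((hCN hc).2 (c⁻¹ * (a⁻¹ * ((t : Ω) * a * (t : Ω)⁻¹)) * c)).2 (by simpa [mul_assoc] using h3)
        have e2 : (v : Ω)⁻¹ * ((t : Ω) * v * (t : Ω)⁻¹) =
            c⁻¹ * (a⁻¹ * ((t : Ω) * a * (t : Ω)⁻¹)) * c * (c⁻¹ * ((t : Ω) * c * (t : Ω)⁻¹)) := by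
          rw [← e]; group
        rw [e2]
        exact R.mul_mem h4 h1
      refine ⟨⟨_, h2⟩, ?_⟩
      rw [show jV v = ι ⟨v, hVN v.2⟩ from rfl, ← map_inv ι t, ← map_mul, ← map_mul, ← map_inv,
        ← map_mul]
      rfl
    · show ρ (ι t) ∈ Γ
      rw [hρι]
      exact hΓT (mem_autInducedBy_iff.2 ⟨t, ht, fun x => rfl⟩)
  haveI : Finite (H : Subgroup G) := inferInstance
  -- the Sylow subgroup
  let jH : H →* G := H.subtype
  set Q₀ : Subgroup H := ι.range.subgroupOf H with hQ₀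
  have hQ₀p : IsPGroup p Q₀ := by
    have h1 : IsPGroup p ι.range := hNp.of_surjective _ ι.rangeRestrict_surjective
    exact h1.comap_of_injective H.subtype H.subtype_injective
  obtain ⟨W, hW⟩ := hΓ
  set ρH : H →* Γ := (ρ.comp H.subtype).codRestrict Γ fun h => (Subgroup.mem_inf.1 h.2).2
  have hsplit : ∀ P : Sylow p H, Q₀ ≤ (P : Subgroup H) → ∀ x ∈ (P : Subgroup H),
      ∃ t c : N, (t : Ω) ∈ T ∧ (c : Ω) ∈ V ∧ ι c * ι t = (x : G) ∧ ρ (ι c) = 1 := by
    intro P hP x hx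
    have hWle : (W : Subgroup Γ) ≤ (P : Subgroup H).map ρH := by
      intro a ha
      rw [hW, Subgroup.mem_subgroupOf, mem_autInducedBy_iff] at ha
      obtain ⟨t, ht, htx⟩ := ha
      have htn : t ∈ normalizer (R : Set Ω) := mem_normalizer_of_aut htx
      refine ⟨⟨ι ⟨t, hT ht, htn⟩, hTmem _ ht⟩, hP ⟨_, rfl⟩, Subtype.ext ?_⟩
      show ρ (ι _) = _
      rw [hρι]
      exact MulEquiv.ext fun x => Subtype.ext (htx x).symm
    have heq := W.is_maximal' (P.isPGroup'.map ρH) hWle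
    have h1 : ρH x ∈ (W : Subgroup Γ) := heq.le ⟨x, hx, rfl⟩
    rw [hW, Subgroup.mem_subgroupOf, mem_autInducedBy_iff] at h1
    obtain ⟨t, ht, htx⟩ := h1
    have htn : t ∈ normalizer (R : Set Ω) := mem_normalizer_of_aut htx
    set t' : N := ⟨t, hT ht, htn⟩
    have he : ρ (x : G) = ρ (ι t') := by
      rw [hρι]
      exact MulEquiv.ext fun y => Subtype.ext (htx y)
    have hk : ρ ((x : G) * (ι t')⁻¹) = 1 := by rw [map_mul, map_inv, he, mul_inv_cancel]
    obtain ⟨c, hc, hcx⟩ := hker _ (H.mul_mem x.2 (H.inv_mem (hTmem t' ht))) hk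
    exact ⟨t', c, ht, hc, by rw [hcx, inv_mul_cancel_right], by rw [hcx]; exact hk⟩
  obtain ⟨P, hP⟩ := hQ₀p.exists_le_sylow
  have hPQ : (P : Subgroup H) ≤ Q₀ := fun x hx => by
    obtain ⟨t, c, -, -, e, -⟩ := hsplit P hP x hx
    exact ⟨c * t, by rw [map_mul]; exact e⟩
  set NT : Subgroup H := ((T.subgroupOf N).map ι).subgroupOf H with hNT
  have hmemNT : ∀ x : H, x ∈ NT ↔ ∃ t : N, (t : Ω) ∈ T ∧ ι t = (x : G) := fun x => Iff.rfl
  have hNTP : NT ≤ (P : Subgroup H) := fun x hx => by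
    obtain ⟨t, -, e⟩ := hx
    exact hP ⟨t, e⟩
  have hfoc : (P : Subgroup H).focalSubgroup ≤ NT := by
    rw [focalSubgroup_def, Subgroup.closure_le]
    rintro _ ⟨hmem, x, hx, u, rfl⟩
    obtain ⟨t, c, ht, hc, e, hc1⟩ := hsplit P hP x hx
    obtain ⟨s, hs⟩ := hPQ hmem
    obtain ⟨r, hr⟩ := (hmemH₂ (u : G)).1 (Subgroup.mem_inf.1 u.2).1 (jV ⟨(c : Ω)⁻¹, V.inv_mem hc⟩) ⟨_, rfl⟩
    have hcj : jV ⟨(c : Ω)⁻¹, V.inv_mem hc⟩ = (ι c)⁻¹ := by rw [← map_inv]; rfl
    rw [hcj, inv_inv] at hr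
    -- the conjugate of `t` lies in `S`
    set rr : N := ⟨r, hRN r.2⟩
    have hr' : ι rr = ι c * ((u : G) * (ι c)⁻¹ * (u : G)⁻¹) := hr
    have hx' : ((⁅x, u⁆ : H) : G) = ι c * ι t * ((u : G) * (ι t)⁻¹ * (u : G)⁻¹) *
        ((u : G) * (ι c)⁻¹ * (u : G)⁻¹) := by
      show (x : G) * (u : G) * (x : G)⁻¹ * (u : G)⁻¹ = _
      rw [← e]; group
    set b : N := (c * t)⁻¹ * s * rr⁻¹ * c with hb
    have hub : (u : G) * (ι t)⁻¹ * (u : G)⁻¹ = ι b := by
      have hs' : ι s = ((⁅x, u⁆ : H) : G) := hs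
      rw [hb, map_mul, map_mul, map_mul, map_inv, map_inv, map_mul, hs', hx', hr']
      group
    have hbT : (b : Ω) ∈ T := by
      have hzle : zpowers ((t : Ω)⁻¹) ≤ normalizerIn N V := zpowers_le.2 (hNV (N.inv_mem t.2))
      obtain ⟨f, hf, hfx⟩ := realized_exists_map hreal hzle (u : G) fun y hy => by
        obtain ⟨i, rfl⟩ := mem_zpowers_iff.1 hy
        refine ⟨⟨(b : Ω) ^ i, hNV (N.zpow_mem b.2 i)⟩, ?_⟩
        have e2 : ι₀ ⟨((t : Ω)⁻¹) ^ i, hzle hy⟩ = ((ι t)⁻¹) ^ i := by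
          rw [← map_inv, ← map_zpow]; rfl
        show ι₀ _ = _
        rw [e2, ← conj_zpow, hub, ← map_zpow]
        rfl
      obtain ⟨hfv, e3⟩ := hfx _ (mem_zpowers _)
      obtain ⟨-, -, g₁, hg₁, hg₁x, -⟩ := (isMap_normalizerSystem_iff hN₂).1 hf
      obtain ⟨-, -, g₂, hg₂, hg₂x, -⟩ :=
        (isMap_normalizerSystem_iff hN₁).1 (hg₁.mono le_sup_left)
      have hfb : f ((t : Ω)⁻¹) = (b : Ω) := by
        have e4 : ι ⟨_, hfv.1⟩ = ι b := by
          rw [← hub, ← map_inv]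
          exact e3
        exact congrArg Subtype.val (hinj e4)
      rw [← hfb, ← hg₁x _ (mem_zpowers _), ← hg₂x _ (mem_zpowers _)]
      exact StronglyClosed.apply_mem hsc (hg₂.mono le_sup_left) (mem_zpowers _) (T.inv_mem ht)
    refine ⟨c * (t * b) * c⁻¹ * rr, ?_, ?_⟩
    · refine T.mul_mem (StronglyClosed.conj_mem hsc c.2.1 (T.mul_mem ht hbT)) (hRT r.2)
    · show ι _ = ((⁅x, u⁆ : H) : G)
      rw [hx', map_mul, map_mul, map_mul, map_mul, map_inv, hr', hub]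
      group
  obtain ⟨K, hKn, hKP, hKcop⟩ := exists_normal_cut P hNTP hfoc
  haveI := hKn
  set KG : Subgroup G := K.map H.subtype with hKG
  refine ⟨⟨G, inferInstance, hfin, ι, hinj, KG, fun t ht => ?_, fun t ht => ?_, ?_, fun g v hv => ?_,
    fun g hg => ?_, fun α hα => ?_, fun g hg hfix => ?_⟩⟩
  · exact ⟨⟨ι t, hTmem t ht⟩, (hKP _ (hP ⟨t, rfl⟩)).2 ⟨t, ht, rfl⟩, rfl⟩
  · obtain ⟨h, hh, e⟩ := ht
    have hhP : h ∈ (P : Subgroup H) := hP ⟨t, e.symm⟩
    obtain ⟨t', ht', e'⟩ := (hKP h hhP).1 hh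
    have : t' = t := hinj (e'.trans e)
    exact this ▸ ht'
  · obtain ⟨V₀, hV₀⟩ := CfsgLib.Transfer.exists_sylow_eq_subgroupOf P K
    let eK : K ≃* KG := K.equivMapOfInjective H.subtype H.subtype_injective
    have hsurj : Function.Surjective eK.toMonoidHom := eK.surjective
    refine ⟨V₀.mapSurjective hsurj, fun k => ?_⟩
    obtain ⟨k', rfl⟩ := eK.surjective k
    rw [Sylow.coe_mapSurjective, Subgroup.mem_map_equiv, eK.symm_apply_apply, hV₀,
      Subgroup.mem_subgroupOf]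
    constructor
    · exact fun h => (hKP _ h).1 k'.2
    · rintro ⟨t, ht, e⟩
      exact hNTP ⟨t, ht, e⟩
  · obtain ⟨w, hw⟩ := hVGn.conj_mem (jV ⟨v, hv⟩) ⟨_, rfl⟩ g
    exact ⟨⟨w, hVN w.2⟩, w.2, hw⟩
  · obtain ⟨h, hh, rfl⟩ := hg
    obtain ⟨f, hf, hfR, hfv⟩ := hmap (h : G)
    refine ⟨f, hf, ⟨ρ (h : G), (Subgroup.mem_inf.1 h.2).2, fun x => ?_⟩, fun c hc => ?_,
      fun v hv => (hfv v hv).2⟩
    · obtain ⟨-, hxN, e⟩ := hfv ⟨x, hRN x.2⟩ (mem_sup_left x.2)
      have e' : ι ⟨f x, hxN⟩ = jR (ρ (h : G) x) := by rw [hρ]; exact e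
      exact congrArg Subtype.val (hinj e')
    · obtain ⟨r, hr⟩ := (hmemH₂ (h : G)).1 (Subgroup.mem_inf.1 h.2).1 (jV ⟨c, mem_sup_right hc⟩)
        ⟨_, rfl⟩
      obtain ⟨-, hcN, e⟩ := hfv ⟨c, hCN hc⟩ (mem_sup_right hc)
      have e' : ι ⟨r, hRN r.2⟩ = ι ((⟨c, hCN hc⟩ : N)⁻¹ * ⟨f c, hcN⟩) := by
        rw [map_mul, map_inv, e]
        exact hr
      have h' : (r : Ω) = c⁻¹ * f c := congrArg Subtype.val (hinj e')
      rw [← h']
      exact r.2
  · -- every element of `Γ` is induced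
    haveI : Finite Γ := inferInstance
    let ρK : K →* Γ := ρH.comp K.subtype
    have htop : ρK.range = ⊤ := by
      refine eq_top_of_sylow_le W ?_ fun a ha => ?_
      · intro a ha
        rw [hW, Subgroup.mem_subgroupOf, mem_autInducedBy_iff] at ha
        obtain ⟨t, ht, htx⟩ := ha
        have htn : t ∈ normalizer (R : Set Ω) := mem_normalizer_of_aut htx
        refine ⟨⟨⟨ι ⟨t, hT ht, htn⟩, hTmem _ ht⟩, (hKP _ (hP ⟨_, rfl⟩)).2 ⟨_, ht, rfl⟩⟩,
          Subtype.ext ?_⟩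
        show ρ (ι _) = _
        rw [hρι]
        exact MulEquiv.ext fun x => Subtype.ext (htx x).symm
      obtain ⟨Gm, hGm⟩ := hcan (a : MulAut R) a.2 (by rwa [Subgroup.orderOf_coe])
      have hGV : ∀ x ∈ V, Gm x ∈ V := fun x hx => by
        refine hGm.map.img_sup_le le_sup_left le_sup_right ?_ ?_ (hGm.map.apply_mem_img hx)
        · intro z hz
          obtain ⟨y, hy, rfl⟩ := (hGm.map.mono le_sup_left).mem_img.1 hz
          rw [hGm.val ⟨y, hy⟩]
          exact mem_sup_left (Subtype.mem _)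
        · intro z hz
          obtain ⟨y, hy, rfl⟩ := (hGm.map.mono le_sup_right).mem_img.1 hz
          rw [← mul_inv_cancel_left y (Gm y)]
          exact V.mul_mem (mem_sup_right hy) (mem_sup_left (hGm.triv y hy))
      haveI := finite_of_le hGm.map.le
      have hGi : img V Gm = V := eq_of_le_of_card_le (fun z hz => by
        obtain ⟨y, hy, rfl⟩ := hGm.map.mem_img.1 hz
        exact hGV y hy) hGm.map.card_img.ge
      have hGR : img R Gm = R := by
        refine eq_of_le_of_card_le (fun z hz => ?_) (hGm.map.mono le_sup_left).card_img.ge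
        obtain ⟨y, hy, rfl⟩ := (hGm.map.mono le_sup_left).mem_img.1 hz
        rw [hGm.val ⟨y, hy⟩]
        exact Subtype.mem _
      have hm₁ : IsMap F₁ V Gm := (isMap_normalizerSystem_iff hN₁).2
        ⟨hVN, fun x hx => hVN (hGV x hx), Gm, hGm.map.mono (sup_le le_rfl le_sup_left),
          fun _ _ => rfl, hGR⟩
      have hm₂ : IsMap F₂ V Gm := (isMap_normalizerSystem_iff hN₂).2
        ⟨hVN.trans hNV, fun x hx => hNV (hVN (hGV x hx)), Gm, by rwa [sup_idem], fun _ _ => rfl, hGi⟩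
      obtain ⟨g, hg⟩ := realized_exists_elem hreal hm₂
      have hgR : ρ g = (a : MulAut R) := MulEquiv.ext fun x => hjRi (by
        rw [hρ]
        have h1 := hg x (mem_sup_left x.2) (hNV (hRN x.2))
          (hNV (hVN (hGV _ (mem_sup_left x.2))))
        refine h1.symm.trans ?_
        show ι₀ _ = ι₀ _
        congr 1
        exact Subtype.ext (hGm.val x))
      have hgH : g ∈ H := by
        refine Subgroup.mem_inf.2 ⟨(hmemH₂ g).2 ?_, by show ρ g ∈ Γ; rw [hgR]; exact a.2⟩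
        rintro _ ⟨v, rfl⟩
        have h1 := hg v v.2 (hNV (hVN v.2)) (hNV (hVN (hGV _ v.2)))
        have e1 : jV v = ι₀ ⟨v, hNV (hVN v.2)⟩ := rfl
        rw [e1, ← h1]
        have h2 : (v : Ω)⁻¹ * Gm v ∈ R := by
          obtain ⟨b, hb, c, hc, e⟩ : ∃ b ∈ R, ∃ c ∈ centralizerIn S R, b * c = (v : Ω) := by
            have h : (v : Ω) ∈ ((R ⊔ centralizerIn S R : Subgroup Ω) : Set Ω) := v.2
            rwa [Subgroup.coe_mul_of_right_le_normalizer_left R _
              (fun x hx => (hCN hx).2), Set.mem_mul] at h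
          rw [← e, hGm.map.map_mul (mem_sup_left hb) (mem_sup_right hc)]
          have h3 : b⁻¹ * Gm b ∈ R := R.mul_mem (R.inv_mem hb) (hGR.le
            ((hGm.map.mono le_sup_left).apply_mem_img hb))
          have h4 := ((hCN hc).2 (c⁻¹ * (b⁻¹ * Gm b) * c)).2 (by simpa [mul_assoc] using h3)
          have h5 := R.mul_mem h4 (hGm.triv c hc)
          convert h5 using 1
          group
        exact ⟨⟨_, h2⟩, by rw [← map_inv, ← map_mul]; rfl⟩
      set g' : H := ⟨g, hgH⟩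
      obtain ⟨j, m, hm, hjm⟩ := Nat.exists_eq_pow_mul_and_not_dvd (orderOf_pos g').ne' p
        (Fact.out : p.Prime).ne_one
      have hgK : g' ^ p ^ j ∈ K := hKcop _ (by
        rw [orderOf_pow' _ (pow_ne_zero _ (Fact.out : p.Prime).ne_zero), hjm,
          Nat.gcd_eq_right (dvd_mul_right _ _), Nat.mul_div_cancel_left _ (pow_pos (Fact.out : p.Prime).pos _)]
        exact ((Fact.out : p.Prime).coprime_iff_not_dvd.2 hm).symm)
      have h1 : a ^ p ^ j ∈ ρK.range := ⟨⟨_, hgK⟩, by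
        show ρH (g' ^ p ^ j) = _
        rw [map_pow]
        exact congrArg (· ^ p ^ j) (Subtype.ext hgR)⟩
      obtain ⟨i, hi⟩ := exists_pow_eq_self_of_coprime (ha.symm.pow_left j)
      rw [← hi]
      exact ρK.range.pow_mem h1 i
    obtain ⟨k, hk⟩ : (⟨α, hα⟩ : Γ) ∈ ρK.range := htop ▸ Subgroup.mem_top _
    refine ⟨((k : H) : G), ⟨k, k.2, rfl⟩, fun x hx hx' => ?_⟩
    have h1 : ρ ((k : H) : G) = α := congrArg Subtype.val hk
    have h2 := hρ ((k : H) : G) x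
    rw [h1] at h2
    exact h2
  · obtain ⟨h, hh, rfl⟩ := hg
    refine hker _ h.2 (MulEquiv.ext fun x => hjRi ?_)
    rw [hρ, MulAut.one_apply]
    exact hfix ⟨x, hRN x.2⟩ x.2

end CfsgLib.Comp.CExt
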