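import Cfsg.Agent.Lib.Complement.CenterThompson
import Cfsg.Agent.Lib.Complement.FpfNilpotent
import Cfsg.Agent.Lib.Char.CNSylow
import Cfsg.Agent.Lib.OddLocal.CNBasic
import Cfsg.Agent.Lib.Coprime.Sylow

/-!
Nilpotent maximal subgroups: if each relevant prime gives a normal complement then the group is
solvable. This applies to maximal subgroups of odd order (Thompson) and of class at most two.
-/

set_option autoImplicit false

namespace CfsgLib.Comp

open Subgroup

universe u

variable {G : Type u} [Group G] [Finite G]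

theorem normalizer_eq_of_maximal {M X : Subgroup G} (hmax : IsCoatom M) (hcore : M.normalCore = ⊥)
    (hXM : X ≤ M) (hX : X ≠ ⊥) (hMX : M ≤ normalizer (X : Set G)) :
    normalizer (X : Set G) = M := by
  rcases eq_or_lt_of_le hMX with h | h
  · exact h.symm
  · have hn : X.Normal := normalizer_eq_top_iff.1 (hmax.2 _ h)
    haveI := hn
    have h1 : X ≤ M.normalCore := normal_le_normalCore.2 hXM
    exact absurd (le_bot_iff.1 (h1.trans hcore.le)) hX

/-- A nilpotent core-free maximal subgroup contains the Sylow subgroups for its prime divisors and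
is their normalizer. -/
theorem exists_sylow_of_nilpotent_maximal {M : Subgroup G} (hmax : IsCoatom M)
    (hnil : Group.IsNilpotent M) (hcore : M.normalCore = ⊥) {p : ℕ} [Fact p.Prime]
    (hpM : p ∣ Nat.card M) :
    ∃ P : Sylow p G, (P : Subgroup G) ≤ M ∧ (P : Subgroup G) ≠ ⊥ ∧
      normalizer ((P : Subgroup G) : Set G) = M := by
  have := hnil
  let S : Sylow p M := default
  have hSn : (S : Subgroup M).Normal :=
    Sylow.normal_of_normalizerCondition Group.normalizerCondition_of_isNilpotent S
  set X : Subgroup G := (S : Subgroup M).map M.subtype with hXdef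
  have hXM : X ≤ M := map_subtype_le _
  have hX : X ≠ ⊥ := fun h =>
    S.ne_bot_of_dvd_card hpM ((map_eq_bot_iff_of_injective _ M.subtype_injective).1 h)
  have hMX : M ≤ normalizer (X : Set G) := by
    intro m hm
    rw [mem_normalizer_iff_map_conj_eq]
    have h := mem_normalizer_iff_map_conj_eq.1
      ((normalizer_eq_top_iff.2 hSn).ge (mem_top (⟨m, hm⟩ : M)))
    replace h := congrArg (Subgroup.map M.subtype) h
    rw [hXdef, map_map]
    rw [map_map] at h
    exact h
  have hNX := normalizer_eq_of_maximal hmax hcore hXM hX hMX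
  have hXp : IsPGroup p X := S.isPGroup'.map _
  obtain ⟨P, hP⟩ := hXp.exists_le_sylow
  have hPX : (P : Subgroup G) = X := by
    refine le_antisymm ?_ hP
    haveI := P.isPGroup'.isNilpotent
    have hself : normalizer ((X.subgroupOf (P : Subgroup G)) : Set (P : Subgroup G)) =
        X.subgroupOf (P : Subgroup G) := by
      refine le_antisymm (fun y hy => ?_) le_normalizer
      have hyM : (y : G) ∈ M := by
        rw [← hNX, mem_normalizer_iff]
        intro n
        rw [mem_normalizer_iff] at hy
        constructor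
        · intro hn
          exact (hy ⟨n, hP hn⟩).1 hn
        · intro hn
          have h1 : n ∈ (P : Subgroup G) := by
            have := (P : Subgroup G).mul_mem ((P : Subgroup G).mul_mem ((P : Subgroup G).inv_mem y.2)
              (hP hn)) y.2
            simpa [mul_assoc] using this
          exact (hy ⟨n, h1⟩).2 hn
      -- the `p`-elements of `M` lie in `X`
      have hp1 : IsPGroup p ((zpowers (y : G)).subgroupOf M) :=
        (P.isPGroup'.to_le (zpowers_le.2 y.2)).of_equiv
          (subgroupOfEquivOfLe (zpowers_le.2 hyM)).symm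
      obtain ⟨T, hT⟩ := hp1.exists_le_sylow
      have := Sylow.unique_of_normal S hSn
      rw [Subsingleton.elim T S] at hT
      exact ⟨⟨y, hyM⟩, hT (mem_zpowers (y : G)), rfl⟩
    exact subgroupOf_eq_top.1
      (normalizerCondition_iff_only_full_group_self_normalizing.1
        Group.normalizerCondition_of_isNilpotent _ hself)
  exact ⟨P, hPX ▸ hXM, hPX ▸ hX, by rw [hPX, hNX]⟩

/-- If every prime divisor of a core-free nilpotent maximal subgroup gives a normal complement,
the group is solvable. -/
theorem isSolvable_of_complements {M : Subgroup G} (hmax : IsCoatom M)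
    (hnil : Group.IsNilpotent M) (hcore : M.normalCore = ⊥)
    (hcompl : ∀ p : ℕ, p.Prime → p ∣ Nat.card M → Cfsg.HasNormalPComplement p G) :
    Group.IsSolvable G := by
  have := hnil
  have hMsol : Group.IsSolvable M := inferInstance
  let K : Subgroup G := sInf {R | ∃ p : ℕ, p.Prime ∧ p ∣ Nat.card M ∧ R = Cfsg.pResidual p G}
  have hKn : K.Normal := by
    refine ⟨fun n hn g => ?_⟩
    simp only [K, mem_sInf, Set.mem_ofPred_eq, forall_exists_index, and_imp] at hn ⊢
    intro R p hp hpM hR
    have := Transfer.pResidual_normal (G := G) (p := p)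
    have h := hn R p hp hpM hR
    subst hR
    exact this.conj_mem n h g
  have hKc : (Nat.card M).Coprime (Nat.card K) := by
    refine Nat.coprime_of_dvd fun p hp hpM hpK => ?_
    haveI := Fact.mk hp
    have h := Transfer.hasNormalPComplement_iff_coprime_pResidual.1 (hcompl p hp hpM)
    have hle : K ≤ Cfsg.pResidual p G := sInf_le ⟨p, hp, hpM, rfl⟩
    exact hp.ne_one (Nat.eq_one_of_dvd_coprimes h (hpK.trans (card_dvd_of_le hle)) dvd_rfl)
  -- some prime `q` divides the index of `M` but not its order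
  obtain ⟨q, hq, hqG, hqM⟩ : ∃ q : ℕ, q.Prime ∧ q ∣ Nat.card G ∧ ¬ q ∣ Nat.card M := by
    by_contra h
    push Not at h
    have hidx : M.index ≠ 1 := fun h => hmax.1 (index_eq_one.1 h)
    obtain ⟨r, hr, hri⟩ := Nat.exists_prime_and_dvd hidx
    haveI := Fact.mk hr
    have hrM := h r hr (hri.trans M.index_dvd_card)
    obtain ⟨P, hPM, -, -⟩ := exists_sylow_of_nilpotent_maximal hmax hnil hcore hrM
    exact P.not_dvd_index (hri.trans (index_dvd_of_le hPM))
  haveI := Fact.mk hq
  obtain ⟨x, hx⟩ := exists_prime_orderOf_dvd_card' (G := G) q hqG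
  have hxK : x ∈ K := by
    simp only [K, mem_sInf, Set.mem_ofPred_eq, forall_exists_index, and_imp]
    rintro R p hp hpM rfl
    haveI := Fact.mk hp
    refine Transfer.mem_pResidual_of_coprime ?_
    rw [hx]
    exact (Nat.coprime_primes hq hp).2 (fun e => hqM (e ▸ hpM))
  have hqK : q ∣ Nat.card K := hx ▸ K.orderOf_dvd_natCard hxK
  obtain ⟨Q, hQ⟩ := CfsgLib.Coprime.exists_invariant_sylow (A := M) (G := K)
    (by rw [normalizer_eq_top_iff.2 hKn]; exact le_top) hKc (Or.inl hMsol) q
  set X : Subgroup G := (Q : Subgroup K).map K.subtype with hXdef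
  have hXp : IsPGroup q X := Q.isPGroup'.map _
  have hXne : X ≠ ⊥ := fun h =>
    Q.ne_bot_of_dvd_card hqK ((map_eq_bot_iff_of_injective _ K.subtype_injective).1 h)
  have hXM : ¬ X ≤ M := fun h => hqM <| by
    obtain ⟨k, hk⟩ := IsPGroup.iff_card.1 hXp
    have : k ≠ 0 := fun e => hXne (card_eq_one.1 (by rw [hk, e, pow_zero]))
    exact ((dvd_pow_self q this).trans (by rw [hk])).trans (card_dvd_of_le h)
  have hlt : M < normalizer (X : Set G) :=
    lt_of_le_of_ne hQ fun e => hXM (by rw [e]; exact le_normalizer)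
  have hXn : X.Normal := normalizer_eq_top_iff.1 (hmax.2 _ hlt)
  have hsup : M ⊔ X = ⊤ := hmax.2 _ (lt_of_le_of_ne le_sup_left fun e => hXM (e ▸ le_sup_right))
  haveI := hXp.isNilpotent
  have hsurj : Function.Surjective ((QuotientGroup.mk' X).comp M.subtype) := by
    rw [← MonoidHom.range_eq_top, MonoidHom.range_comp, range_subtype]
    have h := map_sup M X (QuotientGroup.mk' X)
    rw [hsup, map_top_of_surjective _ (QuotientGroup.mk'_surjective X),
      (map_eq_bot_iff X).2 (QuotientGroup.ker_mk' X).ge, sup_bot_eq] at h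
    exact h.symm
  haveI := Group.isSolvable_of_surjective hsurj
  exact Group.isSolvable_of_ker_le_range (X.subtype) (QuotientGroup.mk' X)
    (by rw [QuotientGroup.ker_mk', range_subtype])

/-- Reduction to core-free maximal subgroups. -/
theorem isSolvable_of_quotient_core {M : Subgroup G} (hnil : Group.IsNilpotent M)
    (h : Group.IsSolvable (G ⧸ M.normalCore)) : Group.IsSolvable G := by
  have := hnil
  have hMsol : Group.IsSolvable M := inferInstance
  haveI : Group.IsSolvable M.normalCore :=
    Group.isSolvable_of_isSolvable_injective (f := Subgroup.inclusion M.normalCore_le)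
      (Subgroup.inclusion_injective _)
  exact Group.isSolvable_of_ker_le_range M.normalCore.subtype (QuotientGroup.mk' M.normalCore)
    (by rw [QuotientGroup.ker_mk', range_subtype])

theorem normalCore_map_core (M : Subgroup G) :
    (M.map (QuotientGroup.mk' M.normalCore)).normalCore = ⊥ := by
  set π := QuotientGroup.mk' M.normalCore
  set L := (M.map π).normalCore
  have h1 : L.comap π ≤ M := by
    refine (comap_mono (normalCore_le (M.map π))).trans ?_
    rw [comap_map_eq, QuotientGroup.ker_mk', sup_of_le_left M.normalCore_le]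
  have h2 : L.comap π ≤ M.normalCore := normal_le_normalCore.2 h1
  have h3 := map_mono (f := π) h2
  rw [map_comap_eq_self_of_surjective (QuotientGroup.mk'_surjective _),
    (map_eq_bot_iff (f := π) M.normalCore).2 (QuotientGroup.ker_mk' _).ge] at h3
  exact le_bot_iff.1 h3

theorem isCoatom_map_core {M : Subgroup G} (hmax : IsCoatom M) :
    IsCoatom (M.map (QuotientGroup.mk' M.normalCore)) := by
  set π := QuotientGroup.mk' M.normalCore
  have hs : Function.Surjective π := QuotientGroup.mk'_surjective _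
  have hM : (M.map π).comap π = M := by
    rw [comap_map_eq, QuotientGroup.ker_mk', sup_of_le_left M.normalCore_le]
  refine ⟨fun h => hmax.1 ?_, fun L hL => ?_⟩
  · rw [← hM, h, comap_top]
  · have h0 := (comap_lt_comap_of_surjective hs).2 hL
    rw [hM] at h0
    have h := hmax.2 (L.comap π) h0
    rw [← map_comap_eq_self_of_surjective hs L, h, map_top_of_surjective π hs]

/-- The case of odd order: Glauberman–Thompson. -/
theorem complement_of_odd {M : Subgroup G} (hmax : IsCoatom M) (hnil : Group.IsNilpotent M)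
    (hcore : M.normalCore = ⊥) {p : ℕ} [Fact p.Prime] (hp2 : p ≠ 2) (hpM : p ∣ Nat.card M) :
    Cfsg.HasNormalPComplement p G := by
  obtain ⟨P, hPM, hP, hNP⟩ := exists_sylow_of_nilpotent_maximal hmax hnil hcore hpM
  have hN : normalizer (Cfsg.centerThompsonOf p (P : Subgroup G) : Set G) = M :=
    normalizer_eq_of_maximal hmax hcore ((OddLocal.centerThompsonOf_le _).trans hPM)
      (Char.centerThompsonOf_ne_bot P.isPGroup' hP)
      (hNP.ge.trans (OddLocal.normalizer_le_normalizer_centerThompsonOf _))
  refine Complement.hasNormalPComplement_of_centerThompson hp2 P ?_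
  rw [hN]
  exact Complement.hasNormalPComplement_of_isNilpotent hnil

/-- If every Sylow `p`-subgroup has central derived subgroup and a maximal nilpotent normalizer
without normal `p`-subgroups, then there is a normal `p`-complement. -/
theorem complement_of_class_two {p : ℕ} [Fact p.Prime]
    (hcl : ∀ P : Sylow p G, ∀ x ∈ (P : Subgroup G), ∀ y ∈ (P : Subgroup G), ∀ z ∈ (P : Subgroup G),
      z * (x * y * x⁻¹ * y⁻¹) = x * y * x⁻¹ * y⁻¹ * z)
    (hN : ∀ P : Sylow p G, IsCoatom (normalizer ((P : Subgroup G) : Set G)) ∧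
      Group.IsNilpotent (normalizer ((P : Subgroup G) : Set G)))
    (hO : ∀ X : Subgroup G, X.Normal → IsPGroup p X → X = ⊥) :
    Cfsg.HasNormalPComplement p G := by
  refine Transfer.hasNormalPComplement_iff_frobenius.2 fun D hD g hg hgp => ?_
  rcases eq_or_ne D ⊥ with rfl | hDne
  · rw [mem_centralizer_iff]
    intro d hd
    rw [Subgroup.mem_bot.1 hd, one_mul, mul_one]
  set C : Subgroup G := centralizer (D : Set G) with hC
  set H : Subgroup G := normalizer (D : Set G) with hH
  have hCH : C ≤ H := centralizer_le_normalizer _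
  haveI hCn : (C.subgroupOf H).Normal :=
    (normal_subgroupOf_iff_le_normalizer hCH).2 (normalizer_le_normalizer_centralizer _)
  let T : Sylow p (C.subgroupOf H) := default
  set T' : Subgroup G := ((T : Subgroup _).map (C.subgroupOf H).subtype).map H.subtype with hT'
  have hT'p : IsPGroup p T' := (T.isPGroup'.map _).map _
  have hT'C : T' ≤ C := by
    rw [hT']
    exact (map_mono (map_subtype_le _)).trans (map_subgroupOf_eq_of_le hCH).le
  have hTD : T' ≤ normalizer (D : Set G) := hT'C.trans hCH
  obtain ⟨P, hP⟩ := (hT'p.to_sup_of_normal_right' hD hTD).exists_le_sylow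
  have hT'P : T' ≤ P := le_sup_left.trans hP
  have hDP : D ≤ P := le_sup_right.trans hP
  -- `T'` is the intersection of `P` and `C`
  have hPC : (P : Subgroup G) ⊓ C = T' := by
    refine le_antisymm (fun x hx => ?_) (le_inf hT'P hT'C)
    set R : Subgroup (C.subgroupOf H) :=
      (((P : Subgroup G) ⊓ C).comap H.subtype).comap (C.subgroupOf H).subtype
    have hR : IsPGroup p R :=
      ((P.isPGroup'.to_le inf_le_left).comap_of_injective _ H.subtype_injective).comap_of_injective _
        (C.subgroupOf H).subtype_injective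
    have hTR : (T : Subgroup _) ≤ R := fun t ht =>
      ⟨hT'P (mem_map_of_mem _ (mem_map_of_mem _ ht)), t.2⟩
    have : R = (T : Subgroup _) := T.is_maximal' hR hTR
    exact mem_map_of_mem H.subtype
      (x := (⟨x, hCH hx.2⟩ : H)) (mem_map_of_mem (C.subgroupOf H).subtype
        (x := (⟨⟨x, hCH hx.2⟩, hx.2⟩ : C.subgroupOf H)) (this ▸ hx))
  have hPne : (P : Subgroup G) ≠ ⊥ := fun h => hDne (le_bot_iff.1 (h ▸ hDP))
  -- `T'` is normal in `P`
  have hPT : (P : Subgroup G) ≤ normalizer (T' : Set G) := by
    rw [← hPC]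
    have key : ∀ s ∈ (P : Subgroup G), ∀ x ∈ (P : Subgroup G) ⊓ C,
        s * x * s⁻¹ ∈ (P : Subgroup G) ⊓ C := by
      intro s hs x hx
      refine ⟨(P : Subgroup G).mul_mem ((P : Subgroup G).mul_mem hs hx.1) ((P : Subgroup G).inv_mem hs), ?_⟩
      have h : s * x * s⁻¹ * x⁻¹ ∈ C := by
        rw [hC, mem_centralizer_iff]
        exact fun d hd => hcl P s hs x hx.1 d (hDP hd)
      show s * x * s⁻¹ ∈ C
      simpa [mul_assoc] using C.mul_mem h hx.2
    intro s hs
    rw [mem_normalizer_iff]
    refine fun n => ⟨key s hs n, fun hn => ?_⟩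
    simpa [mul_assoc] using key s⁻¹ ((P : Subgroup G).inv_mem hs) _ hn
  have hT'ne : T' ≠ ⊥ := by
    intro h
    have : Nontrivial (P : Subgroup G) := (nontrivial_iff_ne_bot _).2 hPne
    have : Nontrivial (center (P : Subgroup G)) := P.isPGroup'.center_nontrivial
    obtain ⟨z, hz⟩ := exists_ne (1 : center (P : Subgroup G))
    have hzT : ((z : (P : Subgroup G)) : G) ∈ T' := by
      rw [← hPC]
      refine ⟨(z : (P : Subgroup G)).2, ?_⟩
      show ((z : (P : Subgroup G)) : G) ∈ C
      rw [hC, mem_centralizer_iff]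
      intro d hd
      exact congrArg Subtype.val (mem_center_iff.1 z.2 ⟨d, hDP hd⟩)
    rw [h, Subgroup.mem_bot] at hzT
    exact hz (Subtype.ext (Subtype.ext hzT))
  set M : Subgroup G := normalizer ((P : Subgroup G) : Set G)
  obtain ⟨hmax, hnil⟩ := hN P
  have hMT : M ≤ normalizer (T' : Set G) := by
    intro m hm
    -- a `p'`-element of `M` centralizes `P`, the others lie in `P`
    obtain ⟨k, r, hr, hkr⟩ : ∃ k r : ℕ, ¬ p ∣ r ∧ orderOf m = p ^ k * r :=
      ⟨_, _, Nat.not_dvd_ordCompl Fact.out (orderOf_pos m).ne', (Nat.ordProj_mul_ordCompl_eq_self _ p).symm⟩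
    have hcop : (p ^ k).Coprime r := Nat.Coprime.pow_left k (Fact.out (p := p.Prime) |>.coprime_iff_not_dvd.2 hr)
    have e : m ^ ((p ^ k).gcdA r * (p ^ k : ℕ) + (p ^ k).gcdB r * (r : ℕ) : ℤ) = m := by
      rw [mul_comm ((p ^ k).gcdA r), mul_comm ((p ^ k).gcdB r), ← Nat.gcd_eq_gcd_ab, hcop]
      simp
    rw [zpow_add] at e
    rw [← e]
    refine mul_mem ?_ ?_
    · -- `p'`-part
      rw [mul_comm, zpow_mul, zpow_natCast]
      refine zpow_mem ?_ _
      have ho : (orderOf (m ^ p ^ k)).Coprime p := by
        rw [orderOf_pow_of_dvd (pow_ne_zero _ (Fact.out (p := p.Prime)).ne_zero) ⟨r, hkr⟩, hkr,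
          Nat.mul_div_cancel_left _ (pow_pos (Fact.out (p := p.Prime)).pos k)]
        exact ((Fact.out (p := p.Prime)).coprime_iff_not_dvd.2 hr).symm
      refine centralizer_le_normalizer _ ?_
      rw [mem_centralizer_iff]
      intro d hd
      obtain ⟨j, hj⟩ := IsPGroup.iff_orderOf.1 P.isPGroup' ⟨d, hT'P hd⟩
      rw [orderOf_mk] at hj
      exact OddLocal.commute_of_mem_nilpotent hnil (le_normalizer (hT'P hd)) (pow_mem hm _)
        (by rw [hj]; exact ho.symm.pow_left j)
    · -- `p`-part
      rw [mul_comm, zpow_mul, zpow_natCast]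
      refine zpow_mem (hPT ?_) _
      have hr0 : r ≠ 0 := fun h => hr (by rw [h]; exact dvd_zero p)
      have hpp : IsPGroup p (zpowers (m ^ r)) := IsPGroup.of_card (n := k) (by
        rw [Nat.card_zpowers, orderOf_pow_of_dvd hr0 ⟨p ^ k, by rw [hkr, mul_comm]⟩,
          hkr, Nat.mul_div_cancel _ (Nat.pos_of_ne_zero hr0)])
      have hle : zpowers (m ^ r) ≤ normalizer ((P : Subgroup G) : Set G) := zpowers_le.2 (pow_mem hm r)
      obtain ⟨P', hP'⟩ := (hpp.to_sup_of_normal_right' P.isPGroup' hle).exists_le_sylow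
      have : P' = P := Sylow.ext (P.is_maximal' P'.isPGroup' (le_sup_right.trans hP'))
      exact this ▸ le_sup_left.trans hP' (mem_zpowers _)
  have hNT : normalizer (T' : Set G) = M := by
    rcases eq_or_lt_of_le hMT with h | h
    · exact h.symm
    · exact absurd (hO T' (normalizer_eq_top_iff.1 (hmax.2 _ h)) hT'p) hT'ne
  -- Frattini argument
  have hfr : normalizer (((T : Subgroup _).map (C.subgroupOf H).subtype : Subgroup H) : Set H) ⊔
      C.subgroupOf H = ⊤ := T.normalizer_sup_eq_top
  haveI : (C.subgroupOf H).Normal := hCn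
  have hq : IsPGroup p (H ⧸ C.subgroupOf H) := by
    intro y
    obtain ⟨h, rfl⟩ := QuotientGroup.mk_surjective y
    have hmem : h ∈ normalizer (((T : Subgroup _).map (C.subgroupOf H).subtype : Subgroup H) : Set H) ⊔
      C.subgroupOf H := hfr ▸ mem_top h
    rw [← SetLike.mem_coe, mul_normal] at hmem
    obtain ⟨m, hm, c, hc, rfl⟩ := hmem
    have hmM : (m : G) ∈ M := by
      rw [← hNT, hT', mem_normalizer_iff_map_conj_eq, map_map]
      have h := congrArg (Subgroup.map H.subtype) (mem_normalizer_iff_map_conj_eq.1 hm)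
      rw [map_map] at h
      exact h
    refine ⟨(orderOf (m : G)).factorization p, ?_⟩
    rw [QuotientGroup.mk_mul, (QuotientGroup.eq_one_iff c).2 hc, mul_one, ← QuotientGroup.mk_pow,
      QuotientGroup.eq_one_iff, mem_subgroupOf, SubmonoidClass.coe_pow, hC, mem_centralizer_iff]
    intro d hd
    obtain ⟨j, hj⟩ := IsPGroup.iff_orderOf.1 hD ⟨d, hd⟩
    rw [orderOf_mk] at hj
    refine OddLocal.commute_of_mem_nilpotent hnil (le_normalizer (hDP hd)) (pow_mem hmM _) ?_
    rw [hj, orderOf_pow' (m : G) (pow_ne_zero _ (Fact.out (p := p.Prime)).ne_zero),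
      Nat.gcd_eq_right (Nat.ordProj_dvd _ p)]
    exact ((Nat.coprime_ordCompl Fact.out (orderOf_pos (m : G)).ne')).pow_left j
  obtain ⟨k, hk⟩ := IsPGroup.iff_card.1 hq
  have h1 : orderOf ((⟨g, hg⟩ : H) : H ⧸ C.subgroupOf H) ∣ orderOf g := by
    rw [← orderOf_mk g hg]
    exact orderOf_map_dvd (QuotientGroup.mk' _) _
  have h2 : orderOf ((⟨g, hg⟩ : H) : H ⧸ C.subgroupOf H) ∣ p ^ k := hk ▸ orderOf_dvd_natCard _
  have h3 := Nat.eq_one_of_dvd_coprimes (hgp.pow_right k) h1 h2
  exact (QuotientGroup.eq_one_iff (⟨g, hg⟩ : H)).1 (orderOf_eq_one_iff.1 h3)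

end CfsgLib.Comp

namespace CfsgLib.Comp

open Subgroup

/-- The case of class at most two, for every prime. -/
theorem complement_of_class_two_maximal {G : Type*} [Group G] [Finite G] {M : Subgroup G}
    (hmax : IsCoatom M) (hnil : Group.IsNilpotent M) (hcore : M.normalCore = ⊥)
    (hcl : ∀ x ∈ M, ∀ y ∈ M, ∀ z ∈ M, z * (x * y * x⁻¹ * y⁻¹) = x * y * x⁻¹ * y⁻¹ * z)
    {p : ℕ} [Fact p.Prime] (hpM : p ∣ Nat.card M) : Cfsg.HasNormalPComplement p G := by
  obtain ⟨P₀, hPM, -, hN₀⟩ := exists_sylow_of_nilpotent_maximal hmax hnil hcore hpM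
  have key : ∀ P : Sylow p G, ∃ a : G, (P : Subgroup G) ≤ M.map (MulAut.conj a).toMonoidHom ∧
      normalizer ((P : Subgroup G) : Set G) = M.map (MulAut.conj a).toMonoidHom := by
    intro P
    obtain ⟨a, rfl⟩ := MulAction.exists_smul_eq G P₀ P
    have e : ((a • P₀ : Sylow p G) : Subgroup G) =
        (P₀ : Subgroup G).map (MulAut.conj a).toMonoidHom := rfl
    refine ⟨a, e ▸ map_mono hPM, ?_⟩
    rw [e, ← map_equiv_normalizer_eq, hN₀]
  refine complement_of_class_two (fun P x hx y hy z hz => ?_) (fun P => ?_) fun X hX hXp => ?_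
  · obtain ⟨a, hle, -⟩ := key P
    obtain ⟨x', hx', rfl⟩ := hle hx
    obtain ⟨y', hy', rfl⟩ := hle hy
    obtain ⟨z', hz', rfl⟩ := hle hz
    simp only [← map_mul, ← map_inv]
    rw [hcl x' hx' y' hy' z' hz']
  · obtain ⟨a, -, e⟩ := key P
    rw [e]
    constructor
    · exact (OrderIso.isCoatom_iff (MulEquiv.mapSubgroup (MulAut.conj a)) M).2 hmax
    · exact OddLocal.isNilpotent_map _ hnil
  · haveI := hX
    have h1 : X ≤ M := (Solvable.normal_pgroup_le_sylow hXp P₀).trans hPM
    exact le_bot_iff.1 ((normal_le_normalCore.2 h1).trans hcore.le)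

end CfsgLib.Comp
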