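import Cfsg.Agent.Lib.Comp.Local
import Cfsg.Agent.Lib.Transfer.Frobenius

/-!
Elements of order prime to `p` centralizing a `p`-subgroup and small modulo it normalize every
component of a group with trivial `p'`-core (Aschbacher 31.14).
-/

set_option autoImplicit false
set_option linter.style.haveILetI false
set_option linter.unusedSectionVars false

namespace CfsgLib.Comp

open Subgroup
open scoped commutatorElement

variable {G : Type*} [Group G] [Finite G] {p : ℕ} [hp : Fact p.Prime]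

theorem not_sylow_le_centralizer_component (hO : Cfsg.pPrimeCore p G = ⊥) {L : Subgroup G}
    (hL : Cfsg.IsComponent L) (P : Sylow p L)
    (h : (P : Subgroup L).map L.subtype ≤ centralizer (L : Set G)) : False := by
  have hc : (P : Subgroup L) ≤ center L := fun x hx => mem_center_iff.2 fun y =>
    Subtype.ext (mem_centralizer_iff.1 (h (mem_map_of_mem _ hx)) y y.2)
  exact P.not_dvd_index ((dvd_index_center_of_isComponent hO hL).trans (index_dvd_of_le hc))

/-- An element normalizing a component and acting trivially modulo its centralizer centralizes it. -/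
theorem mem_centralizer_component {L : Subgroup G} (hL : Cfsg.IsQuasisimple L) {u : G}
    (hu : u ∈ normalizer (L : Set G)) (h : ∀ l ∈ L, ⁅u, l⁆ ∈ centralizer (L : Set G)) :
    u ∈ centralizer (L : Set G) := by
  haveI := hL.1
  let α : ↥L ≃* ↥L := (L.equivMapOfInjective _ (MulAut.conj u).injective).trans
    (MulEquiv.subgroupCongr (map_conj_eq_iff.2 hu))
  have hα : ∀ b : ↥L, α b * b⁻¹ ∈ center ↥L := fun b => mem_center_iff.2 fun y =>
    Subtype.ext (mem_centralizer_iff.1 (h b b.2) y y.2)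
  rw [mem_centralizer_iff]
  intro l hl
  have h1 : u * l * u⁻¹ = l := congrArg Subtype.val (mulEquiv_eq_of_perfect α hα ⟨l, hl⟩)
  calc l * u = u * l * u⁻¹ * u := by rw [h1]
    _ = u * l := by group

/-- The orbit of a component under a subgroup. -/
def orbitJoin (P L : Subgroup G) : Subgroup G :=
  ⨆ x : P, L.map (MulAut.conj (x : G)).toMonoidHom

theorem le_normalizer_orbitJoin (P L : Subgroup G) :
    P ≤ normalizer ((orbitJoin P L : Subgroup G) : Set G) := by
  rw [orbitJoin, ← sSup_range]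
  refine le_normalizer_sSup _ ?_
  rintro m hm _ ⟨x, rfl⟩
  exact ⟨⟨m, hm⟩ * x, by simp only [Subgroup.coe_mul]; rw [map_conj_mul]⟩

theorem orbitJoin_le_layer {P L : Subgroup G} (hL : Cfsg.IsComponent L) :
    orbitJoin P L ≤ Cfsg.layer G :=
  iSup_le fun _ => le_layer (isComponent_map_conj hL _)

theorem orbitJoin_le_centralizer {P L K : Subgroup G} (hL : Cfsg.IsComponent L)
    (hK : Cfsg.IsComponent K) (h : ∀ x ∈ P, L.map (MulAut.conj x).toMonoidHom ≠ K) :
    orbitJoin P L ≤ centralizer (K : Set G) :=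
  iSup_le fun x => (component_eq_or_le_centralizer (isComponent_map_conj hL _) hK).resolve_left (h x x.2)

/-- A nontrivial `p`-element of the product of an orbit fixed by `P` modulo `O_p(G)`. -/
theorem exists_fixed_mod_pCore (hO : Cfsg.pPrimeCore p G = ⊥) {P : Subgroup G} (hP : IsPGroup p P)
    {L : Subgroup G} (hL : Cfsg.IsComponent L) :
    ∃ y ∈ orbitJoin P L, IsPGroup p (zpowers y) ∧
      (∀ x ∈ P, ⁅x, y⁆ ∈ Cfsg.pCore p G) ∧
      ∃ x₀ ∈ P, y ∉ centralizer ((L.map (MulAut.conj x₀).toMonoidHom : Subgroup G) : Set G) := by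
  set M := orbitJoin P L
  set K := M ⊔ P
  have hPK : P ≤ K := le_sup_right
  have hMK : M ≤ K := le_sup_left
  have hKM : K ≤ normalizer (M : Set G) := sup_le le_normalizer (le_normalizer_orbitJoin P L)
  obtain ⟨S, hS⟩ := (hP.comap_subtype (K := K)).exists_le_sylow
  set Sg := (S : Subgroup K).map K.subtype
  have hSK : Sg ≤ K := map_subtype_le _
  haveI : (M.subgroupOf K).Normal := normal_subgroupOf_of_le_normalizer hKM
  obtain ⟨T₀, hT₀⟩ := CfsgLib.Transfer.exists_sylow_eq_subgroupOf S (M.subgroupOf K)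
  set T := Sg ⊓ M
  -- `T` is not central in `M`
  have hTM : ¬ T ≤ centralizer (M : Set G) := by
    intro hT
    let eM := subgroupOfEquivOfLe hMK
    let T₁ : Sylow p M := T₀.mapSurjective (f := eM.toMonoidHom) eM.surjective
    have hLM : L ≤ M := le_iSup_of_le 1 (by rw [OneMemClass.coe_one, map_conj_one])
    haveI : (L.subgroupOf M).Normal :=
      normal_subgroupOf_of_le_normalizer ((orbitJoin_le_layer hL).trans (layer_le_normalizer_component hL))
    obtain ⟨T₂, hT₂⟩ := CfsgLib.Transfer.exists_sylow_eq_subgroupOf T₁ (L.subgroupOf M)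
    let eL := subgroupOfEquivOfLe hLM
    refine not_sylow_le_centralizer_component hO hL
      (T₂.mapSurjective (f := eL.toMonoidHom) eL.surjective) ?_
    rintro _ ⟨l, ⟨a, ha, rfl⟩, rfl⟩
    have h1 : (a : M) ∈ (T₁ : Subgroup M) := by
      rw [hT₂] at ha; exact ha
    obtain ⟨b, hb, hba⟩ := h1
    have h2 : (b : K) ∈ (S : Subgroup K) := by
      rw [hT₀] at hb; exact hb
    have h3 : ((a : M) : G) ∈ T :=
      ⟨⟨(b : K), h2, congrArg (fun z : M => (z : G)) hba⟩, (a : M).2⟩
    exact centralizer_le hLM (hT h3)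
  -- descend along commutators with the `p`-group `Sg`
  have hSgp : IsPGroup p Sg := S.isPGroup'.map _
  haveI : Group.IsNilpotent Sg := hSgp.isNilpotent
  let Tn : ℕ → Subgroup G := fun n => Nat.rec T (fun _ X => ⁅X, Sg⁆) n
  have hTlow : ∀ n, Tn n ≤ Sg.lowerCentralSeries n := by
    intro n
    induction n with
    | zero => exact inf_le_left
    | succ n ih => exact commutator_mono ih le_rfl
  have hTle : ∀ n, Tn n ≤ T := by
    intro n
    induction n with
    | zero => exact le_rfl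
    | succ n ih =>
      refine (commutator_mono ih le_rfl).trans (commutator_le_of_le_normalizer ?_)
      exact le_normalizer_inf le_normalizer (hSK.trans hKM)
  have hex : ∃ n, Tn n ≤ centralizer (M : Set G) := by
    obtain ⟨n, hn⟩ := (isNilpotent_iff_lowerCentralSeries Sg).1 ‹_›
    exact ⟨n, (hTlow n).trans (hn.le.trans bot_le)⟩
  classical
  obtain ⟨n, hn⟩ : ∃ n, ¬ Tn n ≤ centralizer (M : Set G) ∧ Tn (n + 1) ≤ centralizer (M : Set G) := by
    have h0 : Nat.find hex ≠ 0 := fun e => by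
      have h1 := Nat.find_spec hex
      rw [e] at h1
      exact hTM h1
    obtain ⟨n, hn⟩ := Nat.exists_eq_succ_of_ne_zero h0
    refine ⟨n, Nat.find_min hex (by omega), ?_⟩
    have h1 := Nat.find_spec hex
    rwa [hn] at h1
  obtain ⟨y, hy, hyC⟩ := SetLike.not_le_iff_exists.1 hn.1
  have hyT : y ∈ T := hTle n hy
  refine ⟨y, hyT.2, hSgp.to_le (zpowers_le.2 hyT.1), fun x hx => ?_, ?_⟩
  · have hxS : x ∈ Sg := ⟨⟨x, hPK hx⟩, hS hx, rfl⟩
    have h1 : ⁅y, x⁆ ∈ Tn (n + 1) := commutator_mem_commutator hy hxS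
    have h2 : ⁅y, x⁆⁻¹ ∈ M ⊓ centralizer (M : Set G) := inv_mem ⟨(hTle (n + 1) h1).2, hn.2 h1⟩
    rw [commutatorElement_inv] at h2
    refine SetLike.le_def.1 ?_ h2
    have hsub : M.IsSubnormal := isSubnormal_of_le_normalizer (orbitJoin_le_layer hL)
      (layer_normal G).isSubnormal (by
        change Cfsg.layer G ≤ normalizer ((orbitJoin P L : Subgroup G) : Set G)
        exact le_normalizer_iSup _ fun x => layer_le_normalizer_component (isComponent_map_conj hL _))
    rw [← fittingSubgroup_eq_pCore_of_core hO]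
    refine le_fittingSubgroup_of_abelian (isSubnormal_of_le_normalizer inf_le_left hsub
      (le_normalizer_inf le_normalizer (le_normalizer_centralizer le_normalizer))) ?_
    exact inf_le_right.trans (centralizer_le inf_le_left)
  · by_contra hall
    push Not at hall
    refine hyC ?_
    have : zpowers y ≤ centralizer (M : Set G) := by
      rw [le_centralizer_iff]
      exact iSup_le fun x => le_centralizer_iff.1 (zpowers_le.2 (hall x x.2))
    exact this (mem_zpowers y)

theorem commute_conj_pow {g x : G} (h : Commute g x) {L : Subgroup G}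
    (e : L.map (MulAut.conj g).toMonoidHom = L.map (MulAut.conj x).toMonoidHom) (n : ℕ) :
    L.map (MulAut.conj (g ^ n)).toMonoidHom = L.map (MulAut.conj (x ^ n)).toMonoidHom := by
  induction n with
  | zero => simp
  | succ n ih =>
    rw [pow_succ', map_conj_mul, ih, ← map_conj_mul, (h.pow_right n).eq, map_conj_mul, e,
      ← map_conj_mul, ← pow_succ]

/-- An element of order prime to `p` commuting with `P` fixes a component whose orbit it fixes. -/
theorem mem_normalizer_of_map_eq {P L : Subgroup G} (hP : IsPGroup p P) {g x : G} (hx : x ∈ P)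
    (hg : g ∈ centralizer (P : Set G)) (hgo : (orderOf g).Coprime p)
    (e : L.map (MulAut.conj g).toMonoidHom = L.map (MulAut.conj x).toMonoidHom) :
    g ∈ normalizer (L : Set G) := by
  have hc : Commute g x := (mem_centralizer_iff.1 hg x hx).symm
  have h1 := commute_conj_pow hc e (orderOf g)
  rw [pow_orderOf_eq_one, map_conj_one] at h1
  have hm : x ^ orderOf g ∈ normalizer (L : Set G) := map_conj_eq_iff.1 h1.symm
  obtain ⟨k, hk⟩ := hP ⟨x, hx⟩
  have hk' : x ^ p ^ k = 1 := by simpa using congrArg Subtype.val hk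
  obtain ⟨a, b, hab⟩ : IsCoprime (orderOf g : ℤ) ((p ^ k : ℕ) : ℤ) :=
    Nat.isCoprime_iff_coprime.2 (hgo.pow_right k)
  have hxN : x ∈ normalizer (L : Set G) := by
    have : x = (x ^ (orderOf g : ℤ)) ^ a * (x ^ ((p ^ k : ℕ) : ℤ)) ^ b := by
      rw [← zpow_mul, ← zpow_mul, ← zpow_add, mul_comm (orderOf g : ℤ), mul_comm ((p ^ k : ℕ) : ℤ),
        hab, zpow_one]
    rw [this, zpow_natCast x (p ^ k), hk', one_zpow, mul_one]
    exact zpow_mem (by rw [zpow_natCast]; exact hm) a
  rw [← map_conj_eq_iff, e, map_conj_eq_iff]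
  exact hxN

theorem map_conj_eq_inv {K : Subgroup G} {g x : G} (h : Commute g x)
    (e : K.map (MulAut.conj x).toMonoidHom = K.map (MulAut.conj g⁻¹).toMonoidHom) :
    K.map (MulAut.conj g).toMonoidHom = K.map (MulAut.conj x⁻¹).toMonoidHom := by
  have h2 : g = x⁻¹ * (g * x) := by rw [h.eq]; group
  conv_lhs => rw [h2]
  rw [map_conj_mul, map_conj_mul, e, ← map_conj_mul _ g, mul_inv_cancel, map_conj_one]

theorem eq_one_mod_of_pElement {E C : Subgroup G} (hn : E ≤ normalizer (C : Set G)) {c u : G}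
    (hc : c ∈ E) (hu : u ∈ E) (hcu : c⁻¹ * u ∈ C) (hco : (orderOf c).Coprime p)
    (hup : IsPGroup p (zpowers u)) : u ∈ C := by
  haveI : (C.subgroupOf E).Normal := normal_subgroupOf_of_le_normalizer hn
  set ψ := QuotientGroup.mk' (C.subgroupOf E)
  have he : ψ ⟨c, hc⟩ = ψ ⟨u, hu⟩ := by
    rw [QuotientGroup.mk'_apply, QuotientGroup.mk'_apply, QuotientGroup.eq, mem_subgroupOf]
    exact hcu
  obtain ⟨k, hk⟩ := hup ⟨u, mem_zpowers u⟩
  have h1 : orderOf (ψ ⟨u, hu⟩) ∣ p ^ k := (orderOf_map_dvd ψ _).trans <|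
    orderOf_dvd_of_pow_eq_one (Subtype.ext (by simpa using congrArg Subtype.val hk))
  have h2 : orderOf (ψ ⟨u, hu⟩) ∣ orderOf c := by
    rw [← he]
    refine (orderOf_map_dvd ψ _).trans ?_
    rw [← orderOf_coe]
  have h3 := orderOf_eq_one_iff.1
    (Nat.eq_one_of_dvd_coprimes ((hco.pow_right k).symm) h1 h2)
  rwa [QuotientGroup.mk'_apply, QuotientGroup.eq_one_iff, mem_subgroupOf] at h3

/-- The normalization criterion. -/
theorem mem_normalizer_component (hO : Cfsg.pPrimeCore p G = ⊥) {P : Subgroup G} (hP : IsPGroup p P)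
    {g : G} (hgP : g ∈ centralizer (P : Set G)) (hgR : g ∈ centralizer (Cfsg.pCore p G : Set G))
    (hgo : (orderOf g).Coprime p)
    (hg : ∀ s ∈ Cfsg.layer G, s ∈ centralizer (P : Set G) → (orderOf ⁅g, s⁆).Coprime p)
    {L : Subgroup G} (hL : Cfsg.IsComponent L) : g ∈ normalizer (L : Set G) := by
  haveI := layer_normal G
  set M := orbitJoin P L
  obtain ⟨y, hyM, hyp, hyfix, x₀, hx₀, hyx⟩ := exists_fixed_mod_pCore hO hP hL
  set L₁ := L.map (MulAut.conj x₀).toMonoidHom
  have hL₁ : Cfsg.IsComponent L₁ := isComponent_map_conj hL x₀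
  have hgx : Commute g x₀ := (mem_centralizer_iff.1 hgP x₀ hx₀).symm
  -- it suffices to fix `L₁`
  suffices h1 : g ∈ normalizer (L₁ : Set G) by
    rw [← map_conj_eq_iff]
    apply map_conj_injective x₀
    change (L.map (MulAut.conj g).toMonoidHom).map (MulAut.conj x₀).toMonoidHom = L₁
    rw [← map_conj_mul, ← hgx.eq, map_conj_mul]
    exact map_conj_eq_iff.2 h1
  by_cases hA : ∃ x ∈ P, L₁.map (MulAut.conj g).toMonoidHom = L₁.map (MulAut.conj x).toMonoidHom
  · obtain ⟨x, hx, e⟩ := hA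
    exact mem_normalizer_of_map_eq hP hx hgP hgo e
  push Not at hA
  exfalso
  have horb : ∀ (K : Subgroup G), (∀ x ∈ P, L₁.map (MulAut.conj x).toMonoidHom ≠ K) →
      Cfsg.IsComponent K → y ∈ centralizer (K : Set G) := by
    intro K h hK
    refine orbitJoin_le_centralizer hL hK (fun x hx e => h (x * x₀⁻¹) (mul_mem hx (inv_mem hx₀)) ?_) hyM
    rw [← map_conj_mul, inv_mul_cancel_right]
    exact e
  have hyE : y ∈ Cfsg.layer G := orbitJoin_le_layer hL hyM
  have hconjE : ∀ (h z : G), z ∈ Cfsg.layer G → h * z * h⁻¹ ∈ Cfsg.layer G :=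
    fun h z hz => (layer_normal G).conj_mem z hz h
  have hmove : ∀ (h z : G) (K : Subgroup G),
      h⁻¹ * z * h ∈ centralizer (K : Set G) →
      z ∈ centralizer ((K.map (MulAut.conj h).toMonoidHom : Subgroup G) : Set G) := by
    intro h z K hz
    rw [← map_centralizer_conj']
    exact mem_map_conj.2 hz
  set s := y⁻¹ * (g * y * g⁻¹) with hs
  have hsE : s ∈ Cfsg.layer G := mul_mem (inv_mem hyE) (hconjE g y hyE)
  have hsP : s ∈ centralizer (P : Set G) := by
    rw [mem_centralizer_iff]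
    intro x hx
    have hz := hyfix x hx
    have hgz := mem_centralizer_iff.1 hgR _ hz
    have hxg := mem_centralizer_iff.1 hgP x hx
    have hxy : x * y = ⁅x, y⁆ * y * x := by rw [commutatorElement_def]; group
    have hxy' : x * y⁻¹ = y⁻¹ * ⁅x, y⁆⁻¹ * x := by rw [commutatorElement_def]; group
    calc x * s = (x * y⁻¹) * (g * y * g⁻¹) := by rw [hs]; group
      _ = y⁻¹ * ⁅x, y⁆⁻¹ * ((x * g) * y * g⁻¹) := by rw [hxy']; group
      _ = y⁻¹ * ⁅x, y⁆⁻¹ * (g * (x * y) * g⁻¹) := by rw [hxg]; group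
      _ = y⁻¹ * ⁅x, y⁆⁻¹ * ((g * ⁅x, y⁆) * y * (x * g⁻¹)) := by rw [hxy]; group
      _ = y⁻¹ * ⁅x, y⁆⁻¹ * ((⁅x, y⁆ * g) * y * (g⁻¹ * x)) := by
          rw [hgz, mem_centralizer_iff.1 (inv_mem hgP) x hx]
      _ = s * x := by rw [hs]; group
  have hco := hg s hsE hsP
  set u := g * y * g⁻¹ with hu
  set w := g * u * g⁻¹ with hw
  have huE : u ∈ Cfsg.layer G := hconjE g y hyE
  have hwE : w ∈ Cfsg.layer G := hconjE g u huE
  have hc : ⁅g, s⁆ = u⁻¹ * w * u⁻¹ * y := by
    rw [commutatorElement_def, hs, hw, hu]; group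
  have hcE : ⁅g, s⁆ ∈ Cfsg.layer G := by
    rw [hc]; exact mul_mem (mul_mem (mul_mem (inv_mem huE) hwE) (inv_mem huE)) hyE
  have hEn : ∀ {K : Subgroup G}, Cfsg.IsComponent K →
      Cfsg.layer G ≤ normalizer ((centralizer (K : Set G) : Subgroup G) : Set G) := fun hK =>
    le_normalizer_centralizer (layer_le_normalizer_component hK)
  by_cases hA2 : ∃ x ∈ P, L₁.map (MulAut.conj (g * g)).toMonoidHom = L₁.map (MulAut.conj x).toMonoidHom
  · obtain ⟨x, hx, e⟩ := hA2
    have hgg : (orderOf (g * g)).Coprime p := by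
      refine Nat.Coprime.coprime_dvd_left ?_ hgo
      rw [← sq]; exact orderOf_pow_dvd 2
    have hg2 := mem_normalizer_of_map_eq hP hx (mul_mem hgP hgP) hgg e
    by_cases hp2 : p = 2
    · subst hp2
      obtain ⟨m, hm⟩ := Nat.coprime_two_right.1 hgo
      refine hA 1 (one_mem P) ?_
      rw [map_conj_one, map_conj_eq_iff]
      have : g = ((g * g) ^ m)⁻¹ := by
        rw [eq_inv_iff_mul_eq_one, ← sq, ← pow_mul, ← pow_succ', ← hm, pow_orderOf_eq_one]
      rw [this]; exact inv_mem (pow_mem hg2 m)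
    · set L₁' := L₁.map (MulAut.conj g).toMonoidHom with hL₁'
      have hK : Cfsg.IsComponent L₁' := isComponent_map_conj hL₁ g
      have hy1 : y ∈ centralizer (L₁' : Set G) := horb L₁' (fun x hx e => hA x hx e.symm) hK
      have hw1 : w ∈ centralizer (L₁' : Set G) := by
        refine hmove g w L₁ ?_
        have : g⁻¹ * w * g = u := by rw [hw]; group
        rw [this]
        have h2 : u = g * y * g⁻¹ := hu
        have hL1g : L₁ = (L₁.map (MulAut.conj g⁻¹).toMonoidHom).map (MulAut.conj g).toMonoidHom := by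
          rw [← map_conj_mul, mul_inv_cancel, map_conj_one]
        rw [hL1g]
        refine hmove g u _ ?_
        rw [h2, show g⁻¹ * (g * y * g⁻¹) * g = y by group]
        refine horb _ (fun x hx e' => hA x⁻¹ (inv_mem hx)
        (map_conj_eq_inv ((mem_centralizer_iff.1 hgP x hx).symm) e')) (isComponent_map_conj hL₁ _)
      have hu1 : u ∉ centralizer (L₁' : Set G) := by
        rw [hL₁', ← map_centralizer_conj', mem_map_conj, hu, show g⁻¹ * (g * y * g⁻¹) * g = y by group]
        exact hyx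
      have hu2 : u ^ 2 ∈ centralizer (L₁' : Set G) := by
        refine eq_one_mod_of_pElement (p := p) (c := ⁅g, s⁆⁻¹) (hEn hK) (inv_mem hcE) (pow_mem huE 2) ?_
          (by rwa [orderOf_inv]) ?_
        · rw [inv_inv, hc]
          -- `u⁻¹ w u⁻¹ y u²` lies in the centralizer
          have h1 : u⁻¹ * w * u⁻¹ * y * u ^ 2 = (u⁻¹ * w * u) * ((u⁻¹ * u⁻¹) * y * (u⁻¹ * u⁻¹)⁻¹) := by
            group
          rw [h1]
          refine mul_mem ?_ ?_
          · have h3 := (mem_normalizer_iff.1 (hEn hK (inv_mem huE)) w).1 hw1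
            simpa using h3
          · exact (mem_normalizer_iff.1 (hEn hK (mul_mem (inv_mem huE) (inv_mem huE))) y).1 hy1
        · refine (hyp.map (MulAut.conj g).toMonoidHom).to_le (zpowers_le.2 (pow_mem ?_ 2))
          exact ⟨y, mem_zpowers y, rfl⟩
      apply hu1
      obtain ⟨k, hk⟩ := (hyp.map (MulAut.conj g).toMonoidHom) ⟨u, ⟨y, mem_zpowers y, rfl⟩⟩
      have hk' : u ^ p ^ k = 1 := congrArg Subtype.val hk
      obtain ⟨a, b, hab⟩ : IsCoprime ((2 : ℕ) : ℤ) ((p ^ k : ℕ) : ℤ) :=
        Nat.isCoprime_iff_coprime.2 (((Nat.coprime_primes Nat.prime_two hp.out).2 (Ne.symm hp2)).pow_right k)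
      have : u = (u ^ ((2 : ℕ) : ℤ)) ^ a * (u ^ ((p ^ k : ℕ) : ℤ)) ^ b := by
        rw [← zpow_mul, ← zpow_mul, ← zpow_add, mul_comm ((2 : ℕ) : ℤ), mul_comm ((p ^ k : ℕ) : ℤ),
          hab, zpow_one]
      rw [this, zpow_natCast u (p ^ k), hk', one_zpow, mul_one, zpow_natCast]
      exact zpow_mem hu2 a
  · push Not at hA2
    have hu1 : u ∈ centralizer (L₁ : Set G) := by
      have hL1g : L₁ = (L₁.map (MulAut.conj g⁻¹).toMonoidHom).map (MulAut.conj g).toMonoidHom := by
        rw [← map_conj_mul, mul_inv_cancel, map_conj_one]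
      rw [hL1g]
      refine hmove g u _ ?_
      rw [hu, show g⁻¹ * (g * y * g⁻¹) * g = y by group]
      refine horb _ (fun x hx e' => hA x⁻¹ (inv_mem hx)
      (map_conj_eq_inv ((mem_centralizer_iff.1 hgP x hx).symm) e')) (isComponent_map_conj hL₁ _)
    have hw1 : w ∈ centralizer (L₁ : Set G) := by
      have hL1g : L₁ = (L₁.map (MulAut.conj (g * g)⁻¹).toMonoidHom).map (MulAut.conj (g * g)).toMonoidHom := by
        rw [← map_conj_mul, mul_inv_cancel, map_conj_one]
      rw [hL1g]
      refine hmove (g * g) w _ ?_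
      rw [hw, hu, show (g * g)⁻¹ * (g * (g * y * g⁻¹) * g⁻¹) * (g * g) = y by group]
      refine horb _ (fun x hx e' => hA2 x⁻¹ (inv_mem hx)
      (map_conj_eq_inv ((mem_centralizer_iff.1 (mul_mem hgP hgP) x hx).symm) e')) (isComponent_map_conj hL₁ _)
    refine hyx (eq_one_mod_of_pElement (p := p) (c := ⁅g, s⁆) (hEn hL₁) hcE hyE ?_ hco hyp)
    rw [hc, show (u⁻¹ * w * u⁻¹ * y)⁻¹ * y = (y⁻¹ * (u * w⁻¹ * u) * y) by group]
    have := (mem_normalizer_iff.1 (hEn hL₁ (inv_mem hyE)) _).1 (mul_mem (mul_mem hu1 (inv_mem hw1)) hu1)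
    simpa using this
where
  map_centralizer_conj' {K : Subgroup G} {h : G} :
      (centralizer (K : Set G)).map (MulAut.conj h).toMonoidHom =
        centralizer ((K.map (MulAut.conj h).toMonoidHom : Subgroup G) : Set G) := by
    ext z
    rw [mem_map_conj, mem_centralizer_iff, mem_centralizer_iff]
    constructor
    · rintro e _ ⟨t, ht, rfl⟩
      change h * t * h⁻¹ * z = z * (h * t * h⁻¹)
      calc h * t * h⁻¹ * z = h * (t * (h⁻¹ * z * h)) * h⁻¹ := by group
        _ = h * ((h⁻¹ * z * h) * t) * h⁻¹ := by rw [e t ht]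
        _ = _ := by group
    · intro e t ht
      have h1 : h * t * h⁻¹ * z = z * (h * t * h⁻¹) := e (h * t * h⁻¹) ⟨t, ht, rfl⟩
      calc t * (h⁻¹ * z * h) = h⁻¹ * (h * t * h⁻¹ * z) * h := by group
        _ = h⁻¹ * (z * (h * t * h⁻¹)) * h := by rw [h1]
        _ = _ := by group

end CfsgLib.Comp
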