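import Cfsg.Agent.Lib.Fusion.LocalSaturationClass

/-!
Maps on normalizers inside one class of a system that is saturated at the larger subgroups
containing members of the class.
-/

set_option autoImplicit false
set_option linter.unusedVariables false
set_option linter.unusedSectionVars false
set_option linter.style.haveILetI false

namespace CfsgLib.Comp.NMap

open Cfsg Cfsg.FusionSystem Subgroup CfsgLib.Fusion

variable {Ω : Type*} [Group Ω] {S : Subgroup Ω} {F : FusionSystem S} {p : ℕ}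
  {P : Subgroup Ω} {f g : Ω → Ω}

variable {k : ℕ} {x y z : Subgroup Ω}

section Widen

variable [Fact p.Prime] [Finite S] (hS : IsPGroup p S) {n : ℕ} {C : Subgroup Ω → Prop}
  (hbig : ∀ R ≤ S, n < Nat.card R → (∃ x, C x ∧ x ≤ R) → LocSat F p R)

include hS hbig

/-- A step that is full at neither end is replaced by wider ones. -/
theorem widen (h : WStep F k x y) (hC : C x) (hk : n < k) (hx : k < Nat.card (normalizerIn S x))
    (hy : k < Nat.card (normalizerIn S y)) : WConn F (k + 1) x y := by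
  obtain ⟨R, g, hg, hxR, hR, hkR, rfl⟩ := h
  rcases lt_or_ge k (Nat.card R) with hlt | hge
  · exact Relation.EqvGen.rel _ _ ⟨R, g, hg, hxR, hR, hlt, rfl⟩
  obtain ⟨R₀, hRR₀, ha, hr⟩ := hbig R (hR.trans inf_le_left) (by omega) ⟨x, hC, hxR⟩
  obtain ⟨f, hf, hfi⟩ := isConj_iff.1 hRR₀
  obtain ⟨τ, hτ, hτi, hτN, -⟩ := exists_map_normalizerIn hS ha hr hf hfi
  obtain ⟨f', hf', hf'i⟩ := isConj_iff.1 (isConj_trans (isConj_symm hg.isConj) hRR₀)
  obtain ⟨τ', hτ', hτ'i, hτ'N, -⟩ := exists_map_normalizerIn hS ha hr hf' hf'i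
  -- widen at the two ends
  have key : ∀ (R x : Subgroup Ω) (τ : Ω → Ω), x ≤ R → R ≤ normalizerIn S x →
      Nat.card R = k → k < Nat.card (normalizerIn S x) → IsMap F (normalizerIn S R) τ →
      img R τ = R₀ → (∀ a ∈ normalizerIn S R, τ a ∈ normalizerIn S R₀) →
      ∃ L : Subgroup Ω, k < Nat.card L ∧ R₀ ≤ L ∧ L ≤ normalizerIn S R₀ ∧
        L ≤ normalizerIn S (img x τ) ∧ WStep F (k + 1) x (img x τ) := by
    intro R x τ hxR hR hRk hxk hτ hτi hτN
    haveI := finite_normalizerIn (S := S) (P := x)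
    have hlt : R < normalizerIn S x := lt_of_le_of_ne hR fun e => by rw [e] at hRk; omega
    have h1 : R < normalizerIn (normalizerIn S x) R :=
      lt_normalizerIn (hS.to_le inf_le_left) hlt
    have h2 : normalizerIn (normalizerIn S x) R ≤ normalizerIn S R :=
      inf_le_inf_right _ inf_le_left
    have h3 : normalizerIn (normalizerIn S x) R ≤ normalizerIn S x := inf_le_left
    have hm := hτ.mono h2
    haveI : Finite (normalizerIn (normalizerIn S x) R) := finite_normalizerIn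
    have h4 : k < Nat.card (normalizerIn (normalizerIn S x) R) := by
      by_contra hge
      exact h1.ne (eq_of_le_of_card_le h1.le (by omega))
    refine ⟨img (normalizerIn (normalizerIn S x) R) τ, by rw [hm.card_img]; exact h4,
      hτi ▸ img_mono h1.le, fun z hz => ?_, img_le_normalizerIn hm (hxR.trans h1.le) h3,
      ⟨_, τ, hm, hxR.trans h1.le, h3, h4, rfl⟩⟩
    obtain ⟨a, ha, rfl⟩ := hm.mem_img.1 hz
    exact hτN a (h2 ha)
  obtain ⟨L, hLk, hR₀L, hLR, hLx, hstep⟩ := key R x τ hxR hR (by omega) hx hτ hτi hτN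
  obtain ⟨L', hL'k, hR₀L', hL'R, hL'x, hstep'⟩ := key (img R g) (img x g) τ' (img_mono hxR)
    (img_le_normalizerIn hg hxR hR) (by rw [hg.card_img]; omega) hy hτ' hτ'i hτ'N
  -- the automorphism between them
  have hRN : R ≤ normalizerIn S R := le_normalizerIn hg.le
  have hR'N : img R g ≤ normalizerIn S (img R g) := le_normalizerIn hg.img_le
  obtain ⟨ti, hti, htix, htiy, -⟩ := (hτ.mono hRN).exists_inv
  have hm1 := hti.comp hg fun a ha => (htiy a ha).1
  have hm2 := hm1.comp hτ' fun a ha => hR'N (hg.apply_mem_img (htiy a ha).1)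
  rw [hτi] at hm2
  have hm2i : img R₀ (fun a => τ' (g (ti a))) = R₀ := by
    haveI := finite_of_le ha.1
    refine eq_of_le_of_card_le (fun b hb => ?_) hm2.card_img.ge
    obtain ⟨a, haR, rfl⟩ := hm2.mem_img.1 hb
    rw [← hτ'i]
    exact (hτ'.mono hR'N).apply_mem_img (hg.apply_mem_img (htiy a (hτi.symm ▸ haR)).1)
  set α := hm2.toAut hm2i with hα
  have hαA : α ∈ F.autGroup R₀ := hm2.toAut_mem hm2i
  have hxτ : img x τ ≤ R₀ := hτi ▸ img_mono hxR
  have hyτ : img (img x g) τ' ≤ R₀ := hτ'i ▸ img_mono (img_mono hxR)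
  have hcα : Carries α (img x τ) (img (img x g) τ') := by
    intro a
    rw [IsMap.toAut_apply, (hτ.mono (hxR.trans hRN)).mem_img,
      (hτ'.mono ((img_mono hxR).trans hR'N)).mem_img]
    have haR : (a : Ω) ∈ img R τ := hτi.symm ▸ a.2
    constructor
    · rintro ⟨u, hu, hua⟩
      exact ⟨g u, (hg.mono hxR).apply_mem_img hu, by rw [← hua, htix u (hxR hu)]⟩
    · rintro ⟨v, hv, hva⟩
      obtain ⟨u, hu, rfl⟩ := (hg.mono hxR).mem_img.1 hv
      refine ⟨u, hu, ?_⟩
      obtain ⟨hti1, hti2⟩ := htiy a haR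
      have h1 := hτ'.inj (hR'N (hg.apply_mem_img (hxR hu))) (hR'N (hg.apply_mem_img hti1)) hva
      rw [hg.inj (hxR hu) hti1 h1, hti2]
  obtain ⟨β, hβ, Y, hY, hcβ, hβc, hsyl⟩ := exists_carries_sylow hS ha hxτ
  set δ := β * α⁻¹ with hδ
  have hcδ : Carries δ (img (img x g) τ') Y := hcα.inv.comp hcβ
  obtain ⟨w, hw, hwc⟩ := hsyl
    ((autInducedBy (normalizerIn S (img (img x g) τ')) R₀).map (MulAut.conj δ).toMonoidHom)
    ((isPGroup_autInducedBy_le hS inf_le_left R₀).map _) (by
      rintro _ ⟨u, hu, rfl⟩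
      have hu' := autInducedBy_normalizerIn_le_stabAut (F := F) ha.1 hu
      exact ⟨mul_mem (mul_mem (mul_mem hβ (inv_mem hαA)) hu'.1) (inv_mem (mul_mem hβ (inv_mem hαA))),
        hcδ.inv.comp (hu'.2.comp hcδ)⟩)
  obtain ⟨gb, hgb, hgbx⟩ := exists_extend hr hβ hR₀L hLR
    fun κ hκ => hβc κ (autInducedBy_mono hLx hκ)
  have hwδ : w * δ ∈ F.autGroup R₀ := mul_mem hw.1 (mul_mem hβ (inv_mem hαA))
  obtain ⟨gw, hgw, hgwx⟩ := exists_extend hr hwδ hR₀L' hL'R fun κ hκ => by
    have := hwc _ ⟨κ, autInducedBy_mono hL'x hκ, rfl⟩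
    rw [mul_inv_rev]
    simp only [MulEquiv.coe_toMonoidHom, MulAut.conj_apply] at this
    simpa only [mul_assoc] using this
  have s2 : WStep F (k + 1) (img x τ) Y := ⟨L, gb, hgb, hxτ.trans hR₀L, hLx, hLk, by
    rw [img_congr fun a ha => hgbx a (hxτ ha)]
    exact hcβ.img_eq ha.1 hβ hxτ hY⟩
  have s3 : WStep F (k + 1) (img (img x g) τ') Y := ⟨L', gw, hgw, hyτ.trans hR₀L', hL'x, hL'k, by
    rw [img_congr fun a ha => hgwx a (hyτ ha)]
    exact (hcδ.comp hw.2).img_eq ha.1 hwδ hyτ hY⟩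
  exact .trans _ _ _ (.rel _ _ hstep) (.trans _ _ _ (.rel _ _ s2)
    (.trans _ _ _ (.rel _ _ s3.symm) (.rel _ _ hstep'.symm)))

end Widen

variable {ℋ : Set (Subgroup Ω)}

/-- The hypotheses at a class outside the generating family. -/
structure ClassSetup (F : FusionSystem S) (p : ℕ) (ℋ : Set (Subgroup Ω)) (P : Subgroup Ω) :
    Prop where
  isPGroup : IsPGroup p S
  gen : ∀ E : FusionSystem S, (∀ R ∈ ℋ, F.Hom R ⊆ E.Hom R) → F ≤ E
  lt : P < S
  notMem : ∀ x, F.IsConj P x → x ∉ ℋ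
  big : ∀ R ≤ S, Nat.card P < Nat.card R → (∃ x, F.IsConj P x ∧ x ≤ R) → LocSat F p R

variable {ℋ : Set (Subgroup Ω)}


section

variable [Fact p.Prime] [Finite S] (h : ClassSetup F p ℋ P)

include h

theorem ClassSetup.class_lt {x : Subgroup Ω} (hx : F.IsConj P x) : x < S := by
  refine lt_of_le_of_ne (isConj_le_right hx) fun e => ?_
  have := isConj_card hx
  rw [e] at this
  exact h.lt.ne (eq_of_le_of_card_le h.lt.le this.le)

theorem ClassSetup.card_lt_normalizerIn {x : Subgroup Ω} (hx : F.IsConj P x) :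
    Nat.card P < Nat.card (normalizerIn S x) := by
  haveI := finite_normalizerIn (S := S) (P := x)
  rw [← isConj_card hx]
  by_contra hge
  exact (lt_normalizerIn h.isPGroup (h.class_lt hx)).ne
    (eq_of_le_of_card_le (le_normalizerIn (isConj_le_right hx)) (not_lt.1 hge))

/-- A property of maps on the members of the class holds for all of them if it holds for the
restrictions from larger subgroups and passes to composites and inverses. -/
theorem ClassSetup.forall_maps (C : Subgroup Ω → (Ω → Ω) → Prop)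
    (hstep : ∀ U R g, F.IsConj P U → IsMap F R g → U < R → R ≤ normalizerIn S U → C U g)
    (hcongr : ∀ U (f g : Ω → Ω), F.IsConj P U → (∀ a ∈ U, f a = g a) → C U f → C U g)
    (hcomp : ∀ U f g, F.IsConj P U → IsMap F U f → IsMap F (img U f) g → C U f →
      C (img U f) g → C U fun a => g (f a))
    (hinv : ∀ U f f', F.IsConj P U → IsMap F U f → IsMap F (img U f) f' →
      (∀ a ∈ U, f' (f a) = a) → C U f → C (img U f) f') :
    ∀ U, F.IsConj P U → ∀ f, IsMap F U f → C U f := by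
  let E : FusionSystem S :=
    { Hom := fun P' => {φ | φ ∈ F.Hom P' ∧ ∀ U ≤ P', F.IsConj P U → C U (toFun φ)}
      le_of_mem := fun hφ => F.le_of_mem hφ.1
      injective_of_mem := fun hφ => F.injective_of_mem hφ.1
      conj_mem := fun {P' a} hP' ha => ⟨F.conj_mem hP' ha, fun U hU hUc =>
        hcongr U (fun b => a * b * a⁻¹) _ hUc
          (fun b hb => (toFun_apply (conjHom P' a) ⟨b, hU hb⟩).symm)
          (hstep U _ _ hUc (isMap_conj F inf_le_left ha)
            (lt_normalizerIn h.isPGroup (h.class_lt hUc)) le_rfl)⟩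
      comp_mem := fun {P' Q' φ ψ} hφ hψ hmem => ⟨F.comp_mem hφ.1 hψ.1 hmem, fun U hU hUc => by
        have hf := (isMap_of_hom hφ.1).mono hU
        have hle : img U (toFun φ) ≤ Q' := fun b hb => by
          obtain ⟨a, ha, rfl⟩ := hf.mem_img.1 hb
          rw [toFun_of_mem φ (hU ha)]
          exact hmem _
        refine hcongr U (fun a => toFun ψ (toFun φ a)) _ hUc (fun a ha => ?_) (hcomp U _ _ hUc hf
          ((isMap_of_hom hψ.1).mono hle) (hφ.2 U hU hUc)
          (hψ.2 _ hle (isConj_trans hUc hf.isConj)))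
        rw [toFun_of_mem φ (hU ha), toFun_of_mem ψ (hmem _), toFun_of_mem _ (hU ha)]
        rfl⟩
      inv_mem := fun {P' φ} hφ => by
        obtain ⟨ψ, hψ, hψx⟩ := F.inv_mem hφ.1
        refine ⟨ψ, ⟨hψ, fun U hU hUc => ?_⟩, hψx⟩
        have hm := isMap_of_hom hφ.1
        have hmψ := isMap_of_hom hψ
        have hb : ∀ a ∈ P', toFun ψ (toFun φ a) = a := fun a ha => by
          rw [toFun_of_mem φ ha, toFun_of_mem ψ ⟨⟨a, ha⟩, rfl⟩, hψx]
        set U₀ := img U (toFun ψ) with hU₀
        have hU₀P : U₀ ≤ P' := fun a ha => by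
          obtain ⟨b, hb', rfl⟩ := (hmψ.mono hU).mem_img.1 ha
          obtain ⟨x, rfl⟩ := hU hb'
          rw [toFun_of_mem ψ ⟨x, rfl⟩, hψx]
          exact x.2
        have hback : ∀ b ∈ U, toFun φ (toFun ψ b) = b := fun b hb' => by
          obtain ⟨x, rfl⟩ := hU hb'
          rw [toFun_of_mem ψ ⟨x, rfl⟩, hψx, toFun_apply]
        have himg : img U₀ (toFun φ) = U := by
          rw [hU₀, ← img_comp_eq (hmψ.mono hU) hm fun b hb' => hU₀P ((hmψ.mono hU).apply_mem_img hb'),
            img_congr (g := id) hback, img_id]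
        have hUc₀ : F.IsConj P U₀ := isConj_trans hUc (hmψ.mono hU).isConj
        have h1 := hinv U₀ (toFun φ) (toFun ψ) hUc₀ (hm.mono hU₀P) (by rw [himg]; exact hmψ.mono hU)
          (fun a ha => hb a (hU₀P ha)) (hφ.2 U₀ hU₀P hUc₀)
        rwa [himg] at h1 }
  have hH : ∀ R ∈ ℋ, F.Hom R ⊆ E.Hom R := by
    intro R hR φ hφ
    refine ⟨hφ, fun U hU hUc => ?_⟩
    have hRS := (F.le_of_mem hφ).1
    haveI := finite_of_le hRS
    have hUR : U < R := lt_of_le_of_ne hU fun e => h.notMem U hUc (e ▸ hR)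
    exact hstep U (normalizerIn R U) _ hUc ((isMap_of_hom hφ).mono inf_le_left)
      (lt_normalizerIn (h.isPGroup.to_le hRS) hUR) (inf_le_inf_right _ hRS)
  intro U hU f hf
  exact hcongr U _ f hU (fun a ha => toFun_of_mem _ ha) ((h.gen E hH U hf.toHom_mem).2 U le_rfl hU)

/-- The class is connected by steps through larger subgroups. -/
theorem ClassSetup.conn_base {x y : Subgroup Ω} (hx : F.IsConj P x) (hy : F.IsConj P y) :
    WConn F (Nat.card P + 1) x y := by
  obtain ⟨f, hf, rfl⟩ := isConj_iff.1 (isConj_trans (isConj_symm hx) hy)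
  refine h.forall_maps (fun U f => WConn F (Nat.card P + 1) U (img U f)) ?_ ?_ ?_ ?_ x hx f hf
  · intro U R g hU hg hlt hR
    haveI := finite_of_le hg.le
    refine Relation.EqvGen.rel _ _ ⟨R, g, hg, hlt.le, hR, ?_, rfl⟩
    rw [← isConj_card hU]
    by_contra hge
    exact hlt.ne (eq_of_le_of_card_le hlt.le (by omega))
  · intro U f g _ hfg hC
    rwa [← img_congr hfg]
  · intro U f g _ hf hg h1 h2
    rw [img_comp_eq hf hg fun a ha => hf.apply_mem_img ha]
    exact .trans _ _ _ h1 h2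
  · intro U f f' _ hf hf' hid h1
    rw [← img_comp_eq hf hf' fun a ha => hf.apply_mem_img ha, img_congr (g := id) hid, img_id]
    exact .symm _ _ h1

/-- The representatives with large normalizer next to a member of the class. -/
def nextUp (F : FusionSystem S) (k : ℕ) (x : Subgroup Ω) : Set (Subgroup Ω) :=
  {y | k < Nat.card (normalizerIn S y) ∧
    (y = x ∨ (Nat.card (normalizerIn S x) = k ∧ WStep F k x y))}

theorem ClassSetup.nextUp_conn {k : ℕ} (hk : Nat.card P < k) {x x' : Subgroup Ω}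
    (hxx : WConn F k x x') :
    (F.IsConj P x ↔ F.IsConj P x') ∧ (F.IsConj P x →
      (((nextUp F k x).Nonempty ↔ (nextUp F k x').Nonempty) ∧
        ∀ y ∈ nextUp F k x, ∀ y' ∈ nextUp F k x', WConn F (k + 1) y y')) := by
  have hclass : ∀ a y, F.IsConj P a → y ∈ nextUp F k a → F.IsConj P y := by
    intro a y ha hy
    rcases hy.2 with rfl | ⟨-, hay⟩
    · exact ha
    · exact isConj_trans ha hay.isConj
  induction hxx with
  | rel a b hab =>
    refine ⟨⟨fun ha => isConj_trans ha hab.isConj, fun hb => isConj_trans hb hab.symm.isConj⟩,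
      fun hPa => ?_⟩
    have hval : ∀ (a b y : Subgroup Ω), WStep F k a b → y ∈ nextUp F k a → WStep F k y b := by
      intro a b y hab hy
      rcases hy.2 with rfl | ⟨ha, hay⟩
      · exact hab
      · exact WStep.through ha hay hab
    have hne : ∀ (a b : Subgroup Ω), WStep F k a b → (nextUp F k a).Nonempty →
        (nextUp F k b).Nonempty := by
      rintro a b hab ⟨y, hy⟩
      have h1 := hval a b y hab hy
      rcases lt_or_eq_of_le h1.symm.card_le with hb | hb
      · exact ⟨b, hb, Or.inl rfl⟩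
      · exact ⟨y, hy.1, Or.inr ⟨hb.symm, h1.symm⟩⟩
    refine ⟨⟨hne a b hab, hne b a hab.symm⟩, fun y hy y' hy' => ?_⟩
    exact widen (C := F.IsConj P) h.isPGroup h.big
      (hval b y y' (hval a b y hab hy).symm hy').symm (hclass a y hPa hy) hk hy.1 hy'.1
  | refl a =>
    refine ⟨Iff.rfl, fun hPa => ⟨Iff.rfl, fun y hy y' hy' => ?_⟩⟩
    rcases hy.2 with rfl | ⟨ha, hay⟩
    · rcases hy'.2 with rfl | ⟨ha', -⟩
      · exact .refl _
      · exact absurd ha' hy.1.ne'
    · rcases hy'.2 with rfl | ⟨-, hay'⟩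
      · exact absurd ha hy'.1.ne'
      · exact widen (C := F.IsConj P) h.isPGroup h.big (WStep.through ha hay hay')
          (hclass a y hPa hy) hk hy.1 hy'.1
  | symm a b _ ih =>
    exact ⟨ih.1.symm, fun hb => ⟨(ih.2 (ih.1.2 hb)).1.symm,
      fun y hy y' hy' => .symm _ _ ((ih.2 (ih.1.2 hb)).2 y' hy' y hy)⟩⟩
  | trans a b c _ _ ih₁ ih₂ =>
    refine ⟨ih₁.1.trans ih₂.1, fun ha => ?_⟩
    have hb := ih₁.1.1 ha
    refine ⟨(ih₁.2 ha).1.trans (ih₂.2 hb).1, fun y hy y' hy' => ?_⟩
    obtain ⟨m, hm⟩ := (ih₁.2 ha).1.1 ⟨y, hy⟩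
    exact .trans _ _ _ ((ih₁.2 ha).2 y hy m hm) ((ih₂.2 hb).2 m hm y' hy')

/-- Members with large normalizers are connected by wide steps. -/
theorem ClassSetup.conn_level (k : ℕ) : ∀ x y : Subgroup Ω, F.IsConj P x → F.IsConj P y →
    Nat.card P + 1 + k ≤ Nat.card (normalizerIn S x) →
    Nat.card P + 1 + k ≤ Nat.card (normalizerIn S y) → WConn F (Nat.card P + 1 + k) x y := by
  induction k with
  | zero => exact fun x y hx hy _ _ => h.conn_base hx hy
  | succ k ih =>
    intro x y hx hy hxk hyk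
    exact ((h.nextUp_conn (by omega) (ih x y hx hy (by omega) (by omega))).2 hx).2 x
      ⟨by omega, Or.inl rfl⟩ y ⟨by omega, Or.inl rfl⟩

/-- Every member of the class maps with its normalizer onto a given fully normalized member. -/
theorem ClassSetup.exists_map_to {Q : Subgroup Ω} (hQ : F.IsConj P Q)
    (hQn : F.IsFullyNormalized Q) {x : Subgroup Ω} (hx : F.IsConj P x) :
    ∃ ψ, IsMap F (normalizerIn S x) ψ ∧ img x ψ = Q ∧
      ∀ a ∈ normalizerIn S x, ψ a ∈ normalizerIn S Q := by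
  set M := Nat.card (normalizerIn S Q) with hM
  have hmax : ∀ y, F.IsConj P y → Nat.card (normalizerIn S y) ≤ M := fun y hy =>
    hQn.2 y (isConj_trans (isConj_symm hQ) hy)
  -- climb to a member with a normalizer of maximal order
  have hclimb : ∀ (d : ℕ) (y : Subgroup Ω), F.IsConj P y →
      M ≤ Nat.card (normalizerIn S y) + d → ∃ z ψ, IsMap F (normalizerIn S y) ψ ∧ img y ψ = z ∧
        F.IsConj P z ∧ M ≤ Nat.card (normalizerIn S z) ∧
        ∀ a ∈ normalizerIn S y, ψ a ∈ normalizerIn S z := by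
    intro d
    induction d with
    | zero => exact fun y hy hd => ⟨y, id, isMap_id F inf_le_left, img_id y, hy, by omega, fun a ha => ha⟩
    | succ d ih =>
      intro y hy hd
      rcases Nat.lt_or_ge (Nat.card (normalizerIn S y)) M with hlt | hge
      swap
      · exact ⟨y, id, isMap_id F inf_le_left, img_id y, hy, hge, fun a ha => ha⟩
      have hyn := h.card_lt_normalizerIn hy
      set k := Nat.card (normalizerIn S y) with hk
      have hconn : WConn F k y Q := by
        have := h.conn_level (k - Nat.card P - 1) y Q hy hQ (by omega) (by omega)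
        rwa [show Nat.card P + 1 + (k - Nat.card P - 1) = k by omega] at this
      obtain ⟨z, hzk, hz⟩ := ((h.nextUp_conn hyn hconn).2 hy).1.2 ⟨Q, hlt, Or.inl rfl⟩
      rcases hz with rfl | ⟨-, R, g, hg, hyR, hR, hkR, rfl⟩
      · omega
      haveI := finite_normalizerIn (S := S) (P := y)
      obtain rfl : R = normalizerIn S y := eq_of_le_of_card_le hR (by omega)
      obtain ⟨z', ψ, hψ, hψi, hz', hz'M, hψN⟩ :=
        ih _ (isConj_trans hy (hg.mono hyR).isConj) (by omega)
      have hgN : ∀ a ∈ normalizerIn S y, g a ∈ normalizerIn S (img y g) := fun a ha =>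
        hg.apply_mem_normalizerIn hyR ha ha.2
      refine ⟨z', fun a => ψ (g a), hg.comp hψ hgN, ?_, hz', hz'M, fun a ha => hψN _ (hgN a ha)⟩
      rw [img_comp_eq (hg.mono hyR) hψ fun a ha => hgN a (hyR ha), hψi]
  obtain ⟨z, ψ, hψ, hψi, hz, hzM, hψN⟩ := hclimb M x hx (by omega)
  have hzQ : WConn F M z Q := by
    have hQk := h.card_lt_normalizerIn hQ
    rw [← hM] at hQk
    have := h.conn_level (M - Nat.card P - 1) z Q hz hQ (by omega) (by omega)
    rwa [show Nat.card P + 1 + (M - Nat.card P - 1) = M by omega] at this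
  let Full : Subgroup Ω → Subgroup Ω → Prop := fun a b => ∃ χ,
    IsMap F (normalizerIn S a) χ ∧ img a χ = b ∧ ∀ c ∈ normalizerIn S a, χ c ∈ normalizerIn S b
  have hstep : ∀ a b, F.IsConj P a → WStep F M a b → Full a b := by
    rintro a b ha ⟨R, g, hg, haR, hR, hkR, rfl⟩
    haveI := finite_normalizerIn (S := S) (P := a)
    obtain rfl : R = normalizerIn S a := eq_of_le_of_card_le hR ((hmax a ha).trans hkR)
    exact ⟨g, hg, rfl, fun c hc => hg.apply_mem_normalizerIn haR hc hc.2⟩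
  have hcomp : ∀ a b c, a ≤ S → Full a b → Full b c → Full a c := by
    rintro a b c ha ⟨χ, hχ, rfl, hχN⟩ ⟨χ', hχ', rfl, hχ'N⟩
    refine ⟨fun u => χ' (χ u), hχ.comp hχ' hχN, ?_, fun u hu => hχ'N _ (hχN u hu)⟩
    rw [img_comp_eq (hχ.mono (le_normalizerIn ha)) hχ' fun u hu => hχN u (le_normalizerIn ha hu)]
  have key : ∀ a b, WConn F M a b →
      (F.IsConj P a ↔ F.IsConj P b) ∧ (F.IsConj P a → Full a b ∧ Full b a) := by
    intro a b hab
    induction hab with
    | rel a b hab =>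
      exact ⟨⟨fun ha => isConj_trans ha hab.isConj, fun hb => isConj_trans hb hab.symm.isConj⟩,
        fun ha => ⟨hstep a b ha hab, hstep b a (isConj_trans ha hab.isConj) hab.symm⟩⟩
    | refl a =>
      exact ⟨Iff.rfl, fun _ => ⟨⟨id, isMap_id F inf_le_left, img_id a, fun c hc => hc⟩,
        ⟨id, isMap_id F inf_le_left, img_id a, fun c hc => hc⟩⟩⟩
    | symm a b _ ih => exact ⟨ih.1.symm, fun hb => (ih.2 (ih.1.2 hb)).symm⟩
    | trans a b c _ _ ih₁ ih₂ =>
      refine ⟨ih₁.1.trans ih₂.1, fun ha => ?_⟩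
      have hb := ih₁.1.1 ha
      exact ⟨hcomp a b c (isConj_le_right ha) (ih₁.2 ha).1 (ih₂.2 hb).1,
        hcomp c b a (isConj_le_right (ih₂.1.1 hb)) (ih₂.2 hb).2 (ih₁.2 ha).2⟩
  obtain ⟨χ, hχ, hχi, hχN⟩ := ((key z Q hzQ).2 hz).1
  refine ⟨fun a => χ (ψ a), hψ.comp hχ hψN, ?_, fun a ha => hχN _ (hψN a ha)⟩
  rw [img_comp_eq (hψ.mono (le_normalizerIn (isConj_le_right hx))) hχ fun a ha =>
    hψN a (le_normalizerIn (isConj_le_right hx) ha), hψi, hχi]

end

end CfsgLib.Comp.NMap
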