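import Cfsg.Agent.Lib.Comp.NormalMap
import Cfsg.Agent.Lib.Fusion.ResidualSystem

/-!
Extension of the given automorphisms at a fully normalized centric subgroup, by descending
induction on the subgroup of induced automorphisms.
-/

set_option autoImplicit false
set_option linter.unusedVariables false
set_option linter.unusedSectionVars false
set_option linter.style.haveILetI false

namespace CfsgLib.Comp.NMap

open Cfsg Cfsg.FusionSystem Subgroup CfsgLib.Fusion

section Conj

variable {G : Type*} [Group G]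

/-- The conjugate of a subgroup. -/
def cj (n : G) (U : Subgroup G) : Subgroup G := U.map (MulAut.conj n).toMonoidHom

theorem mem_cj_of_mem {n u : G} {U : Subgroup G} (hu : u ∈ U) : n * u * n⁻¹ ∈ cj n U :=
  ⟨u, hu, rfl⟩

theorem mem_cj {n u : G} {U : Subgroup G} : u ∈ cj n U ↔ n⁻¹ * u * n ∈ U := by
  constructor
  · rintro ⟨v, hv, rfl⟩
    simpa [MulAut.conj_apply, mul_assoc] using hv
  · intro h
    refine ⟨_, h, ?_⟩
    simp [MulAut.conj_apply, mul_assoc]

theorem cj_cj (m n : G) (U : Subgroup G) : cj m (cj n U) = cj (m * n) U := by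
  ext u
  rw [mem_cj, mem_cj, mem_cj, mul_inv_rev]
  simp only [mul_assoc]

theorem cj_inv_cj (n : G) (U : Subgroup G) : cj n⁻¹ (cj n U) = U := by
  ext u
  rw [mem_cj, mem_cj]
  simp [mul_assoc]

theorem cj_eq_of_mem_normalizer {n : G} {U : Subgroup G}
    (hn : n ∈ normalizer (U : Set G)) : cj n U = U := by
  ext u
  rw [mem_cj]
  exact (Subgroup.mem_normalizer_iff''.1 hn u).symm

end Conj

variable {Ω : Type*} [Group Ω] {S A : Subgroup Ω} {F : FusionSystem S}
  {K : ∀ U : Subgroup Ω, Subgroup (MulAut U)} {p c : ℕ} {Q L : Subgroup Ω}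

variable [Fact p.Prime] [Finite S] (hd : Datum F A p K) (hS : IsPGroup p S)
  (hF : F.IsSaturated p) (hQm : MCentric F A Q) (hQn : F.IsFullyNormalized Q)

/-- The elements of `N_A(Q)` inducing on `Q` an element of `U`. -/
def lof (A Q : Subgroup Ω) {K₀ : Subgroup (MulAut Q)} (U : Subgroup K₀) : Subgroup Ω where
  carrier := {a | a ∈ A ∧ ∃ h : a ∈ normalizer (Q : Set Ω),
    Q.normalizerMonoidHom ⟨a, h⟩ ∈ U.map K₀.subtype}
  one_mem' := ⟨A.one_mem, one_mem _, by
    rw [show (⟨1, one_mem _⟩ : (normalizer (Q : Set Ω) : Subgroup Ω)) = 1 from rfl, map_one]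
    exact one_mem _⟩
  mul_mem' := by
    rintro a b ⟨ha, h, hau⟩ ⟨hb, h', hbu⟩
    refine ⟨A.mul_mem ha hb, mul_mem h h', ?_⟩
    rw [show (⟨a * b, mul_mem h h'⟩ : (normalizer (Q : Set Ω) : Subgroup Ω)) =
      ⟨a, h⟩ * ⟨b, h'⟩ from rfl, map_mul]
    exact mul_mem hau hbu
  inv_mem' := by
    rintro a ⟨ha, h, hau⟩
    refine ⟨A.inv_mem ha, inv_mem h, ?_⟩
    rw [show (⟨a⁻¹, inv_mem h⟩ : (normalizer (Q : Set Ω) : Subgroup Ω)) = ⟨a, h⟩⁻¹ from rfl,
      map_inv]
    exact inv_mem hau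

theorem lof_le {K₀ : Subgroup (MulAut Q)} (U : Subgroup K₀) : lof A Q U ≤ normalizerIn A Q :=
  fun a ⟨ha, h, _⟩ => ⟨ha, h⟩

theorem lof_mono {K₀ : Subgroup (MulAut Q)} {U U' : Subgroup K₀} (h : U ≤ U') :
    lof A Q U ≤ lof A Q U' := fun a ⟨ha, hn, hau⟩ => ⟨ha, hn, Subgroup.map_mono h hau⟩

include hd hS hF hQm hQn

/-- The part of the given automorphisms induced by `A` is a Sylow subgroup. -/
theorem exists_sylow_inner :
    ∃ P₀ : Sylow p (K Q), (P₀ : Subgroup (K Q)) = (autInducedBy A Q).subgroupOf (K Q) := by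
  have hQA := hQm.1
  haveI := finite_of_le hQn.1
  haveI : Finite (MulAut Q) := Finite.of_injective _ MulEquiv.toEquiv_injective
  have hp : IsPGroup p ((autInducedBy A Q).subgroupOf (K Q)) :=
    (isPGroup_autInducedBy_le hS hd.closed.1 Q).comap_of_injective _ (K Q).subtype_injective
  refine ⟨{ toSubgroup := (autInducedBy A Q).subgroupOf (K Q), isPGroup' := hp,
            is_maximal' := fun {X} hX hle => ?_ }, rfl⟩
  have hX' : IsPGroup p (X.map (K Q).subtype) := hX.map _
  obtain ⟨β, hβ, hβX⟩ := exists_conj_le_autInducedBy (fullyAutomized_of_fullyNormalized hS hF hQn)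
    _ hX' ((Subgroup.map_subtype_le X).trans (hd.le_aut Q hQA))
  have hmem : ∀ x ∈ X, β * (x : MulAut Q) * β⁻¹ ∈ autInducedBy A Q := fun x hx => by
    refine hd.syl Q hQm hQn ⟨?_, hβX _ ⟨x, hx, rfl⟩⟩
    refine hd.congr Q Q _ hQA (isMap_autFun hQn.1 hβ) CfsgLib.Comp.Fus.img_autFun _ x.2 _
      fun y hy => ?_
    rw [MulAut.mul_apply, MulAut.mul_apply, show (⟨autFun β y, hy⟩ : Q) = β y from
      Subtype.ext (autFun_apply _ y.2), MulAut.inv_apply_self, autFun_apply _ (Subtype.mem _)]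
  haveI : Finite X := inferInstance
  refine (eq_of_le_of_card_le hle ?_).symm
  refine Nat.card_le_card_of_injective (fun x : X =>
    (⟨⟨_, hd.inner Q hQA (hmem x x.2)⟩, hmem x x.2⟩ : (autInducedBy A Q).subgroupOf (K Q)))
    fun x y hxy => ?_
  exact Subtype.ext (Subtype.ext (mul_left_cancel (mul_right_cancel
    (congrArg (fun z : (autInducedBy A Q).subgroupOf (K Q) => ((z : K Q) : MulAut Q)) hxy))))

omit hS hF hQn in
/-- Extendability. -/
theorem lof_img {U : Subgroup (K Q)} (hU : Q ≤ lof A Q U)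
    (hUA : U ≤ (autInducedBy A Q).subgroupOf (K Q)) {n : K Q} {g : Ω → Ω}
    (hg : KMap F A K c (lof A Q U) g) (hgn : ∀ x : Q, g x = (((n : MulAut Q) x : Q) : Ω)) :
    (∀ a ∈ lof A Q U, g a ∈ lof A Q (cj n U)) ∧ img (lof A Q U) g = lof A Q (cj n U) := by
  have hm := (hg.isMap hd).2.1
  have hmQ := hm.mono hU
  have hgQ : img Q g = Q :=
    (img_congr fun x hx => (hgn ⟨x, hx⟩).trans (autFun_apply _ hx).symm).trans
      CfsgLib.Comp.Fus.img_autFun
  have hval : ∀ a (ha : a ∈ lof A Q U) (hga : g a ∈ normalizer (Q : Set Ω))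
      (h : a ∈ normalizer (Q : Set Ω)),
      Q.normalizerMonoidHom ⟨g a, hga⟩ =
        (n : MulAut Q) * Q.normalizerMonoidHom ⟨a, h⟩ * (n : MulAut Q)⁻¹ := by
    intro a ha hga h
    refine MulEquiv.ext fun y => ?_
    obtain ⟨x, rfl⟩ := (n : MulAut Q).surjective y
    rw [MulAut.mul_apply, MulAut.mul_apply, MulAut.inv_apply_self]
    refine Subtype.ext ?_
    show g a * (((n : MulAut Q) x : Q) : Ω) * (g a)⁻¹ =
      (((n : MulAut Q) (Q.normalizerMonoidHom ⟨a, h⟩ x) : Q) : Ω)
    rw [← hgn x, ← hgn, ← hm.map_conj ha (hU x.2)]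
    rfl
  have hinto : ∀ a ∈ lof A Q U, g a ∈ lof A Q (cj n U) := by
    intro a ha
    obtain ⟨haA, hn, u, hu, hua⟩ := id ha
    have hga := (hm.apply_mem_normalizerIn hU ha hn).2
    rw [hgQ] at hga
    refine ⟨(hg.isMap hd).2.2 a ha, hga, n * u * n⁻¹, mem_cj_of_mem hu, ?_⟩
    rw [hval a ha hga hn, ← hua]
    rfl
  refine ⟨hinto, le_antisymm (fun y hy => ?_) fun b hb => ?_⟩
  · obtain ⟨a, ha, rfl⟩ := hm.mem_img.1 hy
    exact hinto a ha
  · obtain ⟨hbA, hbn, _, ⟨u, hu, rfl⟩, hvb⟩ := hb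
    obtain ⟨a, ha, hau⟩ : ∃ a, a ∈ lof A Q U ∧ ∃ h : a ∈ normalizer (Q : Set Ω),
        Q.normalizerMonoidHom ⟨a, h⟩ = (u : MulAut Q) := by
      obtain ⟨a, haA, hax⟩ := mem_autInducedBy_iff.1 (hUA hu)
      have han : a ∈ normalizer (Q : Set Ω) := mem_normalizer_of_aut hax
      have e : Q.normalizerMonoidHom ⟨a, han⟩ = (u : MulAut Q) :=
        MulEquiv.ext fun x => Subtype.ext (hax x).symm
      exact ⟨a, ⟨haA, han, u, hu, e.symm⟩, han, e⟩
    obtain ⟨han, hau⟩ := hau
    have hga := (hm.apply_mem_normalizerIn hU ha han).2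
    rw [hgQ] at hga
    have e : Q.normalizerMonoidHom ⟨g a, hga⟩ = Q.normalizerMonoidHom ⟨b, hbn⟩ := by
      rw [hval a ha hga han, hau, ← hvb]
      rfl
    have hc : (g a)⁻¹ * b ∈ Q := by
      refine hQm.2 Q (isConj_refl hmQ.le) ⟨A.mul_mem (A.inv_mem ((hg.isMap hd).2.2 a ha)) hbA,
        fun x hx => ?_⟩
      have h1 : g a * x * (g a)⁻¹ = b * x * b⁻¹ :=
        congrArg (fun β : MulAut Q => ((β ⟨x, hx⟩ : Q) : Ω)) e
      calc x * ((g a)⁻¹ * b) = (g a)⁻¹ * (g a * x * (g a)⁻¹) * b := by group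
        _ = (g a)⁻¹ * (b * x * b⁻¹) * b := by rw [h1]
        _ = (g a)⁻¹ * b * x := by group
    have := (img (lof A Q U) g).mul_mem (hm.apply_mem_img ha)
      (img_mono hU (hgQ.symm ▸ hc : (g a)⁻¹ * b ∈ img Q g))
    rwa [mul_inv_cancel_left] at this

/-- `n` extends to the elements inducing `U`. -/
def ExtTo (F : FusionSystem S) (A Q : Subgroup Ω) (K : ∀ U : Subgroup Ω, Subgroup (MulAut U))
    (c : ℕ) (U : Subgroup (K Q)) (n : K Q) : Prop :=
  ∃ g, KMap F A K c (lof A Q U) g ∧ ∀ x : Q, g x = (((n : MulAut Q) x : Q) : Ω)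

omit hS hF hQn in
theorem ExtTo.comp {U : Subgroup (K Q)} (hU : Q ≤ lof A Q U)
    (hUA : U ≤ (autInducedBy A Q).subgroupOf (K Q)) {n m : K Q} (h₁ : ExtTo F A Q K c U n)
    (h₂ : ExtTo F A Q K c (cj n U) m) : ExtTo F A Q K c U (m * n) := by
  obtain ⟨g, hg, hgn⟩ := h₁
  obtain ⟨g', hg', hg'n⟩ := h₂
  refine ⟨fun a => g' (g a), .comp hg (lof_img hd hQm hU hUA hg hgn).1 hg' (fun _ _ => rfl),
    fun x => ?_⟩
  show g' (g x) = _
  rw [hgn, hg'n]
  rfl

omit hS hF hQn in
theorem ExtTo.inv {U : Subgroup (K Q)} (hU : Q ≤ lof A Q U)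
    (hUA : U ≤ (autInducedBy A Q).subgroupOf (K Q)) {n : K Q} (h : ExtTo F A Q K c U n) :
    Q ≤ lof A Q (cj n U) ∧ ExtTo F A Q K c (cj n U) n⁻¹ := by
  obtain ⟨g, hg, hgn⟩ := h
  have hi := (lof_img hd hQm hU hUA hg hgn).2
  obtain ⟨k, hk, hkx⟩ := hg.exists_inv hd
  rw [hi] at hk
  refine ⟨fun q hq => ?_, k, hk, fun x => ?_⟩
  · obtain ⟨x, hx⟩ := (n : MulAut Q).surjective ⟨q, hq⟩
    rw [← hi, show q = g x by rw [hgn, hx]]
    exact (hg.isMap hd).2.1.apply_mem_img (hU x.2)
  · obtain ⟨y, rfl⟩ := (n : MulAut Q).surjective x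
    rw [← hgn, hkx _ (hU y.2), Subgroup.coe_inv, MulAut.inv_apply_self]

set_option maxHeartbeats 1000000 in
/-- The extension property. -/
theorem exists_ext_aut (hcQ : c < Nat.card Q) {κ : MulAut Q} (hκ : κ ∈ K Q) (hQL : Q ≤ L)
    (hL : L ≤ normalizerIn A Q)
    (hconj : ∀ δ ∈ autInducedBy L Q, κ * δ * κ⁻¹ ∈ autInducedBy A Q) :
    ∃ g, KMap F A K c L g ∧ ∀ x : Q, g x = ((κ x : Q) : Ω) := by
  have hQA := hQm.1
  have hAS := hd.closed.1
  haveI := finite_of_le hAS
  haveI := finite_of_le hQn.1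
  haveI : Finite (MulAut Q) := Finite.of_injective _ MulEquiv.toEquiv_injective
  set G := K Q with hG
  set PA : Subgroup G := (autInducedBy A Q).subgroupOf G with hPA
  obtain ⟨P₀, hP₀⟩ : ∃ P₀ : Sylow p G, (P₀ : Subgroup G) = PA :=
    exists_sylow_inner hd hS hF hQm hQn
  have hPAp : IsPGroup p PA := hP₀ ▸ P₀.isPGroup'
  have hcA : c < Nat.card A := hcQ.trans_le (Subgroup.card_le_of_le hQA)
  have hcL : ∀ M, Q ≤ M → M ≤ A → c < Nat.card M := fun M hQM hM => by
    haveI := finite_of_le (hM.trans hAS)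
    exact hcQ.trans_le (Subgroup.card_le_of_le hQM)
  -- `Q` inside a conjugate
  have hQcj : ∀ U : Subgroup G, Q ≤ lof A Q U → ∀ n : G, Q ≤ lof A Q (cj n U) := by
    intro U hU n q hq
    obtain ⟨x, hx⟩ := (n : MulAut Q).surjective ⟨q, hq⟩
    obtain ⟨-, hn, u, hu, hux⟩ := hU x.2
    refine ⟨hQA hq, Q.le_normalizer hq, n * u * n⁻¹, mem_cj_of_mem hu, ?_⟩
    show (n : MulAut Q) * (u : MulAut Q) * (n : MulAut Q)⁻¹ = _
    rw [show ((u : G) : MulAut Q) = _ from hux]
    refine MulEquiv.ext fun y => ?_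
    obtain ⟨z, rfl⟩ := (n : MulAut Q).surjective y
    rw [MulAut.mul_apply, MulAut.mul_apply, MulAut.inv_apply_self]
    refine Subtype.ext ?_
    show (((n : MulAut Q) (x * z * x⁻¹) : Q) : Ω) = q * (((n : MulAut Q) z : Q) : Ω) * q⁻¹
    rw [map_mul, map_mul, map_inv, hx]
    rfl
  -- elements induced by `N_A(Q)`
  have hconjA : ∀ (U : Subgroup G) (n : G), n ∈ PA → ExtTo F A Q K c U n := by
    intro U n hn
    obtain ⟨a, ha, hax⟩ := mem_autInducedBy_iff.1 hn
    exact ⟨_, kmap_conj hd hcA ((lof_le U).trans inf_le_left) ha, fun x => (hax x).symm⟩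
  -- the normalizer at a good subgroup
  have hnice : ∀ U : Subgroup G, Q ≤ lof A Q U → U ≤ PA →
      (∀ X : Subgroup G, IsPGroup p X → X ≤ normalizer (U : Set G) →
        PA ⊓ normalizer (U : Set G) ≤ X → X ≤ PA) →
      ∀ n ∈ normalizer (U : Set G), ExtTo F A Q K c U n := by
    intro U hU hUA hmax n hn
    set N := normalizer (U : Set G)
    have hone : ExtTo F A Q K c U 1 := ⟨id, kmap_id hd hcA ((lof_le U).trans inf_le_left),
      fun x => rfl⟩
    have hmul : ∀ a b : G, b ∈ N → ExtTo F A Q K c U a → ExtTo F A Q K c U b →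
        ExtTo F A Q K c U (a * b) := fun a b hb ha hb' =>
      ExtTo.comp hd hQm hU hUA hb' (by rwa [cj_eq_of_mem_normalizer hb])
    haveI : Finite G := inferInstance
    let H : Subgroup N :=
      { carrier := {a | ExtTo F A Q K c U (a : G)}
        one_mem' := hone
        mul_mem' := fun {a b} ha hb => hmul _ _ b.2 ha hb
        inv_mem' := fun {a} ha => by
          have hpow : ∀ i : ℕ, ExtTo F A Q K c U ((a : G) ^ i) := fun i => by
            induction i with
            | zero => exact hone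
            | succ i ih => rw [pow_succ]; exact hmul _ _ a.2 ih ha
          have h := hpow (orderOf (a : G) - 1)
          rwa [pow_sub _ (Nat.one_le_iff_ne_zero.2 (orderOf_pos _).ne'), pow_orderOf_eq_one,
            pow_one, one_mul] at h }
    let T : Sylow p N :=
      { toSubgroup := PA.subgroupOf N
        isPGroup' := hPAp.comap_of_injective _ N.subtype_injective
        is_maximal' := fun {X} hX hle => by
          refine le_antisymm (fun x hx => ?_) hle
          exact hmax (X.map N.subtype) (hX.map _) (Subgroup.map_subtype_le X)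
            (fun y hy => ⟨⟨y, hy.2⟩, hle hy.1, rfl⟩) ⟨x, hx, rfl⟩ }
    have htop : H = ⊤ := by
      refine eq_top_of_sylow_le T (fun a ha => hconjA U _ ha) fun a hacop => ?_
      show ExtTo F A Q K c U (a : G)
      have hord : (orderOf ((a : G) : MulAut Q)).Coprime p := by
        rwa [Subgroup.orderOf_coe, Subgroup.orderOf_coe]
      have hQU := hU
      obtain ⟨b, hb, hbx⟩ := hd.ext Q (lof A Q U) hQm hQn hU (lof_le U)
        ((hQm.2 Q (isConj_refl hQn.1)).trans hU) _ (a : G).2 hord fun δ hδ => by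
          obtain ⟨l, hl, hlx⟩ := mem_autInducedBy_iff.1 hδ
          obtain ⟨hlA, hln, u, hu, hul⟩ := hl
          have hδu : δ = (u : MulAut Q) := by
            rw [show ((u : G) : MulAut Q) = _ from hul]
            exact MulEquiv.ext fun x => Subtype.ext (hlx x)
          have hu' : (a : G) * u * (a : G)⁻¹ ∈ U := (a.2 u).1 hu
          obtain ⟨m, hm, hmx⟩ := mem_autInducedBy_iff.1 (hUA hu')
          refine mem_autInducedBy_iff.2 ⟨m, ⟨hm, mem_normalizer_of_aut hmx, _, hu', ?_⟩, fun x => ?_⟩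
          · exact MulEquiv.ext fun x => Subtype.ext (hmx x)
          · rw [hδu]
            exact hmx x
      have hLA : lof A Q U ≤ A := (lof_le U).trans inf_le_left
      exact ⟨_, .res (mcentric_mono hd hQm hU hLA) (hcL _ hU hLA) hb le_rfl (fun _ _ => rfl),
        fun x => hbx x⟩
    exact (htop.symm ▸ Subgroup.mem_top _ : (⟨n, hn⟩ : N) ∈ H)
  -- descending induction
  have key : ∀ d, ∀ U : Subgroup G, Nat.card PA - Nat.card U = d → Q ≤ lof A Q U → ∀ n : G,
      U ≤ PA → cj n U ≤ PA → ExtTo F A Q K c U n := by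
    intro d
    induction d using Nat.strong_induction_on with
    | _ d ih =>
    intro U hd' hU n hUA hUA'
    rcases eq_or_lt_of_le hUA with rfl | hlt
    · have hcard : Nat.card PA ≤ Nat.card (cj n PA) :=
        Nat.card_le_card_of_injective (fun u : PA => (⟨_, mem_cj_of_mem u.2⟩ : cj n PA))
          fun a b h => Subtype.ext (mul_left_cancel (mul_right_cancel (congrArg Subtype.val h)))
      have he : cj n PA = PA := eq_of_le_of_card_le hUA' hcard
      refine hnice PA hU le_rfl (fun X hX _ hle => ?_) n fun u => ?_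
      · have h1 : (P₀ : Subgroup G) ≤ X := by
          rw [hP₀]
          exact fun u hu => hle ⟨hu, Subgroup.le_normalizer hu⟩
        rw [P₀.is_maximal' hX h1, hP₀]
      · constructor
        · intro hu
          exact he.le (mem_cj_of_mem hu)
        · intro hu
          have := mem_cj.1 (he.ge hu)
          simpa [mul_assoc] using this
    set U' := cj n U
    have hU'Q : Q ≤ lof A Q U' := hQcj U hU n
    have hcardU : Nat.card U' = Nat.card U :=
      (Nat.card_congr (U.equivMapOfInjective _ (MulAut.conj n).injective).toEquiv).symm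
    have hUlt : Nat.card U < Nat.card PA :=
      lt_of_not_ge fun h => hlt.ne (eq_of_le_of_card_le hUA h)
    have hgrow : ∀ V : Subgroup G, V ≤ PA → Nat.card V = Nat.card U →
        Nat.card U < Nat.card (PA ⊓ normalizer (V : Set G) : Subgroup G) := by
      intro V hV hVc
      have hVlt : V < PA := lt_of_le_of_ne hV fun e => by rw [e] at hVc; omega
      rw [← hVc]
      have h1 := lt_normalizerIn hPAp hVlt
      haveI : Finite (normalizerIn PA V) := inferInstance
      exact lt_of_not_ge fun h => h1.ne (eq_of_le_of_card_le h1.le h)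
    have hup : ∀ (V : Subgroup G) (m : G), V ≤ PA → Nat.card V = Nat.card U → Q ≤ lof A Q V →
        (∀ w ∈ PA ⊓ normalizer (V : Set G), m * w * m⁻¹ ∈ PA) → ExtTo F A Q K c V m := by
      intro V m hV hVc hVQ hm
      have hle : V ≤ PA ⊓ normalizer (V : Set G) := le_inf hV Subgroup.le_normalizer
      obtain ⟨g, hg, hgm⟩ := ih _ (by
          have := hgrow V hV hVc
          have h2 : Nat.card (PA ⊓ normalizer (V : Set G) : Subgroup G) ≤ Nat.card PA :=
            Subgroup.card_le_of_le inf_le_left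
          omega) _ rfl (hVQ.trans (lof_mono hle)) m inf_le_left
        (fun w hw => by
          obtain ⟨v, hv, rfl⟩ := hw
          exact hm v hv)
      exact ⟨g, hg.mono (lof_mono hle), hgm⟩
    -- move the target to a good position
    set W' := PA ⊓ normalizer (U' : Set G)
    obtain ⟨T, hT⟩ := ((hPAp.to_le inf_le_left : IsPGroup p W').comap_of_injective
      (normalizer (U' : Set G)).subtype (Subgroup.subtype_injective _)).exists_le_sylow
    obtain ⟨T', hT'⟩ := (T.isPGroup'.map (normalizer (U' : Set G)).subtype).exists_le_sylow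
    obtain ⟨m, hm⟩ := MulAction.exists_smul_eq G T' P₀
    have hmT : ∀ t ∈ (T : Subgroup (normalizer (U' : Set G))),
        m * (t : G) * m⁻¹ ∈ PA := fun t ht => by
      rw [← hP₀, ← hm, Sylow.coe_subgroup_smul]
      exact ⟨_, hT' ⟨t, ht, rfl⟩, rfl⟩
    have hW'T : ∀ w (hw : w ∈ W'), (⟨w, hw.2⟩ : normalizer (U' : Set G)) ∈
        (T : Subgroup (normalizer (U' : Set G))) := fun w hw => hT hw
    have hU'W : U' ≤ W' := le_inf hUA' Subgroup.le_normalizer
    have hm1 := hup U' m hUA' hcardU hU'Q fun w hw => hmT _ (hW'T w hw)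
    set U'' := cj m U'
    have hU''A : U'' ≤ PA := by
      rintro _ ⟨u, hu, rfl⟩
      exact hmT _ (hW'T u (hU'W hu))
    have hmax : ∀ X : Subgroup G, IsPGroup p X → X ≤ normalizer (U'' : Set G) →
        PA ⊓ normalizer (U'' : Set G) ≤ X → X ≤ PA := by
      intro X hX hXN hle
      have hback : ∀ x ∈ X, m⁻¹ * x * m ∈ normalizer (U' : Set G) := fun x hx => by
        intro u
        constructor
        · intro hu
          have h1 := (hXN hx _).1 (mem_cj_of_mem (n := m) hu)
          have h2 := mem_cj.1 h1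
          have e : m⁻¹ * (x * (m * u * m⁻¹) * x⁻¹) * m =
              m⁻¹ * x * m * u * (m⁻¹ * x * m)⁻¹ := by group
          rwa [e] at h2
        · intro hu
          have h1 := mem_cj_of_mem (n := m) hu
          have e : m * (m⁻¹ * x * m * u * (m⁻¹ * x * m)⁻¹) * m⁻¹ = x * (m * u * m⁻¹) * x⁻¹ := by
            group
          rw [e] at h1
          have h2 := mem_cj.1 ((hXN hx _).2 h1)
          simpa [mul_assoc] using h2
      have hT''mem : ∀ t ∈ (T : Subgroup (normalizer (U' : Set G))),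
          m * (t : G) * m⁻¹ ∈ PA ⊓ normalizer (U'' : Set G) := by
        intro t ht
        refine ⟨hmT t ht, fun u => ?_⟩
        rw [SetLike.mem_coe, SetLike.mem_coe, mem_cj (n := m), mem_cj (n := m)]
        have e : m⁻¹ * (m * (t : G) * m⁻¹ * u * (m * (t : G) * m⁻¹)⁻¹) * m =
            (t : G) * (m⁻¹ * u * m) * (t : G)⁻¹ := by group
        rw [e]
        exact t.2 _
      set X' : Subgroup (normalizer (U' : Set G)) :=
        (X.map (MulAut.conj m⁻¹).toMonoidHom).subgroupOf _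
      have hX' : IsPGroup p X' :=
        (hX.map _).comap_of_injective _ (Subgroup.subtype_injective _)
      have hTX : (T : Subgroup (normalizer (U' : Set G))) ≤ X' := fun t ht =>
        ⟨_, hle (hT''mem t ht), by simp [MulAut.conj_apply, mul_assoc]⟩
      have he := T.is_maximal' hX' hTX
      intro x hx
      have h1 : (⟨m⁻¹ * x * m, hback x hx⟩ : normalizer (U' : Set G)) ∈
          (T : Subgroup (normalizer (U' : Set G))) := by
        rw [← he]
        exact ⟨x, hx, by simp [MulAut.conj_apply]⟩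
      have h2 := hmT _ h1
      simpa [mul_assoc] using h2
    -- move the source
    set N'' := normalizer (U'' : Set G)
    have hmn : cj (m * n) U = U'' := (cj_cj m n U).symm
    have hsrc : ∀ w ∈ PA ⊓ normalizer (U : Set G), (m * n) * w * (m * n)⁻¹ ∈ N'' := by
      intro w hw u
      rw [SetLike.mem_coe, SetLike.mem_coe, ← hmn, mem_cj, mem_cj]
      have e : (m * n)⁻¹ * ((m * n) * w * (m * n)⁻¹ * u * ((m * n) * w * (m * n)⁻¹)⁻¹) * (m * n) =
          w * ((m * n)⁻¹ * u * (m * n)) * w⁻¹ := by group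
      rw [e]
      exact hw.2 _
    let T₀ : Sylow p N'' :=
      { toSubgroup := PA.subgroupOf N''
        isPGroup' := hPAp.comap_of_injective _ N''.subtype_injective
        is_maximal' := fun {X} hX hle => by
          refine le_antisymm (fun x hx => ?_) hle
          exact hmax (X.map N''.subtype) (hX.map _) (Subgroup.map_subtype_le X)
            (fun y hy => ⟨⟨y, hy.2⟩, hle hy.1, rfl⟩) ⟨x, hx, rfl⟩ }
    set R : Subgroup N'' := ((PA ⊓ normalizer (U : Set G)).map
      (MulAut.conj (m * n)).toMonoidHom).subgroupOf N''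
    obtain ⟨T₁, hT₁⟩ := (((hPAp.to_le inf_le_left).map _).comap_of_injective _
      N''.subtype_injective : IsPGroup p R).exists_le_sylow
    obtain ⟨k, hk⟩ := MulAction.exists_smul_eq N'' T₁ T₀
    have hkw : ∀ w ∈ PA ⊓ normalizer (U : Set G),
        ((k : G) * (m * n)) * w * ((k : G) * (m * n))⁻¹ ∈ PA := by
      intro w hw
      have h : (MulAut.conj k).toMonoidHom ⟨_, hsrc w hw⟩ ∈ (T₀ : Subgroup N'') := by
        rw [← hk, Sylow.coe_subgroup_smul]
        exact ⟨_, hT₁ (Subgroup.mem_subgroupOf.2 ⟨w, hw, rfl⟩), rfl⟩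
      have h' : ((k : G) * ((m * n) * w * (m * n)⁻¹) * (k : G)⁻¹) ∈ PA := h
      have e : ((k : G) * (m * n)) * w * ((k : G) * (m * n))⁻¹ =
          (k : G) * ((m * n) * w * (m * n)⁻¹) * (k : G)⁻¹ := by group
      rw [e]
      exact h'
    have h1 := hup U ((k : G) * (m * n)) hUA rfl hU hkw
    have hU''Q : Q ≤ lof A Q U'' := hQcj U' hU'Q m
    have h2 := (ExtTo.inv hd hQm hU''Q hU''A (hnice U'' hU''Q hU''A hmax k k.2)).2
    rw [cj_eq_of_mem_normalizer k.2] at h2
    have h3 := (ExtTo.inv hd hQm hU'Q hUA' hm1).2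
    have h4 := ExtTo.comp hd hQm hU''Q hU''A h2 (by
      rwa [cj_eq_of_mem_normalizer (inv_mem k.2)])
    have hkmn : cj ((k : G) * (m * n)) U = U'' := by
      rw [← cj_cj, hmn, cj_eq_of_mem_normalizer k.2]
    have h5 := ExtTo.comp hd hQm hU hUA h1 (by rw [hkmn]; exact h4)
    rwa [show m⁻¹ * (k : G)⁻¹ * ((k : G) * (m * n)) = n by group] at h5
  -- conclusion
  set U₀ : Subgroup G := (autInducedBy L Q).subgroupOf G with hU₀
  have hU₀A : U₀ ≤ PA := fun δ hδ => autInducedBy_mono (hL.trans inf_le_left) hδ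
  have hLlof : L ≤ lof A Q U₀ := fun l hl => by
    have hlx : Q.normalizerMonoidHom ⟨l, (hL hl).2⟩ ∈ autInducedBy L Q :=
      mem_autInducedBy_iff.2 ⟨l, hl, fun x => rfl⟩
    exact ⟨(hL hl).1, (hL hl).2,
      ⟨_, hd.inner Q hQA (autInducedBy_mono (hL.trans inf_le_left) hlx)⟩, hlx, rfl⟩
  obtain ⟨g, hg, hgx⟩ := key _ U₀ rfl (hQL.trans hLlof) ⟨κ, hκ⟩ hU₀A (fun δ hδ => by
    obtain ⟨u, hu, rfl⟩ := hδ
    exact hconj _ hu)
  exact ⟨g, hg.mono hLlof, hgx⟩

end CfsgLib.Comp.NMap
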