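import Cfsg.Agent.Lib.Comp.PConstrained

/-!
`p`-constraint of normal subgroups.
-/

set_option autoImplicit false
set_option linter.style.haveILetI false

namespace CfsgLib.Comp

open Subgroup

variable {G : Type*} [Group G] [Finite G] {p : ℕ} [Fact p.Prime]

/-- A normal subgroup of a `p`-constrained group is `p`-constrained. -/
theorem isPConstrained_of_normal (hG : Cfsg.IsPConstrained p G) (S : Subgroup G) [S.Normal] :
    Cfsg.IsPConstrained p S := by
  rw [isPConstrained_iff_pLayer, pLayer_eq_bot_iff] at hG ⊢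
  haveI := Cfsg.pPrimeCore_normal p G
  set q := toModCore p G
  haveI : (S.map q).Normal := Subgroup.Normal.map ‹_› _ toModCore_surjective
  have hker : Cfsg.pPrimeCore p S = (q.subgroupMap S).ker := by
    apply map_injective S.subtype_injective
    rw [pPrimeCore_map_subtype (Subgroup.Normal.isSubnormal ‹_›)]
    ext x
    constructor
    · rintro ⟨h1, h2⟩
      exact ⟨⟨x, h2⟩, MonoidHom.mem_ker.2 (Subtype.ext ((QuotientGroup.eq_one_iff x).2 h1)), rfl⟩
    · rintro ⟨y, hy, rfl⟩
      exact ⟨(QuotientGroup.eq_one_iff (y : G)).1 (congrArg Subtype.val (MonoidHom.mem_ker.1 hy)), y.2⟩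
  have h0 : Cfsg.layer ↥(S.map q) = ⊥ := by
    have h := layer_map_subtype_le (H := S.map q) (Subgroup.Normal.isSubnormal ‹_›)
    rw [hG, le_bot_iff] at h
    exact (map_eq_bot_iff_of_injective _ (S.map q).subtype_injective).1 h
  let e : (↥S ⧸ Cfsg.pPrimeCore p ↥S) ≃* ↥(S.map q) :=
    (QuotientGroup.quotientMulEquivOfEq hker).trans
      (QuotientGroup.quotientKerEquivOfSurjective _ (q.subgroupMap_surjective S))
  have h1 := layer_map_le_layer e.toMonoidHom e.surjective
  rw [h0, le_bot_iff] at h1
  exact (map_eq_bot_iff_of_injective _ e.injective).1 h1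

end CfsgLib.Comp
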