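import Cfsg.Agent.Lib.Fusion.FactorSystem
import Cfsg.Agent.Lib.Fusion.InvariantTransport
import Cfsg.Agent.Lib.Fusion.SubsystemCentric
import Cfsg.Agent.Lib.Fusion.ModelBasic

/-!
The preimage of a normal subsystem of a factor system modulo a central subgroup: the maps inducing
maps of the subsystem, and the subgroups with centric image.
-/

set_option autoImplicit false
set_option linter.unusedVariables false
set_option linter.unusedSectionVars false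
set_option linter.style.haveILetI false

namespace CfsgLib.Comp.Pre

open Cfsg Cfsg.FusionSystem Subgroup CfsgLib.Fusion

variable {Ω Ω' : Type*} [Group Ω] [Group Ω'] {S Z : Subgroup Ω} {S' W' : Subgroup Ω'}
  {F : FusionSystem S} {θ : S →* Ω'} {F' : FusionSystem S'} {D' : FusionSystem W'} {p : ℕ}

/-- The standing assumptions. -/
structure Setup (F : FusionSystem S) (p : ℕ) (Z : Subgroup Ω) (θ : S →* Ω')
    (F' : FusionSystem S') (D' : FusionSystem W') : Prop where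
  pS : IsPGroup p S
  sat : F.IsSaturated p
  central : F.IsCentral Z
  factor : F.IsFactorSystem Z θ F'
  normal : D'.IsNormalIn F' p

open Classical in
/-- The factor homomorphism as a function on the ambient group. -/
noncomputable def qmap (θ : S →* Ω') : Ω → Ω' :=
  fun x => if h : x ∈ S then θ ⟨x, h⟩ else 1

theorem qmap_of_mem {x : Ω} (hx : x ∈ S) : qmap θ x = θ ⟨x, hx⟩ := by simp [qmap, hx]

theorem qmap_mul {x y : Ω} (hx : x ∈ S) (hy : y ∈ S) :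
    qmap θ (x * y) = qmap θ x * qmap θ y := by
  rw [qmap_of_mem hx, qmap_of_mem hy, qmap_of_mem (S.mul_mem hx hy), ← map_mul]
  rfl

theorem qmap_inv {x : Ω} (hx : x ∈ S) : qmap θ x⁻¹ = (qmap θ x)⁻¹ := by
  rw [qmap_of_mem hx, qmap_of_mem (S.inv_mem hx), ← map_inv]
  rfl

theorem qmap_conj {x y : Ω} (hx : x ∈ S) (hy : y ∈ S) :
    qmap θ (x * y * x⁻¹) = qmap θ x * qmap θ y * (qmap θ x)⁻¹ := by
  rw [qmap_mul (S.mul_mem hx hy) (S.inv_mem hx), qmap_mul hx hy, qmap_inv hx]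

theorem mem_im {P : Subgroup Ω} (hP : P ≤ S) {y : Ω'} :
    y ∈ imageAlong θ P ↔ ∃ x ∈ P, qmap θ x = y := by
  rw [mem_imageAlong]
  constructor
  · rintro ⟨x, hx, hxP, rfl⟩
    exact ⟨x, hxP, qmap_of_mem hx⟩
  · rintro ⟨x, hxP, rfl⟩
    exact ⟨x, hP hxP, hxP, (qmap_of_mem (hP hxP)).symm⟩

theorem qmap_mem_im {P : Subgroup Ω} (hP : P ≤ S) {x : Ω} (hx : x ∈ P) :
    qmap θ x ∈ imageAlong θ P := (mem_im hP).2 ⟨x, hx, rfl⟩

theorem im_mono {P R : Subgroup Ω} (h : P ≤ R) : imageAlong θ P ≤ imageAlong θ R :=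
  Subgroup.map_mono (Subgroup.comap_mono h)

theorem mem_pre {P' : Subgroup Ω'} {x : Ω} :
    x ∈ preimageAlong θ P' ↔ x ∈ S ∧ qmap θ x ∈ P' := by
  rw [mem_preimageAlong]
  constructor
  · rintro ⟨hx, h⟩
    exact ⟨hx, by rwa [qmap_of_mem hx]⟩
  · rintro ⟨hx, h⟩
    exact ⟨hx, by rwa [qmap_of_mem hx] at h⟩

/-- The full preimage of the subgroup carrying the subsystem. -/
def wSub (θ : S →* Ω') (W' : Subgroup Ω') : Subgroup Ω := preimageAlong θ W'

theorem wSub_le : wSub θ W' ≤ S := preimageAlong_le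

/-- The maps of `F` on subgroups of the preimage inducing maps of `D'`. -/
def Good (F : FusionSystem S) (θ : S →* Ω') (D' : FusionSystem W') (P : Subgroup Ω) (f : Ω → Ω) :
    Prop :=
  IsMap F P f ∧ P ≤ wSub θ W' ∧
    ∃ f', IsMap D' (imageAlong θ P) f' ∧ ∀ x ∈ P, f' (qmap θ x) = qmap θ (f x)

/-- The subgroups between `Z` and the preimage with centric image. -/
def Cen (Z : Subgroup Ω) (θ : S →* Ω') (D' : FusionSystem W') (P : Subgroup Ω) : Prop :=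
  Z ≤ P ∧ P ≤ wSub θ W' ∧ D'.IsCentric (imageAlong θ P)

theorem isMap_of_sub' {A : Type*} [Group A] {T U : Subgroup A} {G : FusionSystem T}
    {G' : FusionSystem U} (h : G.IsSubsystemOf G') {P : Subgroup A} {f : A → A}
    (hf : IsMap G P f) : IsMap G' P f := by
  obtain ⟨φ, hφ, hx⟩ := hf
  exact ⟨φ, h P hφ, hx⟩

namespace Good

variable {P Q : Subgroup Ω} {f g : Ω → Ω}

theorem congr (h : Good F θ D' P f) (hfg : ∀ x ∈ P, f x = g x) : Good F θ D' P g := by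
  obtain ⟨hf, hP, f', hf', hfx⟩ := h
  exact ⟨hf.congr hfg, hP, f', hf', fun x hx => by rw [hfx x hx, hfg x hx]⟩

theorem mono (h : Good F θ D' P f) (hQ : Q ≤ P) : Good F θ D' Q f := by
  obtain ⟨hf, hP, f', hf', hfx⟩ := h
  exact ⟨hf.mono hQ, hQ.trans hP, f', hf'.mono (im_mono hQ), fun x hx => hfx x (hQ hx)⟩

theorem mem_wSub (h : Good F θ D' P f) {x : Ω} (hx : x ∈ P) : f x ∈ wSub θ W' := by
  obtain ⟨hf, hP, f', hf', hfx⟩ := h
  exact mem_pre.2 ⟨hf.mem hx, hfx x hx ▸ hf'.mem (qmap_mem_im (hP.trans wSub_le) hx)⟩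

theorem img_le_wSub (h : Good F θ D' P f) : img P f ≤ wSub θ W' := fun y hy => by
  obtain ⟨x, hx, rfl⟩ := h.1.mem_img.1 hy
  exact h.mem_wSub hx

theorem comp (h : Good F θ D' P f) (h' : Good F θ D' Q g) (hm : ∀ x ∈ P, f x ∈ Q) :
    Good F θ D' P (fun x => g (f x)) := by
  obtain ⟨hf, hP, f', hf', hfx⟩ := h
  obtain ⟨hg, hQ, g', hg', hgx⟩ := h'
  refine ⟨hf.comp hg hm, hP, fun y => g' (f' y), hf'.comp hg' fun y hy => ?_, fun x hx => ?_⟩
  · obtain ⟨x, hx, rfl⟩ := (mem_im (hP.trans wSub_le)).1 hy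
    rw [hfx x hx]
    exact qmap_mem_im (hQ.trans wSub_le) (hm x hx)
  · show g' (f' (qmap θ x)) = _
    rw [hfx x hx, hgx _ (hm x hx)]

theorem inv (h : Good F θ D' P f) :
    ∃ k, Good F θ D' (img P f) k ∧ (∀ x ∈ P, k (f x) = x) ∧
      ∀ y ∈ img P f, k y ∈ P ∧ f (k y) = y := by
  have hW := h.img_le_wSub
  obtain ⟨hf, hP, f', hf', hfx⟩ := h
  obtain ⟨k, hk, hkx, hky, -⟩ := hf.exists_inv
  obtain ⟨k', hk', hk'x, -, -⟩ := hf'.exists_inv
  have hle : imageAlong θ (img P f) ≤ img (imageAlong θ P) f' := by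
    intro y hy
    obtain ⟨z, hz, rfl⟩ := (mem_im hf.img_le).1 hy
    obtain ⟨x, hx, rfl⟩ := hf.mem_img.1 hz
    rw [← hfx x hx]
    exact hf'.apply_mem_img (qmap_mem_im (hP.trans wSub_le) hx)
  refine ⟨k, ⟨hk, hW, k', hk'.mono hle, fun y hy => ?_⟩, hkx, hky⟩
  obtain ⟨x, hx, rfl⟩ := hf.mem_img.1 hy
  rw [← hfx x hx, hk'x _ (qmap_mem_im (hP.trans wSub_le) hx), hkx x hx]

end Good

theorem good_conj {P : Subgroup Ω} (hP : P ≤ wSub θ W') {a : Ω} (ha : a ∈ wSub θ W') :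
    Good F θ D' P (fun x => a * x * a⁻¹) := by
  refine ⟨isMap_conj F (hP.trans wSub_le) (wSub_le ha), hP, fun y => qmap θ a * y * (qmap θ a)⁻¹,
    isMap_conj D' ?_ (mem_pre.1 ha).2, fun x hx => ?_⟩
  · intro y hy
    obtain ⟨x, hx, rfl⟩ := (mem_im (hP.trans wSub_le)).1 hy
    exact (mem_pre.1 (hP hx)).2
  · rw [qmap_conj (wSub_le ha) (wSub_le (hP hx))]

theorem good_id {P : Subgroup Ω} (hP : P ≤ wSub θ W') : Good F θ D' P id :=
  (good_conj hP (one_mem _)).congr fun x _ => by simp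

variable [Fact p.Prime] [Finite S]

namespace Setup

variable (hd : Setup F p Z θ F' D')

include hd

theorem Z_le : Z ≤ S := hd.central.1

theorem qmap_eq_one {x : Ω} (hx : x ∈ S) : qmap θ x = 1 ↔ x ∈ Z := by
  rw [qmap_of_mem hx]
  exact hd.factor.2.1 ⟨x, hx⟩

theorem qmap_eq_iff {x y : Ω} (hx : x ∈ S) (hy : y ∈ S) :
    qmap θ x = qmap θ y ↔ x⁻¹ * y ∈ Z := by
  rw [← hd.qmap_eq_one (S.mul_mem (S.inv_mem hx) hy), qmap_mul (S.inv_mem hx) hy, qmap_inv hx,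
    inv_mul_eq_one]

theorem range_eq : θ.range = S' := hd.factor.2.2.1

theorem finite' : Finite S' := by
  haveI : Finite θ.range := Finite.of_surjective θ.rangeRestrict θ.rangeRestrict_surjective
  exact finite_of_le hd.range_eq.ge

theorem pS' : IsPGroup p S' := by
  rintro ⟨y, hy⟩
  obtain ⟨s, rfl⟩ := hd.range_eq.ge hy
  obtain ⟨k, hk⟩ := hd.pS s
  exact ⟨k, Subtype.ext (by show θ s ^ p ^ k = 1; rw [← map_pow, hk, map_one])⟩

theorem sat' : F'.IsSaturated p := hd.normal.1.2.1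

theorem Zsc : F.StronglyClosed Z := IsNormal.stronglyClosed (IsCentral.isNormal hd.central)

theorem W'_le : W' ≤ S' := hd.normal.1.2.2.2.1.1

theorem finiteW : Finite W' :=
  haveI := hd.finite'
  finite_of_le hd.W'_le

theorem pW' : IsPGroup p W' := hd.pS'.to_le hd.W'_le

theorem sat_D' : D'.IsSaturated p := hd.normal.1.1

theorem Z_le_pre (P' : Subgroup Ω') : Z ≤ preimageAlong θ P' :=
  le_preimageAlong_of_ker hd.factor.2.1 hd.Z_le

theorem Z_le_wSub : Z ≤ wSub θ W' := hd.Z_le_pre W'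

theorem pre_im {P : Subgroup Ω} (hZ : Z ≤ P) (hP : P ≤ S) :
    preimageAlong θ (imageAlong θ P) = P := by
  ext x
  rw [mem_pre]
  constructor
  · rintro ⟨hx, h⟩
    obtain ⟨z, hz, hzx⟩ := (mem_im hP).1 h
    have h1 := hZ ((hd.qmap_eq_iff (hP hz) hx).1 hzx)
    have := P.mul_mem hz h1
    rwa [mul_inv_cancel_left] at this
  · exact fun hx => ⟨hP hx, qmap_mem_im hP hx⟩

theorem im_pre {P' : Subgroup Ω'} (hP' : P' ≤ S') :
    imageAlong θ (preimageAlong θ P') = P' :=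
  imageAlong_preimageAlong (hd.range_eq.ge.trans' hP')

theorem im_wSub : imageAlong θ (wSub θ W') = W' := hd.im_pre hd.W'_le

theorem im_le {P : Subgroup Ω} (hP : P ≤ S) : imageAlong θ P ≤ S' := fun y hy => by
  obtain ⟨x, hx, rfl⟩ := (mem_im hP).1 hy
  rw [qmap_of_mem (hP hx)]
  exact hd.range_eq.le ⟨_, rfl⟩

theorem im_le_W' {P : Subgroup Ω} (hP : P ≤ wSub θ W') : imageAlong θ P ≤ W' :=
  (im_mono hP).trans hd.im_wSub.le

theorem map_Z {P : Subgroup Ω} {g : Ω → Ω} (hg : IsMap F P g) {z : Ω} (hzP : z ∈ P)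
    (hz : z ∈ Z) : g z = z := by
  obtain ⟨-, hext⟩ := isCentral_iff.1 hd.central
  obtain ⟨g₁, hg₁, hgx, hgZ⟩ := hext P g hg
  rw [← hgx z hzP, hgZ z hz]

theorem extZ {P : Subgroup Ω} {g : Ω → Ω} (hg : IsMap F P g) :
    ∃ g₁, IsMap F (P ⊔ Z) g₁ ∧ (∀ x ∈ P, g₁ x = g x) ∧ ∀ z ∈ Z, g₁ z = z :=
  (isCentral_iff.1 hd.central).2 P g hg

theorem im_sup_Z {P : Subgroup Ω} (hP : P ≤ S) : imageAlong θ (P ⊔ Z) = imageAlong θ P := by
  refine le_antisymm (fun y hy => ?_) (im_mono le_sup_left)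
  obtain ⟨x, hx, rfl⟩ := (mem_im (sup_le hP hd.Z_le)).1 hy
  have hn : P ≤ normalizer (Z : Set Ω) := hP.trans (StronglyClosed.le_normalizer hd.Zsc)
  have h2 : x ∈ ((P ⊔ Z : Subgroup Ω) : Set Ω) := hx
  rw [Subgroup.coe_mul_of_left_le_normalizer_right P Z hn] at h2
  obtain ⟨a, ha, b, hb, rfl⟩ := h2
  rw [qmap_mul (hP ha) (hd.Z_le hb), (hd.qmap_eq_one (hd.Z_le hb)).2 hb, mul_one]
  exact qmap_mem_im hP ha

theorem descend {P : Subgroup Ω} {g : Ω → Ω} (hg : IsMap F P g) :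
    ∃ g', IsMap F' (imageAlong θ P) g' ∧ ∀ x ∈ P, g' (qmap θ x) = qmap θ (g x) := by
  obtain ⟨g₁, hg₁, hgx, hgZ⟩ := hd.extZ hg
  obtain ⟨χ, hχ⟩ := exists_inducedAlong (θ := θ) hg₁.le hg₁ fun x hx h1 =>
    (hd.factor.2.1 _).2 (StronglyClosed.apply_mem hd.Zsc hg₁ hx ((hd.factor.2.1 _).1 h1))
  have hval : ∀ x ∈ P ⊔ Z, toFun χ (qmap θ x) = qmap θ (g₁ x) := fun x hx => by
    rw [qmap_of_mem (hg₁.le hx), qmap_of_mem (hg₁.mem hx),
      toFun_of_mem χ (mem_imageAlong.2 ⟨x, hg₁.le hx, hx, rfl⟩)]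
    exact hχ x hx
  have hpre : preimageAlong θ (imageAlong θ (P ⊔ Z)) = P ⊔ Z := hd.pre_im le_sup_right hg₁.le
  have hm : IsMap F' (imageAlong θ (P ⊔ Z)) (toFun χ) := by
    refine (isMap_induced_iff hd.factor.2.2.2 hd.range_eq).2 ⟨hd.im_le hg₁.le, g₁,
      hpre.symm ▸ hg₁, fun x hx => ?_⟩
    have hx' : x ∈ P ⊔ Z := hpre ▸ hx
    have := hval x hx'
    rwa [qmap_of_mem (hg₁.le hx'), qmap_of_mem (hg₁.mem hx')] at this
  refine ⟨toFun χ, hm.mono (im_mono le_sup_left), fun x hx => ?_⟩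
  rw [hval x (mem_sup_left hx), hgx x hx]

theorem lift {P' : Subgroup Ω'} {f' : Ω' → Ω'} (hf : IsMap F' P' f') :
    ∃ g, IsMap F (preimageAlong θ P') g ∧
      ∀ x ∈ preimageAlong θ P', f' (qmap θ x) = qmap θ (g x) := by
  obtain ⟨-, g, hg, hgx⟩ := (isMap_induced_iff hd.factor.2.2.2 hd.range_eq).1 hf
  refine ⟨g, hg, fun x hx => ?_⟩
  rw [qmap_of_mem (preimageAlong_le hx), qmap_of_mem (hg.mem hx)]
  exact hgx x hx

theorem wSub_stronglyClosed : F.StronglyClosed (wSub θ W') := by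
  refine stronglyClosed_iff.2 ⟨wSub_le, fun X g hX hg x hx => ?_⟩
  obtain ⟨g', hg', hgx⟩ := hd.descend hg
  refine mem_pre.2 ⟨hg.mem hx, ?_⟩
  rw [← hgx x hx]
  exact StronglyClosed.apply_mem hd.normal.1.2.2.2.1 hg' (qmap_mem_im hg.le hx)
    (mem_pre.1 (hX hx)).2

theorem mem_wSub_of_map {X : Subgroup Ω} {g : Ω → Ω} (hg : IsMap F X g) {x : Ω} (hx : x ∈ X)
    (hxW : x ∈ wSub θ W') : g x ∈ wSub θ W' :=
  StronglyClosed.apply_mem hd.wSub_stronglyClosed hg hx hxW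

theorem good_extZ {P : Subgroup Ω} {f : Ω → Ω} (h : Good F θ D' P f) :
    ∃ f₁, Good F θ D' (P ⊔ Z) f₁ ∧ (∀ x ∈ P, f₁ x = f x) ∧ ∀ z ∈ Z, f₁ z = z := by
  obtain ⟨hf, hP, f', hf', hfx⟩ := h
  obtain ⟨g, hg, hgx, hgZ⟩ := hd.extZ hf
  refine ⟨g, ⟨hg, sup_le hP hd.Z_le_wSub, f', hd.im_sup_Z (hP.trans wSub_le) ▸ hf',
    fun x hx => ?_⟩, hgx, hgZ⟩
  have hn : P ≤ normalizer (Z : Set Ω) :=
    hP.trans (wSub_le.trans (StronglyClosed.le_normalizer hd.Zsc))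
  have h2 : x ∈ ((P ⊔ Z : Subgroup Ω) : Set Ω) := hx
  rw [Subgroup.coe_mul_of_left_le_normalizer_right P Z hn] at h2
  obtain ⟨a, ha, b, hb, rfl⟩ := h2
  have haS := wSub_le (hP ha)
  have hb1 := (hd.qmap_eq_one (hd.Z_le hb)).2 hb
  rw [hg.map_mul (mem_sup_left ha) (mem_sup_right hb), hgx a ha, hgZ b hb,
    qmap_mul haS (hd.Z_le hb), qmap_mul (hf.mem ha) (hd.Z_le hb), hb1, mul_one, mul_one, hfx a ha]

theorem transport_good {a : MulAut (wSub θ W')} (ha : a ∈ F.autGroup (wSub θ W'))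
    {P : Subgroup Ω} {f : Ω → Ω} (h : Good F θ D' P f) :
    Good F θ D' (img P (autFun a)) (fun y => autFun a (f (autFun a⁻¹ y))) := by
  have hW := h.img_le_wSub
  obtain ⟨hf, hP, f', hf', hfx⟩ := h
  have hm : IsMap F (wSub θ W') (autFun a) := isMap_autFun wSub_le ha
  have hm' : IsMap F (wSub θ W') (autFun a⁻¹) := isMap_autFun wSub_le (inv_mem ha)
  have himg : img P (autFun a) ≤ wSub θ W' := fun y hy => by
    obtain ⟨x, hx, rfl⟩ := (hm.mono hP).mem_img.1 hy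
    exact autFun_mem a (hP hx)
  have hinv : ∀ y ∈ img P (autFun a), autFun a⁻¹ y ∈ P := fun y hy => by
    obtain ⟨x, hx, rfl⟩ := (hm.mono hP).mem_img.1 hy
    rwa [autFun_inv_apply a (hP hx)]
  refine ⟨((hm'.mono himg).comp hf hinv).comp hm fun y hy => hW (hf.apply_mem_img (hinv y hy)),
    himg, ?_⟩
  -- the automorphism of `W'`
  obtain ⟨a', ha', ha'x⟩ := hd.descend hm
  rw [hd.im_wSub] at ha'
  haveI := hd.finiteW
  haveI := hd.finite'
  have hi : img W' a' = W' := StronglyClosed.img_eq hd.normal.1.2.2.2.1 ha' le_rfl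
  obtain ⟨g', hg', hg'x⟩ := IsInvariantIn.transport hd.normal.1.2.2
    (ha'.toAut_mem hi) hf'
  have hcoe : ∀ y ∈ W', autFun (ha'.toAut hi) y = a' y := fun y hy => by
    rw [autFun_apply _ hy, IsMap.toAut_apply]
  have hmA : IsMap F' W' (autFun (ha'.toAut hi)) := isMap_autFun hd.W'_le (ha'.toAut_mem hi)
  have hle : imageAlong θ (img P (autFun a)) ≤
      img (imageAlong θ P) (autFun (ha'.toAut hi)) := by
    intro y hy
    obtain ⟨z, hz, rfl⟩ := (mem_im (hm.mono hP).img_le).1 hy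
    obtain ⟨x, hx, rfl⟩ := (hm.mono hP).mem_img.1 hz
    refine (hmA.mono (hd.im_le_W' hP)).mem_img.2 ⟨_, qmap_mem_im (hP.trans wSub_le) hx, ?_⟩
    rw [hcoe _ (mem_pre.1 (hP hx)).2, ha'x x (hP hx)]
  refine ⟨g', hg'.mono hle, fun y hy => ?_⟩
  obtain ⟨x, hx, rfl⟩ := (hm.mono hP).mem_img.1 hy
  have hfW : f x ∈ wSub θ W' := hW (hf.apply_mem_img hx)
  have h1 := hg'x _ (qmap_mem_im (hP.trans wSub_le) hx)
  rw [hcoe _ (mem_pre.1 (hP hx)).2, ha'x x (hP hx), hfx x hx, hcoe _ (mem_pre.1 hfW).2,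
    ha'x _ hfW] at h1
  show g' (qmap θ (autFun a x)) = qmap θ (autFun a (f (autFun a⁻¹ (autFun a x))))
  rw [autFun_inv_apply a (hP hx), h1]

theorem frattini {P : Subgroup Ω} {f : Ω → Ω} (hf : IsMap F P f) (hP : P ≤ wSub θ W') :
    ∃ a ∈ F.autGroup (wSub θ W'), Good F θ D' P (fun x => autFun a (f x)) := by
  obtain ⟨f', hf', hfx⟩ := hd.descend hf
  obtain ⟨b, hb, φ₀, hφ₀, hbx⟩ := hd.normal.1.2.2.2.2.2 (imageAlong θ P) (hd.im_le_W' hP)
    hf'.toHom hf'.toHom_mem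
  have hbm : IsMap F' W' (autFun b) := isMap_autFun hd.W'_le hb
  obtain ⟨g, hg, hgx⟩ := hd.lift hbm
  have hgW : img (wSub θ W') g = wSub θ W' :=
    StronglyClosed.img_eq hd.wSub_stronglyClosed hg le_rfl
  set a := (hg.toAut hgW)⁻¹ with ha
  have haA : a ∈ F.autGroup (wSub θ W') := inv_mem (hg.toAut_mem hgW)
  refine ⟨a, haA, (hf.comp (isMap_autFun wSub_le haA) fun x hx => hd.mem_wSub_of_map hf hx (hP hx)),
    hP, toFun φ₀, isMap_of_hom hφ₀, fun x hx => ?_⟩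
  have hxI := qmap_mem_im (θ := θ) (hP.trans wSub_le) hx
  have hfW : f x ∈ wSub θ W' := hd.mem_wSub_of_map hf hx (hP hx)
  set w := autFun a (f x) with hw
  have hwW : w ∈ wSub θ W' := autFun_mem a hfW
  have hgw : g w = f x := by
    have h := autFun_apply_inv (hg.toAut hgW) hfW
    rw [autFun_apply (hg.toAut hgW) (autFun_mem _ hfW)] at h
    exact (IsMap.toAut_apply hg hgW _).symm.trans h
  have hz := (D'.le_of_mem hφ₀).2 ⟨qmap θ x, hxI⟩
  have h1 := hbx ⟨qmap θ x, hxI⟩ hz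
  rw [IsMap.toHom_apply, hfx x hx, ← hgw, ← hgx w hwW,
    autFun_apply b (mem_pre.1 hwW).2] at h1
  show toFun φ₀ (qmap θ x) = qmap θ w
  rw [toFun_of_mem φ₀ hxI]
  exact (congrArg Subtype.val (b.injective (Subtype.ext h1))).symm

/-- Conjugates of inducing maps by maps of `F` induce maps of `D'`. -/
theorem good_transfer {P X : Subgroup Ω} {f ψ k : Ω → Ω} (h : Good F θ D' P f)
    (hψ : IsMap F X ψ) (hX : X ≤ wSub θ W') (hPX : P ≤ X) (hfX : ∀ x ∈ P, f x ∈ X)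
    (hk : ∀ x ∈ P, k (ψ x) = x) : Good F θ D' (img P ψ) (fun y => ψ (f (k y))) := by
  obtain ⟨a, ha, hg⟩ := hd.frattini hψ hX
  set g : Ω → Ω := fun x => autFun a (ψ x) with hgdef
  obtain ⟨g₁, hg₁, hg₁x, -⟩ := (hg.mono hPX).inv
  have hconj : Good F θ D' (img P g) (fun y => g (f (g₁ y))) := by
    refine (hg₁.comp h fun y hy => ?_).comp hg fun y hy => ?_
    · obtain ⟨x, hx, rfl⟩ := (hg.mono hPX).1.mem_img.1 hy
      rwa [hg₁x x hx]
    · obtain ⟨x, hx, rfl⟩ := (hg.mono hPX).1.mem_img.1 hy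
      rw [hg₁x x hx]
      exact hfX x hx
  have hψW : ∀ x ∈ X, ψ x ∈ wSub θ W' := fun x hx => hd.mem_wSub_of_map hψ hx (hX hx)
  have hT := hd.transport_good (inv_mem ha) hconj
  rw [inv_inv] at hT
  have hm : IsMap F (wSub θ W') (autFun a⁻¹) := isMap_autFun wSub_le (inv_mem ha)
  have himg : img (img P g) (autFun a⁻¹) = img P ψ := by
    rw [← img_comp_eq (hg.mono hPX).1 hm fun x hx => autFun_mem a (hψW x (hPX hx))]
    exact img_congr fun x hx => autFun_inv_apply a (hψW x (hPX hx))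
  rw [himg] at hT
  refine hT.congr fun y hy => ?_
  obtain ⟨x, hx, rfl⟩ := (hψ.mono hPX).mem_img.1 hy
  show autFun a⁻¹ (g (f (g₁ (g x)))) = ψ (f (k (ψ x)))
  rw [hg₁x x hx, hk x hx, hgdef]
  exact autFun_inv_apply a (hψW _ (hfX x hx))

theorem cen_wSub : Cen Z θ D' (wSub θ W') := by
  refine ⟨hd.Z_le_wSub, le_rfl, ?_⟩
  rw [hd.im_wSub]
  haveI := hd.finiteW
  refine centric_of_fullyCentralized hd.pW' hd.sat_D' ⟨le_rfl, fun R hR => ?_⟩ fun c hc => hc.1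
  obtain ⟨f, hf, rfl⟩ := isConj_iff.1 hR
  rw [eq_of_le_of_card_le hf.img_le hf.card_img.ge]

theorem cen_mono {P R : Subgroup Ω} (h : Cen Z θ D' P) (hPR : P ≤ R) (hR : R ≤ wSub θ W') :
    Cen Z θ D' R := by
  haveI := hd.finiteW
  exact ⟨h.1.trans hPR, hR, centric_of_le h.2.2 (im_mono hPR) (hd.im_le_W' hR)⟩

theorem im_img {P : Subgroup Ω} {f : Ω → Ω} {f' : Ω' → Ω'} (hf : IsMap F P f)
    {G : FusionSystem W'} (hf' : IsMap G (imageAlong θ P) f')
    (hfx : ∀ x ∈ P, f' (qmap θ x) = qmap θ (f x)) :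
    imageAlong θ (img P f) = img (imageAlong θ P) f' := by
  ext y
  rw [mem_im hf.img_le, hf'.mem_img]
  constructor
  · rintro ⟨z, hz, rfl⟩
    obtain ⟨x, hx, rfl⟩ := hf.mem_img.1 hz
    exact ⟨_, qmap_mem_im hf.le hx, hfx x hx⟩
  · rintro ⟨w, hw, rfl⟩
    obtain ⟨x, hx, rfl⟩ := (mem_im hf.le).1 hw
    exact ⟨f x, hf.apply_mem_img hx, (hfx x hx).symm⟩

theorem cen_good {P : Subgroup Ω} {f : Ω → Ω} (h : Cen Z θ D' P) (hf : Good F θ D' P f) :
    Cen Z θ D' (img P f) := by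
  refine ⟨fun z hz => ?_, hf.img_le_wSub, ?_⟩
  · rw [← hd.map_Z hf.1 (h.1 hz) hz]
    exact hf.1.apply_mem_img (h.1 hz)
  · obtain ⟨hfm, hP, f', hf', hfx⟩ := hf
    rw [hd.im_img hfm hf' hfx]
    exact centric_of_isConj h.2.2 hf'.isConj

theorem cen_autFun {P : Subgroup Ω} (h : Cen Z θ D' P) {a : MulAut (wSub θ W')}
    (ha : a ∈ F.autGroup (wSub θ W')) : Cen Z θ D' (img P (autFun a)) := by
  have hm : IsMap F (wSub θ W') (autFun a) := isMap_autFun wSub_le ha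
  have hmP := hm.mono h.2.1
  have himgW : img P (autFun a) ≤ wSub θ W' := fun y hy => by
    obtain ⟨x, hx, rfl⟩ := hmP.mem_img.1 hy
    exact autFun_mem a (h.2.1 hx)
  refine ⟨fun z hz => ?_, himgW, hd.im_le_W' himgW, fun R hR => ?_⟩
  · rw [← hd.map_Z hmP (h.1 hz) hz]
    exact hmP.apply_mem_img (h.1 hz)
  obtain ⟨f', hf', rfl⟩ := isConj_iff.1 hR
  obtain ⟨g, hg, hgx⟩ := hd.lift (isMap_of_sub' hd.normal.1.2.2.1 hf')
  rw [hd.pre_im (fun z hz => by rw [← hd.map_Z hmP (h.1 hz) hz]; exact hmP.apply_mem_img (h.1 hz))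
    hmP.img_le] at hg hgx
  have hgood : Good F θ D' (img P (autFun a)) g := ⟨hg, himgW, f', hf', hgx⟩
  have hmi : IsMap F (wSub θ W') (autFun a⁻¹) := isMap_autFun wSub_le (inv_mem ha)
  have hT := hd.transport_good (inv_mem ha) hgood
  rw [inv_inv] at hT
  have hback : img (img P (autFun a)) (autFun a⁻¹) = P := by
    refine (img_comp_eq hmP hmi fun x hx => autFun_mem a (h.2.1 hx)).symm.trans ?_
    refine (img_congr (g := fun x => x) fun x hx => autFun_inv_apply a (h.2.1 hx)).trans ?_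
    rw [img, Set.image_id', Subgroup.closure_eq]
  rw [hback] at hT
  set f₁ := fun y => autFun a⁻¹ (g (autFun a y)) with hf₁
  have hc := hd.cen_good h hT
  intro c hc'
  obtain ⟨u, hu, rfl⟩ : ∃ u ∈ wSub θ W', qmap θ u = c := by
    have : c ∈ imageAlong θ (wSub θ W') := hd.im_wSub.ge hc'.1
    exact (mem_im wSub_le).1 this
  set v := autFun a⁻¹ u with hv
  have hvW : v ∈ wSub θ W' := autFun_mem _ hu
  obtain ⟨-, -, hcen⟩ := hc
  have hvc : qmap θ v ∈ centralizerIn W' (imageAlong θ (img P f₁)) := by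
    refine ⟨(mem_pre.1 hvW).2, fun y hy => ?_⟩
    obtain ⟨z, hz, rfl⟩ := (mem_im hT.1.img_le).1 hy
    obtain ⟨x, hx, rfl⟩ := hT.1.mem_img.1 hz
    have hax : autFun a x ∈ img P (autFun a) := hmP.apply_mem_img hx
    have hgax : g (autFun a x) ∈ wSub θ W' := hgood.mem_wSub hax
    have h2 := hc'.2 _ ((hd.im_img hgood.1 hf' hgx).le
      (qmap_mem_im hgood.1.img_le (hgood.1.apply_mem_img hax)))
    have h3 : (g (autFun a x) * u)⁻¹ * (u * g (autFun a x)) ∈ Z :=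
      (hd.qmap_eq_iff (S.mul_mem (wSub_le hgax) (wSub_le hu))
        (S.mul_mem (wSub_le hu) (wSub_le hgax))).1 (by
        rw [qmap_mul (wSub_le hgax) (wSub_le hu), qmap_mul (wSub_le hu) (wSub_le hgax), h2])
    have hm1 := (wSub θ W').mul_mem hgax hu
    have hm2 := (wSub θ W').mul_mem hu hgax
    have h4 : autFun a⁻¹ ((g (autFun a x) * u)⁻¹ * (u * g (autFun a x))) ∈ Z := by
      rw [hd.map_Z hmi (hd.Z_le_wSub h3) h3]
      exact h3
    rw [hmi.map_mul ((wSub θ W').inv_mem hm1) hm2, hmi.map_inv hm1, hmi.map_mul hgax hu,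
      hmi.map_mul hu hgax] at h4
    have hw : autFun a⁻¹ (g (autFun a x)) ∈ S := hmi.mem hgax
    have h5 := (hd.qmap_eq_iff (S.mul_mem hw (wSub_le hvW)) (S.mul_mem (wSub_le hvW) hw)).2 h4
    rwa [qmap_mul hw (wSub_le hvW), qmap_mul (wSub_le hvW) hw] at h5
  have hvm := hcen.2 _ (isConj_refl hcen.1) hvc
  obtain ⟨z, hz, hzv⟩ := (mem_im hT.1.img_le).1 hvm
  obtain ⟨x, hx, rfl⟩ := hT.1.mem_img.1 hz
  have hax : autFun a x ∈ img P (autFun a) := hmP.apply_mem_img hx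
  have hgax : g (autFun a x) ∈ wSub θ W' := hgood.mem_wSub hax
  rw [← hd.im_img hgood.1 hf' hgx]
  refine (mem_im hgood.1.img_le).2 ⟨g (autFun a x), hgood.1.apply_mem_img hax, ?_⟩
  have h3 := (hd.qmap_eq_iff (hmi.mem hgax) (wSub_le hvW)).1 hzv
  rw [hv, ← hmi.map_inv hgax, ← hmi.map_mul ((wSub θ W').inv_mem hgax) hu] at h3
  have h4 := hd.map_Z hm (hd.Z_le_wSub h3) h3
  rw [autFun_apply_inv a ((wSub θ W').mul_mem ((wSub θ W').inv_mem hgax) hu)] at h4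
  rw [← h4] at h3
  exact (hd.qmap_eq_iff (wSub_le hgax) (wSub_le hu)).2 h3

theorem cen_map {P : Subgroup Ω} {f : Ω → Ω} (h : Cen Z θ D' P) (hf : IsMap F P f) :
    Cen Z θ D' (img P f) := by
  obtain ⟨a, ha, hg⟩ := hd.frattini hf h.2.1
  have hc := hd.cen_autFun (hd.cen_good h hg) (inv_mem ha)
  have hfW : ∀ x ∈ P, f x ∈ wSub θ W' := fun x hx => hd.mem_wSub_of_map hf hx (h.2.1 hx)
  rwa [← img_comp_eq hg.1 (isMap_autFun wSub_le (inv_mem ha)) fun x hx => hg.mem_wSub hx,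
    img_congr fun x hx => autFun_inv_apply a (hfW x hx)] at hc

/-- An element of the preimage centralizing a subgroup with centric image modulo `Z` lies in it. -/
theorem mem_of_centralizes {P : Subgroup Ω} (h : Cen Z θ D' P) {x : Ω} (hx : x ∈ wSub θ W')
    (hc : ∀ y ∈ P, y⁻¹ * (x * y * x⁻¹) ∈ Z) : x ∈ P := by
  have hPS : P ≤ S := h.2.1.trans wSub_le
  have h1 : qmap θ x ∈ centralizerIn W' (imageAlong θ P) := by
    refine ⟨(mem_pre.1 hx).2, fun y hy => ?_⟩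
    obtain ⟨z, hz, rfl⟩ := (mem_im hPS).1 hy
    have h2 := (hd.qmap_eq_iff (hPS hz)
      (S.mul_mem (S.mul_mem (wSub_le hx) (hPS hz)) (S.inv_mem (wSub_le hx)))).2 (hc z hz)
    rw [qmap_conj (wSub_le hx) (hPS hz)] at h2
    calc qmap θ z * qmap θ x = qmap θ x * qmap θ z * (qmap θ x)⁻¹ * qmap θ x := by rw [← h2]
      _ = qmap θ x * qmap θ z := by group
  have h2 := h.2.2.2 _ (isConj_refl h.2.2.1) h1
  rw [← hd.pre_im h.1 hPS]
  exact mem_pre.2 ⟨wSub_le hx, h2⟩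

end Setup

end CfsgLib.Comp.Pre
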