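import Cfsg.Agent.Lib.Comp.PreimageCentMain

/-!
The group generated by the automorphisms induced by the preimage and the inducing ones of order
prime to `p` meets `Aut_S` in the former.
-/

set_option autoImplicit false
set_option linter.unusedVariables false
set_option linter.unusedSectionVars false
set_option linter.style.haveILetI false

namespace CfsgLib.Comp.Pre

open Cfsg Cfsg.FusionSystem Subgroup CfsgLib.Fusion

variable {Ω Ω' : Type*} [Group Ω] [Group Ω'] {S Z : Subgroup Ω} {S' W' : Subgroup Ω'}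
  {F : FusionSystem S} {θ : S →* Ω'} {F' : FusionSystem S'} {D' : FusionSystem W'} {p : ℕ}

/-- The automorphisms induced by the preimage together with the inducing ones of order prime to
`p`. -/
def genAut (F : FusionSystem S) (p : ℕ) (θ : S →* Ω') (D' : FusionSystem W') (Q : Subgroup Ω) :
    Subgroup (MulAut Q) :=
  autInducedBy (wSub θ W') Q ⊔
    Subgroup.closure {α | α ∈ goodAut F θ D' Q ∧ (orderOf α).Coprime p}

theorem induced_le_genAut {Q : Subgroup Ω} :
    autInducedBy (wSub θ W') Q ≤ genAut F p θ D' Q := le_sup_left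

theorem coprime_mem_genAut {Q : Subgroup Ω} {α : MulAut Q} (hα : α ∈ goodAut F θ D' Q)
    (hco : (orderOf α).Coprime p) : α ∈ genAut F p θ D' Q :=
  Subgroup.mem_sup_right (Subgroup.subset_closure ⟨hα, hco⟩)

variable [Fact p.Prime] [Finite S]

theorem genAut_le_goodAut {Q : Subgroup Ω} (hQW : Q ≤ wSub θ W') :
    genAut F p θ D' Q ≤ goodAut F θ D' Q :=
  sup_le (fun κ hκ => induced_le_goodAut hQW hκ) ((Subgroup.closure_le _).2 fun α h => h.1)

namespace Setup

variable (hd : Setup F p Z θ F' D')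

include hd

theorem genAut_inf_induced {Q : Subgroup Ω} (hQ : F.IsFullyNormalized Q) (hc : Cen Z θ D' Q)
    {α : MulAut Q} (hα : α ∈ genAut F p θ D' Q) (hαS : α ∈ autInducedBy S Q) :
    α ∈ autInducedBy (wSub θ W') Q := by
  obtain ⟨hZQ, hQW, hQc⟩ := id hc
  haveI := finite_of_le hQ.1
  set G := goodAut F θ D' Q with hG
  set H : Subgroup G := (autInducedBy S Q).subgroupOf G with hH
  obtain ⟨V, hV⟩ := hd.exists_sylow_good hQ hQW
  have hcent : ∀ g ∈ G, ∀ k ∈ kerAut F Z Q,
      g * k * g⁻¹ * k⁻¹ ∈ autInducedBy (wSub θ W') Q := fun g hg k hk =>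
    ((hd.goodAut_le_centAut (Nat.card (wSub θ W')) Q hQ hc (Nat.le_add_left _ _)) g hg).2 k hk
  set N : Subgroup H := ((autInducedBy (wSub θ W') Q).subgroupOf G).subgroupOf H with hN
  haveI : N.Normal := ⟨fun a ha c => by
    have haW : ((a : G) : MulAut Q) ∈ autInducedBy (wSub θ W') Q := ha
    exact hd.conj_induced hQ (c : G).2.1 haW (mul_mem (mul_mem c.2 a.2) (inv_mem c.2))⟩
  have hdec : ∀ x : H, ∃ k : H, ((k : G) : MulAut Q) ∈ kerAut F Z Q ∧
      (x : H ⧸ N) = (k : H ⧸ N) := fun x => by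
    obtain ⟨κ, hκ, hker⟩ := hd.exists_induced_of_good hQ hZQ hQW (x : G).2 x.2
    refine ⟨⟨⟨κ⁻¹ * ((x : G) : MulAut Q), hd.ker_le_goodAut hQW hker⟩,
      hd.kerAut_le_induced hQ hZQ hker⟩, hker, QuotientGroup.eq.2 ?_⟩
    show ((x : G) : MulAut Q)⁻¹ * (κ⁻¹ * ((x : G) : MulAut Q)) ∈ autInducedBy (wSub θ W') Q
    have := hd.conj_induced hQ (inv_mem (x : G).2.1) (inv_mem hκ) (by
      rw [inv_inv]
      exact mul_mem (mul_mem (inv_mem x.2) (inv_mem (autInducedBy_mono wSub_le hκ))) x.2)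
    rw [inv_inv] at this
    rwa [← mul_assoc]
  letI : CommGroup (H ⧸ N) :=
    { (inferInstance : Group (H ⧸ N)) with
      mul_comm := fun a b => by
        obtain ⟨x, rfl⟩ := QuotientGroup.mk_surjective a
        obtain ⟨y, rfl⟩ := QuotientGroup.mk_surjective b
        obtain ⟨k, hk, hxk⟩ := hdec x
        obtain ⟨l, hl, hyl⟩ := hdec y
        rw [hxk, hyl, ← QuotientGroup.mk_mul, ← QuotientGroup.mk_mul]
        exact congrArg _ (Subtype.ext (Subtype.ext (hd.kerAut_comm hQ.1 hk hl))) }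
  set τ : G →* H ⧸ N := MonoidHom.transfer (QuotientGroup.mk' N) with hτ
  have hτW : ∀ g : G, (g : MulAut Q) ∈ autInducedBy (wSub θ W') Q → τ g = 1 := fun g hg => by
    classical
    haveI := Fintype.ofFinite (Quotient (MulAction.orbitRel (zpowers g) (G ⧸ H)))
    rw [hτ, MonoidHom.transfer_eq_prod_quotient_orbitRel_zpowers_quot]
    refine Finset.prod_eq_one fun q _ => ?_
    rw [QuotientGroup.mk'_apply, QuotientGroup.eq_one_iff]
    set g₀ : G := q.out.out
    set n := Function.minimalPeriod (g • ·) q.out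
    have hmem : g₀⁻¹ * g ^ n * g₀ ∈ H := QuotientGroup.out_conj_pow_minimalPeriod_mem H g q.out
    have := hd.conj_induced hQ (inv_mem g₀.2.1) (pow_mem hg n) (by
      rw [inv_inv]; exact hmem)
    rw [inv_inv] at this
    exact this
  have hτker : ∀ k : H, ((k : G) : MulAut Q) ∈ kerAut F Z Q →
      τ k = ((k : H ⧸ N)) ^ H.index := fun k hk => by
    haveI := H.fintypeQuotientOfFiniteIndex
    have hfix : ∀ q : G ⧸ H, (k : G)⁻¹ • q = q := fun q => by
      induction q using QuotientGroup.induction_on with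
      | H g =>
        refine QuotientGroup.eq.2 ?_
        show ((k : G)⁻¹ * g)⁻¹ * g ∈ H
        have e : ((k : G)⁻¹ * g)⁻¹ * g = g⁻¹ * (k : G) * g⁻¹⁻¹ := by group
        rw [e]
        exact hd.kerAut_le_induced hQ hZQ (hd.kerAut_conj hQ.1 hZQ hk (inv_mem g.2.1))
    let T : H.LeftTransversal := default
    rw [hτ, MonoidHom.transfer_def (QuotientGroup.mk' N) T (k : G)]
    unfold Subgroup.leftTransversals.diff
    rw [Subgroup.index, ← Finset.card_univ.trans Fintype.card_eq_nat_card, ← Finset.prod_const]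
    refine Finset.prod_congr (by congr; exact Subsingleton.elim _ _) fun q _ => ?_
    rw [QuotientGroup.mk'_apply, QuotientGroup.eq]
    have e1 : ((((k : G) • T).2.leftQuotientEquiv q : G)) = (k : G) * (T.2.leftQuotientEquiv q : G) := by
      rw [Subgroup.smul_apply_eq_smul_apply_inv_smul, hfix, smul_eq_mul]
    show ((( T.2.leftQuotientEquiv q : G))⁻¹ * (((k : G) • T).2.leftQuotientEquiv q : G) : MulAut Q)⁻¹ *
      ((k : G) : MulAut Q) ∈ autInducedBy (wSub θ W') Q
    rw [e1]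
    set g := ((T.2.leftQuotientEquiv q : G) : MulAut Q) with hg
    have h1 := hcent g⁻¹ (inv_mem (T.2.leftQuotientEquiv q : G).2) _ (inv_mem hk)
    rw [inv_inv, inv_inv] at h1
    show (g⁻¹ * (((k : G) : MulAut Q) * g))⁻¹ * ((k : G) : MulAut Q) ∈ _
    rwa [show (g⁻¹ * (((k : G) : MulAut Q) * g))⁻¹ * ((k : G) : MulAut Q) =
      g⁻¹ * ((k : G) : MulAut Q)⁻¹ * g * ((k : G) : MulAut Q) by group]
  have hidx : ¬ p ∣ H.index := by
    rw [hH, ← hV]
    exact V.not_dvd_index
  have hpQ : IsPGroup p (H ⧸ N) := by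
    have hHp : IsPGroup p H := by
      rw [hH, ← hV]
      exact V.isPGroup'
    exact hHp.to_quotient N
  have hone : ∀ (x : H ⧸ N) (n : ℕ), n.Coprime p → x ^ n = 1 → x = 1 := fun x n hn hx => by
    obtain ⟨e, he⟩ := hpQ x
    exact orderOf_eq_one_iff.1 (Nat.eq_one_of_dvd_coprimes (hn.pow_right e)
      (orderOf_dvd_of_pow_eq_one hx) (orderOf_dvd_of_pow_eq_one he))
  have hker : genAut F p θ D' Q ≤ τ.ker.map G.subtype := by
    refine sup_le (fun κ hκ => ⟨⟨κ, induced_le_goodAut hQW hκ⟩, hτW _ hκ, rfl⟩)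
      ((Subgroup.closure_le _).2 fun β hβ => ⟨⟨β, hβ.1⟩, ?_, rfl⟩)
    refine hone _ (orderOf β) hβ.2 ?_
    rw [← map_pow, show (⟨β, hβ.1⟩ : G) ^ orderOf β = 1 from Subtype.ext (pow_orderOf_eq_one β),
      map_one]
  obtain ⟨g, hg, rfl⟩ := hker hα
  obtain ⟨k, hk, hxk⟩ := hdec ⟨g, hαS⟩
  have hdiff : ((k : G) : MulAut Q)⁻¹ * (g : MulAut Q) ∈ autInducedBy (wSub θ W') Q :=
    (QuotientGroup.eq (s := N)).1 hxk.symm
  have h1 : τ (k : G) = 1 := by
    have h2 := hτW ((k : G)⁻¹ * g) hdiff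
    rwa [map_mul, (MonoidHom.mem_ker.1 hg), mul_one, map_inv, inv_eq_one] at h2
  rw [hτker k hk] at h1
  have h3 : (k : H ⧸ N) = 1 :=
    hone _ H.index ((Nat.Prime.coprime_iff_not_dvd Fact.out).2 hidx).symm h1
  rw [QuotientGroup.eq_one_iff] at h3
  have h4 := mul_mem (show ((k : G) : MulAut Q) ∈ autInducedBy (wSub θ W') Q from h3) hdiff
  rwa [mul_inv_cancel_left] at h4

end Setup

end CfsgLib.Comp.Pre
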