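import Cfsg.Agent.Lib.Comp.PreimageSys
import Cfsg.Agent.Lib.Comp.CanonicalExt
import Cfsg.Agent.Lib.Fusion.LocalSaturation

/-!
The inducing automorphisms centralize the automorphisms trivial modulo `Z`, up to those induced by
the preimage.
-/

set_option autoImplicit false
set_option linter.unusedVariables false
set_option linter.unusedSectionVars false
set_option linter.style.haveILetI false

namespace CfsgLib.Comp.Pre

open Cfsg Cfsg.FusionSystem Subgroup CfsgLib.Fusion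

variable {Ω Ω' : Type*} [Group Ω] [Group Ω'] {S Z : Subgroup Ω} {S' W' : Subgroup Ω'}
  {F : FusionSystem S} {θ : S →* Ω'} {F' : FusionSystem S'} {D' : FusionSystem W'} {p : ℕ}

/-- The automorphisms of `V` in `F` trivial modulo `Z`. -/
def kerAut (F : FusionSystem S) (Z V : Subgroup Ω) : Subgroup (MulAut V) where
  carrier := {α | α ∈ F.autGroup V ∧ ∀ y : V, (y : Ω)⁻¹ * ((α y : V) : Ω) ∈ Z}
  one_mem' := ⟨one_mem _, fun y => by simp⟩
  mul_mem' {α β} hα hβ := ⟨mul_mem hα.1 hβ.1, fun y => by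
    have h := Z.mul_mem (hβ.2 y) (hα.2 (β y))
    rwa [mul_assoc, mul_inv_cancel_left] at h⟩
  inv_mem' {α} hα := ⟨inv_mem hα.1, fun y => by
    have h1 := Z.inv_mem (hα.2 (α⁻¹ y))
    rw [MulAut.apply_inv_self, mul_inv_rev, inv_inv] at h1
    exact h1⟩

/-- An element of order prime to `p` congruent modulo a normal subgroup to a `p`-element lies in
that subgroup. -/
theorem mem_of_coprime_mul {G : Type*} [Group G] {p : ℕ} [Fact p.Prime] (N : Subgroup G) [N.Normal]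
    {n s : G} (hn : n ∈ N) {a : ℕ} (hs : s ^ p ^ a = 1) (hco : (orderOf (n * s)).Coprime p) :
    n * s ∈ N := by
  rw [← QuotientGroup.eq_one_iff]
  have h1 : ((n * s : G) : G ⧸ N) = (s : G ⧸ N) := by
    rw [QuotientGroup.mk_mul, (QuotientGroup.eq_one_iff n).2 hn, one_mul]
  have h2 : orderOf ((n * s : G) : G ⧸ N) ∣ orderOf (n * s) :=
    orderOf_map_dvd (QuotientGroup.mk' N) (n * s)
  have h3 : orderOf ((n * s : G) : G ⧸ N) ∣ p ^ a := by
    rw [h1]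
    exact orderOf_dvd_of_pow_eq_one (by rw [← QuotientGroup.mk_pow, hs]; rfl)
  exact orderOf_eq_one_iff.1 (Nat.eq_one_of_dvd_coprimes (hco.pow_right a) h2 h3)

variable [Fact p.Prime] [Finite S]

namespace Setup

variable (hd : Setup F p Z θ F' D')

include hd

theorem comm_Z {x z : Ω} (hx : x ∈ S) (hz : z ∈ Z) : x * z = z * x :=
  F.center_le_centralizer (IsCentral.le_center hd.central hz) x hx

theorem kerAut_fix {V : Subgroup Ω} (hVS : V ≤ S) {α : MulAut V} (hα : α ∈ F.autGroup V) {z : V}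
    (hz : (z : Ω) ∈ Z) : α z = z := by
  apply Subtype.ext
  have h := hd.map_Z (isMap_autFun hVS hα) z.2 hz
  rwa [autFun_apply α z.2] at h

theorem kerAut_conj {V : Subgroup Ω} (hVS : V ≤ S) (hZV : Z ≤ V) {α β : MulAut V}
    (hα : α ∈ kerAut F Z V) (hβ : β ∈ F.autGroup V) : β * α * β⁻¹ ∈ kerAut F Z V := by
  refine ⟨mul_mem (mul_mem hβ hα.1) (inv_mem hβ), fun y => ?_⟩
  set w : V := β⁻¹ y with hw
  have hwy : β w = y := MulAut.apply_inv_self _ _ _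
  have hz := hα.2 w
  have h1 : β (w⁻¹ * α w) = w⁻¹ * α w := hd.kerAut_fix hVS hβ hz
  show (y : Ω)⁻¹ * ((β (α (β⁻¹ y)) : V) : Ω) ∈ Z
  rw [← hw, ← hwy]
  have e : ((β (w⁻¹ * α w) : V) : Ω) = ((w : Ω))⁻¹ * ((α w : V) : Ω) := congrArg Subtype.val h1
  rw [map_mul, map_inv, Subgroup.coe_mul, Subgroup.coe_inv] at e
  rw [e]
  exact hz

theorem kerAut_pow {V : Subgroup Ω} (hVS : V ≤ S) {α : MulAut V} (hα : α ∈ kerAut F Z V) :
    ∃ e : ℕ, α ^ p ^ e = 1 := by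
  obtain ⟨e, he⟩ := hd.pS.exists_card_eq
  refine ⟨e, MulEquiv.ext fun y => ?_⟩
  have h1 := pow_apply_of_fixed (β := α) (x := y) (z := y⁻¹ * α y) (by rw [mul_inv_cancel_left])
    (hd.kerAut_fix hVS hα.1 (hα.2 y)) (p ^ e)
  rw [h1]
  have hone : (y⁻¹ * α y) ^ (p ^ e) = 1 := by
    apply Subtype.ext
    rw [Subgroup.coe_pow, ← he]
    exact congrArg Subtype.val (pow_card_eq_one' (x := (⟨_, hVS (y⁻¹ * α y).2⟩ : S)))
  rw [hone, mul_one]
  rfl

theorem kerAut_comm {V : Subgroup Ω} (hVS : V ≤ S) {α β : MulAut V} (hα : α ∈ kerAut F Z V)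
    (hβ : β ∈ kerAut F Z V) : α * β = β * α := by
  refine MulEquiv.ext fun y => Subtype.ext ?_
  have key : ∀ {α β : MulAut V}, α ∈ kerAut F Z V → β ∈ kerAut F Z V →
      ((α (β y) : V) : Ω) = (α y : Ω) * ((y : Ω)⁻¹ * (β y : Ω)) := fun {α β} hα hβ => by
    have e : β y = y * (y⁻¹ * β y) := by rw [mul_inv_cancel_left]
    conv_lhs => rw [e, map_mul, hd.kerAut_fix hVS hα.1 (z := y⁻¹ * β y) (hβ.2 y)]
    rfl
  show ((α (β y) : V) : Ω) = ((β (α y) : V) : Ω)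
  rw [key hα hβ, key hβ hα]
  have ea : ((α y : V) : Ω) = y * ((y : Ω)⁻¹ * (α y : Ω)) := by rw [mul_inv_cancel_left]
  have eb : ((β y : V) : Ω) = y * ((y : Ω)⁻¹ * (β y : Ω)) := by rw [mul_inv_cancel_left]
  conv_lhs => rw [ea, mul_assoc, hd.comm_Z (hd.Z_le (hα.2 y)) (hβ.2 y)]
  conv_rhs => rw [eb, mul_assoc]

theorem kerAut_le_induced {Q : Subgroup Ω} (hQ : F.IsFullyNormalized Q) (hZQ : Z ≤ Q) {α : MulAut Q}
    (hα : α ∈ kerAut F Z Q) : α ∈ autInducedBy S Q := by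
  haveI := finite_of_le hQ.1
  obtain ⟨V, hV⟩ := (fullyAutomized_of_fullyNormalized hd.pS hd.sat hQ).2
  set K := (kerAut F Z Q).subgroupOf (F.autGroup Q) with hK
  haveI : K.Normal := ⟨fun a ha b => hd.kerAut_conj hQ.1 hZQ ha b.2⟩
  have hKp : IsPGroup p K := by
    rintro ⟨a, ha⟩
    obtain ⟨e, he⟩ := hd.kerAut_pow hQ.1 ha
    exact ⟨e, Subtype.ext (Subtype.ext he)⟩
  have h := hKp.le_sylow_of_normal V (show (⟨α, hα.1⟩ : F.autGroup Q) ∈ K from hα)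
  rw [hV] at h
  exact h

/-- An automorphism carrying a conjugation by the preimage into `Aut_S` carries it into those
induced by the preimage. -/
theorem conj_induced {Q : Subgroup Ω} (hQ : F.IsFullyNormalized Q) {g κ : MulAut Q}
    (hg : g ∈ F.autGroup Q) (hκ : κ ∈ autInducedBy (wSub θ W') Q)
    (hmem : g * κ * g⁻¹ ∈ autInducedBy S Q) : g * κ * g⁻¹ ∈ autInducedBy (wSub θ W') Q := by
  haveI := finite_of_le hQ.1
  obtain ⟨w, hw, hwx⟩ := mem_autInducedBy_iff.1 hκ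
  obtain ⟨h, hh, hhx⟩ := mem_autInducedBy_iff.1 hmem
  have hwn : w ∈ normalizer (Q : Set Ω) := mem_normalizer_of_aut fun x => hwx x
  have hm := isMap_of_autGroup hQ.1 hg
  obtain ⟨b, hb, hbx⟩ := receptive_extend (receptive_of_fullyCentralized hd.pS hd.sat
      (fullyCentralized_of_fullyNormalized hd.pS hd.sat hQ)) hm (img_toFun_aut g)
    (le_sup_left : Q ≤ Q ⊔ zpowers w) fun a ha => by
      have hle : Q ⊔ zpowers w ≤ extender S Q hm.toHom :=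
        sup_le (fun a ha => sup_centralizerIn_le_extender hm hm.toHom_apply (mem_sup_left ha))
          (zpowers_le.2 ((mem_extender_iff hm hm.toHom_apply).2 ⟨wSub_le hw, hwn, h, hh,
            fun x hx => by
              rw [toFun_aut_apply g ((hwn x).1 hx), toFun_aut_apply g hx, ← hhx (g ⟨x, hx⟩)]
              simp only [MulAut.mul_apply, MulAut.inv_apply_self]
              exact congrArg (fun z : Q => ((g z : Q) : Ω)) (Subtype.ext (hwx ⟨x, hx⟩).symm)⟩))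
      exact (mem_extender_iff hm hm.toHom_apply).1 (hle ha)
  have hwU : w ∈ Q ⊔ zpowers w := mem_sup_right (mem_zpowers w)
  refine mem_autInducedBy_iff.2 ⟨b w, hd.mem_wSub_of_map hb hwU hw, fun x => ?_⟩
  set y : Q := g⁻¹ x with hy
  have hxy : g y = x := MulAut.apply_inv_self _ _ _
  have hv : ∀ z : Q, b z = ((g z : Q) : Ω) := fun z => by
    rw [hbx z z.2, toFun_aut_apply g z.2]
  show ((g (κ y) : Q) : Ω) = b w * (x : Ω) * (b w)⁻¹
  rw [← hxy, ← hv y, ← hb.map_conj hwU (mem_sup_left y.2), ← hwx y, ← hv (κ y)]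

theorem conj_ker_induced {Q : Subgroup Ω} (hQ : F.IsFullyNormalized Q) (hZQ : Z ≤ Q)
    {g κ : MulAut Q} (hg : g ∈ F.autGroup Q) (hκ : κ ∈ autInducedBy (wSub θ W') Q)
    (hκz : κ ∈ kerAut F Z Q) : g * κ * g⁻¹ ∈ autInducedBy (wSub θ W') Q :=
  hd.conj_induced hQ hg hκ (hd.kerAut_le_induced hQ hZQ (hd.kerAut_conj hQ.1 hZQ hκz hg))

/-- The automorphisms centralizing `kerAut` modulo those induced by the preimage. -/
def centAut {Q : Subgroup Ω} (hQ : F.IsFullyNormalized Q) (hZQ : Z ≤ Q) : Subgroup (MulAut Q) where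
  carrier := {β | β ∈ F.autGroup Q ∧
    ∀ k ∈ kerAut F Z Q, β * k * β⁻¹ * k⁻¹ ∈ autInducedBy (wSub θ W') Q}
  one_mem' := ⟨one_mem _, fun k hk => by simp⟩
  mul_mem' {a b} ha hb := ⟨mul_mem ha.1 hb.1, fun k hk => by
    have h1 : a * (b * k * b⁻¹ * k⁻¹) * a⁻¹ ∈ autInducedBy (wSub θ W') Q :=
      hd.conj_ker_induced hQ hZQ ha.1 (hb.2 k hk)
        (mul_mem (hd.kerAut_conj hQ.1 hZQ hk hb.1) (inv_mem hk))
    have h2 := mul_mem h1 (ha.2 k hk)
    have e : a * (b * k * b⁻¹ * k⁻¹) * a⁻¹ * (a * k * a⁻¹ * k⁻¹) = a * b * k * (a * b)⁻¹ * k⁻¹ := by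
      group
    rwa [e] at h2⟩
  inv_mem' {a} ha := ⟨inv_mem ha.1, fun k hk => by
    have h1 := hd.conj_ker_induced hQ hZQ (inv_mem ha.1) (inv_mem (ha.2 k hk))
      (inv_mem (mul_mem (hd.kerAut_conj hQ.1 hZQ hk ha.1) (inv_mem hk)))
    have e : a⁻¹ * (a * k * a⁻¹ * k⁻¹)⁻¹ * a⁻¹⁻¹ = a⁻¹ * k * a⁻¹⁻¹ * k⁻¹ := by group
    rwa [e] at h1⟩

theorem induced_le_centAut {Q : Subgroup Ω} (hQ : F.IsFullyNormalized Q) (hZQ : Z ≤ Q)
    {κ : MulAut Q} (hκ : κ ∈ autInducedBy (wSub θ W') Q) : κ ∈ hd.centAut hQ hZQ := by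
  refine ⟨autInducedBy_le_autGroup hQ.1 (autInducedBy_mono wSub_le hκ), fun k hk => ?_⟩
  obtain ⟨w, hw, hwx⟩ := mem_autInducedBy_iff.1 hκ
  obtain ⟨t, ht, htx⟩ := mem_autInducedBy_iff.1 (hd.kerAut_le_induced hQ hZQ hk)
  refine mem_autInducedBy_iff.2 ⟨w * (t * w⁻¹ * t⁻¹), (wSub θ W').mul_mem hw
    (StronglyClosed.conj_mem hd.wSub_stronglyClosed ht ((wSub θ W').inv_mem hw)), fun x => ?_⟩
  set u : Q := k⁻¹ x with hu
  have hux : k u = x := MulAut.apply_inv_self _ _ _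
  set v : Q := κ⁻¹ u with hv
  have hvu : κ v = u := MulAut.apply_inv_self _ _ _
  show ((κ (k (κ⁻¹ (k⁻¹ x))) : Q) : Ω) = _
  rw [← hu, ← hv, hwx (k v), htx v, ← hux, htx u, ← hvu, hwx v]
  group

theorem ker_le_centAut {Q : Subgroup Ω} (hQ : F.IsFullyNormalized Q) (hZQ : Z ≤ Q)
    {κ : MulAut Q} (hκ : κ ∈ kerAut F Z Q) : κ ∈ hd.centAut hQ hZQ := by
  refine ⟨hκ.1, fun k hk => ?_⟩
  rw [hd.kerAut_comm hQ.1 hκ hk, mul_inv_cancel_right, mul_inv_cancel]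
  exact one_mem _

theorem goodAut_conj {R : Subgroup Ω} (hR : R ≤ wSub θ W') {α β : MulAut R}
    (hα : α ∈ goodAut F θ D' R) (hβ : β ∈ F.autGroup R) : β * α * β⁻¹ ∈ goodAut F θ D' R := by
  refine (mem_goodAut_iff hR).2 ⟨mul_mem (mul_mem hβ hα.1) (inv_mem hβ), ?_⟩
  have hm := isMap_autFun (hR.trans wSub_le) hβ
  have h := hd.good_transfer (hα.2 hR) hm hR le_rfl (fun x hx => autFun_mem α hx)
    (k := autFun β⁻¹) fun x hx => autFun_inv_apply β hx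
  rw [autFun, img_toFun_aut] at h
  exact h.congr fun y hy => by
    rw [autFun_mul_apply _ _ hy, autFun_mul_apply _ _ (autFun_mem _ hy)]
    rfl

/-- The image of a fully normalized subgroup is fully normalized in the subsystem. -/
theorem image_fullyNormalized {Q : Subgroup Ω} (hQ : F.IsFullyNormalized Q) (hZQ : Z ≤ Q)
    (hQW : Q ≤ wSub θ W') : D'.IsFullyNormalized (imageAlong θ Q) := by
  haveI := hd.finiteW
  haveI := hd.finite'
  set Q' := imageAlong θ Q with hQ'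
  have hQ'W : Q' ≤ W' := hd.im_le_W' hQW
  haveI := finite_of_le hQ'W
  have hQ'n : F'.IsFullyNormalized Q' := by
    refine ⟨hd.im_le hQ.1, fun R hR => ?_⟩
    obtain ⟨f', hf', rfl⟩ := isConj_iff.1 hR
    obtain ⟨g, hg, hgx⟩ := hd.lift hf'
    rw [hd.pre_im hZQ hQ.1] at hg hgx
    have hle : normalizerIn S' (img Q' f') ≤ imageAlong θ (normalizerIn S (img Q g)) := by
      intro y hy
      obtain ⟨s, rfl⟩ := hd.range_eq.ge hy.1
      refine (mem_im inf_le_left).2 ⟨s, ⟨s.2, ?_⟩, qmap_of_mem s.2⟩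
      haveI : Finite (img Q g : Set Ω) := (finite_of_le hg.img_le : Finite (img Q g))
      refine Subgroup.mem_normalizer_fintype fun x hx => ?_
      have h1 : qmap θ ((s : Ω) * x * (s : Ω)⁻¹) ∈ img Q' f' := by
        rw [qmap_conj s.2 (hg.img_le hx), qmap_of_mem s.2]
        refine (hy.2 _).1 ?_
        obtain ⟨u, hu, rfl⟩ := hg.mem_img.1 hx
        rw [← hgx u hu]
        exact hf'.apply_mem_img (qmap_mem_im hQ.1 hu)
      have hxS : (s : Ω) * x * (s : Ω)⁻¹ ∈ S :=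
        S.mul_mem (S.mul_mem s.2 (hg.img_le hx)) (S.inv_mem s.2)
      obtain ⟨v, hv, hvx⟩ := hf'.mem_img.1 h1
      obtain ⟨u, hu, rfl⟩ := (mem_im hQ.1).1 hv
      rw [hgx u hu] at hvx
      have h2 := (hd.qmap_eq_iff (hg.mem hu) hxS).1 hvx
      have h3 := (img Q g).mul_mem (hg.apply_mem_img hu)
        (hd.map_Z hg (hZQ h2) h2 ▸ hg.apply_mem_img (hZQ h2))
      rwa [mul_inv_cancel_left] at h3
    haveI : Finite (normalizerIn S Q) := finite_normalizerIn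
    haveI : Finite (normalizerIn S (img Q g)) := finite_normalizerIn
    haveI : Finite (imageAlong θ (normalizerIn S (img Q g))) := finite_of_le (hd.im_le inf_le_left)
    haveI : Finite (imageAlong θ (normalizerIn S Q)) := finite_of_le (hd.im_le inf_le_left)
    have hcount : ∀ N : Subgroup Ω, Z ≤ N → N ≤ S →
        Nat.card N = Nat.card (imageAlong θ N) * Nat.card Z := by
      intro N hZN hN
      let h : N →* imageAlong θ N := (θ.comp (Subgroup.inclusion hN)).codRestrict _ fun x =>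
        mem_imageAlong.2 ⟨x, hN x.2, x.2, rfl⟩
      have hs : Function.Surjective h := fun y => by
        obtain ⟨x, hx, hxN, hxy⟩ := mem_imageAlong.1 y.2
        exact ⟨⟨x, hxN⟩, Subtype.ext hxy⟩
      rw [← Subgroup.card_mul_index h.ker, Subgroup.index_ker, MonoidHom.range_eq_top.2 hs,
        Subgroup.card_top, mul_comm]
      congr 1
      refine Nat.card_congr ⟨fun x => ⟨(x.1 : Ω), ?_⟩, fun z => ⟨⟨z, hZN z.2⟩, ?_⟩,
        fun x => rfl, fun z => rfl⟩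
      · exact (hd.factor.2.1 ⟨x.1, hN x.1.2⟩).1 (congrArg Subtype.val x.2)
      · exact Subtype.ext ((hd.factor.2.1 _).2 z.2)
    have hnim : imageAlong θ (normalizerIn S Q) ≤ normalizerIn S' Q' := by
      intro y hy
      obtain ⟨s, hs, rfl⟩ := (mem_im inf_le_left).1 hy
      refine ⟨hd.im_le inf_le_left hy, ?_⟩
      haveI : Finite (Q' : Set Ω') := (finite_of_le hQ'W : Finite Q')
      refine Subgroup.mem_normalizer_fintype fun z hz => ?_
      obtain ⟨x, hx, rfl⟩ := (mem_im hQ.1).1 hz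
      rw [← qmap_conj hs.1 (hQ.1 hx)]
      exact qmap_mem_im hQ.1 ((hs.2 x).1 hx)
    have hZn : ∀ P : Subgroup Ω, Z ≤ P → P ≤ S → Z ≤ normalizerIn S P := fun P hZP hP z hz =>
      le_normalizerIn hP (hZP hz)
    have hZg : Z ≤ img Q g := fun z hz => hd.map_Z hg (hZQ hz) hz ▸ hg.apply_mem_img (hZQ hz)
    have h1 := hQ.2 (img Q g) hg.isConj
    rw [hcount _ (hZn Q hZQ hQ.1) inf_le_left, hcount _ (hZn _ hZg hg.img_le) inf_le_left] at h1
    haveI := finite_of_le hd.Z_le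
    haveI : Finite (normalizerIn S' Q') := finite_normalizerIn
    calc Nat.card (normalizerIn S' (img Q' f'))
        ≤ Nat.card (imageAlong θ (normalizerIn S (img Q g))) := Subgroup.card_le_of_le hle
      _ ≤ Nat.card (imageAlong θ (normalizerIn S Q)) := Nat.le_of_mul_le_mul_right h1 Nat.card_pos
      _ ≤ _ := Subgroup.card_le_of_le hnim
  have hQD : D'.IsFullyNormalized Q' := fullyNormalized_subsystem hd.pS' hd.sat'
    hd.normal.1.2.2.2.1 hd.normal.1.2.2.1 hQ'W hQ'n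
  exact hQD

/-- The `p`-elements of a fully normalized subgroup inducing maps of `D'` are induced by the
preimage modulo `kerAut`. -/
theorem exists_induced_of_good {Q : Subgroup Ω} (hQ : F.IsFullyNormalized Q) (hZQ : Z ≤ Q)
    (hQW : Q ≤ wSub θ W') {α : MulAut Q} (hα : α ∈ goodAut F θ D' Q)
    (hαS : α ∈ autInducedBy S Q) :
    ∃ κ ∈ autInducedBy (wSub θ W') Q, κ⁻¹ * α ∈ kerAut F Z Q := by
  haveI := hd.finiteW
  haveI := hd.finite'
  set Q' := imageAlong θ Q with hQ'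
  have hQ'W : Q' ≤ W' := hd.im_le_W' hQW
  haveI := finite_of_le hQ'W
  have hQD : D'.IsFullyNormalized Q' := hd.image_fullyNormalized hQ hZQ hQW
  obtain ⟨V, hV⟩ := (fullyAutomized_of_fullyNormalized hd.pW' hd.sat_D' hQD).2
  set U := (autInducedBy S' Q').subgroupOf (D'.autGroup Q') with hU
  have hUV : U = (V : Subgroup _) := V.is_maximal'
    ((isPGroup_autInducedBy hd.pS' Q').comap_of_injective _ (Subgroup.subtype_injective _))
    (by rw [hV]; exact Subgroup.comap_mono (autInducedBy_mono hd.W'_le))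
  obtain ⟨f', hf', hfx⟩ := (hα.2 hQW).2.2
  obtain ⟨t, ht, htx⟩ := mem_autInducedBy_iff.1 hαS
  have hfi : img Q' f' = Q' := eq_of_le_of_card_le (fun y hy => by
    obtain ⟨z, hz, rfl⟩ := hf'.mem_img.1 hy
    obtain ⟨x, hx, rfl⟩ := (mem_im hQ.1).1 hz
    rw [hfx x hx]
    exact qmap_mem_im hQ.1 (autFun_mem α hx)) hf'.card_img.ge
  have hinU : (⟨hf'.toAut hfi, hf'.toAut_mem hfi⟩ : D'.autGroup Q') ∈ U := by
    refine mem_autInducedBy_iff.2 ⟨qmap θ t, ?_, fun y => ?_⟩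
    · rw [qmap_of_mem ht]
      exact hd.range_eq.le ⟨_, rfl⟩
    · obtain ⟨x, hx, hxy⟩ := (mem_im hQ.1).1 y.2
      show ((hf'.toAut hfi y : Q') : Ω') = qmap θ t * (y : Ω') * (qmap θ t)⁻¹
      rw [IsMap.toAut_apply, ← hxy, hfx x hx, autFun_apply α hx, htx ⟨x, hx⟩,
        qmap_conj ht (hQ.1 hx)]
  rw [hUV, hV] at hinU
  obtain ⟨w', hw', hwx⟩ := mem_autInducedBy_iff.1 hinU
  obtain ⟨w, hw, rfl⟩ := (mem_im wSub_le).1 (hd.im_wSub.ge hw')
  have hval : ∀ x ∈ Q, qmap θ (autFun α x) = qmap θ (w * x * w⁻¹) := fun x hx => by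
    rw [qmap_conj (wSub_le hw) (hQ.1 hx), ← hfx x hx]
    have := hwx ⟨qmap θ x, qmap_mem_im hQ.1 hx⟩
    change ((hf'.toAut hfi ⟨qmap θ x, _⟩ : Q') : Ω') = _ at this
    rwa [IsMap.toAut_apply] at this
  have hzm : ∀ x ∈ Q, (autFun α x)⁻¹ * (w * x * w⁻¹) ∈ Z := fun x hx =>
    (hd.qmap_eq_iff (hQ.1 (autFun_mem α hx))
      (S.mul_mem (S.mul_mem (wSub_le hw) (hQ.1 hx)) (S.inv_mem (wSub_le hw)))).1 (hval x hx)
  have hwQ : ∀ x ∈ Q, w * x * w⁻¹ ∈ Q := fun x hx => by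
    have := Q.mul_mem (autFun_mem α hx) (hZQ (hzm x hx))
    rwa [mul_inv_cancel_left] at this
  have hwn : w ∈ normalizer (Q : Set Ω) :=
    haveI : Finite (Q : Set Ω) := (finite_of_le hQ.1 : Finite Q)
    Subgroup.mem_normalizer_fintype hwQ
  set κ : MulAut Q := Q.normalizerMonoidHom ⟨w, hwn⟩ with hκ
  have hκW : κ ∈ autInducedBy (wSub θ W') Q := mem_autInducedBy_iff.2 ⟨w, hw, fun x => rfl⟩
  have hκF : κ ∈ F.autGroup Q :=
    autInducedBy_le_autGroup hQ.1 (autInducedBy_mono wSub_le hκW)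
  refine ⟨κ, hκW, mul_mem (inv_mem hκF) hα.1, fun y => ?_⟩
  set u : Q := (κ⁻¹ * α) y with hu
  have huy : κ u = α y := by rw [hu, MulAut.mul_apply, MulAut.apply_inv_self]
  have h1 := hzm y y.2
  rw [autFun_apply α y.2, ← huy] at h1
  change (w * (u : Ω) * w⁻¹)⁻¹ * (w * (y : Ω) * w⁻¹) ∈ Z at h1
  have e : (w * (u : Ω) * w⁻¹)⁻¹ * (w * (y : Ω) * w⁻¹) = w * ((u : Ω)⁻¹ * y) * w⁻¹ := by group
  rw [e] at h1
  have h2 : (u : Ω)⁻¹ * y ∈ Z := by
    have h3 : (u : Ω)⁻¹ * y = w * ((u : Ω)⁻¹ * y) * w⁻¹ := by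
      have hc := hd.comm_Z (S.inv_mem (wSub_le hw)) h1
      calc (u : Ω)⁻¹ * y = w⁻¹ * (w * ((u : Ω)⁻¹ * y) * w⁻¹) * w := by group
        _ = _ := by rw [hc]; group
    rwa [h3]
  have := Z.inv_mem h2
  rwa [mul_inv_rev, inv_inv] at this

/-- A map moving a subgroup with centric image inside `Z`-cosets moves its normalizer inside its
cosets. -/
theorem moves_in {Q R : Subgroup Ω} (hc : Cen Z θ D' Q) (hQR : Q ≤ R) (hRW : R ≤ wSub θ W')
    (hRn : R ≤ normalizer (Q : Set Ω)) {g : Ω → Ω} (hg : IsMap F R g)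
    (hgQ : ∀ x ∈ Q, x⁻¹ * g x ∈ Z) {r : Ω} (hr : r ∈ R) : r⁻¹ * g r ∈ Q := by
  have hgW : g r ∈ wSub θ W' := hd.mem_wSub_of_map hg hr (hRW hr)
  refine hd.mem_of_centralizes hc ((wSub θ W').mul_mem ((wSub θ W').inv_mem (hRW hr)) hgW)
    fun x hx => ?_
  have hrS := wSub_le (hRW hr)
  have hxS := hg.le (hQR hx)
  have hgS := wSub_le hgW
  set x' := r * x * r⁻¹ with hx'
  have hx'Q : x' ∈ Q := (hRn hr x).1 hx
  have h1 := hgQ x' hx'Q
  have h2 := hgQ x hx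
  rw [hx', hg.map_conj hr (hQR hx)] at h1
  set z₁ := x'⁻¹ * (g r * g x * (g r)⁻¹) with hz₁
  set z₂ := x⁻¹ * g x with hz₂
  have e : x⁻¹ * (r⁻¹ * g r * x * (r⁻¹ * g r)⁻¹) =
      r⁻¹ * z₁ * (g r * z₂⁻¹ * (g r)⁻¹) * r := by
    rw [hz₁, hz₂, hx']
    group
  rw [e]
  have c1 : g r * z₂⁻¹ * (g r)⁻¹ = z₂⁻¹ := by
    rw [hd.comm_Z hgS (Z.inv_mem h2), mul_inv_cancel_right]
  have hzz : z₁ * z₂⁻¹ ∈ Z := Z.mul_mem h1 (Z.inv_mem h2)
  rw [c1, mul_assoc r⁻¹, hd.comm_Z (S.inv_mem hrS) hzz, inv_mul_cancel_right]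
  exact hzz

theorem exists_pow_of_moves {Q R : Subgroup Ω} (hc : Cen Z θ D' Q) (hQR : Q ≤ R)
    (hRW : R ≤ wSub θ W') (hRn : R ≤ normalizer (Q : Set Ω)) {γ : MulAut R}
    (hγ : γ ∈ F.autGroup R) (hγQ : ∀ x : R, (x : Ω) ∈ Q → (x : Ω)⁻¹ * ((γ x : R) : Ω) ∈ Z) :
    ∃ e : ℕ, γ ^ p ^ e = 1 := by
  have hRS := hRW.trans wSub_le
  obtain ⟨e, he⟩ := hd.pS.exists_card_eq
  have hm := isMap_autFun hRS hγ
  have hone : ∀ z : R, z ^ (p ^ e) = 1 := fun z => by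
    apply Subtype.ext
    rw [Subgroup.coe_pow, ← he]
    exact congrArg Subtype.val (pow_card_eq_one' (x := (⟨_, hRS z.2⟩ : S)))
  have hfix : ∀ x : R, (x : Ω) ∈ Q → (γ ^ p ^ e) x = x := fun x hx => by
    rw [pow_apply_of_fixed (z := x⁻¹ * γ x) (by rw [mul_inv_cancel_left])
      (hd.kerAut_fix hRS hγ (hγQ x hx)), hone, mul_one]
  refine ⟨e + e, MulEquiv.ext fun r => ?_⟩
  rw [pow_add, pow_mul]
  have hmv : (r : Ω)⁻¹ * ((γ ^ p ^ e) r : R) ∈ Q := by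
    have h := hd.moves_in hc hQR hRW hRn (g := autFun (γ ^ p ^ e))
      (isMap_autFun hRS (pow_mem hγ _)) (fun x hx => by
        rw [autFun_apply _ (hQR hx), hfix ⟨x, hQR hx⟩ hx]; simp) r.2
    rwa [autFun_apply _ r.2] at h
  rw [pow_apply_of_fixed (z := r⁻¹ * (γ ^ p ^ e) r) (by rw [mul_inv_cancel_left])
    (hfix _ hmv), hone, mul_one]
  rfl

/-- An inducing automorphism trivial modulo `Z` on a subgroup with centric image is conjugation
by one of its elements, modulo `Z`. -/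
theorem exists_inner_of_trivial {Q R : Subgroup Ω} (hc : Cen Z θ D' Q) (hQR : Q ≤ R)
    (hRW : R ≤ wSub θ W') (hRn : R ≤ normalizer (Q : Set Ω)) {γ : MulAut R}
    (hγ : γ ∈ goodAut F θ D' R) (hγQ : ∀ x : R, (x : Ω) ∈ Q → (x : Ω)⁻¹ * ((γ x : R) : Ω) ∈ Z) :
    ∃ z ∈ Q, ∀ r : R, ((γ r : R) : Ω)⁻¹ * (z * (r : Ω) * z⁻¹) ∈ Z := by
  haveI := hd.finiteW
  have hRS := hRW.trans wSub_le
  set Q' := imageAlong θ Q with hQ'
  set R' := imageAlong θ R with hR'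
  have hR'W : R' ≤ W' := hd.im_le_W' hRW
  have hQR' : Q' ≤ R' := im_mono hQR
  haveI := finite_of_le hR'W
  obtain ⟨e, he⟩ := hd.exists_pow_of_moves hc hQR hRW hRn hγ.1 hγQ
  obtain ⟨f', hf', hfx⟩ := (hγ.2 hRW).2.2
  have hfi : img R' f' = R' := eq_of_le_of_card_le (fun y hy => by
    obtain ⟨z, hz, rfl⟩ := hf'.mem_img.1 hy
    obtain ⟨x, hx, rfl⟩ := (mem_im hRS).1 hz
    rw [hfx x hx]
    exact qmap_mem_im hRS (autFun_mem γ hx)) hf'.card_img.ge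
  set γ' := hf'.toAut hfi with hγ'
  have hit : ∀ (j : ℕ) (x : R), (((γ' ^ j) ⟨qmap θ x, qmap_mem_im hRS x.2⟩ : R') : Ω') =
      qmap θ (((γ ^ j) x : R) : Ω) := by
    intro j
    induction j with
    | zero => intro x; simp
    | succ j ih =>
      intro x
      have e1 : (γ' ^ j) ⟨qmap θ x, qmap_mem_im hRS x.2⟩ =
          ⟨qmap θ (((γ ^ j) x : R) : Ω), qmap_mem_im hRS ((γ ^ j) x).2⟩ := Subtype.ext (ih x)
      rw [pow_succ', MulAut.mul_apply, e1, hγ', IsMap.toAut_apply, pow_succ', MulAut.mul_apply,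
        hfx _ ((γ ^ j) x).2, autFun_apply γ ((γ ^ j) x).2]
  have hpow : γ' ^ p ^ e = 1 := MulEquiv.ext fun y => Subtype.ext (by
    obtain ⟨x, hx, hxy⟩ := (mem_im hRS).1 y.2
    have ey : y = ⟨qmap θ x, qmap_mem_im hRS hx⟩ := Subtype.ext hxy.symm
    rw [ey, hit (p ^ e) ⟨x, hx⟩, he]
    rfl)
  have hfix : ∀ y ∈ Q', f' y = y := fun y hy => by
    obtain ⟨x, hx, rfl⟩ := (mem_im (hQR.trans hRS)).1 hy
    rw [hfx x (hQR hx), eq_comm, hd.qmap_eq_iff (hRS (hQR hx)) (hRS (autFun_mem γ (hQR hx))),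
      autFun_apply γ (hQR hx)]
    exact hγQ ⟨x, hQR hx⟩ hx
  -- move to a fully normalized conjugate
  obtain ⟨R₁, hRR₁, hR₁n⟩ := exists_fullyNormalized_conj D' hR'W
  haveI := finite_of_le hR₁n.1
  obtain ⟨ψ, hψ, hψi⟩ := isConj_iff.1 hRR₁
  subst hψi
  obtain ⟨V, hV⟩ := (fullyAutomized_of_fullyNormalized hd.pW' hd.sat_D' hR₁n).2
  set γ₁ : D'.autGroup (img R' ψ) :=
    ⟨MulAut.congr hψ.equivImg γ', hψ.congr_mem_autGroup (hf'.toAut_mem hfi)⟩ with hγ₁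
  have hp1 : IsPGroup p (Subgroup.zpowers γ₁) := IsPGroup.iff_orderOf.2 fun u => by
    obtain ⟨u, hu⟩ := u
    obtain ⟨i, rfl⟩ := mem_zpowers_iff.1 hu
    have h1 : γ₁ ^ p ^ e = 1 := Subtype.ext (by
      rw [Subgroup.coe_pow, hγ₁]
      show (MulAut.congr hψ.equivImg γ') ^ p ^ e = 1
      rw [← map_pow, hpow, map_one])
    rw [Subgroup.orderOf_mk]
    obtain ⟨j, -, hj⟩ := (Nat.dvd_prime_pow Fact.out).1
      (orderOf_dvd_of_pow_eq_one (x := γ₁ ^ i) (n := p ^ e) (by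
        rw [← zpow_natCast, ← zpow_mul, mul_comm, zpow_mul, zpow_natCast, h1, one_zpow]))
    exact ⟨j, hj⟩
  obtain ⟨V', hV'⟩ := hp1.exists_le_sylow
  obtain ⟨δ, hδ⟩ := MulAction.exists_smul_eq (D'.autGroup (img R' ψ)) V' V
  have hin : δ * γ₁ * δ⁻¹ ∈ (V : Subgroup _) := by
    rw [← hδ]
    exact ⟨γ₁, hV' (mem_zpowers γ₁), rfl⟩
  rw [hV] at hin
  obtain ⟨w, hw, hwx⟩ := mem_autInducedBy_iff.1 hin
  set χ : Ω' → Ω' := fun y => autFun (δ : MulAut (img R' ψ)) (ψ y) with hχdef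
  have hχ : IsMap D' R' χ := hψ.comp (isMap_autFun hR₁n.1 δ.2) fun y hy => hψ.apply_mem_img hy
  have hkey : ∀ y ∈ R', χ (f' y) = w * χ y * w⁻¹ := by
    intro y hy
    have hψy : ψ y ∈ img R' ψ := hψ.apply_mem_img hy
    have h1 := hwx ((δ : MulAut (img R' ψ)) ⟨ψ y, hψy⟩)
    change ((((δ : MulAut (img R' ψ)) * (γ₁ : MulAut (img R' ψ)) * (δ : MulAut (img R' ψ))⁻¹))
      ((δ : MulAut (img R' ψ)) ⟨ψ y, hψy⟩) : Ω') = _ at h1
    rw [MulAut.mul_apply, MulAut.mul_apply, MulAut.inv_apply_self] at h1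
    have e1 : ((γ₁ : MulAut (img R' ψ)) ⟨ψ y, hψy⟩) =
        ⟨ψ (f' y), hψ.apply_mem_img (hfi.le (hf'.apply_mem_img hy))⟩ := by
      have e0 : (⟨ψ y, hψy⟩ : img R' ψ) = hψ.equivImg ⟨y, hy⟩ :=
        Subtype.ext (IsMap.coe_equivImg hψ ⟨y, hy⟩).symm
      apply Subtype.ext
      rw [e0, hγ₁]
      simp only [MulAut.congr, MulEquiv.coe_mk, Equiv.coe_fn_mk, MulEquiv.trans_apply,
        MulEquiv.symm_apply_apply]
      rw [IsMap.coe_equivImg, hγ', IsMap.toAut_apply]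
    rw [e1] at h1
    show autFun (δ : MulAut (img R' ψ)) (ψ (f' y)) = w * autFun (δ : MulAut (img R' ψ)) (ψ y) * w⁻¹
    rw [autFun_apply _ hψy, autFun_apply _ (hψ.apply_mem_img (hfi.le (hf'.apply_mem_img hy)))]
    exact h1
  have hwc : w ∈ img Q' χ := by
    refine (centric_of_isConj hc.2.2 (hχ.mono hQR').isConj).2 _
      (isConj_refl (hχ.mono hQR').img_le) ⟨hw, fun y hy => ?_⟩
    obtain ⟨u, hu, rfl⟩ := (hχ.mono hQR').mem_img.1 hy
    have h := hkey u (hQR' hu)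
    rw [hfix u hu] at h
    calc χ u * w = w * χ u * w⁻¹ * w := by rw [← h]
      _ = w * χ u := by group
  obtain ⟨z', hz', hz'w⟩ := (hχ.mono hQR').mem_img.1 hwc
  obtain ⟨z, hz, rfl⟩ := (mem_im (hQR.trans hRS)).1 hz'
  refine ⟨z, hz, fun r => ?_⟩
  have hzS := hRS (hQR hz)
  have hrm := qmap_mem_im (θ := θ) hRS r.2
  have hzm := qmap_mem_im (θ := θ) hRS (hQR hz)
  have h := hkey _ hrm
  rw [← hz'w, ← hχ.map_conj hzm hrm, ← qmap_conj hzS (hRS r.2), hfx r r.2] at h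
  have hmem1 : autFun γ r ∈ R := autFun_mem γ r.2
  have hmem2 : z * r * z⁻¹ ∈ R := R.mul_mem (R.mul_mem (hQR hz) r.2) (R.inv_mem (hQR hz))
  have h2 := hχ.inj (qmap_mem_im hRS hmem1) (qmap_mem_im hRS hmem2) h
  have h3 := (hd.qmap_eq_iff (hRS hmem1) (hRS hmem2)).1 h2
  rwa [autFun_apply γ r.2] at h3

theorem comm_pow {Q : Subgroup Ω} (hQ : F.IsFullyNormalized Q) (hZQ : Z ≤ Q) {β k : MulAut Q}
    (hβ : β ∈ F.autGroup Q) (hk : k ∈ kerAut F Z Q) (hco : (orderOf β).Coprime p)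
    (h2 : β * (β * k * β⁻¹ * k⁻¹) * β⁻¹ * (β * k * β⁻¹ * k⁻¹)⁻¹ ∈
      autInducedBy (wSub θ W') Q) :
    β * k * β⁻¹ * k⁻¹ ∈ autInducedBy (wSub θ W') Q := by
  set u := β * k * β⁻¹ * k⁻¹ with hu
  have huK : u ∈ kerAut F Z Q := mul_mem (hd.kerAut_conj hQ.1 hZQ hk hβ) (inv_mem hk)
  set j₁ := β * u * β⁻¹ * u⁻¹ with hj₁
  have hj₁K : j₁ ∈ kerAut F Z Q := mul_mem (hd.kerAut_conj hQ.1 hZQ huK hβ) (inv_mem huK)
  have hit : ∀ n : ℕ, ∃ j ∈ autInducedBy (wSub θ W') Q, j ∈ kerAut F Z Q ∧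
      β ^ n * k * (β ^ n)⁻¹ = j * (u ^ n * k) := by
    intro n
    induction n with
    | zero => exact ⟨1, one_mem _, one_mem _, by simp⟩
    | succ n ih =>
      obtain ⟨j, hj, hjK, hjn⟩ := ih
      have hjb : β * j * β⁻¹ ∈ autInducedBy (wSub θ W') Q :=
        hd.conj_ker_induced hQ hZQ hβ hj hjK
      have hju : Commute j₁ u := hd.kerAut_comm hQ.1 hj₁K huK
      refine ⟨β * j * β⁻¹ * j₁ ^ n, mul_mem hjb (pow_mem h2 n),
        mul_mem (hd.kerAut_conj hQ.1 hZQ hjK hβ) (pow_mem hj₁K n), ?_⟩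
      calc β ^ (n + 1) * k * (β ^ (n + 1))⁻¹ = β * (β ^ n * k * (β ^ n)⁻¹) * β⁻¹ := by
            rw [pow_succ']; group
        _ = β * (j * (u ^ n * k)) * β⁻¹ := by rw [hjn]
        _ = β * j * β⁻¹ * ((β * u * β⁻¹) ^ n * (β * k * β⁻¹)) := by
            rw [conj_pow]; group
        _ = β * j * β⁻¹ * ((j₁ * u) ^ n * (u * k)) := by
            rw [show j₁ * u = β * u * β⁻¹ by rw [hj₁]; group,
              show u * k = β * k * β⁻¹ by rw [hu]; group]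
        _ = β * j * β⁻¹ * j₁ ^ n * (u ^ (n + 1) * k) := by
            rw [hju.mul_pow, pow_succ]; group
  obtain ⟨j, hj, hjK, hjn⟩ := hit (orderOf β)
  rw [pow_orderOf_eq_one, one_mul, inv_one, mul_one] at hjn
  have h3 : u ^ orderOf β = j⁻¹ := by
    rw [eq_inv_iff_mul_eq_one, (show Commute (u ^ orderOf β) j from
      hd.kerAut_comm hQ.1 (pow_mem huK _) hjK).eq]
    exact mul_right_cancel (b := k) (by rw [one_mul, mul_assoc, ← hjn])
  obtain ⟨e, he⟩ := hd.kerAut_pow hQ.1 huK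
  obtain ⟨m, hm⟩ : ∃ m : ℕ, (u ^ orderOf β) ^ m = u :=
    exists_pow_eq_self_of_coprime (Nat.Coprime.coprime_dvd_right
      (orderOf_dvd_of_pow_eq_one he) (hco.pow_right e))
  rw [← hm, h3]
  exact pow_mem (inv_mem hj) m

end Setup

end CfsgLib.Comp.Pre
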