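import Cfsg.Agent.Lib.Comp.PreimageCent

/-!
The inducing automorphisms of a fully normalized subgroup with centric image centralize the
automorphisms trivial modulo `Z`, up to those induced by the preimage.
-/

set_option autoImplicit false
set_option linter.unusedVariables false
set_option linter.unusedSectionVars false
set_option linter.style.haveILetI false

namespace CfsgLib.Comp.Pre

open Cfsg Cfsg.FusionSystem Subgroup CfsgLib.Fusion CfsgLib.Comp.CExt CfsgLib.Comp.Fus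

variable {Ω Ω' : Type*} [Group Ω] [Group Ω'] {S Z : Subgroup Ω} {S' W' : Subgroup Ω'}
  {F : FusionSystem S} {θ : S →* Ω'} {F' : FusionSystem S'} {D' : FusionSystem W'} {p : ℕ}
  [Fact p.Prime] [Finite S]

theorem induced_le_goodAut {Q : Subgroup Ω} (hQW : Q ≤ wSub θ W') {κ : MulAut Q}
    (hκ : κ ∈ autInducedBy (wSub θ W') Q) : κ ∈ goodAut F θ D' Q := by
  obtain ⟨w, hw, hwx⟩ := mem_autInducedBy_iff.1 hκ
  refine (mem_goodAut_iff hQW).2 ⟨autInducedBy_le_autGroup (hQW.trans wSub_le)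
    (autInducedBy_mono wSub_le hκ), (good_conj hQW hw).congr fun x hx => ?_⟩
  rw [autFun_apply κ hx]
  exact (hwx ⟨x, hx⟩).symm

namespace Setup

variable (hd : Setup F p Z θ F' D')

include hd

theorem ker_le_goodAut {Q : Subgroup Ω} (hQW : Q ≤ wSub θ W') {κ : MulAut Q}
    (hκ : κ ∈ kerAut F Z Q) : κ ∈ goodAut F θ D' Q := by
  have hQS := hQW.trans wSub_le
  refine (mem_goodAut_iff hQW).2 ⟨hκ.1, isMap_autFun hQS hκ.1, hQW, id,
    isMap_id D' (hd.im_le_W' hQW), fun x hx => ?_⟩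
  rw [id, hd.qmap_eq_iff (hQS hx) (hQS (autFun_mem κ hx)), autFun_apply κ hx]
  exact hκ.2 ⟨x, hx⟩

theorem exists_res {Q : Subgroup Ω} (hQW : Q ≤ wSub θ W') {α : MulAut Q}
    (hα : α ∈ goodAut F θ D' Q) :
    ∃ β : D'.autGroup (imageAlong θ Q), ∀ x (hx : x ∈ Q),
      (((β : MulAut (imageAlong θ Q)) ⟨qmap θ x, qmap_mem_im (hQW.trans wSub_le) hx⟩ :
        imageAlong θ Q) : Ω') = qmap θ (autFun α x) := by
  have hQS := hQW.trans wSub_le
  haveI := hd.finiteW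
  haveI := finite_of_le (hd.im_le_W' hQW)
  obtain ⟨f', hf', hfx⟩ := (hα.2 hQW).2.2
  have hi : img (imageAlong θ Q) f' = imageAlong θ Q := eq_of_le_of_card_le (fun y hy => by
    obtain ⟨z, hz, rfl⟩ := hf'.mem_img.1 hy
    obtain ⟨x, hx, rfl⟩ := (mem_im hQS).1 hz
    rw [hfx x hx]
    exact qmap_mem_im hQS (autFun_mem α hx)) hf'.card_img.ge
  exact ⟨⟨_, hf'.toAut_mem hi⟩, fun x hx => by rw [IsMap.toAut_apply, hfx x hx]⟩

/-- The action on the image of the inducing automorphisms. -/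
noncomputable def goodRes {Q : Subgroup Ω} (hQW : Q ≤ wSub θ W') :
    goodAut F θ D' Q →* D'.autGroup (imageAlong θ Q) :=
  MonoidHom.mk' (fun α => (hd.exists_res hQW α.2).choose) fun a b => by
    have hQS := hQW.trans wSub_le
    refine Subtype.ext (MulEquiv.ext fun y => Subtype.ext ?_)
    obtain ⟨x, hx, hxy⟩ := (mem_im hQS).1 y.2
    have ey : y = ⟨qmap θ x, qmap_mem_im hQS hx⟩ := Subtype.ext hxy.symm
    subst ey
    have e : ((hd.exists_res hQW b.2).choose : MulAut (imageAlong θ Q))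
        ⟨qmap θ x, qmap_mem_im hQS hx⟩ =
        ⟨qmap θ (autFun (b : MulAut Q) x), qmap_mem_im hQS (autFun_mem _ hx)⟩ :=
      Subtype.ext ((hd.exists_res hQW b.2).choose_spec x hx)
    show _ = ((((hd.exists_res hQW a.2).choose : MulAut (imageAlong θ Q))
      (((hd.exists_res hQW b.2).choose : MulAut (imageAlong θ Q)) _)) : Ω')
    rw [e, (hd.exists_res hQW a.2).choose_spec _ (autFun_mem _ hx),
      (hd.exists_res hQW (a * b).2).choose_spec x hx, Subgroup.coe_mul, autFun_mul_apply _ _ hx]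

theorem goodRes_apply {Q : Subgroup Ω} (hQW : Q ≤ wSub θ W') (α : goodAut F θ D' Q) {x : Ω}
    (hx : x ∈ Q) :
    (((hd.goodRes hQW α : MulAut (imageAlong θ Q))
      ⟨qmap θ x, qmap_mem_im (hQW.trans wSub_le) hx⟩ : imageAlong θ Q) : Ω') =
      qmap θ (autFun (α : MulAut Q) x) :=
  (hd.exists_res hQW α.2).choose_spec x hx

theorem qmap_mem_centralizer {Q : Subgroup Ω} (hQS : Q ≤ S) {t : Ω} (ht : t ∈ S) {k : MulAut Q}
    (hk : k ∈ kerAut F Z Q) (htx : ∀ x : Q, ((k x : Q) : Ω) = t * x * t⁻¹) :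
    qmap θ t ∈ centralizerIn S' (imageAlong θ Q) := by
  refine ⟨?_, fun y hy => ?_⟩
  · rw [qmap_of_mem ht]
    exact hd.range_eq.le ⟨_, rfl⟩
  · obtain ⟨x, hx, rfl⟩ := (mem_im hQS).1 hy
    have h1 := (hd.qmap_eq_iff (hQS hx) (hQS (k ⟨x, hx⟩).2)).2 (hk.2 ⟨x, hx⟩)
    rw [htx ⟨x, hx⟩, qmap_conj ht (hQS hx)] at h1
    exact eq_mul_inv_iff_mul_eq.1 h1

/-- An automorphism whose action on the image extends canonically lies in `centAut`. -/
theorem centAut_of_canExt {Q : Subgroup Ω} (hQ : F.IsFullyNormalized Q) (hZQ : Z ≤ Q)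
    (hQW : Q ≤ wSub θ W') (α : goodAut F θ D' Q) {G : Ω' → Ω'}
    (hG : CanExt F' p (imageAlong θ Q) (hd.goodRes hQW α : MulAut (imageAlong θ Q)) G) :
    (α : MulAut Q) ∈ hd.centAut hQ hZQ := by
  have hQS := hQ.1
  haveI := finite_of_le hQS
  set Q' := imageAlong θ Q with hQ'
  set M' := Q' ⊔ centralizerIn S' Q' with hM'
  obtain ⟨g, hg, hgx⟩ := hd.lift hG.map
  have hQM : Q ≤ preimageAlong θ M' := fun x hx =>
    mem_pre.2 ⟨hQS hx, mem_sup_left (qmap_mem_im hQS hx)⟩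
  have hzm : ∀ x ∈ Q, (autFun (α : MulAut Q) x)⁻¹ * g x ∈ Z := fun x hx => by
    refine (hd.qmap_eq_iff (hQS (autFun_mem _ hx)) (hg.mem (hQM hx))).1 ?_
    rw [← hgx x (hQM hx), ← hd.goodRes_apply hQW α hx]
    exact (hG.val ⟨qmap θ x, qmap_mem_im hQS hx⟩).symm
  have hgQ : ∀ x ∈ Q, g x ∈ Q := fun x hx => by
    have := Q.mul_mem (autFun_mem (α : MulAut Q) hx) (hZQ (hzm x hx))
    rwa [mul_inv_cancel_left] at this
  have hgi : img Q g = Q := eq_of_le_of_card_le (fun y hy => by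
    obtain ⟨x, hx, rfl⟩ := (hg.mono hQM).mem_img.1 hy
    exact hgQ x hx) (hg.mono hQM).card_img.ge
  set β := (hg.mono hQM).toAut hgi with hβ
  have hβF : β ∈ F.autGroup Q := (hg.mono hQM).toAut_mem hgi
  have hβv : ∀ x : Q, ((β x : Q) : Ω) = g x := fun x => by rw [hβ, IsMap.toAut_apply]
  have hker : (α : MulAut Q)⁻¹ * β ∈ kerAut F Z Q := by
    refine ⟨mul_mem (inv_mem α.2.1) hβF, fun y => ?_⟩
    have hz := hzm y y.2
    rw [autFun_apply _ y.2, ← hβv] at hz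
    set z : Q := ((α : MulAut Q) y)⁻¹ * β y with hzdef
    have hzZ : (z : Ω) ∈ Z := hz
    have h1 : (α : MulAut Q)⁻¹ z = z := hd.kerAut_fix hQS (inv_mem α.2.1) hzZ
    have h2 : ((α : MulAut Q)⁻¹ * β) y = y * z := by
      conv_rhs => rw [← h1]
      rw [MulAut.mul_apply, hzdef, map_mul, map_inv, MulAut.inv_apply_self, mul_inv_cancel_left]
    rw [h2, Subgroup.coe_mul, inv_mul_cancel_left]
    exact hzZ
  have hβc : β ∈ hd.centAut hQ hZQ := by
    refine ⟨hβF, fun k hk => ?_⟩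
    obtain ⟨t, ht, htx⟩ := mem_autInducedBy_iff.1 (hd.kerAut_le_induced hQ hZQ hk)
    have htc := hd.qmap_mem_centralizer hQS ht hk htx
    have htM : t ∈ preimageAlong θ M' := mem_pre.2 ⟨ht, mem_sup_right htc⟩
    have hu := hG.triv _ htc
    rw [hgx t htM, ← qmap_inv ht, ← qmap_mul (S.inv_mem ht) (hg.mem htM)] at hu
    have huQ : t⁻¹ * g t ∈ Q := by
      rw [← hd.pre_im hZQ hQS]
      exact mem_pre.2 ⟨S.mul_mem (S.inv_mem ht) (hg.mem htM), hu⟩
    refine mem_autInducedBy_iff.2 ⟨g t * t⁻¹, ?_, fun x => ?_⟩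
    · have := StronglyClosed.conj_mem hd.wSub_stronglyClosed ht (hQW huQ)
      rwa [mul_inv_cancel_left] at this
    · set u : Q := k⁻¹ x with hu'
      have hux : k u = x := MulAut.apply_inv_self _ _ _
      set v : Q := β⁻¹ u with hv
      have hvu : β v = u := MulAut.apply_inv_self _ _ _
      show ((β (k (β⁻¹ (k⁻¹ x))) : Q) : Ω) = _
      rw [← hu', ← hv, hβv, htx v, hg.map_conj htM (hQM v.2), ← hux, htx u, ← hvu, hβv v]
      group
  have : (α : MulAut Q) = β * ((α : MulAut Q)⁻¹ * β)⁻¹ := by group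
  rw [this]
  exact mul_mem hβc (inv_mem (hd.ker_le_centAut hQ hZQ hker))

/-- The inductive step for the automorphisms normalizing a Sylow subgroup. -/
theorem centAut_of_normalizing {Q : Subgroup Ω} (hQ : F.IsFullyNormalized Q) (hc : Cen Z θ D' Q)
    (hne : Q ≠ wSub θ W')
    (ih : ∀ (R : Subgroup Ω) (hR : F.IsFullyNormalized R) (hRc : Cen Z θ D' R),
      Nat.card Q < Nat.card R → ∀ γ ∈ goodAut F θ D' R, γ ∈ hd.centAut hR hRc.1)
    {β : MulAut Q} (hβ : β ∈ goodAut F θ D' Q) (hco : (orderOf β).Coprime p)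
    (hnorm : ∀ κ ∈ goodAut F θ D' Q, κ ∈ autInducedBy S Q →
      β * κ * β⁻¹ ∈ autInducedBy S Q) :
    β ∈ hd.centAut hQ hc.1 := by
  obtain ⟨hZQ, hQW, hQc⟩ := id hc
  have hQS := hQ.1
  haveI := hd.finiteW
  haveI := hd.finite'
  haveI : Finite (wSub θ W') := finite_of_le wSub_le
  haveI := finite_of_le hQS
  have hr := receptive_of_fullyNormalized hd.pS hd.sat hQ
  -- the elements inducing good automorphisms
  set M : Subgroup Ω :=
    { carrier := {a | a ∈ normalizerIn S Q ∧ ∃ κ ∈ goodAut F θ D' Q,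
        ∀ x : Q, ((κ x : Q) : Ω) = a * x * a⁻¹}
      one_mem' := ⟨one_mem _, 1, one_mem _, fun x => by simp⟩
      mul_mem' := fun {a b} ⟨ha, κ, hκ, hκx⟩ ⟨hb, μ, hμ, hμx⟩ =>
        ⟨mul_mem ha hb, κ * μ, mul_mem hκ hμ, fun x => by
          rw [MulAut.mul_apply, hκx, hμx]; group⟩
      inv_mem' := fun {a} ⟨ha, κ, hκ, hκx⟩ => ⟨inv_mem ha, κ⁻¹, inv_mem hκ, fun x => by
        have h := hκx (κ⁻¹ x)
        rw [MulAut.apply_inv_self] at h
        rw [h]; group⟩ } with hMdef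
  have hMN : M ≤ normalizerIn S Q := fun a ha => ha.1
  have hRM : normalizerIn (wSub θ W') Q ≤ M := fun a ha =>
    ⟨⟨wSub_le ha.1, ha.2⟩, Q.normalizerMonoidHom ⟨a, ha.2⟩, induced_le_goodAut hQW
      (mem_autInducedBy_iff.2 ⟨a, ha.1, fun _ => rfl⟩), fun x => rfl⟩
  have hQR : Q ≤ normalizerIn (wSub θ W') Q := le_normalizerIn hQW
  have hQM : Q ≤ M := hQR.trans hRM
  obtain ⟨g, hg, hgx⟩ := exists_extend hr hβ.1 hQM hMN fun κ hκ => by
    obtain ⟨a, ⟨ha, μ, hμ, hμx⟩, hax⟩ := mem_autInducedBy_iff.1 hκ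
    obtain rfl : κ = μ := MulEquiv.ext fun x => Subtype.ext ((hax x).trans (hμx x).symm)
    exact hnorm κ hμ (mem_autInducedBy_iff.2 ⟨a, ha.1, hax⟩)
  have hgM : ∀ a ∈ M, g a ∈ M := by
    rintro a ⟨ha, μ, hμ, hμx⟩
    have haM : a ∈ M := ⟨ha, μ, hμ, hμx⟩
    have hcx : ∀ x : Q, (((β * μ * β⁻¹) x : Q) : Ω) = g a * x * (g a)⁻¹ := fun x => by
      set v : Q := β⁻¹ x with hv
      have hvx : β v = x := MulAut.apply_inv_self _ _ _
      have e1 : g (v : Ω) = x := by rw [hgx v v.2, autFun_apply β v.2, ← hvx]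
      have e2 : ((β (μ v) : Q) : Ω) = g (μ v : Q) := by
        rw [hgx _ (μ v).2, autFun_apply β (μ v).2]
      show ((β (μ (β⁻¹ x)) : Q) : Ω) = _
      rw [← hv, e2, hμx v, hg.map_conj haM (hQM v.2), e1]
    exact ⟨⟨hg.mem haM, mem_normalizer_of_aut hcx⟩, β * μ * β⁻¹,
      mul_mem (mul_mem hβ hμ) (inv_mem hβ), hcx⟩
  haveI : Finite M := finite_of_le (hMN.trans inf_le_left)
  obtain ⟨e, n, hn, hbx, hper⟩ := exists_coprime_power hg hgM hQM hco
    (fun x => by rw [hgx x x.2, autFun_apply β x.2])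
  set b := g^[e] with hb
  have hbm : IsMap F M b := isMap_iterate hg hgM e
  have hbM : ∀ a ∈ M, b a ∈ M := fun a ha => Fus.iterate_mem hgM e ha
  -- on the normalizer in the preimage
  set R := normalizerIn (wSub θ W') Q with hR
  have hRW : R ≤ wSub θ W' := inf_le_left
  have hRS := hRW.trans wSub_le
  haveI := finite_of_le hRS
  have hRn : R ≤ normalizer (Q : Set Ω) := inf_le_right
  have hbR : ∀ a ∈ R, b a ∈ R := fun a ha =>
    ⟨hd.mem_wSub_of_map hbm (hRM ha) (hRW ha), (hMN (hbM a (hRM ha))).2⟩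
  have hbi : img R b = R := eq_of_le_of_card_le (fun y hy => by
    obtain ⟨a, ha, rfl⟩ := (hbm.mono hRM).mem_img.1 hy
    exact hbR a ha) (hbm.mono hRM).card_img.ge
  set γ := (hbm.mono hRM).toAut hbi with hγ
  have hγv : ∀ a : R, ((γ a : R) : Ω) = b a := fun a => by rw [hγ, IsMap.toAut_apply]
  have hγF : γ ∈ F.autGroup R := (hbm.mono hRM).toAut_mem hbi
  have hRc : Cen Z θ D' R := hd.cen_mono hc hQR hRW
  have hlt : Nat.card Q < Nat.card R := by
    by_contra hge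
    have := eq_of_le_of_card_le hQR (by omega)
    exact (lt_normalizerIn (hd.pS.to_le wSub_le) (lt_of_le_of_ne hQW hne)).ne this
  -- it induces a map of the subsystem
  have hγG : γ ∈ goodAut F θ D' R := by
    set Q' := imageAlong θ Q with hQ'
    set R' := imageAlong θ R with hR'
    have hQR' : Q' ≤ R' := im_mono hQR
    obtain ⟨f', hf', hfx⟩ := (hβ.2 hQW).2.2
    have hQ'W := hd.im_le_W' hQW
    haveI := finite_of_le hQ'W
    have hfi : img Q' f' = Q' := eq_of_le_of_card_le (fun y hy => by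
      obtain ⟨z, hz, rfl⟩ := hf'.mem_img.1 hy
      obtain ⟨x, hx, rfl⟩ := (mem_im hQS).1 hz
      rw [hfx x hx]
      exact qmap_mem_im hQS (autFun_mem β hx)) hf'.card_img.ge
    have hcl : ∀ a ∈ R, ∀ x ∈ Q, f' (qmap θ a * qmap θ x * (qmap θ a)⁻¹) =
        qmap θ (b a) * f' (qmap θ x) * (qmap θ (b a))⁻¹ := fun a ha x hx => by
      have hax : a * x * a⁻¹ ∈ Q := (hRn ha x).1 hx
      rw [← qmap_conj (hRS ha) (hQS hx), hfx _ hax, hfx x hx,
        ← qmap_conj (hRS (hbR a ha)) (hQS (autFun_mem β hx)), autFun_apply β hax,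
        autFun_apply β hx, ← hbx ⟨_, hax⟩, ← hbx ⟨x, hx⟩]
      exact congrArg (qmap θ) (hbm.map_conj (hRM ha) (hQM hx))
    have hR'W := hd.im_le_W' hRW
    obtain ⟨δ, hδ, hδx⟩ := receptive_extend (receptive_of_fullyCentralized hd.pW' hd.sat_D'
      (centric_fullyCentralized hQc)) hf' hfi hQR' fun a' ha' => by
        obtain ⟨a, ha, rfl⟩ := (mem_im hRS).1 ha'
        refine ⟨(mem_pre.1 (hRW ha)).2, fun y => ?_, qmap θ (b a), (mem_pre.1 (hRW (hbR a ha))).2,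
          fun y hy => ?_⟩
        · constructor
          · intro hy
            obtain ⟨x, hx, rfl⟩ := (mem_im hQS).1 hy
            rw [← qmap_conj (hRS ha) (hQS hx)]
            exact qmap_mem_im hQS ((hRn ha x).1 hx)
          · intro hy
            obtain ⟨x, hx, hxy⟩ := (mem_im hQS).1 hy
            have hax : a⁻¹ * x * a⁻¹⁻¹ ∈ Q := (hRn (R.inv_mem ha) x).1 hx
            have := qmap_mem_im (θ := θ) hQS hax
            rw [qmap_conj (S.inv_mem (hRS ha)) (hQS hx), qmap_inv (hRS ha), hxy] at this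
            simpa [mul_assoc] using this
        · obtain ⟨x, hx, rfl⟩ := (mem_im hQS).1 hy
          exact hcl a ha x hx
    have hδR : ∀ y ∈ R', δ y ∈ R' := by
      intro y hy
      obtain ⟨a, ha, rfl⟩ := (mem_im hRS).1 hy
      have hbR' : qmap θ (b a) ∈ R' := qmap_mem_im hRS (hbR a ha)
      have hcen : (qmap θ (b a))⁻¹ * δ (qmap θ a) ∈ Q' := by
        refine hQc.2 _ (isConj_refl hQ'W) ⟨W'.mul_mem (W'.inv_mem (hR'W hbR'))
          (hδ.mem (qmap_mem_im hRS ha)), fun y hy => ?_⟩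
        rw [← hfi] at hy
        obtain ⟨z, hz, rfl⟩ := hf'.mem_img.1 hy
        obtain ⟨x, hx, rfl⟩ := (mem_im hQS).1 hz
        have hxR := qmap_mem_im (θ := θ) hRS (hQR hx)
        have haR := qmap_mem_im (θ := θ) hRS ha
        have hax : qmap θ a * qmap θ x * (qmap θ a)⁻¹ ∈ Q' := by
          rw [← qmap_conj (hRS ha) (hQS hx)]
          exact qmap_mem_im hQS ((hRn ha x).1 hx)
        have e := hcl a ha x hx
        rw [← hδx _ hax, hδ.map_conj haR hxR, hδx _ (qmap_mem_im hQS hx)] at e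
        set A := δ (qmap θ a)
        set B := qmap θ (b a)
        set X := f' (qmap θ x)
        calc X * (B⁻¹ * A) = B⁻¹ * (B * X * B⁻¹) * A := by group
          _ = B⁻¹ * (A * X * A⁻¹) * A := by rw [e]
          _ = B⁻¹ * A * X := by group
      have := R'.mul_mem hbR' (hQR' hcen)
      rwa [mul_inv_cancel_left] at this
    obtain ⟨d, hdm, hdx⟩ := hd.lift (isMap_of_sub' hd.normal.1.2.2.1 hδ)
    rw [hd.pre_im (hZQ.trans hQR) hRS] at hdm hdx
    have hdR : ∀ a ∈ R, d a ∈ R := fun a ha => by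
      rw [← hd.pre_im (hZQ.trans hQR) hRS]
      exact mem_pre.2 ⟨hdm.mem ha, hdx a ha ▸ hδR _ (qmap_mem_im hRS ha)⟩
    have hdi : img R d = R := eq_of_le_of_card_le (fun y hy => by
      obtain ⟨a, ha, rfl⟩ := hdm.mem_img.1 hy
      exact hdR a ha) hdm.card_img.ge
    set γd := hdm.toAut hdi with hγd
    have hγdG : γd ∈ goodAut F θ D' R := by
      refine (mem_goodAut_iff hRW).2 ⟨hdm.toAut_mem hdi, ?_⟩
      have hg0 : Good F θ D' R d := ⟨hdm, hRW, δ, hδ, hdx⟩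
      exact hg0.congr fun a ha => by rw [autFun_apply γd ha, hγd, IsMap.toAut_apply]
    have hσ : ∀ x : R, (x : Ω) ∈ Q → (x : Ω)⁻¹ * (((γd⁻¹ * γ) x : R) : Ω) ∈ Z := by
      intro x hx
      have h1 : qmap θ (d x) = qmap θ (γ x : R) := by
        rw [← hdx x x.2, hδx _ (qmap_mem_im hQS hx), hfx x hx, hγv, autFun_apply β hx,
          hbx ⟨x, hx⟩]
      have h2 := (hd.qmap_eq_iff (hdm.mem x.2) (hRS (γ x).2)).1 h1
      have hdv : ((γd x : R) : Ω) = d x := by rw [hγd, IsMap.toAut_apply]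
      set z : R := (γd x)⁻¹ * γ x with hzdef
      have hzZ : (z : Ω) ∈ Z := by
        rw [hzdef, Subgroup.coe_mul, Subgroup.coe_inv, hdv]; exact h2
      have h3 : γd⁻¹ z = z := hd.kerAut_fix hRS (inv_mem hγdG.1) hzZ
      have h4 : (γd⁻¹ * γ) x = x * z := by
        conv_rhs => rw [← h3]
        rw [MulAut.mul_apply, hzdef, map_mul, map_inv, MulAut.inv_apply_self, mul_inv_cancel_left]
      rw [h4, Subgroup.coe_mul, inv_mul_cancel_left]
      exact hzZ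
    obtain ⟨j, hj⟩ := hd.exists_pow_of_moves hc hQR hRW hRn
      (mul_mem (inv_mem hγdG.1) hγF) hσ
    set N := (goodAut F θ D' R).subgroupOf (F.autGroup R)
    haveI : N.Normal := ⟨fun a ha c => hd.goodAut_conj hRW ha c.2⟩
    have hγn : γ ^ n = 1 := MulEquiv.ext fun a => Subtype.ext (by
      rw [hγ, Fus.toAut_pow_coe (hbm.mono hRM) hbi n a, hper a (hRM a.2)]
      rfl)
    have h5 := mem_of_coprime_mul (p := p) N (n := ⟨γd, hγdG.1⟩)
      (s := ⟨γd⁻¹ * γ, mul_mem (inv_mem hγdG.1) hγF⟩) hγdG (Subtype.ext hj) (by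
        rw [← Subgroup.orderOf_coe]
        show (orderOf (γd * (γd⁻¹ * γ))).Coprime p
        rw [mul_inv_cancel_left]
        exact Nat.Coprime.coprime_dvd_left (orderOf_dvd_of_pow_eq_one hγn) hn)
    have h6 : γd * (γd⁻¹ * γ) ∈ goodAut F θ D' R := h5
    rwa [mul_inv_cancel_left] at h6
  refine ⟨hβ.1, fun k hk => ?_⟩
  obtain ⟨t, ht, htx⟩ := mem_autInducedBy_iff.1 (hd.kerAut_le_induced hQ hZQ hk)
  have htM : t ∈ M := ⟨⟨ht, mem_normalizer_of_aut htx⟩, k, hd.ker_le_goodAut hQW hk, htx⟩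
  have htR : t ∈ normalizer (R : Set Ω) := by
    haveI : Finite (R : Set Ω) := (finite_of_le hRS : Finite R)
    exact Subgroup.mem_normalizer_fintype fun a ha =>
      ⟨StronglyClosed.conj_mem hd.wSub_stronglyClosed ht (hRW ha),
        mul_mem (mul_mem htM.1.2 ha.2) (Subgroup.inv_mem _ htM.1.2)⟩
  have hbtR : b t ∈ normalizer (R : Set Ω) := by
    haveI : Finite (R : Set Ω) := (finite_of_le hRS : Finite R)
    exact Subgroup.mem_normalizer_fintype fun a ha =>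
      ⟨StronglyClosed.conj_mem hd.wSub_stronglyClosed (hbm.mem htM) (hRW ha),
        mul_mem (mul_mem (hMN (hbM t htM)).2 ha.2) (Subgroup.inv_mem _ (hMN (hbM t htM)).2)⟩
  set s := t⁻¹ * b t with hs
  have hsM : s ∈ M := M.mul_mem (M.inv_mem htM) (hbM t htM)
  have hsR : s ∈ normalizer (R : Set Ω) := mul_mem (inv_mem htR) hbtR
  -- on `Q` it acts as the commutator
  set u := β * k * β⁻¹ * k⁻¹ with hu
  have huK : u ∈ kerAut F Z Q := mul_mem (hd.kerAut_conj hQS hZQ hk hβ.1) (inv_mem hk)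
  have huc : u = k⁻¹ * (β * k * β⁻¹) :=
    hd.kerAut_comm hQS (hd.kerAut_conj hQS hZQ hk hβ.1) (inv_mem hk)
  have hbk : ∀ (κ : MulAut Q) (a : Ω), a ∈ M → (∀ x : Q, ((κ x : Q) : Ω) = a * x * a⁻¹) →
      ∀ x : Q, (((β * κ * β⁻¹) x : Q) : Ω) = b a * x * (b a)⁻¹ := fun κ a ha hax x => by
    set v : Q := β⁻¹ x with hv
    have hvx : β v = x := MulAut.apply_inv_self _ _ _
    show ((β (κ (β⁻¹ x)) : Q) : Ω) = _
    rw [← hv, ← hbx (κ v), hax v, hbm.map_conj ha (hQM v.2), hbx v, hvx]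
  have hsu : ∀ x : Q, ((u x : Q) : Ω) = s * x * s⁻¹ := fun x => by
    have hinv : ∀ y : Q, ((k⁻¹ y : Q) : Ω) = t⁻¹ * y * t := fun y => by
      have h := htx (k⁻¹ y)
      rw [MulAut.apply_inv_self] at h
      rw [h]; group
    rw [huc, MulAut.mul_apply, hinv, hbk k t htM htx x, hs]
    group
  set cs : MulAut R := R.normalizerMonoidHom ⟨s, hsR⟩ with hcs
  have hcsv : ∀ a : R, ((cs a : R) : Ω) = s * a * s⁻¹ := fun a => rfl
  have hcsG : cs ∈ goodAut F θ D' R := by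
    set ct : MulAut R := R.normalizerMonoidHom ⟨t, htR⟩ with hct
    have hctF : ct ∈ F.autGroup R := autInducedBy_le_autGroup hRS
      (mem_autInducedBy_iff.2 ⟨t, ht, fun _ => rfl⟩)
    have e : cs = (ct⁻¹ * γ * ct⁻¹⁻¹) * γ⁻¹ := by
      refine MulEquiv.ext fun a => Subtype.ext ?_
      set w : R := γ⁻¹ a with hw
      have hwa : γ w = a := MulAut.apply_inv_self _ _ _
      have hinv : ∀ y : R, ((ct⁻¹ y : R) : Ω) = t⁻¹ * y * t := fun y => by
        have h : ((ct (ct⁻¹ y) : R) : Ω) = t * ((ct⁻¹ y : R) : Ω) * t⁻¹ := rfl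
        rw [MulAut.apply_inv_self] at h
        rw [h]; group
      show _ = ((ct⁻¹ (γ ((ct⁻¹)⁻¹ (γ⁻¹ a))) : R) : Ω)
      rw [← hw, inv_inv, hinv, hγv, show ((ct w : R) : Ω) = t * w * t⁻¹ from rfl,
        hbm.map_conj htM (hRM w.2), ← hγv w, hwa, hcsv, hs]
      group
    rw [e]
    exact mul_mem (hd.goodAut_conj hRW hγG (inv_mem hctF)) (inv_mem hγG)
  obtain ⟨z, hz, hzr⟩ := hd.exists_inner_of_trivial hc hQR hRW hRn hcsG fun x hx => by
    rw [hcsv, ← hsu ⟨x, hx⟩]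
    exact huK.2 ⟨x, hx⟩
  set r := z⁻¹ * s with hr'
  have hrM : r ∈ M := M.mul_mem (M.inv_mem (hQM hz)) hsM
  have hrR : r ∈ normalizer (R : Set Ω) :=
    mul_mem (inv_mem (Subgroup.le_normalizer (hQR hz))) hsR
  have hrS : r ∈ S := (hMN hrM).1
  have hrker : ∀ a ∈ R, a⁻¹ * (r * a * r⁻¹) ∈ Z := fun a ha => by
    have h1 := hzr ⟨a, ha⟩
    rw [hcsv] at h1
    have h2 := Z.inv_mem h1
    have hcm := hd.comm_Z (S.inv_mem (hQS hz)) h2
    have e : a⁻¹ * (r * a * r⁻¹) = z⁻¹ * ((s * a * s⁻¹)⁻¹ * (z * a * z⁻¹))⁻¹ * z := by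
      rw [hr']; group
    rw [e, hcm, inv_mul_cancel_right]
    exact h2
  -- a fully normalized conjugate
  obtain ⟨R₂, hRR₂, hR₂n⟩ := exists_fullyNormalized_conj F hRS
  obtain ⟨ψ, hψ, hψi, hψN⟩ :=
    exists_map_normalizerIn_of_fullyNormalized hd.pS hd.sat hR₂n hRR₂
  subst hψi
  set N := normalizerIn S R with hN
  have hRN : R ≤ N := le_normalizerIn hRS
  have hψR := hψ.mono hRN
  have hR₂c : Cen Z θ D' (img R ψ) := hd.cen_map hRc hψR
  haveI := finite_of_le hR₂n.1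
  obtain ⟨ψi, hψi', hψix, -, -⟩ := hψR.exists_inv
  set R₂ := img R ψ with hR₂
  have hgood : Good F θ D' R₂ (fun y => ψ (autFun γ (ψi y))) :=
    hd.good_transfer (hγG.2 hRW) hψR hRW le_rfl (fun a ha => autFun_mem γ ha) hψix
  have hγ₂i : img R₂ (fun y => ψ (autFun γ (ψi y))) = R₂ :=
    eq_of_le_of_card_le (fun y hy => by
      obtain ⟨w, hw, rfl⟩ := hgood.1.mem_img.1 hy
      obtain ⟨a, ha, rfl⟩ := hψR.mem_img.1 hw
      show ψ (autFun γ (ψi (ψ a))) ∈ R₂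
      rw [hψix a ha]
      exact hψR.apply_mem_img (autFun_mem γ ha)) hgood.1.card_img.ge
  set γ₂ := hgood.1.toAut hγ₂i with hγ₂
  have hγ₂G : γ₂ ∈ goodAut F θ D' R₂ := (mem_goodAut_iff hR₂c.2.1).2
    ⟨hgood.1.toAut_mem hγ₂i, hgood.congr fun y hy => by
      rw [autFun_apply γ₂ hy, hγ₂, IsMap.toAut_apply]⟩
  have hγ₂v : ∀ a (ha : a ∈ R), ((γ₂ ⟨ψ a, hψR.apply_mem_img ha⟩ : R₂) : Ω) = ψ (b a) := by
    intro a ha
    rw [hγ₂, IsMap.toAut_apply, hψix a ha, autFun_apply γ ha, hγv]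
  have hrN : r ∈ N := ⟨hrS, hrR⟩
  set ρ : MulAut R₂ := R₂.normalizerMonoidHom ⟨ψ r, (hψN r hrN).2⟩ with hρ
  have hρK : ρ ∈ kerAut F Z R₂ := by
    refine ⟨autInducedBy_le_autGroup hR₂n.1 (mem_autInducedBy_iff.2
      ⟨ψ r, (hψN r hrN).1, fun _ => rfl⟩), fun y => ?_⟩
    obtain ⟨a, ha, hay⟩ := hψR.mem_img.1 y.2
    show (y : Ω)⁻¹ * (ψ r * (y : Ω) * (ψ r)⁻¹) ∈ Z
    have hm := hrker a ha
    have har : r * a * r⁻¹ ∈ R := (hrR a).1 ha
    rw [← hay, ← hψ.map_conj hrN (hRN ha), ← hψ.map_inv (hRN ha),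
      ← hψ.map_mul (N.inv_mem (hRN ha)) (hRN har)]
    rw [hd.map_Z hψ (N.mul_mem (N.inv_mem (hRN ha)) (hRN har)) hm]
    exact hm
  obtain ⟨w, hw, hwx⟩ := mem_autInducedBy_iff.1
    ((ih R₂ hR₂n hR₂c (by rw [hψR.card_img]; exact hlt) γ₂ hγ₂G).2 ρ hρK)
  -- the element carried to it
  set x := b r * r⁻¹ with hx
  have hbrR : b r ∈ normalizer (R : Set Ω) := by
    haveI : Finite (R : Set Ω) := (finite_of_le hRS : Finite R)
    exact Subgroup.mem_normalizer_fintype fun a ha =>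
      ⟨StronglyClosed.conj_mem hd.wSub_stronglyClosed (hbm.mem hrM) (hRW ha),
        mul_mem (mul_mem (hMN (hbM r hrM)).2 ha.2) (Subgroup.inv_mem _ (hMN (hbM r hrM)).2)⟩
  have hxN : x ∈ N := N.mul_mem ⟨hbm.mem hrM, hbrR⟩ (N.inv_mem hrN)
  have hxw : ∀ a ∈ R, ψ (x * a * x⁻¹) = w * ψ a * w⁻¹ := by
    intro a ha
    have h := hwx ⟨ψ a, hψR.apply_mem_img ha⟩
    change ((γ₂ (ρ (γ₂⁻¹ (ρ⁻¹ ⟨ψ a, _⟩))) : R₂) : Ω) = _ at h
    have ha1 : r⁻¹ * a * r ∈ R := by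
      have := (inv_mem hrR a).1 ha
      rwa [inv_inv] at this
    set a2 : R := γ⁻¹ ⟨_, ha1⟩ with ha2
    have hba2 : b a2 = r⁻¹ * a * r := by
      rw [← hγv, ha2, MulAut.apply_inv_self]
    have e1 : ρ⁻¹ ⟨ψ a, hψR.apply_mem_img ha⟩ = ⟨ψ (r⁻¹ * a * r), hψR.apply_mem_img ha1⟩ := by
      show ρ.symm _ = _
      refine (MulEquiv.symm_apply_eq _).2 (Subtype.ext ?_)
      show ψ a = ψ r * ψ (r⁻¹ * a * r) * (ψ r)⁻¹
      rw [← hψ.map_conj hrN (hRN ha1)]
      congr 1; group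
    have e2 : γ₂⁻¹ ⟨ψ (r⁻¹ * a * r), hψR.apply_mem_img ha1⟩ =
        ⟨ψ a2, hψR.apply_mem_img a2.2⟩ := by
      show γ₂.symm _ = _
      refine (MulEquiv.symm_apply_eq _).2 (Subtype.ext ?_)
      rw [hγ₂v a2 a2.2, hba2]
    have ha3 : r * a2 * r⁻¹ ∈ R := (hrR a2).1 a2.2
    have e3 : ρ ⟨ψ a2, hψR.apply_mem_img a2.2⟩ = ⟨ψ (r * a2 * r⁻¹), hψR.apply_mem_img ha3⟩ := by
      refine Subtype.ext ?_
      show ψ r * ψ a2 * (ψ r)⁻¹ = _
      rw [← hψ.map_conj hrN (hRN a2.2)]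
    rw [e1, e2, e3, hγ₂v _ ha3, hbm.map_conj hrM (hRM a2.2), hba2] at h
    rw [← h, hx]
    congr 1; group
  have hxQ : ∀ q ∈ Q, x * q * x⁻¹ ∈ Q := fun q hq =>
    (mul_mem (hMN (hbM r hrM)).2 (Subgroup.inv_mem _ (hMN hrM).2) q).1 hq
  have hcx : ∃ κ ∈ autInducedBy (wSub θ W') Q, ∀ q : Q, ((κ q : Q) : Ω) = x * q * x⁻¹ := by
    set Q₂ := img Q ψ with hQ₂
    have hψQ := hψ.mono (hQR.trans hRN)
    obtain ⟨χ, hχ, hχx, -, -⟩ := hψQ.exists_inv
    have hχi : img Q₂ χ = Q := by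
      rw [hQ₂, ← img_comp_eq hψQ hχ fun q hq => hψQ.apply_mem_img hq,
        img_congr (g := fun q => q) fun q hq => hχx q hq, img, Set.image_id', Subgroup.closure_eq]
    have hwR₂ : ∀ q ∈ Q, w * ψ q * w⁻¹ ∈ Q₂ := fun q hq => by
      rw [← hxw q (hQR hq)]
      exact hψQ.apply_mem_img (hxQ q hq)
    have hwn : w ∈ normalizer (Q₂ : Set Ω) := by
      haveI : Finite (Q₂ : Set Ω) := (finite_of_le hψQ.img_le : Finite Q₂)
      refine Subgroup.mem_normalizer_fintype fun y hy => ?_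
      obtain ⟨q, hq, rfl⟩ := hψQ.mem_img.1 hy
      exact hwR₂ q hq
    obtain ⟨χ₁, hχ₁, hχ₁x⟩ := receptive_extend hr hχ hχi (le_sup_left : Q₂ ≤ Q₂ ⊔ zpowers w)
      fun a ha => by
        have hle : Q₂ ⊔ zpowers w ≤ extender S Q₂ hχ.toHom :=
          sup_le (fun a ha => sup_centralizerIn_le_extender hχ hχ.toHom_apply (mem_sup_left ha))
            (zpowers_le.2 ((mem_extender_iff hχ hχ.toHom_apply).2 ⟨wSub_le hw, hwn, x, hxN.1,
              fun y hy => by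
                obtain ⟨q, hq, rfl⟩ := hψQ.mem_img.1 hy
                rw [← hxw q (hQR hq), hχx q hq, hχx _ (hxQ q hq)]⟩))
        exact (mem_extender_iff hχ hχ.toHom_apply).1 (hle ha)
    have hwU : w ∈ Q₂ ⊔ zpowers w := mem_sup_right (mem_zpowers w)
    have hkey : ∀ q ∈ Q, χ₁ w * q * (χ₁ w)⁻¹ = x * q * x⁻¹ := fun q hq => by
      have hψq := hψQ.apply_mem_img hq
      conv_lhs => rw [← hχx q hq, ← hχ₁x _ hψq, ← hχ₁.map_conj hwU (mem_sup_left hψq)]
      rw [← hxw q (hQR hq), hχ₁x _ (hψQ.apply_mem_img (hxQ q hq)), hχx _ (hxQ q hq)]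
    have hn' : χ₁ w ∈ normalizer (Q : Set Ω) := by
      haveI : Finite (Q : Set Ω) := (finite_of_le hQS : Finite Q)
      exact Subgroup.mem_normalizer_fintype fun q hq => by rw [hkey q hq]; exact hxQ q hq
    exact ⟨Q.normalizerMonoidHom ⟨χ₁ w, hn'⟩, mem_autInducedBy_iff.2
      ⟨χ₁ w, hd.mem_wSub_of_map hχ₁ hwU hw, fun _ => rfl⟩, fun q => hkey q q.2⟩
  obtain ⟨κ, hκ, hκx⟩ := hcx
  refine hd.comm_pow hQ hZQ hβ.1 hk hco ?_
  rw [← hu]
  set cz : MulAut Q := MulAut.conj ⟨z, hz⟩ with hcz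
  have hczW : cz ∈ autInducedBy (wSub θ W') Q :=
    mem_autInducedBy_iff.2 ⟨z, hQW hz, fun _ => rfl⟩
  have hbz : b z ∈ Q := by rw [hbx ⟨z, hz⟩]; exact Subtype.mem _
  set cbz : MulAut Q := MulAut.conj ⟨b z, hbz⟩ with hcbz
  have hcbzW : cbz ∈ autInducedBy (wSub θ W') Q :=
    mem_autInducedBy_iff.2 ⟨b z, hQW hbz, fun _ => rfl⟩
  suffices h : β * u * β⁻¹ * u⁻¹ = cbz * κ * cz⁻¹ by
    rw [h]
    exact mul_mem (mul_mem hcbzW hκ) (inv_mem hczW)
  refine MulEquiv.ext fun q => Subtype.ext ?_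
  have hinv : ∀ y : Q, ((u⁻¹ y : Q) : Ω) = s⁻¹ * y * s := fun y => by
    have h := hsu (u⁻¹ y)
    rw [MulAut.apply_inv_self] at h
    rw [h]; group
  have hzi : ((cz⁻¹ q : Q) : Ω) = z⁻¹ * q * z := by
    have h : ((cz (cz⁻¹ q) : Q) : Ω) = z * ((cz⁻¹ q : Q) : Ω) * z⁻¹ := rfl
    rw [MulAut.apply_inv_self] at h
    rw [h]; group
  show (((β * u * β⁻¹) (u⁻¹ q) : Q) : Ω) = _
  rw [ hbk u s hsM hsu (u⁻¹ q), hinv]
  show _ = b z * ((κ (cz⁻¹ q) : Q) : Ω) * (b z)⁻¹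
  rw [hκx, hzi, hx]
  have hbr : b r = (b z)⁻¹ * b s := by
    rw [hr', hbm.map_mul (M.inv_mem (hQM hz)) hsM, hbm.map_inv (hQM hz)]
  rw [hbr, hr']
  group

/-- The automorphisms induced by `S` form a Sylow subgroup of the inducing ones. -/
theorem exists_sylow_good {Q : Subgroup Ω} (hQ : F.IsFullyNormalized Q) (hQW : Q ≤ wSub θ W') :
    ∃ V : Sylow p (goodAut F θ D' Q),
      (V : Subgroup (goodAut F θ D' Q)) = (autInducedBy S Q).subgroupOf (goodAut F θ D' Q) := by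
  haveI := finite_of_le hQ.1
  set G := goodAut F θ D' Q
  haveI : (G.subgroupOf (F.autGroup Q)).Normal := ⟨fun a ha c => hd.goodAut_conj hQW ha c.2⟩
  have hGF : G ≤ F.autGroup Q := fun a ha => ha.1
  obtain ⟨V₀, hV₀⟩ := (fullyAutomized_of_fullyNormalized hd.pS hd.sat hQ).2
  obtain ⟨V₁, hV₁⟩ := CfsgLib.Transfer.exists_sylow_eq_subgroupOf V₀ (G.subgroupOf (F.autGroup Q))
  let e := Subgroup.subgroupOfEquivOfLe hGF
  refine ⟨V₁.mapSurjective (f := e.toMonoidHom) e.surjective, Subgroup.ext fun v => ?_⟩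
  show v ∈ (V₁ : Subgroup _).map e.toMonoidHom ↔ _
  constructor
  · rintro ⟨w, hw, rfl⟩
    rw [hV₁, hV₀] at hw
    exact hw
  · intro hv
    refine ⟨e.symm v, ?_, e.apply_symm_apply v⟩
    rw [hV₁, hV₀]
    exact hv

theorem goodAut_le_centAut_step {Q : Subgroup Ω} (hQ : F.IsFullyNormalized Q)
    (hc : Cen Z θ D' Q)
    (ih : ∀ (R : Subgroup Ω) (hR : F.IsFullyNormalized R) (hRc : Cen Z θ D' R),
      Nat.card Q < Nat.card R → ∀ γ ∈ goodAut F θ D' R, γ ∈ hd.centAut hR hRc.1) :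
    ∀ β ∈ goodAut F θ D' Q, β ∈ hd.centAut hQ hc.1 := by
  obtain ⟨hZQ, hQW, hQc⟩ := id hc
  have hQS := hQ.1
  haveI := hd.finiteW
  haveI := hd.finite'
  haveI := finite_of_le hQS
  haveI := finite_of_le (hd.im_le_W' hQW)
  set G := goodAut F θ D' Q with hG
  haveI : (G.subgroupOf (F.autGroup Q)).Normal := ⟨fun a ha c => hd.goodAut_conj hQW ha c.2⟩
  have hGF : G ≤ F.autGroup Q := fun a ha => ha.1
  obtain ⟨V, hV⟩ := hd.exists_sylow_good hQ hQW
  have hVmem : ∀ v : G, v ∈ (V : Subgroup G) ↔ (v : MulAut Q) ∈ autInducedBy S Q := fun v => by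
    rw [hV]; rfl
  set L : Subgroup G := (hd.centAut hQ hZQ).subgroupOf G with hL
  suffices h : L = ⊤ from fun β hβ => show (⟨β, hβ⟩ : G) ∈ L from h ▸ Subgroup.mem_top _
  have hVL : (V : Subgroup G) ≤ L := fun v hv => by
    obtain ⟨κ, hκ, hker⟩ := hd.exists_induced_of_good hQ hZQ hQW v.2 ((hVmem v).1 hv)
    show (v : MulAut Q) ∈ hd.centAut hQ hZQ
    rw [← mul_inv_cancel_left κ (v : MulAut Q)]
    exact mul_mem (hd.induced_le_centAut hQ hZQ hκ) (hd.ker_le_centAut hQ hZQ hker)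
  by_cases hne : Q = wSub θ W'
  · refine eq_top_of_sylow_le V hVL fun x hx => ?_
    have htop : ∀ R' : Subgroup Ω', R' = W' → ∀ α ∈ D'.autGroup R', (orderOf α).Coprime p →
        ∃ g, CanExt F' p R' α g := by
      rintro R' rfl α hα hco
      exact exists_canExt_top hd.pS' hd.sat' hd.normal hα hco
    obtain ⟨g, hg⟩ := htop _ (by rw [hne, hd.im_wSub]) _ (hd.goodRes hQW x).2
      (by rw [Subgroup.orderOf_coe]; exact hx.coprime_dvd_left (orderOf_map_dvd _ x))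
    exact hd.centAut_of_canExt hQ hZQ hQW x hg
  set A := Subgroup.normalClosure ((V : Subgroup G) : Set G) with hA
  have hVA : (V : Subgroup G) ≤ A := Subgroup.le_normalClosure
  have hAgen : A ≤ (pGenAut D' p (imageAlong θ Q)).comap (hd.goodRes hQW) := by
    refine Subgroup.normalClosure_le_normal fun v hv => Subgroup.subset_closure ?_
    obtain ⟨k, hk⟩ := IsPGroup.iff_orderOf.1 V.isPGroup' ⟨v, hv⟩
    rw [Subgroup.orderOf_mk] at hk
    obtain ⟨j, -, hj⟩ := (Nat.dvd_prime_pow Fact.out).1 (hk ▸ orderOf_map_dvd (hd.goodRes hQW) v)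
    exact ⟨j, hj⟩
  have hAL : A ≤ L := by
    refine Subgroup.subgroupOf_eq_top.1 (eq_top_of_sylow_le (V.subtype hVA) ?_ fun x hx => ?_)
    · rw [Sylow.coe_subtype]
      exact Subgroup.comap_mono hVL
    · obtain ⟨g, hg⟩ := exists_canExt hd.pS' hd.sat' hd.normal hQc (hAgen x.2)
        (Nat.Coprime.coprime_dvd_left (orderOf_map_dvd _ _) (by rwa [Subgroup.orderOf_coe]))
      exact hd.centAut_of_canExt hQ hZQ hQW (x : G) hg
  have hNL : normalizer ((V : Subgroup G) : Set G) ≤ L := by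
    refine Subgroup.subgroupOf_eq_top.1 (eq_top_of_sylow_le (V.subtype Subgroup.le_normalizer) ?_
      fun x hx => ?_)
    · rw [Sylow.coe_subtype]
      exact Subgroup.comap_mono hVL
    · refine hd.centAut_of_normalizing hQ hc hne ih (x : G).2 ?_ fun κ hκ hκS => ?_
      · show (orderOf ((x : G) : MulAut Q)).Coprime p
        rwa [Subgroup.orderOf_coe, Subgroup.orderOf_coe]
      · exact (hVmem ((x : G) * ⟨κ, hκ⟩ * (x : G)⁻¹)).1 ((x.2 ⟨κ, hκ⟩).1 ((hVmem _).2 hκS))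
  have hsup : normalizer ((V : Subgroup G) : Set G) ⊔ A = ⊤ := by
    rw [eq_top_iff, ← (V.subtype hVA).normalizer_sup_eq_top]
    refine sup_le_sup_right (le_of_eq ?_) A
    rw [Sylow.coe_subtype, Subgroup.map_subgroupOf_eq_of_le hVA]
  exact eq_top_iff.2 (hsup ▸ sup_le hNL hAL)

theorem goodAut_le_centAut : ∀ (n : ℕ) (Q : Subgroup Ω) (hQ : F.IsFullyNormalized Q)
    (hc : Cen Z θ D' Q), Nat.card (wSub θ W') ≤ Nat.card Q + n →
      ∀ β ∈ goodAut F θ D' Q, β ∈ hd.centAut hQ hc.1 := by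
  intro n
  induction n with
  | zero =>
    intro Q hQ hc hn
    refine hd.goodAut_le_centAut_step hQ hc fun R hR hRc hlt => ?_
    haveI : Finite (wSub θ W') := finite_of_le wSub_le
    have := Subgroup.card_le_of_le hRc.2.1
    omega
  | succ n ih =>
    intro Q hQ hc hn
    exact hd.goodAut_le_centAut_step hQ hc fun R hR hRc hlt => ih R hR hRc (by omega)

end Setup

end CfsgLib.Comp.Pre
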