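import Cfsg.Agent.Lib.Comp.PreimageBound
import Cfsg.Agent.Lib.Fusion.LocalSaturationAut

/-!
The automorphisms of a fully normalized subgroup with centric image in the generated subsystem,
assuming it saturated on the larger classes.
-/

set_option autoImplicit false
set_option linter.unusedVariables false
set_option linter.unusedSectionVars false
set_option linter.style.haveILetI false

namespace CfsgLib.Comp.Pre

open Cfsg Cfsg.FusionSystem Subgroup CfsgLib.Fusion

variable {Ω Ω' : Type*} [Group Ω] [Group Ω'] {S Z : Subgroup Ω} {S' W' : Subgroup Ω'}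
  {F : FusionSystem S} {θ : S →* Ω'} {F' : FusionSystem S'} {D' : FusionSystem W'} {p : ℕ}

/-- The function agrees on `Q` with an element of `genAut`. -/
def BMap (F : FusionSystem S) (p : ℕ) (θ : S →* Ω') (D' : FusionSystem W') (Q : Subgroup Ω)
    (f : Ω → Ω) : Prop :=
  ∃ β ∈ genAut F p θ D' Q, ∀ q ∈ Q, f q = autFun β q

namespace BMap

variable {Q : Subgroup Ω} {f g : Ω → Ω}

theorem congr (h : BMap F p θ D' Q f) (hfg : ∀ q ∈ Q, f q = g q) : BMap F p θ D' Q g := by
  obtain ⟨β, hβ, hx⟩ := h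
  exact ⟨β, hβ, fun q hq => (hfg q hq).symm.trans (hx q hq)⟩

theorem mem (h : BMap F p θ D' Q f) {q : Ω} (hq : q ∈ Q) : f q ∈ Q := by
  obtain ⟨β, hβ, hx⟩ := h
  rw [hx q hq]
  exact autFun_mem β hq

theorem comp (h : BMap F p θ D' Q f) (h' : BMap F p θ D' Q g) :
    BMap F p θ D' Q (fun q => g (f q)) := by
  obtain ⟨β, hβ, hx⟩ := h
  obtain ⟨β', hβ', hx'⟩ := h'
  refine ⟨β' * β, mul_mem hβ' hβ, fun q hq => ?_⟩
  show g (f q) = _
  rw [hx q hq, hx' _ (autFun_mem β hq), autFun_mul_apply _ _ hq]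

theorem inv (h : BMap F p θ D' Q f) (hid : ∀ q ∈ Q, g (f q) = q) : BMap F p θ D' Q g := by
  obtain ⟨β, hβ, hx⟩ := h
  refine ⟨β⁻¹, inv_mem hβ, fun q hq => ?_⟩
  have h1 := hid _ (autFun_mem β⁻¹ hq)
  rwa [hx _ (autFun_mem β⁻¹ hq), autFun_apply_inv β hq] at h1

theorem id' : BMap F p θ D' Q (fun q => q) :=
  ⟨1, one_mem _, fun q hq => (autFun_one hq).symm⟩

theorem of_conj {a : Ω} (ha : a ∈ normalizerIn (wSub θ W') Q) :
    BMap F p θ D' Q (fun q => a * q * a⁻¹) :=
  ⟨Q.normalizerMonoidHom ⟨a, ha.2⟩,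
    induced_le_genAut (mem_autInducedBy_iff.2 ⟨a, ha.1, fun _ => rfl⟩),
    fun q hq => by rw [autFun_apply _ hq]; rfl⟩

end BMap

variable [Fact p.Prime] [Finite S]

/-- The hypotheses at a class in the induction. -/
structure ClassCtx (F : FusionSystem S) (p : ℕ) (Z : Subgroup Ω) (θ : S →* Ω')
    (D' : FusionSystem W') (Q : Subgroup Ω) : Prop where
  fn : F.IsFullyNormalized Q
  cen : Cen Z θ D' Q
  ne : Q ≠ wSub θ W'
  big : ∀ R, Cen Z θ D' R → Nat.card Q < Nat.card R → LocSat (preSys F p Z θ D') p R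

namespace Setup

variable (hd : Setup F p Z θ F' D')

include hd

/-- A member of the class maps with its normalizer onto a fully normalized one. -/
theorem exists_map_to {Q x : Subgroup Ω} (hQ : F.IsFullyNormalized Q) (hc : Cen Z θ D' Q)
    (hx : (preSys F p Z θ D').IsConj Q x) :
    ∃ ψ, IsMap (preSys F p Z θ D') (normalizerIn (wSub θ W') x) ψ ∧ img x ψ = Q ∧
      ∀ a ∈ normalizerIn (wSub θ W') x, ψ a ∈ normalizerIn (wSub θ W') Q := by
  haveI := hd.finiteW
  obtain ⟨f, hf, rfl⟩ := isConj_iff.1 hx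
  set x := img Q f with hxdef
  have hfg := good_of_preSys hf
  obtain ⟨hfm, -, f', hf', hfx⟩ := hfg
  have hxW : x ≤ wSub θ W' := hf.img_le
  have hQS := hQ.1
  have hxS := hxW.trans wSub_le
  have hQn := hd.image_fullyNormalized hQ hc.1 hc.2.1
  have hconj : D'.IsConj (imageAlong θ x) (imageAlong θ Q) :=
    isConj_symm ((hd.im_img hfm hf' hfx).symm ▸ hf'.isConj)
  obtain ⟨χ, hχ, hχi, -⟩ :=
    exists_map_normalizerIn_of_fullyNormalized hd.pW' hd.sat_D' hQn hconj
  obtain ⟨g, hg, hgx⟩ := hd.lift_preSys hχ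
  have hN : normalizerIn (wSub θ W') x ≤
      preimageAlong θ (normalizerIn W' (imageAlong θ x)) := by
    intro a ha
    refine mem_pre.2 ⟨wSub_le ha.1, (mem_pre.1 ha.1).2, fun y => ?_⟩
    constructor
    · intro hy
      obtain ⟨u, hu, rfl⟩ := (mem_im hxS).1 hy
      rw [← qmap_conj (wSub_le ha.1) (hxS hu)]
      exact qmap_mem_im hxS ((ha.2 u).1 hu)
    · intro hy
      obtain ⟨u, hu, huy⟩ := (mem_im hxS).1 hy
      have hau : a⁻¹ * u * a⁻¹⁻¹ ∈ x := (Subgroup.inv_mem _ ha.2 u).1 hu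
      have := qmap_mem_im (θ := θ) hxS hau
      rw [qmap_conj (S.inv_mem (wSub_le ha.1)) (hxS hu), qmap_inv (wSub_le ha.1), huy] at this
      simpa [mul_assoc] using this
  have hgN := hg.mono hN
  have hxN : x ≤ normalizerIn (wSub θ W') x := le_normalizerIn hxW
  have hgi : img x g = Q := by
    have hgF := isMap_of_sub' preSys_subsystem (hgN.mono hxN)
    have hZx : Z ≤ img x g := fun z hz => by
      have hzx : z ∈ x := hd.map_Z hfm (hc.1 hz) hz ▸ hfm.apply_mem_img (hc.1 hz)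
      rw [← hd.map_Z hgF hzx hz]
      exact hgF.apply_mem_img hzx
    rw [← hd.pre_im hZx hgF.img_le, ← hd.pre_im hc.1 hQS]
    congr 1
    rw [← hχi]
    exact hd.im_img hgF (hχ.mono (le_normalizerIn (hd.im_le_W' hxW)))
      fun u hu => hgx u (hN (hxN hu))
  exact ⟨g, hgN, hgi, fun a ha => hgi ▸ hgN.apply_mem_normalizerIn hxN ha ha.2⟩

/-- The restriction of an automorphism of order prime to `p` of the generated subsystem, moved onto
`Q`. -/
theorem bmap_coprime {Q R Y : Subgroup Ω} (hQW : Q ≤ wSub θ W') (hYR : Y ≤ R) {ψ ψi : Ω → Ω}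
    (hψ : IsMap (preSys F p Z θ D') Y ψ) (hψi : img Y ψ = Q) (hψx : ∀ y ∈ Y, ψi (ψ y) = y)
    (hψim : IsMap (preSys F p Z θ D') Q ψi) {v : MulAut R}
    (hv : IsMap (preSys F p Z θ D') R (autFun v)) (hvY : ∀ y ∈ Y, autFun v y ∈ Y)
    (hco : (orderOf v).Coprime p) :
    BMap F p θ D' Q (fun q => ψ (autFun v (ψi q))) := by
  have hQS := hQW.trans wSub_le
  haveI := finite_of_le hQS
  have hmem : ∀ q ∈ Q, ψi q ∈ Y ∧ ψ (ψi q) = q := fun q hq => by
    rw [← hψi] at hq
    obtain ⟨y, hy, rfl⟩ := hψ.mem_img.1 hq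
    rw [hψx y hy]
    exact ⟨hy, rfl⟩
  have hm := ((hψim.comp (hv.mono hYR) fun q hq => (hmem q hq).1).comp hψ
    fun q hq => hvY _ (hmem q hq).1)
  have hmi : img Q (fun q => ψ (autFun v (ψi q))) = Q := eq_of_le_of_card_le (fun z hz => by
    obtain ⟨q, hq, rfl⟩ := hm.mem_img.1 hz
    exact hψi ▸ hψ.apply_mem_img (hvY _ (hmem q hq).1)) hm.card_img.ge
  set α := hm.toAut hmi with hα
  have hαv : ∀ q : Q, ((α q : Q) : Ω) = ψ (autFun v (ψi q)) := fun q => by
    rw [hα, IsMap.toAut_apply]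
  have hαg : α ∈ goodAut F θ D' Q := by
    have hg := good_of_preSys hm
    exact (mem_goodAut_iff hQW).2 ⟨hg.1.toAut_mem hmi,
      hg.congr fun q hq => by rw [autFun_apply α hq, hαv]⟩
  refine ⟨α, coprime_mem_genAut hαg ?_, fun q hq => by rw [autFun_apply α hq, hαv]⟩
  refine Nat.Coprime.coprime_dvd_left (orderOf_dvd_of_pow_eq_one ?_) hco
  have hpow : ∀ (n : ℕ) (q : Q), (((α ^ n) q : Q) : Ω) = ψ (autFun (v ^ n) (ψi q)) ∧
      ∀ y ∈ Y, autFun (v ^ n) y ∈ Y := by
    intro n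
    induction n with
    | zero =>
      intro q
      refine ⟨?_, fun y hy => by rwa [pow_zero, autFun_one (hYR hy)]⟩
      rw [pow_zero, pow_zero, autFun_one (hYR (hmem q q.2).1), (hmem q q.2).2]
      rfl
    | succ n ih =>
      intro q
      have hy : ∀ y ∈ Y, autFun (v ^ (n + 1)) y ∈ Y := fun y hy => by
        rw [pow_succ', autFun_mul_apply _ _ (hYR hy)]
        exact hvY _ ((ih q).2 y hy)
      refine ⟨?_, hy⟩
      have hq' := (ih q).2 _ (hmem q q.2).1
      rw [pow_succ', MulAut.mul_apply, hαv, (ih q).1, hψx _ hq', pow_succ',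
        autFun_mul_apply _ _ (hYR (hmem q q.2).1)]
  refine MulEquiv.ext fun q => Subtype.ext ?_
  rw [(hpow _ q).1, pow_orderOf_eq_one, autFun_one (hYR (hmem q q.2).1), (hmem q q.2).2]
  rfl

/-- Restrictions to `Q` of maps on larger subgroups fixing `Q` lie in `genAut`. -/
theorem bmap_of_map {Q : Subgroup Ω} (h : ClassCtx F p Z θ D' Q) :
    ∀ (d : ℕ) (R : Subgroup Ω) (g : Ω → Ω), IsMap (preSys F p Z θ D') R g → Q < R →
      R ≤ normalizerIn (wSub θ W') Q → img Q g = Q →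
      Nat.card (normalizerIn (wSub θ W') Q) ≤ Nat.card R + d → BMap F p θ D' Q g := by
  obtain ⟨hQn, hc, hne, hbig⟩ := id h
  obtain ⟨hZQ, hQW, hQc⟩ := id hc
  haveI : Finite (wSub θ W') := finite_of_le wSub_le
  haveI := finite_of_le hQW
  have hTp : IsPGroup p (wSub θ W') := hd.pS.to_le wSub_le
  haveI := finite_normalizerIn (S := wSub θ W') (P := Q)
  have hmax : ∀ x, (preSys F p Z θ D').IsConj Q x →
      Nat.card (normalizerIn (wSub θ W') x) ≤ Nat.card (normalizerIn (wSub θ W') Q) := by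
    intro x hx
    obtain ⟨ψ, hψ, -, hψN⟩ := hd.exists_map_to hQn hc hx
    rw [← hψ.card_img]
    refine Subgroup.card_le_of_le fun y hy => ?_
    obtain ⟨a, ha, rfl⟩ := hψ.mem_img.1 hy
    exact hψN a ha
  intro d
  induction d using Nat.strong_induction_on with
  | _ d ih => ?_
  intro R g hg hQR hR hgi hd'
  haveI := finite_of_le hg.le
  have hcR : Nat.card Q < Nat.card R := by
    by_contra hge
    exact hQR.ne (eq_of_le_of_card_le hQR.le (by omega))
  have hRc : Cen Z θ D' R := hd.cen_mono hc hQR.le hg.le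
  have hQR' : Q ≤ img R g := by
    have := img_mono (f := g) hQR.le
    rwa [hgi] at this
  have hR' : img R g ≤ normalizerIn (wSub θ W') Q := by
    have := img_le_normalizerIn hg hQR.le hR
    rwa [hgi] at this
  obtain ⟨R₀, hRR₀, ha, hr⟩ := hbig R hRc hcR
  haveI := finite_of_le ha.1
  have hcR₀ := isConj_card hRR₀
  obtain ⟨φ, hφ, hφi⟩ := isConj_iff.1 hRR₀
  obtain ⟨τ, hτ, hτi, hτN, -⟩ := exists_map_normalizerIn hTp ha hr hφ hφi
  have hRN : R ≤ normalizerIn (wSub θ W') R := le_normalizerIn hg.le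
  have hτQ : img Q τ ≤ R₀ := hτi ▸ img_mono hQR.le
  obtain ⟨β, hβ, Y, hY, hcβ, hβc, hsyl⟩ := exists_carries_sylow hTp ha hτQ
  have hμm : IsMap (preSys F p Z θ D') R (fun a => autFun β (τ a)) :=
    (hτ.mono hRN).comp (isMap_autFun ha.1 hβ) fun a ha' =>
      hτi.le ((hτ.mono hRN).apply_mem_img ha')
  have hμR : img R (fun a => autFun β (τ a)) = R₀ := by
    rw [img_comp_eq (hτ.mono hRN) (isMap_autFun ha.1 hβ) fun a ha' =>
      hτi.le ((hτ.mono hRN).apply_mem_img ha'), hτi, autFun, img_toFun_aut]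
  have hμQ : img Q (fun a => autFun β (τ a)) = Y := by
    rw [img_comp_eq ((hτ.mono hRN).mono hQR.le) (isMap_autFun ha.1 hβ) fun a ha' =>
      hτQ (Subgroup.subset_closure ⟨a, ha', rfl⟩)]
    exact hcβ.img_eq ha.1 hβ hτQ hY
  have hYc : (preSys F p Z θ D').IsConj Q Y := hμQ ▸ (hμm.mono hQR.le).isConj
  have hR₀Y : R₀ ≤ normalizerIn (wSub θ W') Y := by
    have h1 := img_le_normalizerIn hμm hQR.le hR
    rwa [hμR, hμQ] at h1
  obtain ⟨ψ, hψ, hψi, hψN⟩ := hd.exists_map_to hQn hc hYc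
  have hYN : Y ≤ normalizerIn (wSub θ W') Y := le_normalizerIn (hY.trans ha.1)
  obtain ⟨ψb, hψb, hψbx, hψby, -⟩ := (hψ.mono hYN).exists_inv
  rw [hψi] at hψb hψby
  set B := locStabAut (preSys F p Z θ D') R₀ Y with hB
  set T := (autInducedBy (wSub θ W') R₀).subgroupOf B with hT
  obtain ⟨Ps, hPs⟩ := exists_sylow_of_conjInto (p := p) (T := T)
    ((isPGroup_autInducedBy hTp R₀).comap_of_injective _ (Subgroup.subtype_injective _))
    (fun U hU => by
      obtain ⟨v, hv, hvU⟩ := hsyl (U.map B.subtype) (hU.map _) (Subgroup.map_subtype_le _)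
      exact ⟨⟨v, hv⟩, fun u hu => hvU u ⟨u, hu, rfl⟩⟩)
  have hBY : ∀ (v : B) y, y ∈ Y → autFun (v : MulAut R₀) y ∈ Y := fun v y hy => by
    rw [autFun_apply _ (hY hy)]
    exact (v.2.2 ⟨y, hY hy⟩).1 hy
  -- the stabilizer moved onto `Q`
  have hmid : ∀ v : B, BMap F p θ D' Q (fun q => ψ (autFun (v : MulAut R₀) (ψb q))) := by
    let L : Subgroup B :=
      { carrier := {v | BMap F p θ D' Q (fun q => ψ (autFun (v : MulAut R₀) (ψb q)))}
        one_mem' := BMap.id'.congr fun q hq => by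
          rw [Subgroup.coe_one, autFun_one (hY (hψby q hq).1), (hψby q hq).2]
        mul_mem' := fun {v w} hv hw => (hw.comp hv).congr fun q hq => by
          have h1 := hBY w _ (hψby q hq).1
          show ψ (autFun (v : MulAut R₀) (ψb (ψ (autFun (w : MulAut R₀) (ψb q))))) = _
          rw [hψbx _ h1, Subgroup.coe_mul, autFun_mul_apply _ _ (hY (hψby q hq).1)]
        inv_mem' := fun {v} hv => hv.inv fun q hq => by
          have h1 := hBY v _ (hψby q hq).1
          show ψ (autFun ((v⁻¹ : B) : MulAut R₀) (ψb (ψ (autFun (v : MulAut R₀) (ψb q))))) = q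
          rw [hψbx _ h1, Subgroup.coe_inv, autFun_inv_apply _ (hY (hψby q hq).1), (hψby q hq).2] }
    suffices hL : L = ⊤ from fun v => show v ∈ L from hL ▸ Subgroup.mem_top _
    refine eq_top_of_sylow_le Ps ?_ fun v hv => ?_
    · intro v hv
      rw [hPs] at hv
      obtain ⟨a, haW, hax⟩ := mem_autInducedBy_iff.1 (hv : (v : MulAut R₀) ∈ _)
      have han : a ∈ normalizerIn (wSub θ W') Y := by
        refine ⟨haW, ?_⟩
        haveI : Finite (Y : Set Ω) := (finite_of_le (hY.trans ha.1) : Finite Y)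
        refine Subgroup.mem_normalizer_fintype fun y hy => ?_
        rw [← hax ⟨y, hY hy⟩]
        exact (v.2.2 ⟨y, hY hy⟩).1 hy
      refine (BMap.of_conj (hψN a han)).congr fun q hq => ?_
      rw [autFun_apply _ (hY (hψby q hq).1), hax, hψ.map_conj han (hYN (hψby q hq).1),
        (hψby q hq).2]
    · exact hd.bmap_coprime hQW hY (hψ.mono hYN) hψi hψbx hψb (isMap_autFun ha.1 v.2.1)
        (hBY v) (by rwa [Subgroup.orderOf_coe])
  rcases Nat.lt_or_ge (Nat.card R) (Nat.card (normalizerIn (wSub θ W') Q)) with hlt | hge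
  swap
  · -- at the top the stabilizer has no `p`-elements but inner ones
    obtain rfl : R = normalizerIn (wSub θ W') Q := eq_of_le_of_card_le hR hge
    have hgR : img (normalizerIn (wSub θ W') Q) g = normalizerIn (wSub θ W') Q :=
      eq_of_le_of_card_le hR' hg.card_img.ge
    have hR₀N : normalizerIn (wSub θ W') Y = R₀ := by
      haveI := finite_normalizerIn (S := wSub θ W') (P := Y)
      exact (eq_of_le_of_card_le hR₀Y ((hmax Y hYc).trans hcR₀.ge)).symm
    set N := normalizerIn (wSub θ W') Q with hN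
    set BN := locStabAut (preSys F p Z θ D') N Q with hBN
    let L : Subgroup BN :=
      { carrier := {v | BMap F p θ D' Q (autFun (v : MulAut N))}
        one_mem' := BMap.id'.congr fun q hq => by
          rw [Subgroup.coe_one, autFun_one (hQR.le hq)]
        mul_mem' := fun {v w} hv hw => (hw.comp hv).congr fun q hq => by
          rw [Subgroup.coe_mul, autFun_mul_apply _ _ (hQR.le hq)]
        inv_mem' := fun {v} hv => hv.inv fun q hq => by
          rw [Subgroup.coe_inv, autFun_inv_apply _ (hQR.le hq)] }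
    suffices hL : L = ⊤ by
      have hmem : hg.toAut hgR ∈ BN := ⟨hg.toAut_mem hgR, fun a => by
        rw [IsMap.toAut_apply]
        constructor
        · exact fun ha' => hgi.le ((hg.mono hQR.le).apply_mem_img ha')
        · intro ha'
          rw [← hgi] at ha'
          obtain ⟨b, hb, hba⟩ := (hg.mono hQR.le).mem_img.1 ha'
          exact hg.inj (hQR.le hb) a.2 hba ▸ hb⟩
      have h1 : (⟨_, hmem⟩ : BN) ∈ L := hL ▸ Subgroup.mem_top _
      exact BMap.congr h1 fun q hq => by rw [autFun_apply _ (hQR.le hq), IsMap.toAut_apply]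
    obtain ⟨V⟩ := (inferInstance : Nonempty (Sylow p BN))
    refine eq_top_of_sylow_le V (fun v hv => ?_) fun v hv => ?_
    swap
    · refine hd.bmap_coprime (R := N) hQW hQR.le (isMap_id _ hQW) (img_id Q) (fun y hy => rfl)
        (isMap_id _ hQW) (isMap_autFun hg.le v.2.1) (fun y hy => ?_) (by rwa [Subgroup.orderOf_coe])
      rw [autFun_apply _ (hQR.le hy)]
      exact (v.2.2 ⟨y, hQR.le hy⟩).1 hy
    set e := hμm.equivImg.trans (MulEquiv.subgroupCongr hμR) with he
    have hev : ∀ a : N, ((e a : R₀) : Ω) = autFun β (τ a) := fun a => rfl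
    let Φ : MulAut N →* MulAut R₀ := (MulAut.congr e).toMonoidHom
    have hΦv : ∀ (u : MulAut N) (a : N), Φ u (e a) = e (u a) := fun u a => by
      show e (u (e.symm (e a))) = _
      rw [MulEquiv.symm_apply_apply]
    have hΦB : ((V : Subgroup BN).map BN.subtype).map Φ ≤ B := by
      rintro _ ⟨_, ⟨u, hu, rfl⟩, rfl⟩
      refine ⟨?_, fun b => ?_⟩
      · obtain ⟨μi, hμi, hμix, hμiy, -⟩ := hμm.exists_inv
        rw [hμR] at hμi hμiy
        refine (autGroup_iff_isMap ha.1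
          (f := fun b => autFun β (τ (autFun (u : MulAut N) (μi b)))) fun b => ?_).2
          (((hμi.comp (isMap_autFun hg.le u.2.1) fun b hb => (hμiy b hb).1).comp hμm)
            fun b hb => autFun_mem _ (hμiy b hb).1)
        obtain ⟨c, rfl⟩ := e.surjective b
        rw [hΦv, hev, hev, show μi (autFun β (τ (c : Ω))) = c from hμix c c.2,
          autFun_apply _ c.2]
        rfl
      · obtain ⟨a, rfl⟩ := e.surjective b
        rw [hΦv]
        show (autFun β (τ (a : Ω))) ∈ Y ↔ (autFun β (τ ((u : MulAut N) a : N))) ∈ Y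
        rw [← hμQ, (hμm.mono hQR.le).mem_img, (hμm.mono hQR.le).mem_img]
        constructor
        · rintro ⟨q, hq, hqa⟩
          have hqa' := hμm.inj (hQR.le hq) a.2 hqa
          exact ⟨_, (u.2.2 a).1 (hqa' ▸ hq), rfl⟩
        · rintro ⟨q, hq, hqa⟩
          have hqa' := hμm.inj (hQR.le hq) ((u : MulAut N) a).2 hqa
          exact ⟨_, (u.2.2 a).2 (hqa' ▸ hq), rfl⟩
    obtain ⟨w, hw, hwc⟩ := hsyl _ ((V.isPGroup'.map _).map _) hΦB
    set u₀ := Φ (v : MulAut N) with hu₀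
    obtain ⟨a, haW, hax⟩ := mem_autInducedBy_iff.1 (hwc u₀ ⟨_, ⟨v, hv, rfl⟩, rfl⟩)
    have hstab : w * u₀ * w⁻¹ ∈ B :=
      mul_mem (mul_mem hw (hΦB ⟨_, ⟨v, hv, rfl⟩, rfl⟩)) (inv_mem hw)
    have haR₀ : a ∈ R₀ := by
      rw [← hR₀N]
      refine ⟨haW, ?_⟩
      haveI : Finite (Y : Set Ω) := (finite_of_le (hY.trans ha.1) : Finite Y)
      refine Subgroup.mem_normalizer_fintype fun y hy => ?_
      rw [← hax ⟨y, hY hy⟩]
      exact (hstab.2 ⟨y, hY hy⟩).1 hy
    have hinner : u₀ = MulAut.conj (w⁻¹ ⟨a, haR₀⟩) := by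
      have h1 : w * u₀ * w⁻¹ = MulAut.conj (⟨a, haR₀⟩ : R₀) :=
        MulEquiv.ext fun x => Subtype.ext (hax x)
      refine MulEquiv.ext fun x => w.injective ?_
      have h2 := congrArg (fun f : MulAut R₀ => f (w x)) h1
      simp only [MulAut.mul_apply, MulAut.inv_apply_self, MulAut.conj_apply] at h2
      rw [h2, MulAut.conj_apply, map_mul, map_mul, map_inv, MulAut.apply_inv_self]
    set r := e.symm (w⁻¹ ⟨a, haR₀⟩) with hr'
    refine (BMap.of_conj (show (r : Ω) ∈ normalizerIn (wSub θ W') Q from r.2)).congr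
      fun q hq => ?_
    have h3 : (v : MulAut N) ⟨q, hQR.le hq⟩ = r * ⟨q, hQR.le hq⟩ * r⁻¹ := by
      apply e.injective
      rw [← hΦv, ← hu₀, hinner, MulAut.conj_apply, map_mul, map_mul, map_inv, hr',
        MulEquiv.apply_symm_apply]
    rw [autFun_apply _ (hQR.le hq), h3]
    rfl
  -- below the top: two sides
  obtain ⟨φ', hφ', hφ'i⟩ := isConj_iff.1 (isConj_trans (isConj_symm hg.isConj) hRR₀)
  obtain ⟨τ', hτ', hτ'i, hτ'N, -⟩ := exists_map_normalizerIn hTp ha hr hφ' hφ'i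
  have hR'N : img R g ≤ normalizerIn (wSub θ W') (img R g) := le_normalizerIn hg.img_le
  obtain ⟨ti, hti, htix, htiy, -⟩ := (hτ.mono hRN).exists_inv
  have hm1 := hti.comp hg fun a ha' => (htiy a ha').1
  have hm2 := hm1.comp hτ' fun a ha' => hR'N (hg.apply_mem_img (htiy a ha').1)
  rw [hτi] at hm2
  have hm2i : img R₀ (fun a => τ' (g (ti a))) = R₀ := by
    refine eq_of_le_of_card_le (fun b hb => ?_) hm2.card_img.ge
    obtain ⟨a, haR, rfl⟩ := hm2.mem_img.1 hb
    rw [← hτ'i]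
    exact (hτ'.mono hR'N).apply_mem_img (hg.apply_mem_img (htiy a (hτi.symm ▸ haR)).1)
  set α := hm2.toAut hm2i with hα
  have hαA : α ∈ (preSys F p Z θ D').autGroup R₀ := hm2.toAut_mem hm2i
  have hαx : ∀ u (hu : u ∈ R) (hτu : τ u ∈ R₀), ((α ⟨τ u, hτu⟩ : R₀) : Ω) = τ' (g u) := by
    intro u hu hτu
    rw [IsMap.toAut_apply, htix u hu]
  have hτ'Q : img Q τ' ≤ R₀ := hτ'i ▸ img_mono hQR'
  have hcα : Carries α (img Q τ) (img Q τ') := by
    intro a
    rw [IsMap.toAut_apply, (hτ.mono (hQR.le.trans hRN)).mem_img,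
      (hτ'.mono (hQR'.trans hR'N)).mem_img]
    have haR : (a : Ω) ∈ img R τ := hτi.symm ▸ a.2
    constructor
    · rintro ⟨u, hu, hua⟩
      refine ⟨g u, ?_, by rw [← hua, htix u (hQR.le hu)]⟩
      have := (hg.mono hQR.le).apply_mem_img hu
      rwa [hgi] at this
    · rintro ⟨v, hv, hva⟩
      rw [← hgi] at hv
      obtain ⟨u, hu, rfl⟩ := (hg.mono hQR.le).mem_img.1 hv
      refine ⟨u, hu, ?_⟩
      obtain ⟨h1, h2⟩ := htiy a haR
      have h3 := hτ'.inj (hR'N (hg.apply_mem_img (hQR.le hu))) (hR'N (hg.apply_mem_img h1)) hva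
      rw [hg.inj (hQR.le hu) h1 h3, h2]
  have side : ∀ (R : Subgroup Ω) (τ : Ω → Ω) (β : MulAut R₀), Q < R →
      R ≤ normalizerIn (wSub θ W') Q → Nat.card R < Nat.card (normalizerIn (wSub θ W') Q) →
      Nat.card (normalizerIn (wSub θ W') Q) ≤ Nat.card R + d →
      IsMap (preSys F p Z θ D') (normalizerIn (wSub θ W') R) τ → img R τ = R₀ →
      (∀ a ∈ normalizerIn (wSub θ W') R, τ a ∈ normalizerIn (wSub θ W') R₀) →
      β ∈ (preSys F p Z θ D').autGroup R₀ → Carries β (img Q τ) Y →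
      (∀ κ ∈ autInducedBy (normalizerIn (wSub θ W') (img Q τ)) R₀,
        β * κ * β⁻¹ ∈ autInducedBy (wSub θ W') R₀) →
      BMap F p θ D' Q (fun q => ψ (autFun β (τ q))) := by
    intro R τ β hQR hR hlt hd' hτ hτi hτN hβ hcβ hβc
    haveI := finite_of_le (hR.trans inf_le_left)
    set L := normalizerIn (normalizerIn (wSub θ W') Q) R with hL
    haveI : Finite L := finite_of_le (inf_le_left.trans inf_le_left)
    have hRL : R < L := lt_normalizerIn (hTp.to_le inf_le_left)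
      (lt_of_le_of_ne hR fun e => by rw [e] at hlt; omega)
    have hLR : L ≤ normalizerIn (wSub θ W') R := inf_le_inf_right _ inf_le_left
    have hLQ : L ≤ normalizerIn (wSub θ W') Q := inf_le_left
    have hm := hτ.mono hLR
    have hτQ : img Q τ ≤ R₀ := hτi ▸ img_mono hQR.le
    have hL₀ : R₀ ≤ img L τ := hτi ▸ img_mono hRL.le
    have hL₀R : img L τ ≤ normalizerIn (wSub θ W') R₀ := fun z hz => by
      obtain ⟨a, ha', rfl⟩ := hm.mem_img.1 hz
      exact hτN a (hLR ha')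
    have hL₀X : img L τ ≤ normalizerIn (wSub θ W') (img Q τ) :=
      img_le_normalizerIn hm (hQR.le.trans hRL.le) hLQ
    obtain ⟨gb, hgb, hgbx⟩ := exists_extend hr hβ hL₀ hL₀R
      fun κ hκ => hβc κ (autInducedBy_mono hL₀X hκ)
    have hcomp := hm.comp hgb fun a ha' => hm.apply_mem_img ha'
    have hQX : img Q (fun a => gb (τ a)) = Y := by
      rw [img_comp_eq (hm.mono (hQR.le.trans hRL.le)) hgb fun a ha' =>
          hm.apply_mem_img (hQR.le.trans hRL.le ha'),
        img_congr fun a ha' => hgbx a (hτQ ha')]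
      exact hcβ.img_eq hr.1 hβ hτQ hY
    have hLY : ∀ a ∈ L, gb (τ a) ∈ normalizerIn (wSub θ W') Y := fun a ha' => by
      rw [← hQX]
      exact hcomp.apply_mem_normalizerIn (hQR.le.trans hRL.le) ha' (hLQ ha').2
    have hw := hcomp.comp hψ hLY
    have hwi : img Q (fun a => ψ (gb (τ a))) = Q := by
      rw [img_comp_eq (hcomp.mono (hQR.le.trans hRL.le)) hψ fun a ha' =>
        hLY a (hQR.le.trans hRL.le ha'), hQX, hψi]
    have hlt' : Nat.card R < Nat.card L := by
      by_contra hge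
      exact hRL.ne (eq_of_le_of_card_le hRL.le (by omega))
    refine (ih (d - 1) (by omega) L _ hw (lt_trans hQR hRL) hLQ hwi (by omega)).congr
      fun q hq => ?_
    show ψ (gb (τ q)) = ψ (autFun β (τ q))
    rw [hgbx _ (hτQ ((hm.mono (hQR.le.trans hRL.le)).apply_mem_img hq))]
  set δ := β * α⁻¹ with hδ
  have hcδ : Carries δ (img Q τ') Y := hcα.inv.comp hcβ
  have hδA : δ ∈ (preSys F p Z θ D').autGroup R₀ := mul_mem hβ (inv_mem hαA)
  obtain ⟨w, hw, hwc⟩ := hsyl ((autInducedBy (normalizerIn (wSub θ W') (img Q τ')) R₀).map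
      (MulAut.conj δ).toMonoidHom) ((isPGroup_autInducedBy_le hTp inf_le_left R₀).map _) (by
      rintro _ ⟨u, hu, rfl⟩
      have hu' := autInducedBy_normalizerIn_le_stabAut (F := preSys F p Z θ D') ha.1 hu
      exact ⟨mul_mem (mul_mem hδA hu'.1) (inv_mem hδA), hcδ.inv.comp (hu'.2.comp hcδ)⟩)
  have h1 := side R τ β hQR hR hlt hd' hτ hτi hτN hβ hcβ hβc
  have h3 := side (img R g) τ' (w * δ)
    (lt_of_le_of_ne hQR' fun e => by
      have := hg.card_img
      rw [← e] at this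
      omega) hR' (by rw [hg.card_img]; exact hlt) (by rw [hg.card_img]; exact hd') hτ' hτ'i hτ'N
    (mul_mem hw.1 hδA) (hcδ.comp hw.2) fun κ hκ => by
      have := hwc _ ⟨κ, hκ, rfl⟩
      rw [mul_inv_rev]
      simp only [MulEquiv.coe_toMonoidHom, MulAut.conj_apply] at this
      simpa only [mul_assoc] using this
  obtain ⟨χ, hχ, hχx⟩ := h3
  have hcomb := (h1.comp (hmid ⟨w, hw⟩)).comp
    (show BMap F p θ D' Q (autFun χ⁻¹) from ⟨χ⁻¹, inv_mem hχ, fun q _ => rfl⟩)
  refine hcomb.congr fun q hq => ?_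
  have hgq : g q ∈ Q := hgi.le ((hg.mono hQR.le).apply_mem_img hq)
  have hτq : τ q ∈ R₀ := hτQ ((hτ.mono (hQR.le.trans hRN)).apply_mem_img hq)
  have hτ'gq : τ' (g q) ∈ R₀ := hτ'Q ((hτ'.mono (hQR'.trans hR'N)).apply_mem_img hgq)
  have hyY : autFun β (τ q) ∈ Y := by
    rw [autFun_apply β hτq]
    exact (hcβ ⟨τ q, hτq⟩).1 ((hτ.mono (hQR.le.trans hRN)).apply_mem_img hq)
  show autFun χ⁻¹ (ψ (autFun w (ψb (ψ (autFun β (τ q)))))) = g q
  have e1 : ψ (autFun w (ψb (ψ (autFun β (τ q))))) = autFun χ (g q) := by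
    rw [hψbx _ hyY, ← hχx _ hgq]
    congr 1
    rw [autFun_apply _ (hY hyY), autFun_apply _ hτ'gq]
    have h2 : (⟨τ' (g q), hτ'gq⟩ : R₀) = α ⟨τ q, hτq⟩ :=
      Subtype.ext (hαx q (hQR.le hq) hτq).symm
    have h3 : (⟨autFun β (τ q), hY hyY⟩ : R₀) = β ⟨τ q, hτq⟩ :=
      Subtype.ext (autFun_apply β hτq)
    rw [h2, h3, hδ]
    simp only [MulAut.mul_apply, MulAut.inv_apply_self]
  rw [e1, autFun_inv_apply χ hgq]

/-- A map between members of the class is an element of `genAut` seen from `Q`. -/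
def ClassRel (F : FusionSystem S) (p : ℕ) (Z : Subgroup Ω) (θ : S →* Ω') (D' : FusionSystem W')
    (Q U : Subgroup Ω) (f : Ω → Ω) : Prop :=
  ∀ ψ ψ', IsMap (preSys F p Z θ D') (normalizerIn (wSub θ W') U) ψ → img U ψ = Q →
    IsMap (preSys F p Z θ D') (normalizerIn (wSub θ W') (img U f)) ψ' → img (img U f) ψ' = Q →
    ∃ β ∈ genAut F p θ D' Q, ∀ u ∈ U, ψ' (f u) = autFun β (ψ u)

theorem classRel_step {Q U R : Subgroup Ω} (h : ClassCtx F p Z θ D' Q) {g : Ω → Ω}
    (hg : IsMap (preSys F p Z θ D') R g) (hUR : U < R) (hR : R ≤ normalizerIn (wSub θ W') U) :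
    ClassRel F p Z θ D' Q U g := by
  intro ψ ψ' hψ hψi hψ' hψ'i
  have hψR := hψ.mono hR
  have hg' : ∀ a ∈ R, g a ∈ normalizerIn (wSub θ W') (img U g) := fun a ha =>
    hg.apply_mem_normalizerIn hUR.le ha (hR ha).2
  obtain ⟨pi, hpi, hpix, hpiy, -⟩ := hψR.exists_inv
  have hh := (hpi.comp hg fun a ha => (hpiy a ha).1).comp hψ' fun a ha => hg' _ (hpiy a ha).1
  have hhi : img Q (fun a => ψ' (g (pi a))) = Q := by
    conv_lhs => rw [← hψi]
    rw [← img_comp_eq (hψR.mono hUR.le) hh fun a ha => hψR.apply_mem_img (hUR.le ha),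
      img_congr (g := fun a => ψ' (g a)) fun a ha => by rw [hpix a (hUR.le ha)],
      img_comp_eq (hg.mono hUR.le) hψ' fun a ha => hg' a (hUR.le ha), hψ'i]
  haveI : Finite (wSub θ W') := finite_of_le wSub_le
  haveI := finite_of_le (hR.trans inf_le_left : R ≤ wSub θ W') (S := wSub θ W')
  have hlt : Q < img R ψ := by
    refine lt_of_le_of_ne (hψi ▸ img_mono hUR.le) fun e => ?_
    have h1 : Nat.card Q = Nat.card R := by rw [e, hψR.card_img]
    rw [← hψi, (hψR.mono hUR.le).card_img] at h1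
    exact hUR.ne (eq_of_le_of_card_le hUR.le h1.ge)
  obtain ⟨β, hβ, hβx⟩ := hd.bmap_of_map h _ (img R ψ) _ hh hlt
    (by
      have := img_le_normalizerIn hψR hUR.le hR
      rwa [hψi] at this) hhi (Nat.le_add_left _ _)
  refine ⟨β, hβ, fun u hu => ?_⟩
  rw [← hβx (ψ u) (hψi ▸ (hψR.mono hUR.le).apply_mem_img hu)]
  show _ = ψ' (g (pi (ψ u)))
  rw [hpix u (hUR.le hu)]

/-- The automorphisms of `Q` in the generated subsystem lie in `genAut`. -/
theorem autGroup_le_genAut {Q : Subgroup Ω} (h : ClassCtx F p Z θ D' Q) :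
    (preSys F p Z θ D').autGroup Q ≤ genAut F p θ D' Q := by
  obtain ⟨hQn, hc, hne, hbig⟩ := id h
  obtain ⟨hZQ, hQW, hQc⟩ := id hc
  haveI : Finite (wSub θ W') := finite_of_le wSub_le
  haveI := finite_of_le hQW
  have hTp : IsPGroup p (wSub θ W') := hd.pS.to_le wSub_le
  have hclass : ∀ U, (preSys F p Z θ D').IsConj Q U → U < wSub θ W' := fun U hU => by
    refine lt_of_le_of_ne (isConj_le_right hU) fun e => hne ?_
    have := isConj_card hU
    rw [e] at this
    exact eq_of_le_of_card_le hQW this.le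
  let E : FusionSystem (wSub θ W') :=
    { Hom := fun P' => {φ | φ ∈ (preSys F p Z θ D').Hom P' ∧
        ∀ U ≤ P', (preSys F p Z θ D').IsConj Q U → ClassRel F p Z θ D' Q U (toFun φ)}
      le_of_mem := fun hφ => (preSys F p Z θ D').le_of_mem hφ.1
      injective_of_mem := fun hφ => (preSys F p Z θ D').injective_of_mem hφ.1
      conj_mem := fun {P' a} hP' ha => ⟨(preSys F p Z θ D').conj_mem hP' ha, fun U hU hUc => by
        intro ψ ψ' hψ hψi hψ' hψ'i
        have hcg : ∀ b ∈ U, (fun b => a * b * a⁻¹) b = toFun (conjHom P' a) b := fun b hb =>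
          (toFun_apply (conjHom P' a) ⟨b, hU hb⟩).symm
        rw [← img_congr hcg] at hψ' hψ'i
        obtain ⟨β, hβ, hβx⟩ := hd.classRel_step h
          (isMap_conj (preSys F p Z θ D') inf_le_left ha)
          (lt_normalizerIn hTp (hclass U hUc)) le_rfl ψ ψ' hψ hψi hψ' hψ'i
        exact ⟨β, hβ, fun u hu => by rw [← hcg u hu]; exact hβx u hu⟩⟩
      comp_mem := fun {P' Q' φ χ} hφ hχ hmem =>
        ⟨(preSys F p Z θ D').comp_mem hφ.1 hχ.1 hmem, fun U hU hUc => by
          intro ψ ψ'' hψ hψi hψ'' hψ''i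
          have hf := (isMap_of_hom hφ.1).mono hU
          have hle : img U (toFun φ) ≤ Q' := fun b hb => by
            obtain ⟨a, ha, rfl⟩ := hf.mem_img.1 hb
            rw [toFun_of_mem φ (hU ha)]
            exact hmem _
          have hcg : ∀ b ∈ U, (fun b => toFun χ (toFun φ b)) b =
              toFun ((χ.comp (φ.codRestrict Q' hmem))) b := fun b hb => by
            show toFun χ (toFun φ b) = _
            rw [toFun_of_mem φ (hU hb), toFun_of_mem χ (hmem _), toFun_of_mem _ (hU hb)]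
            rfl
          have hgm := (isMap_of_hom hχ.1).mono hle
          rw [← img_congr hcg, img_comp_eq hf hgm fun a ha => hf.apply_mem_img ha] at hψ'' hψ''i
          have hUc' : (preSys F p Z θ D').IsConj Q (img U (toFun φ)) :=
            isConj_trans hUc hf.isConj
          obtain ⟨ψ', hψ', hψ'i, -⟩ := hd.exists_map_to hQn hc hUc'
          obtain ⟨β₁, hβ₁, hβ₁x⟩ := hφ.2 U hU hUc ψ ψ' hψ hψi hψ' hψ'i
          obtain ⟨β₂, hβ₂, hβ₂x⟩ := hχ.2 _ hle hUc' ψ' ψ'' hψ' hψ'i hψ'' hψ''i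
          refine ⟨β₂ * β₁, mul_mem hβ₂ hβ₁, fun u hu => ?_⟩
          rw [← hcg u hu]
          show ψ'' (toFun χ (toFun φ u)) = _
          rw [hβ₂x _ (hf.apply_mem_img hu), hβ₁x u hu, autFun_mul_apply _ _
            (hψi ▸ (hψ.mono (le_normalizerIn (hclass U hUc).le)).apply_mem_img hu)]⟩
      inv_mem := fun {P' φ} hφ => by
        obtain ⟨χ, hχ, hχx⟩ := (preSys F p Z θ D').inv_mem hφ.1
        refine ⟨χ, ⟨hχ, fun U hU hUc => ?_⟩, hχx⟩
        intro ψ ψ' hψ hψi hψ' hψ'i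
        have hm := isMap_of_hom hφ.1
        have hmχ := isMap_of_hom hχ
        set U₀ := img U (toFun χ) with hU₀
        have hU₀P : U₀ ≤ P' := fun a ha => by
          obtain ⟨b, hb', rfl⟩ := (hmχ.mono hU).mem_img.1 ha
          obtain ⟨x, rfl⟩ := hU hb'
          rw [toFun_of_mem χ ⟨x, rfl⟩, hχx]
          exact x.2
        have hback : ∀ b ∈ U, toFun φ (toFun χ b) = b := fun b hb' => by
          obtain ⟨x, rfl⟩ := hU hb'
          rw [toFun_of_mem χ ⟨x, rfl⟩, hχx, toFun_apply]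
        have himg : img U₀ (toFun φ) = U := by
          rw [hU₀, ← img_comp_eq (hmχ.mono hU) hm fun b hb' =>
              hU₀P ((hmχ.mono hU).apply_mem_img hb'),
            img_congr (g := id) hback, img_id]
        have hUc₀ : (preSys F p Z θ D').IsConj Q U₀ := isConj_trans hUc (hmχ.mono hU).isConj
        obtain ⟨β, hβ, hβx⟩ := hφ.2 U₀ hU₀P hUc₀ ψ' ψ hψ' hψ'i (himg.symm ▸ hψ)
          (himg.symm ▸ hψi)
        refine ⟨β⁻¹, inv_mem hβ, fun u hu => ?_⟩
        have hu₀ : toFun χ u ∈ U₀ := (hmχ.mono hU).apply_mem_img hu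
        have h1 := hβx _ hu₀
        rw [hback u hu] at h1
        rw [h1, autFun_inv_apply β (hψ'i ▸
          (hψ'.mono (le_normalizerIn (hmχ.mono hU).img_le)).apply_mem_img hu₀)] }
  have hcont : Contains F p Z θ D' E := by
    rintro R α hgen
    have hRW := hgen.1.2.1
    have hmD : IsMap (preSys F p Z θ D') R (autFun α) :=
      isMap_autFun hRW (mem_preSys_of_gen hgen)
    refine (autGroup_iff_isMap hRW (f := autFun α) fun x => (autFun_apply α x.2).symm).2
      ⟨hmD.toHom, ⟨hmD.toHom_mem, fun U hU hUc => ?_⟩, fun x => rfl⟩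
    intro ψ ψ' hψ hψi hψ' hψ'i
    have hcg : ∀ b ∈ U, autFun α b = toFun hmD.toHom b := fun b hb =>
      (toFun_of_mem hmD.toHom (hU hb)).symm
    rw [← img_congr hcg] at hψ' hψ'i
    suffices h' : ∃ β ∈ genAut F p θ D' Q, ∀ u ∈ U, ψ' (autFun α u) = autFun β (ψ u) by
      obtain ⟨β, hβ, hβx⟩ := h'
      exact ⟨β, hβ, fun u hu => by rw [← hcg u hu]; exact hβx u hu⟩
    haveI := finite_of_le (S := wSub θ W') hRW
    rcases lt_or_eq_of_le hU with hlt | heq
    · exact hd.classRel_step h (hmD.mono inf_le_left) (lt_normalizerIn (hTp.to_le hRW) hlt)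
        (inf_le_inf_right _ hRW) ψ ψ' hψ hψi hψ' hψ'i
    subst heq
    have hαU : img U (autFun α) = U := img_toFun_aut α
    rw [hαU] at hψ' hψ'i
    have hUN : U ≤ normalizerIn (wSub θ W') U := le_normalizerIn hRW
    obtain ⟨ψb, hψb, hψbx, hψby, -⟩ := (hψ.mono hUN).exists_inv
    rw [hψi] at hψb hψby
    have h1 := hd.bmap_coprime hQW le_rfl (hψ.mono hUN) hψi hψbx hψb hmD
      (fun y hy => autFun_mem α hy) hgen.2.2.1
    obtain ⟨β₁, hβ₁, hβ₁x⟩ := h1
    obtain ⟨β₂, hβ₂, hβ₂x⟩ := hd.classRel_step h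
      (isMap_id (preSys F p Z θ D') inf_le_left) (lt_normalizerIn hTp (hclass U hUc)) le_rfl
      ψ ψ' hψ hψi (by rw [img_id]; exact hψ') (by rw [img_id]; exact hψ'i)
    refine ⟨β₂ * β₁, mul_mem hβ₂ hβ₁, fun u hu => ?_⟩
    have hψu : ψ u ∈ Q := hψi ▸ (hψ.mono hUN).apply_mem_img hu
    have hαu := autFun_mem α hu
    rw [autFun_mul_apply _ _ hψu, ← hβ₁x _ hψu]
    show ψ' (autFun α u) = autFun β₂ (ψ (autFun α (ψb (ψ u))))
    rw [hψbx u hu, ← hβ₂x _ hαu]
    rfl
  intro α hα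
  have hmD : IsMap (preSys F p Z θ D') Q (autFun α) := isMap_autFun hQW hα
  obtain ⟨φ, ⟨hφ, hφU⟩, hφx⟩ := isMap_preSys_iff.1 hmD E hcont
  have hcg : ∀ b ∈ Q, toFun φ b = autFun α b := fun b hb =>
    (toFun_of_mem φ hb).trans (hφx ⟨b, hb⟩)
  have himg : img Q (toFun φ) = Q := (img_congr hcg).trans (img_toFun_aut α)
  obtain ⟨β, hβ, hβx⟩ := hφU Q le_rfl (isConj_refl hQW) id id (isMap_id _ inf_le_left) (img_id Q)
    (by rw [himg]; exact isMap_id _ inf_le_left) (by rw [himg, img_id])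
  have : α = β := MulEquiv.ext fun q => Subtype.ext (by
    have h1 := hβx q q.2
    simp only [id] at h1
    rw [hcg q q.2, autFun_apply α q.2, autFun_apply β q.2] at h1
    exact h1)
  exact this ▸ hβ

end Setup

end CfsgLib.Comp.Pre
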