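import Cfsg.Agent.S5110
import Cfsg.Agent.Lib.Comp.SystemTransport
import Cfsg.Agent.Lib.Fusion.SubsystemCentric
import Cfsg.Agent.Lib.Fusion.FrattiniIndex

/-!
The `p'`-residual subsystem of a saturated fusion system.
-/

set_option autoImplicit false
set_option linter.unusedVariables false
set_option linter.unusedSectionVars false
set_option linter.style.haveILetI false

namespace CfsgLib.Comp.Fus

open Cfsg Cfsg.FusionSystem Subgroup CfsgLib.Fusion

variable {Ω : Type*} [Group Ω] {S : Subgroup Ω} {F : FusionSystem S} {P R : Subgroup Ω} {p : ℕ}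

/-- The automorphisms of `S` that agree with a map of the generated system on a centric subgroup. -/
def rigidSet (F : FusionSystem S) (p : ℕ) : Set (MulAut S) :=
  {α | α ∈ F.autGroup S ∧ ∃ U, F.IsCentric U ∧ IsMap (genSys F p) U (autFun α)}

/-- `Aut⁰_F(S)`. -/
def rigidAut (F : FusionSystem S) (p : ℕ) : Subgroup (MulAut S) := Subgroup.closure (rigidSet F p)

theorem rigidAut_le : rigidAut F p ≤ F.autGroup S := (Subgroup.closure_le _).2 fun α h => h.1

variable [Fact p.Prime] [Finite S] (hS : IsPGroup p S) (hF : F.IsSaturated p)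

/-- The `p'`-residual subsystem: maps of the generated system followed by `Aut⁰_F(S)`. -/
noncomputable def ppSys : FusionSystem S where
  Hom P := {φ | φ ∈ F.Hom P ∧ ∃ α ∈ rigidAut F p, ∃ g, IsMap (genSys F p) P g ∧
    ∀ x : P, φ x = autFun α (g x)}
  le_of_mem h := F.le_of_mem h.1
  injective_of_mem h := F.injective_of_mem h.1
  conj_mem {P a} hP ha := ⟨F.conj_mem hP ha, 1, one_mem _, _, isMap_conj _ hP ha, fun x =>
    (autFun_one (S.mul_mem (S.mul_mem ha (hP x.2)) (S.inv_mem ha))).symm⟩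
  comp_mem {P Q φ ψ} hφ hψ h := by
    obtain ⟨hφ, α, hα, g, hg, hgx⟩ := hφ
    obtain ⟨hψ, β, hβ, k, hk, hkx⟩ := hψ
    obtain ⟨k', hk', hk'x⟩ := genSys_transport hS hF (inv_mem (rigidAut_le hα)) hk
    have hQ : Q ≤ S := hk.le
    have hmem : ∀ x ∈ P, g x ∈ img Q (autFun α⁻¹) := fun x hx => by
      rw [← autFun_inv_apply α (hg.mem hx), ← hgx ⟨x, hx⟩]
      exact ((isMap_autFun le_rfl (inv_mem (rigidAut_le hα))).mono hQ).apply_mem_img (h ⟨x, hx⟩)
    refine ⟨F.comp_mem hφ hψ h, β * α, mul_mem hβ hα, _, hg.comp hk' hmem, fun x => ?_⟩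
    show ψ ⟨φ x, h x⟩ = autFun (β * α) (k' (g x))
    rw [hkx]
    have h1 := hk'x _ (h x)
    have h2 : autFun α⁻¹ (φ x) = g x := by rw [hgx, autFun_inv_apply α (hg.mem x.2)]
    rw [h2] at h1
    rw [h1, autFun_mul_apply _ _ (autFun_mem _ (hk.mem (h x))),
      autFun_apply_inv α (hk.mem (h x))]
  inv_mem {P φ} hφ := by
    obtain ⟨hφ, α, hα, g, hg, hgx⟩ := hφ
    obtain ⟨ψ, hψ, hψx⟩ := F.inv_mem hφ
    obtain ⟨k, hk, hkx, -, -⟩ := hg.exists_inv
    obtain ⟨k', hk', hk'x⟩ := genSys_transport hS hF (rigidAut_le hα) hk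
    have hr : φ.range ≤ img (img P g) (autFun α) := by
      rintro _ ⟨x, rfl⟩
      rw [hgx]
      exact ((isMap_autFun le_rfl (rigidAut_le hα)).mono hg.img_le).apply_mem_img
        (hg.apply_mem_img x.2)
    refine ⟨ψ, ⟨hψ, α⁻¹, inv_mem hα, k', hk'.mono hr, ?_⟩, hψx⟩
    rintro ⟨_, x, rfl⟩
    rw [hψx]
    show (x : Ω) = autFun α⁻¹ (k' (φ x))
    rw [hgx, hk'x _ (hg.apply_mem_img x.2), hkx _ x.2, autFun_inv_apply α (hg.le x.2)]

theorem isMap_ppSys_iff {f : Ω → Ω} : IsMap (ppSys hS hF) P f ↔ IsMap F P f ∧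
    ∃ α ∈ rigidAut F p, ∃ g, IsMap (genSys F p) P g ∧ ∀ x ∈ P, f x = autFun α (g x) := by
  constructor
  · rintro ⟨φ, ⟨hφ, α, hα, g, hg, hgx⟩, hφx⟩
    exact ⟨⟨φ, hφ, hφx⟩, α, hα, g, hg, fun x hx => (hφx ⟨x, hx⟩).symm.trans (hgx ⟨x, hx⟩)⟩
  · rintro ⟨⟨φ, hφ, hφx⟩, α, hα, g, hg, hgx⟩
    exact ⟨φ, ⟨hφ, α, hα, g, hg, fun x => (hφx x).trans (hgx x x.2)⟩, hφx⟩

include hS hF

theorem isMap_of_genSys {f : Ω → Ω} (h : IsMap (genSys F p) P f) : IsMap (ppSys hS hF) P f :=
  (isMap_ppSys_iff hS hF).2 ⟨le_iff_isMap.1 genSys_le P f h, 1, one_mem _, f, h,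
    fun x hx => (autFun_one (h.mem hx)).symm⟩

theorem isMap_of_rigid {α : MulAut S} (hα : α ∈ rigidAut F p) :
    IsMap (ppSys hS hF) S (autFun α) :=
  (isMap_ppSys_iff hS hF).2 ⟨isMap_autFun le_rfl (rigidAut_le hα), α, hα, id, isMap_id _ le_rfl,
    fun _ _ => rfl⟩

theorem ppSys_le : ppSys hS hF ≤ F := fun P φ h => h.1

/-- The centric subgroups of the two systems coincide. -/
theorem centric_ppSys_iff : (ppSys hS hF).IsCentric P ↔ F.IsCentric P := by
  refine ⟨fun h => ⟨h.1, fun R hR c hc => ?_⟩, fun h => ⟨h.1, fun R hR => h.2 R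
    (isConj_of_subsystem (ppSys_le hS hF) hR)⟩⟩
  obtain ⟨f, hf, hfi⟩ := isConj_iff.1 hR
  subst hfi
  obtain ⟨α, hα, g, hg, hfx⟩ := exists_frattini hS hF hf
  have hm := isMap_autFun (F := F) le_rfl hα
  have hcen := h.2 (img P g) (isMap_of_genSys hS hF hg).isConj
  have hd : autFun α⁻¹ c ∈ centralizerIn S (img P g) := by
    refine ⟨autFun_mem _ hc.1, fun z hz => ?_⟩
    obtain ⟨x, hx, rfl⟩ := hg.mem_img.1 hz
    refine hm.inj (S.mul_mem (hg.mem hx) (autFun_mem _ hc.1))
      (S.mul_mem (autFun_mem _ hc.1) (hg.mem hx)) ?_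
    rw [hm.map_mul (hg.mem hx) (autFun_mem _ hc.1), hm.map_mul (autFun_mem _ hc.1) (hg.mem hx),
      autFun_apply_inv α hc.1, ← hfx x hx]
    exact hc.2 _ (hf.apply_mem_img hx)
  obtain ⟨x, hx, hxz⟩ := hg.mem_img.1 (hcen hd)
  have e : f x = c := by rw [hfx x hx, hxz, autFun_apply_inv α hc.1]
  exact e ▸ hf.apply_mem_img hx

theorem fullyNormalized_of_autFun {α : MulAut S} (hα : α ∈ F.autGroup S) (hR : R ≤ S)
    (h : F.IsFullyNormalized (img R (autFun α))) : F.IsFullyNormalized R := by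
  have hm := isMap_autFun (F := F) le_rfl hα
  obtain ⟨c, hiso⟩ := exists_iso_self hm
  refine ⟨hR, fun R' hR' => (h.2 R' (isConj_trans (isConj_symm (hm.mono hR).isConj) hR')).trans ?_⟩
  haveI : Finite (normalizerIn S R) := finite_of_le inf_le_left
  have hpush : push (autFun α) R = img R (autFun α) := rfl
  refine Nat.card_le_card_of_injective (fun a : normalizerIn S (img R (autFun α)) =>
    (⟨c a, hiso.mem' a a.2.1, (hiso.apply_mem_normalizer_iff hR (hiso.mem' a a.2.1)).1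
      (by rw [hiso.right a a.2.1, hpush]; exact a.2.2)⟩ : normalizerIn S R)) fun a b hab => ?_
  refine Subtype.ext ?_
  rw [← hiso.right a a.2.1, ← hiso.right b b.2.1]
  exact congrArg (autFun α) (congrArg Subtype.val hab)

theorem hasPrimeToPIndex_ppSys : (ppSys hS hF).HasPrimeToPIndexIn F p := by
  refine ⟨ppSys_le hS hF, fun P hP => ?_⟩
  refine (pGenAut_le_genSys hS hF hP).trans fun β hβ => ?_
  exact (autGroup_iff_isMap hP fun x => (toFun_aut_apply β x.2).symm).2
    (isMap_of_genSys hS hF (isMap_of_autGroup hP hβ))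

theorem fullyAutomized_ppSys (hR : F.IsFullyNormalized R) :
    (ppSys hS hF).IsFullyAutomized p R := by
  have hRS := hR.1
  haveI := finite_of_le hRS
  obtain ⟨W, hW⟩ := (fullyAutomized_of_fullyNormalized hS hF hR).2
  have hle : (ppSys hS hF).autGroup R ≤ F.autGroup R := fun β hβ =>
    (autGroup_mem_iff hRS).2 (ppSys_le hS hF R ((autGroup_mem_iff hRS).1 hβ))
  refine ⟨hRS, W.comapOfInjective (Subgroup.inclusion hle) (Subgroup.inclusion_injective hle) ?_,
    ?_⟩
  · intro w hw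
    rw [hW] at hw
    exact ⟨⟨w, autInducedBy_le_autGroup hRS (Subgroup.mem_subgroupOf.1 hw)⟩, rfl⟩
  · show Subgroup.comap (Subgroup.inclusion hle) (W : Subgroup (F.autGroup R)) = _
    rw [hW]
    rfl

theorem receptive_ppSys (hQc : F.IsCentric R) : (ppSys hS hF).IsReceptive R := by
  refine receptive_of_extend hQc.1 fun P f hf hi N hPN hN => ?_
  obtain ⟨hfF, β, hβ, h, hh, hfx⟩ := (isMap_ppSys_iff hS hF).1 hf
  obtain ⟨ψ, hψ, hψx⟩ := receptive_extend
    (receptive_of_fullyCentralized hS hF (centric_fullyCentralized hQc)) hfF hi hPN hN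
  obtain ⟨α, hα, g, hg, hψg⟩ := exists_frattini hS hF hψ
  have hgP := hg.mono hPN
  have hUc : F.IsCentric (img P g) :=
    centric_of_isConj (centric_of_isConj hQc (hi ▸ isConj_symm hfF.isConj))
      (le_iff_isMap.1 genSys_le P g hgP).isConj
  -- `β⁻¹ α` agrees with a map of the generated system on `g P`
  obtain ⟨k, hk, hkx, hky, -⟩ := hgP.exists_inv
  have hβα : β⁻¹ * α ∈ rigidAut F p := by
    refine Subgroup.subset_closure ⟨mul_mem (inv_mem (rigidAut_le hβ)) hα, _, hUc,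
      (hk.comp hh fun y hy => (hky y hy).1).congr fun y hy => ?_⟩
    obtain ⟨x, hx, rfl⟩ := hgP.mem_img.1 hy
    show h (k (g x)) = autFun (β⁻¹ * α) (g x)
    rw [hkx x hx, autFun_mul_apply _ _ (hgP.mem hx), ← hψg x (hPN hx), hψx x hx, hfx x hx,
      autFun_inv_apply β (hh.mem hx)]
  have hαr : α ∈ rigidAut F p := by simpa using mul_mem hβ hβα
  exact ⟨ψ, (isMap_ppSys_iff hS hF).2 ⟨hψ, α, hαr, g, hg, hψg⟩, hψx⟩

/-- A system containing the maps with centric source contains the whole system. -/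
theorem ppSys_le_of {D : FusionSystem S} (hgen : genSys F p ≤ D)
    (hrig : ∀ α ∈ rigidAut F p, IsMap D S (autFun α)) : ppSys hS hF ≤ D := by
  refine le_iff_isMap.2 fun P f hf => ?_
  obtain ⟨-, α, hα, g, hg, hfx⟩ := (isMap_ppSys_iff hS hF).1 hf
  exact ((le_iff_isMap.1 hgen P g hg).comp (hrig α hα) fun x hx => hg.mem hx).congr
    fun x hx => (hfx x hx).symm

theorem centric_top : F.IsCentric S := ⟨le_rfl, fun R hR a ha => by
  haveI := finite_of_le (isConj_le_right hR)
  have h : R = S := eq_of_le_of_card_le (isConj_le_right hR) (isConj_card hR).ge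
  exact h.symm ▸ ha.1⟩

theorem isSaturated_ppSys : (ppSys hS hF).IsSaturated p := by
  refine Cfsg.Agent.S5110.result p hS _ {P | F.IsCentric P} (fun P hP => hP.1)
    (fun P hP R hR => centric_of_isConj hP (isConj_of_subsystem (ppSys_le hS hF) hR))
    (fun P hP => ?_) (fun D hD => ?_) fun P hP hn => absurd ((centric_ppSys_iff hS hF).1 hP) hn
  · obtain ⟨Q, hQ, hQn⟩ := exists_fullyNormalized_conj F hP.1
    obtain ⟨f, hf, hfi⟩ := isConj_iff.1 hQ
    obtain ⟨α, hα, g, hg, hfx⟩ := exists_frattini hS hF hf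
    have hR : F.IsFullyNormalized (img P g) := by
      refine fullyNormalized_of_autFun hS hF hα hg.img_le ?_
      have e : img (img P g) (autFun α) = Q := by
        rw [← hfi]
        ext y
        rw [hf.mem_img, ((isMap_autFun le_rfl hα).mono hg.img_le).mem_img]
        constructor
        · rintro ⟨z, hz, rfl⟩
          obtain ⟨x, hx, rfl⟩ := hg.mem_img.1 hz
          exact ⟨x, hx, hfx x hx⟩
        · rintro ⟨x, hx, rfl⟩
          exact ⟨g x, hg.apply_mem_img hx, (hfx x hx).symm⟩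
      rwa [e]
    exact ⟨img P g, (isMap_of_genSys hS hF hg).isConj, fullyAutomized_ppSys hS hF hR,
      receptive_ppSys hS hF (centric_of_isConj hP (le_iff_isMap.1 genSys_le P g hg).isConj)⟩
  · refine ppSys_le_of hS hF (genSys_le_of fun P hP β hβ => ?_) fun α hα => ?_
    · have h := containsPAut_genSys (F := F) (p := p) P hP hβ
      exact (autGroup_mem_iff hP.1).2 (hD P hP
        (isMap_of_genSys hS hF (isMap_of_autGroup hP.1 h) |>.mem_hom fun x => (toFun_apply _ x).symm))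
    · obtain ⟨φ, hφ, hφx⟩ := isMap_of_rigid hS hF hα
      exact ⟨φ, hD S (centric_top hS hF) hφ, hφx⟩

theorem ppSys_le_of_index {D : FusionSystem S} (hD : D.IsSaturated p)
    (hDi : D.HasPrimeToPIndexIn F p) : ppSys hS hF ≤ D := by
  have hgen : genSys F p ≤ D := genSys_le_of fun P hP => hDi.2 P hP.1
  refine ppSys_le_of hS hF hgen fun α hα => ?_
  induction hα using Subgroup.closure_induction with
  | mem α hα =>
    obtain ⟨hαF, U, hU, hαU⟩ := hα
    exact isMap_of_agree_centric hS hF hD hDi.1 hU hU.1 (isMap_autFun le_rfl hαF)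
      (le_iff_isMap.1 hgen U _ hαU)
  | one => exact (isMap_id D le_rfl).congr fun x hx => (autFun_one hx).symm
  | mul a b _ _ ha hb =>
    exact (hb.comp ha fun x hx => hb.mem hx).congr fun x hx => (autFun_mul_apply a b hx).symm
  | inv a _ ha =>
    have hi : img S (autFun a) = S := img_autFun
    obtain ⟨k, hk, hkx, hky, -⟩ := ha.exists_inv
    rw [hi] at hk hky
    refine hk.congr fun x hx => ?_
    conv_lhs => rw [← autFun_apply_inv a hx]
    exact hkx _ (autFun_mem _ hx)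

theorem isPPrimeResidual_ppSys : F.IsPPrimeResidual p (ppSys hS hF) :=
  ⟨isSaturated_ppSys hS hF, hasPrimeToPIndex_ppSys hS hF, fun D hD hDi =>
    ppSys_le_of_index hS hF hD hDi⟩

theorem pPrimeResidual_eq {D : FusionSystem S} (hD : F.IsPPrimeResidual p D) :
    D = ppSys hS hF := by
  have h := isPPrimeResidual_ppSys hS hF
  exact fusionSystem_ext fun P f => ⟨le_iff_isMap.1 (hD.2.2 _ h.1 h.2.1) P f,
    le_iff_isMap.1 (h.2.2 D hD.1 hD.2.1) P f⟩

end CfsgLib.Comp.Fus
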