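import Cfsg.Agent.Lib.Comp.PreimageClass
import Cfsg.Agent.Lib.Comp.SystemTransport
import Cfsg.Agent.Lib.Fusion.Transport
import Cfsg.Agent.S5110
import Cfsg.Agent.S5140
import Cfsg.Agent.S5141

/-!
The generated subsystem is saturated, hence weakly normal, and its residual of index prime to `p`
is a normal subsystem over the full preimage.
-/

set_option autoImplicit false
set_option linter.unusedVariables false
set_option linter.unusedSectionVars false
set_option linter.style.haveILetI false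

namespace CfsgLib.Comp.Pre

open Cfsg Cfsg.FusionSystem Subgroup CfsgLib.Fusion

variable {Ω Ω' : Type*} [Group Ω] [Group Ω'] {S Z : Subgroup Ω} {S' W' : Subgroup Ω'}
  {F : FusionSystem S} {θ : S →* Ω'} {F' : FusionSystem S'} {D' : FusionSystem W'} {p : ℕ}
  [Fact p.Prime] [Finite S]

namespace Setup

variable (hd : Setup F p Z θ F' D')

include hd

theorem normalizer_image {P : Subgroup Ω} (hP : P ≤ S) {a : Ω} (ha : a ∈ S)
    (han : a ∈ normalizer (P : Set Ω)) : qmap θ a ∈ normalizer (imageAlong θ P : Set Ω') := by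
  intro y
  constructor
  · intro hy
    obtain ⟨u, hu, rfl⟩ := (mem_im hP).1 hy
    rw [← qmap_conj ha (hP hu)]
    exact qmap_mem_im hP ((han u).1 hu)
  · intro hy
    obtain ⟨u, hu, huy⟩ := (mem_im hP).1 hy
    have hau : a⁻¹ * u * a⁻¹⁻¹ ∈ P := (Subgroup.inv_mem _ han u).1 hu
    have := qmap_mem_im (θ := θ) hP hau
    rw [qmap_conj (S.inv_mem ha) (hP hu), qmap_inv ha, huy] at this
    simpa [mul_assoc] using this

theorem mem_autGroup_F {R : Subgroup Ω} (hR : R ≤ wSub θ W') {α : MulAut R}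
    (hα : α ∈ (preSys F p Z θ D').autGroup R) : α ∈ F.autGroup R :=
  (autGroup_iff_isMap (hR.trans wSub_le) (f := autFun α)
    fun x => (autFun_apply α x.2).symm).2 (isMap_of_sub' preSys_subsystem (isMap_autFun hR hα))

/-- The automorphisms of the preimage in the generated subsystem. -/
theorem autGroup_top_le_genAut :
    (preSys F p Z θ D').autGroup (wSub θ W') ≤ genAut F p θ D' (wSub θ W') := by
  haveI : Finite (wSub θ W') := finite_of_le wSub_le
  have htop : ∀ {f : Ω → Ω}, IsMap (preSys F p Z θ D') (wSub θ W') f →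
      img (wSub θ W') f = wSub θ W' := fun hf =>
    eq_of_le_of_card_le hf.img_le hf.card_img.ge
  let E : FusionSystem (wSub θ W') :=
    { Hom := fun P' => {φ | φ ∈ (preSys F p Z θ D').Hom P' ∧
        (P' = wSub θ W' → BMap F p θ D' (wSub θ W') (toFun φ))}
      le_of_mem := fun hφ => (preSys F p Z θ D').le_of_mem hφ.1
      injective_of_mem := fun hφ => (preSys F p Z θ D').injective_of_mem hφ.1
      conj_mem := fun {P' a} hP' ha => ⟨(preSys F p Z θ D').conj_mem hP' ha, fun e => by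
        refine (BMap.of_conj (a := a) ⟨ha, Subgroup.le_normalizer ha⟩).congr fun q hq => ?_
        subst e
        exact (toFun_apply (conjHom (wSub θ W') a) ⟨q, hq⟩).symm⟩
      comp_mem := fun {P' Q' φ χ} hφ hχ hmem =>
        ⟨(preSys F p Z θ D').comp_mem hφ.1 hχ.1 hmem, fun e => by
          have hQ' : Q' = wSub θ W' := by
            refine le_antisymm ((preSys F p Z θ D').le_of_mem hχ.1).1 fun q hq => ?_
            have hm := isMap_of_hom hφ.1
            subst e
            have h1 := htop hm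
            rw [← h1] at hq
            obtain ⟨u, hu, rfl⟩ := hm.mem_img.1 hq
            rw [toFun_of_mem φ hu]
            exact hmem _
          refine ((hφ.2 e).comp (hχ.2 hQ')).congr fun q hq => ?_
          have hq' : q ∈ P' := e.symm ▸ hq
          show toFun χ (toFun φ q) = _
          rw [toFun_of_mem φ hq', toFun_of_mem χ (hmem _), toFun_of_mem _ hq']
          rfl⟩
      inv_mem := fun {P' φ} hφ => by
        obtain ⟨χ, hχ, hχx⟩ := (preSys F p Z θ D').inv_mem hφ.1
        refine ⟨χ, ⟨hχ, fun e => ?_⟩, hχx⟩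
        have hm := isMap_of_hom hφ.1
        have hP' : P' = wSub θ W' := by
          haveI : Finite P' := finite_of_le hm.le
          refine eq_of_le_of_card_le hm.le ?_
          have h1 : Nat.card φ.range = Nat.card P' :=
            (Nat.card_congr (MonoidHom.ofInjective
              ((preSys F p Z θ D').injective_of_mem hφ.1)).toEquiv).symm
          rw [e] at h1
          exact h1.le
        refine (hφ.2 hP').inv fun q hq => ?_
        have hq' : q ∈ P' := hP'.symm ▸ hq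
        rw [toFun_of_mem φ hq', toFun_of_mem χ ⟨⟨q, hq'⟩, rfl⟩, hχx] }
  have hcont : Contains F p Z θ D' E := by
    rintro R α hgen
    have hRW := hgen.1.2.1
    have hmD : IsMap (preSys F p Z θ D') R (autFun α) :=
      isMap_autFun hRW (mem_preSys_of_gen hgen)
    refine (autGroup_iff_isMap hRW (f := autFun α) fun x => (autFun_apply α x.2).symm).2
      ⟨hmD.toHom, ⟨hmD.toHom_mem, fun e => ?_⟩, fun x => rfl⟩
    subst e
    exact ⟨α, coprime_mem_genAut ((mem_goodAut_iff hRW).2 ⟨hgen.2.1, hgen.2.2.2⟩) hgen.2.2.1,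
      fun q hq => (toFun_of_mem hmD.toHom hq).trans rfl⟩
  intro α hα
  obtain ⟨φ, ⟨hφ, hφB⟩, hφx⟩ := isMap_preSys_iff.1 (isMap_autFun le_rfl hα) E hcont
  obtain ⟨β, hβ, hβx⟩ := hφB rfl
  have : α = β := MulEquiv.ext fun q => Subtype.ext (by
    have h1 := hβx q q.2
    rw [toFun_of_mem φ q.2, autFun_apply β q.2] at h1
    rw [← autFun_apply α q.2, ← hφx q, ← h1])
  exact this ▸ hβ

/-- A fully normalized subgroup with centric image is fully automized and receptive. -/
theorem sat_at {Q : Subgroup Ω} (hQ : F.IsFullyNormalized Q) (hc : Cen Z θ D' Q)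
    (hgen : (preSys F p Z θ D').autGroup Q ≤ genAut F p θ D' Q) :
    (preSys F p Z θ D').IsFullyAutomized p Q ∧ (preSys F p Z θ D').IsReceptive Q := by
  obtain ⟨hZQ, hQW, hQc⟩ := id hc
  haveI := hd.finiteW
  haveI : Finite (wSub θ W') := finite_of_le wSub_le
  haveI := finite_of_le hQW
  haveI := finite_of_le (hd.im_le_W' hQW)
  have hQS := hQ.1
  have hTp : IsPGroup p (wSub θ W') := hd.pS.to_le wSub_le
  have hQn := hd.image_fullyNormalized hQ hZQ hQW
  have hbound : ∀ k ∈ (preSys F p Z θ D').autGroup Q, k ∈ kerAut F Z Q →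
      k ∈ autInducedBy (wSub θ W') Q := fun k hk hker =>
    hd.genAut_inf_induced hQ hc (hgen hk) (hd.kerAut_le_induced hQ hZQ hker)
  refine ⟨⟨hQW, ?_⟩, receptive_of_extend hQW fun P' f hf hfi N hPN hN => ?_⟩
  · set A := (preSys F p Z θ D').autGroup Q with hA
    set U := (autInducedBy (wSub θ W') Q).subgroupOf A with hU
    have hUp : IsPGroup p U :=
      (isPGroup_autInducedBy hTp Q).comap_of_injective _ (Subgroup.subtype_injective _)
    obtain ⟨V, hV⟩ := hUp.exists_le_sylow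
    refine ⟨V, le_antisymm (fun v hv => ?_) hV⟩
    have hAG : ∀ x : A, (x : MulAut Q) ∈ goodAut F θ D' Q := fun x =>
      genAut_le_goodAut hQW (hgen x.2)
    let ρ : A →* D'.autGroup (imageAlong θ Q) :=
      (hd.goodRes hQW).comp (A.subtype.codRestrict (goodAut F θ D' Q) hAG)
    obtain ⟨V₀, hV₀⟩ := (fullyAutomized_of_fullyNormalized hd.pW' hd.sat_D' hQn).2
    have hle : (V₀ : Subgroup _) ≤ (V : Subgroup A).map ρ := by
      intro u hu
      rw [hV₀] at hu
      obtain ⟨w', hw', hwx⟩ := mem_autInducedBy_iff.1 hu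
      obtain ⟨w, hw, rfl⟩ := (mem_im wSub_le).1 (hd.im_wSub.ge hw')
      have hwQ : ∀ x ∈ Q, w * x * w⁻¹ ∈ Q := fun x hx => by
        rw [← hd.pre_im hZQ hQS]
        refine mem_pre.2 ⟨S.mul_mem (S.mul_mem (wSub_le hw) (hQS hx)) (S.inv_mem (wSub_le hw)), ?_⟩
        rw [qmap_conj (wSub_le hw) (hQS hx), ← hwx ⟨qmap θ x, qmap_mem_im hQS hx⟩]
        exact Subtype.mem _
      have hwn : w ∈ normalizer (Q : Set Ω) := by
        haveI : Finite (Q : Set Ω) := (finite_of_le hQW : Finite Q)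
        exact Subgroup.mem_normalizer_fintype hwQ
      have hκW : Q.normalizerMonoidHom ⟨w, hwn⟩ ∈ autInducedBy (wSub θ W') Q :=
        mem_autInducedBy_iff.2 ⟨w, hw, fun _ => rfl⟩
      refine ⟨⟨_, autInducedBy_le_autGroup hQW hκW⟩, hV hκW, Subtype.ext (MulEquiv.ext fun y =>
        Subtype.ext ?_)⟩
      obtain ⟨x, hx, hxy⟩ := (mem_im hQS).1 y.2
      have ey : y = ⟨qmap θ x, qmap_mem_im hQS hx⟩ := Subtype.ext hxy.symm
      subst ey
      refine Eq.trans ?_ (hwx _).symm
      refine (hd.goodRes_apply hQW _ hx).trans ?_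
      rw [← qmap_conj (wSub_le hw) (hQS hx), autFun_apply _ hx]
      rfl
    have heq := V₀.is_maximal' (V.isPGroup'.map ρ) hle
    have hvu : ρ v ∈ (V₀ : Subgroup _) := heq.le ⟨v, hv, rfl⟩
    rw [hV₀] at hvu
    obtain ⟨w', hw', hwx⟩ := mem_autInducedBy_iff.1 hvu
    obtain ⟨w, hw, rfl⟩ := (mem_im wSub_le).1 (hd.im_wSub.ge hw')
    have hzm : ∀ x (hx : x ∈ Q), (w * x * w⁻¹)⁻¹ * ((v : MulAut Q) ⟨x, hx⟩ : Q) ∈ Z := by
      intro x hx
      refine (hd.qmap_eq_iff (S.mul_mem (S.mul_mem (wSub_le hw) (hQS hx)) (S.inv_mem (wSub_le hw)))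
        (hQS (Subtype.mem _))).1 ?_
      rw [qmap_conj (wSub_le hw) (hQS hx), ← hwx ⟨qmap θ x, qmap_mem_im hQS hx⟩]
      refine (hd.goodRes_apply hQW _ hx).trans ?_
      rw [autFun_apply _ hx]
      rfl
    have hwn : w ∈ normalizer (Q : Set Ω) := by
      haveI : Finite (Q : Set Ω) := (finite_of_le hQW : Finite Q)
      refine Subgroup.mem_normalizer_fintype fun x hx => ?_
      have h1 := Q.mul_mem (((v : MulAut Q) ⟨x, hx⟩).2) (Q.inv_mem (hZQ (hzm x hx)))
      rwa [mul_inv_rev, inv_inv, mul_inv_cancel_left] at h1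
    set κ : MulAut Q := Q.normalizerMonoidHom ⟨w, hwn⟩ with hκ
    have hκW : κ ∈ autInducedBy (wSub θ W') Q := mem_autInducedBy_iff.2 ⟨w, hw, fun _ => rfl⟩
    have hκA : κ ∈ A := autInducedBy_le_autGroup hQW hκW
    have hker : κ⁻¹ * (v : MulAut Q) ∈ kerAut F Z Q := by
      refine ⟨hd.mem_autGroup_F hQW (mul_mem (inv_mem hκA) v.2), fun y => ?_⟩
      set z : Q := (κ y)⁻¹ * (v : MulAut Q) y with hz
      have hzZ : (z : Ω) ∈ Z := hzm y y.2
      have h1 : κ⁻¹ z = z := hd.kerAut_fix hQS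
        (inv_mem (hd.mem_autGroup_F hQW hκA)) hzZ
      have h2 : (κ⁻¹ * (v : MulAut Q)) y = y * z := by
        conv_rhs => rw [← h1]
        rw [MulAut.mul_apply, hz, map_mul, map_inv, MulAut.inv_apply_self, mul_inv_cancel_left]
      rw [h2, Subgroup.coe_mul, inv_mul_cancel_left]
      exact hzZ
    have h3 := mul_mem hκW (hbound _ (mul_mem (inv_mem hκA) v.2) hker)
    rwa [mul_inv_cancel_left] at h3
  · have hP'W := hf.le
    have hP'S := hP'W.trans wSub_le
    have hNW : N ≤ wSub θ W' := fun a ha => (hN a ha).1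
    obtain ⟨hfm, -, f', hf', hfx⟩ := good_of_preSys hf
    have hf'i : img (imageAlong θ P') f' = imageAlong θ Q := by
      rw [← hd.im_img hfm hf' hfx, hfi]
    obtain ⟨δ, hδ, hδx⟩ := receptive_extend (receptive_of_fullyNormalized hd.pW' hd.sat_D' hQn)
      hf' hf'i (im_mono hPN : imageAlong θ P' ≤ imageAlong θ N) fun a' ha' => by
        obtain ⟨a, ha, rfl⟩ := (mem_im (hNW.trans wSub_le)).1 ha'
        obtain ⟨haW, han, b, hb, hbx⟩ := hN a ha
        refine ⟨(mem_pre.1 haW).2, hd.normalizer_image hP'S (wSub_le haW) han, qmap θ b,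
          (mem_pre.1 hb).2, fun y hy => ?_⟩
        obtain ⟨x, hx, rfl⟩ := (mem_im hP'S).1 hy
        have hax : a * x * a⁻¹ ∈ P' := (han x).1 hx
        rw [← qmap_conj (wSub_le haW) (hP'S hx), hfx _ hax, hfx x hx, hbx x hx,
          qmap_conj (wSub_le hb) (hfm.mem hx)]
    obtain ⟨g, hg, hgx⟩ := hd.lift_preSys hδ
    have hNp : N ≤ preimageAlong θ (imageAlong θ N) := fun a ha =>
      mem_pre.2 ⟨wSub_le (hNW ha), qmap_mem_im (hNW.trans wSub_le) ha⟩
    have hgN := hg.mono hNp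
    have hgP := hgN.mono hPN
    have hgF := isMap_of_sub' preSys_subsystem hgP
    have hgi : img P' g = Q := by
      have hZg : Z ≤ img P' g := fun z hz => by
        have hzQ : z ∈ img P' f := hfi.symm ▸ hZQ hz
        obtain ⟨u, hu, huz⟩ := hfm.mem_img.1 hzQ
        obtain ⟨fi, hfim, hfix, -, -⟩ := hfm.exists_inv
        have hzu : u = z := by
          have h1 := hd.map_Z hfim hzQ hz
          rw [← huz, hfix u hu] at h1
          rw [h1, huz]
        subst hzu
        rw [← hd.map_Z hgF hu hz]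
        exact hgF.apply_mem_img hu
      rw [← hd.pre_im hZg hgF.img_le, ← hd.pre_im hZQ hQS]
      congr 1
      rw [← hf'i]
      exact hd.im_img hgF hf' fun u hu => by
        rw [← hgx u (hNp (hPN hu)), hδx _ (qmap_mem_im hP'S hu)]
    obtain ⟨gi, hgim, hgix, hgiy, -⟩ := hgP.exists_inv
    rw [hgi] at hgim hgiy
    have hk := hgim.comp hf fun q hq => (hgiy q hq).1
    have hki : img Q (fun q => f (gi q)) = Q := eq_of_le_of_card_le (fun y hy => by
      obtain ⟨q, hq, rfl⟩ := hk.mem_img.1 hy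
      exact hfi.le (hf.apply_mem_img (hgiy q hq).1)) hk.card_img.ge
    have hkA := hk.toAut_mem hki
    have hker : hk.toAut hki ∈ kerAut F Z Q := by
      refine ⟨hd.mem_autGroup_F hQW hkA, fun q => ?_⟩
      obtain ⟨hu, huq⟩ := hgiy q q.2
      rw [IsMap.toAut_apply]
      refine (hd.qmap_eq_iff (hQS q.2) (hfm.mem hu)).1 ?_
      rw [← hfx _ hu, ← hδx _ (qmap_mem_im hP'S hu), hgx _ (hNp (hPN hu)), huq]
    obtain ⟨w, hw, hwx⟩ := mem_autInducedBy_iff.1 (hbound _ hkA hker)
    refine ⟨fun a => w * g a * w⁻¹, hgN.comp (isMap_conj _ le_rfl hw) fun a ha => hgN.mem ha,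
      fun x hx => ?_⟩
    have hgq : g x ∈ Q := hgi.le (hgP.apply_mem_img hx)
    have h1 := hwx ⟨g x, hgq⟩
    rw [IsMap.toAut_apply] at h1
    show w * g x * w⁻¹ = f x
    rw [← h1]
    show f (gi (g x)) = f x
    rw [hgix x hx]

/-- The classes with centric image are saturated. -/
theorem locSat_cen : ∀ (n : ℕ) (P : Subgroup Ω), Cen Z θ D' P →
    Nat.card (wSub θ W') ≤ Nat.card P + n → LocSat (preSys F p Z θ D') p P := by
  haveI : Finite (wSub θ W') := finite_of_le wSub_le
  intro n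
  induction n using Nat.strong_induction_on with
  | _ n ih => ?_
  intro P hc hn
  have hPS := hc.2.1.trans wSub_le
  haveI := finite_of_le hPS
  obtain ⟨Q, hPQ, hQn⟩ := exists_fullyNormalized_conj F hPS
  obtain ⟨f, hf, hfi⟩ := isConj_iff.1 hPQ
  have hQc : Cen Z θ D' Q := hfi ▸ hd.cen_map hc hf
  have hcard := isConj_card hPQ
  haveI := finite_of_le hQc.2.1
  have hgen : (preSys F p Z θ D').autGroup Q ≤ genAut F p θ D' Q := by
    by_cases hne : Q = wSub θ W'
    · rw [hne]
      exact hd.autGroup_top_le_genAut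
    refine hd.autGroup_le_genAut ⟨hQn, hQc, hne, fun R hR hlt => ?_⟩
    haveI := finite_of_le hR.2.1
    have h1 := Subgroup.card_le_of_le hR.2.1
    exact ih (Nat.card (wSub θ W') - Nat.card R) (by omega) R hR (by omega)
  obtain ⟨hQa, hQr⟩ := hd.sat_at hQn hQc hgen
  obtain ⟨a, ha, g, hg, hgx⟩ := hd.frattini_preSys hf hc.2.1
  have hgP := hg.img_le
  obtain ⟨c, hiso⟩ := CfsgLib.Comp.Fus.exists_iso_invariant hd.isInvariantIn_preSys (isMap_autFun wSub_le ha)
  have himg : push (autFun a) (img P g) = Q := by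
    show img (img P g) (autFun a) = Q
    rw [← img_comp_eq (isMap_of_sub' preSys_subsystem hg)
      (isMap_autFun wSub_le ha) fun x hx => hg.mem hx, ← hfi]
    exact (img_congr hgx).symm
  have hback : push c Q = img P g := by rw [← himg, hiso.push_push hgP]
  refine ⟨push c Q, ?_, hiso.symm.isFullyAutomized hQa, hiso.symm.isReceptive hQr⟩
  rw [hback]
  exact hg.isConj

/-- The generated subsystem is saturated. -/
theorem isSaturated_preSys : (preSys F p Z θ D').IsSaturated p := by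
  haveI := hd.finiteW
  haveI : Finite (wSub θ W') := finite_of_le wSub_le
  have hTp : IsPGroup p (wSub θ W') := hd.pS.to_le wSub_le
  refine Cfsg.Agent.S5110.result p hTp _ {P | Cen Z θ D' P} (fun P hP => hP.2.1)
    (fun P hP Q hPQ => ?_) (fun P hP => hd.locSat_cen (Nat.card (wSub θ W')) P hP (by omega))
    (fun E hE => ?_) fun P hPc hP => ?_
  · obtain ⟨f, hf, rfl⟩ := isConj_iff.1 hPQ
    exact hd.cen_good hP (good_of_preSys hf)
  · refine le_iff_isMap.2 fun P f hf => isMap_preSys_iff.1 hf E fun R α hgen => ?_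
    have hm := isMap_autFun hgen.1.2.1 (mem_preSys_of_gen hgen)
    exact (autGroup_iff_isMap hgen.1.2.1 (f := autFun α) fun x => (autFun_apply α x.2).symm).2
      ⟨hm.toHom, hE R hgen.1 hm.toHom_mem, fun x => rfl⟩
  have hPW := hPc.1
  have hPS := hPW.trans wSub_le
  have hZP : Z ≤ P := fun z hz => hPc.2 P (isConj_refl hPW)
    ⟨hd.Z_le_wSub hz, fun y hy => hd.comm_Z (hPS hy) hz⟩
  obtain ⟨R', hR', hnc⟩ : ∃ R', D'.IsConj (imageAlong θ P) R' ∧
      ¬ centralizerIn W' R' ≤ R' := by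
    by_contra hne
    push Not at hne
    exact hP ⟨hZP, hPW, hd.im_le_W' hPW, hne⟩
  obtain ⟨c', hc', hc'R⟩ := SetLike.not_le_iff_exists.1 hnc
  obtain ⟨f', hf', rfl⟩ := isConj_iff.1 hR'
  obtain ⟨g, hg, hgx⟩ := hd.lift_preSys hf'
  rw [hd.pre_im hZP hPS] at hg hgx
  refine ⟨img P g, hg.isConj, fun hle => ?_⟩
  set Q := img P g with hQ
  have hgF := isMap_of_sub' preSys_subsystem hg
  have hQW : Q ≤ wSub θ W' := hg.img_le
  have hQS := hQW.trans wSub_le
  haveI := finite_of_le hQS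
  have hQi : imageAlong θ Q = img (imageAlong θ P) f' := hd.im_img hgF hf' hgx
  have hZQ : Z ≤ Q := fun z hz => hd.map_Z hgF (hZP hz) hz ▸ hgF.apply_mem_img (hZP hz)
  obtain ⟨c, hc, rfl⟩ := (mem_im wSub_le).1 (hd.im_wSub.ge hc'.1)
  have hcz : ∀ y ∈ Q, y⁻¹ * (c * y * c⁻¹) ∈ Z := fun y hy => by
    have h1 := hc'.2 _ (hQi.le (qmap_mem_im hQS hy))
    refine (hd.qmap_eq_iff (hQS hy) (S.mul_mem (S.mul_mem (wSub_le hc) (hQS hy))
      (S.inv_mem (wSub_le hc)))).1 ?_
    rw [qmap_conj (wSub_le hc) (hQS hy)]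
    exact eq_mul_inv_iff_mul_eq.2 h1
  have hcn : c ∈ normalizer (Q : Set Ω) := by
    haveI : Finite (Q : Set Ω) := (finite_of_le hQS : Finite Q)
    refine Subgroup.mem_normalizer_fintype fun y hy => ?_
    rw [← mul_inv_cancel_left y (c * y * c⁻¹)]
    exact Q.mul_mem hy (hZQ (hcz y hy))
  set κ : MulAut Q := Q.normalizerMonoidHom ⟨c, hcn⟩
  have hκW : κ ∈ autInducedBy (wSub θ W') Q := mem_autInducedBy_iff.2 ⟨c, hc, fun _ => rfl⟩
  have hκA : κ ∈ (preSys F p Z θ D').autGroup Q := autInducedBy_le_autGroup hQW hκW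
  set K := (kerAut F Z Q).subgroupOf ((preSys F p Z θ D').autGroup Q) with hK
  haveI : K.Normal :=
    ⟨fun a ha b => hd.kerAut_conj hQS hZQ ha (hd.mem_autGroup_F hQW b.2)⟩
  have hKp : IsPGroup p K := by
    rintro ⟨a, ha⟩
    obtain ⟨e, he⟩ := hd.kerAut_pow hQS ha
    exact ⟨e, Subtype.ext (Subtype.ext he)⟩
  have hκK : (⟨κ, hκA⟩ : (preSys F p Z θ D').autGroup Q) ∈ K :=
    ⟨hd.mem_autGroup_F hQW hκA, fun y => hcz y y.2⟩
  obtain ⟨q, hq⟩ := hle ⟨hκW, ⟨⟨κ, hκA⟩, CfsgLib.Solvable.le_pCore inferInstance hKp hκK, rfl⟩⟩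
  have hcen : (q : Ω)⁻¹ * c ∈ centralizerIn (wSub θ W') Q := by
    refine ⟨(wSub θ W').mul_mem ((wSub θ W').inv_mem (hQW q.2)) hc, fun y hy => ?_⟩
    have h1 : (q : Ω) * y * (q : Ω)⁻¹ = c * y * c⁻¹ := by
      have := congrArg (fun f : MulAut Q => ((f ⟨y, hy⟩ : Q) : Ω)) hq
      exact this
    calc y * ((q : Ω)⁻¹ * c) = (q : Ω)⁻¹ * ((q : Ω) * y * (q : Ω)⁻¹) * c := by group
      _ = (q : Ω)⁻¹ * (c * y * c⁻¹) * c := by rw [h1]
      _ = (q : Ω)⁻¹ * c * y := by group
  have h2 := Q.mul_mem q.2 (hPc.2 Q hg.isConj hcen)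
  rw [mul_inv_cancel_left] at h2
  exact hc'R (hQi.le (qmap_mem_im hQS h2))

theorem isWeaklyNormalIn_preSys : (preSys F p Z θ D').IsWeaklyNormalIn F p :=
  ⟨hd.isSaturated_preSys, hd.sat, hd.isInvariantIn_preSys⟩

/-- There is a normal subsystem of `F` over the full preimage, inside the maps inducing maps of
the subsystem. -/
theorem exists_normal_preimage : ∃ D : FusionSystem (wSub θ W'), D.IsNormalIn F p ∧
    ∀ P f, IsMap D P f → Good F θ D' P f := by
  haveI : Finite (wSub θ W') := finite_of_le wSub_le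
  obtain ⟨D, hD⟩ := Cfsg.Agent.S5140.result p (hd.pS.to_le wSub_le) (preSys F p Z θ D')
    hd.isSaturated_preSys
  refine ⟨D, Cfsg.Agent.S5141.result p hd.pS F hd.sat _ hd.isWeaklyNormalIn_preSys D hD,
    fun P f hf => good_of_preSys (p := p) (Z := Z) (isMap_of_sub' hD.2.1.1 hf)⟩

end Setup

end CfsgLib.Comp.Pre
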