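import Cfsg.Agent.Lib.Comp.PreimageBasic
import Cfsg.Agent.Lib.Fusion.FactorHyperfocal
import Cfsg.Agent.Lib.Fusion.ResidualSystem

/-!
The subsystem generated by the inducing automorphisms of order prime to `p`.
-/

set_option autoImplicit false
set_option linter.unusedVariables false
set_option linter.unusedSectionVars false
set_option linter.style.haveILetI false

namespace CfsgLib.Comp.Pre

open Cfsg Cfsg.FusionSystem Subgroup CfsgLib.Fusion

variable {Ω Ω' : Type*} [Group Ω] [Group Ω'] {S Z : Subgroup Ω} {S' W' : Subgroup Ω'}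
  {F : FusionSystem S} {θ : S →* Ω'} {F' : FusionSystem S'} {D' : FusionSystem W'} {p : ℕ}

/-- The maps of `F` inducing maps of `D'`, as a fusion system. -/
noncomputable def goodSys (F : FusionSystem S) (θ : S →* Ω') (D' : FusionSystem W') :
    FusionSystem (wSub θ W') where
  Hom P := {φ | Good F θ D' P (toFun φ)}
  le_of_mem h := ⟨h.2.1, fun x => toFun_apply _ x ▸ h.mem_wSub x.2⟩
  injective_of_mem {P φ} h a b hab := by
    have h1 : toFun φ (a : Ω) = toFun φ (b : Ω) := by rw [toFun_apply, toFun_apply, hab]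
    exact Subtype.ext (h.1.inj a.2 b.2 h1)
  conj_mem {P g} hP hg :=
    (good_conj hP hg).congr fun x hx => (toFun_apply (conjHom P g) ⟨x, hx⟩).symm
  comp_mem {P Q φ ψ} hφ hψ h :=
    (hφ.comp hψ fun x hx => by rw [toFun_of_mem φ hx]; exact h _).congr fun x hx => by
      show toFun ψ (toFun φ x) = _
      rw [toFun_of_mem φ hx, toFun_of_mem ψ (h _), toFun_of_mem _ hx]
      rfl
  inv_mem {P φ} hφ := by
    obtain ⟨k, hk, hkx, -⟩ := hφ.inv
    have hle : φ.range ≤ img P (toFun φ) := by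
      rintro _ ⟨x, rfl⟩
      rw [← toFun_apply φ x]
      exact hφ.1.apply_mem_img x.2
    have hkm := hk.mono hle
    refine ⟨hkm.1.toHom, hkm.congr fun y hy => ?_, fun x => ?_⟩
    · rw [toFun_of_mem _ hy]
      rfl
    · show k (φ x) = x
      rw [← toFun_apply φ x, hkx x x.2]

theorem isMap_goodSys_iff {P : Subgroup Ω} {f : Ω → Ω} :
    IsMap (goodSys F θ D') P f ↔ Good F θ D' P f := by
  constructor
  · rintro ⟨φ, hφ, hx⟩
    exact Good.congr hφ fun x hx' => (toFun_of_mem φ hx').trans (hx ⟨x, hx'⟩)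
  · intro h
    exact ⟨h.1.toHom, h.congr fun x hx => (toFun_of_mem h.1.toHom hx).symm, fun x => rfl⟩

/-- The inducing automorphisms of order prime to `p` of subgroups with centric image. -/
def Gen (F : FusionSystem S) (p : ℕ) (Z : Subgroup Ω) (θ : S →* Ω') (D' : FusionSystem W')
    (R : Subgroup Ω) (α : MulAut R) : Prop :=
  Cen Z θ D' R ∧ α ∈ F.autGroup R ∧ (orderOf α).Coprime p ∧ Good F θ D' R (autFun α)

/-- A system contains the generating automorphisms. -/
def Contains (F : FusionSystem S) (p : ℕ) (Z : Subgroup Ω) (θ : S →* Ω') (D' : FusionSystem W')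
    (X : FusionSystem (wSub θ W')) : Prop :=
  ∀ R α, Gen F p Z θ D' R α → α ∈ X.autGroup R

theorem contains_goodSys : Contains F p Z θ D' (goodSys F θ D') :=
  fun R α h => (autGroup_iff_isMap h.1.2.1 fun x => (autFun_apply α x.2).symm).2
    (isMap_goodSys_iff.2 h.2.2.2)

/-- The subsystem generated by the generating automorphisms. -/
noncomputable def preSys (F : FusionSystem S) (p : ℕ) (Z : Subgroup Ω) (θ : S →* Ω')
    (D' : FusionSystem W') : FusionSystem (wSub θ W') where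
  Hom P := {φ | ∀ X : FusionSystem (wSub θ W'), Contains F p Z θ D' X → φ ∈ X.Hom P}
  le_of_mem h := (goodSys F θ D').le_of_mem (h _ contains_goodSys)
  injective_of_mem h := (goodSys F θ D').injective_of_mem (h _ contains_goodSys)
  conj_mem hP hg X _ := X.conj_mem hP hg
  comp_mem hφ hψ h X hX := X.comp_mem (hφ X hX) (hψ X hX) h
  inv_mem {P φ} hφ := by
    obtain ⟨ψ, hψ, hψx⟩ := (goodSys F θ D').inv_mem (hφ _ contains_goodSys)
    refine ⟨ψ, fun X hX => ?_, hψx⟩
    obtain ⟨ψ', hψ', hψ'x⟩ := X.inv_mem (hφ X hX)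
    have e : ψ = ψ' := MonoidHom.ext fun y => by
      obtain ⟨_, x, rfl⟩ := y
      exact (hψx x).trans (hψ'x x).symm
    exact e ▸ hψ'

theorem isMap_preSys_iff {P : Subgroup Ω} {f : Ω → Ω} :
    IsMap (preSys F p Z θ D') P f ↔
      ∀ X : FusionSystem (wSub θ W'), Contains F p Z θ D' X → IsMap X P f := by
  constructor
  · rintro ⟨φ, hφ, hx⟩ X hX
    exact ⟨φ, hφ X hX, hx⟩
  · intro h
    obtain ⟨φ, -, hx⟩ := h _ contains_goodSys
    exact ⟨φ, fun X hX => (h X hX).mem_hom hx, hx⟩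

theorem good_of_preSys {P : Subgroup Ω} {f : Ω → Ω} (h : IsMap (preSys F p Z θ D') P f) :
    Good F θ D' P f :=
  isMap_goodSys_iff.1 (isMap_preSys_iff.1 h _ contains_goodSys)

theorem mem_preSys_of_gen {R : Subgroup Ω} {α : MulAut R} (h : Gen F p Z θ D' R α) :
    α ∈ (preSys F p Z θ D').autGroup R :=
  (autGroup_iff_isMap h.1.2.1 fun x => (autFun_apply α x.2).symm).2
    (isMap_preSys_iff.2 fun X hX =>
      (autGroup_iff_isMap h.1.2.1 fun x => (autFun_apply α x.2).symm).1 (hX R α h))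

theorem preSys_subsystem : (preSys F p Z θ D').IsSubsystemOf F := fun P φ hφ =>
  (good_of_preSys (isMap_of_hom hφ)).1.mem_hom fun x => (toFun_apply φ x).symm

/-- The inducing automorphisms of `R`. -/
def goodAut (F : FusionSystem S) (θ : S →* Ω') (D' : FusionSystem W') (R : Subgroup Ω) :
    Subgroup (MulAut R) where
  carrier := {α | α ∈ F.autGroup R ∧ (R ≤ wSub θ W' → Good F θ D' R (autFun α))}
  one_mem' := ⟨one_mem _, fun hR => (good_id hR).congr fun x hx => (autFun_one hx).symm⟩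
  mul_mem' {a b} ha hb := ⟨mul_mem ha.1 hb.1, fun hR =>
    ((hb.2 hR).comp (ha.2 hR) fun x hx => autFun_mem b hx).congr
      fun x hx => (autFun_mul_apply a b hx).symm⟩
  inv_mem' {a} ha := ⟨inv_mem ha.1, fun hR => by
    obtain ⟨k, hk, hkx, -⟩ := (ha.2 hR).inv
    have hi : img R (autFun a) = R := img_toFun_aut a
    rw [hi] at hk
    refine hk.congr fun x hx => ?_
    conv_lhs => rw [← autFun_apply_inv a hx]
    exact hkx _ (autFun_mem _ hx)⟩

theorem mem_goodAut_iff {R : Subgroup Ω} (hR : R ≤ wSub θ W') {α : MulAut R} :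
    α ∈ goodAut F θ D' R ↔ α ∈ F.autGroup R ∧ Good F θ D' R (autFun α) :=
  ⟨fun h => ⟨h.1, h.2 hR⟩, fun h => ⟨h.1, fun _ => h.2⟩⟩

variable [Fact p.Prime] [Finite S]

namespace Setup

variable (hd : Setup F p Z θ F' D')

include hd

/-- Every map of `D'` lifts to a map of the generated subsystem on the full preimage. -/
theorem lift_preSys {P' : Subgroup Ω'} {f' : Ω' → Ω'} (hf : IsMap D' P' f') :
    ∃ g, IsMap (preSys F p Z θ D') (preimageAlong θ P') g ∧
      ∀ x ∈ preimageAlong θ P', f' (qmap θ x) = qmap θ (g x) := by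
  haveI := hd.finiteW
  haveI : Finite (wSub θ W') := finite_of_le wSub_le
  have hpre : ∀ {P' : Subgroup Ω'} {f' : Ω' → Ω'}, IsMap D' P' f' →
      preimageAlong θ P' ≤ wSub θ W' := fun hf x hx =>
    mem_pre.2 ⟨preimageAlong_le hx, hf.le (mem_pre.1 hx).2⟩
  let I : FusionSystem W' :=
    { Hom := fun P' => {φ | φ ∈ D'.Hom P' ∧ ∃ g, IsMap (preSys F p Z θ D') (preimageAlong θ P') g ∧
        ∀ x ∈ preimageAlong θ P', toFun φ (qmap θ x) = qmap θ (g x)}
      le_of_mem := fun h => D'.le_of_mem h.1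
      injective_of_mem := fun h => D'.injective_of_mem h.1
      conj_mem := fun {P' a} hP' ha => ⟨D'.conj_mem hP' ha, by
        obtain ⟨u, hu, rfl⟩ := (mem_im wSub_le).1 (hd.im_wSub.ge ha)
        have hle : preimageAlong θ P' ≤ wSub θ W' := fun x hx =>
          mem_pre.2 ⟨preimageAlong_le hx, hP' (mem_pre.1 hx).2⟩
        refine ⟨fun x => u * x * u⁻¹, isMap_conj _ hle hu, fun x hx => ?_⟩
        rw [qmap_conj (wSub_le hu) (preimageAlong_le hx), toFun_of_mem _ (mem_pre.1 hx).2]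
        rfl⟩
      comp_mem := fun {P' Q' φ ψ} hφ hψ h => ⟨D'.comp_mem hφ.1 hψ.1 h, by
        obtain ⟨g, hg, hgx⟩ := hφ.2
        obtain ⟨g₂, hg₂, hg₂x⟩ := hψ.2
        have hmem : ∀ x ∈ preimageAlong θ P', g x ∈ preimageAlong θ Q' := fun x hx =>
          mem_pre.2 ⟨wSub_le (hg.mem hx), by
            rw [← hgx x hx, toFun_of_mem φ (mem_pre.1 hx).2]; exact h _⟩
        refine ⟨fun x => g₂ (g x), hg.comp hg₂ hmem, fun x hx => ?_⟩
        rw [← hg₂x _ (hmem x hx), ← hgx x hx, toFun_of_mem _ (mem_pre.1 hx).2,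
          toFun_of_mem φ (mem_pre.1 hx).2, toFun_of_mem ψ (h _)]
        rfl⟩
      inv_mem := fun {P' φ} hφ => by
        obtain ⟨g, hg, hgx⟩ := hφ.2
        obtain ⟨ψ, hψ, hψx⟩ := D'.inv_mem hφ.1
        obtain ⟨k, hk, hkx, hky, -⟩ := hg.exists_inv
        refine ⟨ψ, ⟨hψ, k, hk.mono fun y hy => ?_, fun y hy => ?_⟩, hψx⟩
        · obtain ⟨hyS, x', hx'⟩ := mem_pre.1 hy
          have hx'W : (x' : Ω') ∈ W' := (D'.le_of_mem hφ.1).1 x'.2
          obtain ⟨u, hu, hux⟩ := (mem_im wSub_le).1 (hd.im_wSub.ge hx'W)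
          have hup : u ∈ preimageAlong θ P' := mem_pre.2 ⟨wSub_le hu, hux ▸ x'.2⟩
          have h1 : qmap θ (g u) = qmap θ y := by
            rw [← hgx u hup, hux, toFun_apply, hx']
          have h2 := (hd.qmap_eq_iff (wSub_le (hg.mem hup)) hyS).1 h1
          have h3 : (g u)⁻¹ * y ∈ img (preimageAlong θ P') g := by
            have hz := hd.Z_le_pre P' h2
            rw [← hd.map_Z (good_of_preSys hg).1 hz h2]
            exact hg.apply_mem_img hz
          have h4 := Subgroup.mul_mem _ (hg.apply_mem_img hup) h3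
          rwa [mul_inv_cancel_left] at h4
        · obtain ⟨hyS, x', hx'⟩ := mem_pre.1 hy
          have hx'W : (x' : Ω') ∈ W' := (D'.le_of_mem hφ.1).1 x'.2
          obtain ⟨u, hu, hux⟩ := (mem_im wSub_le).1 (hd.im_wSub.ge hx'W)
          have hup : u ∈ preimageAlong θ P' := mem_pre.2 ⟨wSub_le hu, hux ▸ x'.2⟩
          have h1 : qmap θ (g u) = qmap θ y := by
            rw [← hgx u hup, hux, toFun_apply, hx']
          have h2 := (hd.qmap_eq_iff (wSub_le (hg.mem hup)) hyS).1 h1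
          set z := (g u)⁻¹ * y with hz'
          have hz := hd.Z_le_pre P' h2
          have hgz : g (u * z) = y := by
            rw [hg.map_mul hup hz, hd.map_Z (good_of_preSys hg).1 hz h2, hz', mul_inv_cancel_left]
          have hk1 : k y = u * z := by rw [← hgz, hkx _ (Subgroup.mul_mem _ hup hz)]
          rw [hk1, qmap_mul (wSub_le hu) (hd.Z_le h2), (hd.qmap_eq_one (hd.Z_le h2)).2 h2, mul_one,
            hux, ← hx', toFun_of_mem ψ ⟨x', rfl⟩, hψx] }
  suffices h : D' ≤ I by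
    obtain ⟨φ, ⟨-, g, hg, hgx⟩, hφ⟩ := le_iff_isMap.1 h P' f' hf
    exact ⟨g, hg, fun x hx =>
      ((hφ ⟨_, (mem_pre.1 hx).2⟩).symm.trans (toFun_of_mem φ (mem_pre.1 hx).2).symm).trans
        (hgx x hx)⟩
  refine alperin hd.pW' hd.sat_D' fun R' hR' => ?_
  have hR'n : D'.IsFullyNormalized R' := by
    rcases hR' with rfl | hR'
    · exact fullyNormalized_top D'
    · exact hR'.2.1
  have hR'W := hR'n.1
  have hR'S : R' ≤ S' := hR'W.trans hd.W'_le
  set R := preimageAlong θ R' with hR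
  have hRW : R ≤ wSub θ W' := fun x hx => mem_pre.2 ⟨preimageAlong_le hx, hR'W (mem_pre.1 hx).2⟩
  have hcen : Cen Z θ D' R := by
    refine ⟨hd.Z_le_pre R', hRW, ?_⟩
    rw [hd.im_pre hR'S]
    rcases hR' with rfl | hR'
    · have h := (hd.cen_wSub).2.2
      rwa [hd.im_wSub] at h
    · exact hR'.1
  haveI := finite_of_le hR'W
  haveI : Finite R := finite_of_le preimageAlong_le
  obtain ⟨V, hV⟩ := (fullyAutomized_of_fullyNormalized hd.pW' hd.sat_D' hR'n).2
  refine Subgroup.subgroupOf_eq_top.1 (eq_top_of_sylow_le V ?_ fun x hx => ?_)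
  · rw [hV]
    exact Subgroup.comap_mono (autInducedBy_le_autGroup hR'W)
  have hxF : IsMap F' R' (autFun (x : MulAut R')) :=
    isMap_of_sub' hd.normal.1.2.2.1 (isMap_of_autGroup hR'W x.2)
  obtain ⟨g, hg, hgx⟩ := hd.lift hxF
  have hgR : ∀ u ∈ R, g u ∈ R := fun u hu => mem_pre.2 ⟨hg.mem hu, by
    rw [← hgx u hu, autFun_apply _ (mem_pre.1 hu).2]
    exact Subtype.mem _⟩
  have hgi : img R g = R := eq_of_le_of_card_le (fun y hy => by
    obtain ⟨u, hu, rfl⟩ := hg.mem_img.1 hy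
    exact hgR u hu) hg.card_img.ge
  set α₀ := hg.toAut hgi with hα₀
  have hiter : ∀ n : ℕ, ∀ u : R, (((x : MulAut R') ^ n) ⟨qmap θ u, (mem_pre.1 u.2).2⟩ : Ω') =
      qmap θ (((α₀ ^ n) u : R) : Ω) := by
    intro n
    induction n with
    | zero => intro u; simp
    | succ n ih =>
      intro u
      have e : ((x : MulAut R') ^ n) ⟨qmap θ u, (mem_pre.1 u.2).2⟩ =
          ⟨qmap θ (((α₀ ^ n) u : R) : Ω), (mem_pre.1 ((α₀ ^ n) u).2).2⟩ := Subtype.ext (ih u)
      rw [pow_succ', MulAut.mul_apply, e, pow_succ', MulAut.mul_apply, hα₀, IsMap.toAut_apply,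
        ← hgx _ ((α₀ ^ n) u).2, ← hα₀, autFun_apply _ (mem_pre.1 ((α₀ ^ n) u).2).2]
  have hco : (orderOf (x : MulAut R')).Coprime p := by rwa [Subgroup.orderOf_coe]
  obtain ⟨e, he1, hec⟩ := exists_pow_coprime (p := p) (isOfFinOrder_of_finite α₀) hco
  have hαe : (x : MulAut R') ^ e = x := by rw [← pow_mod_orderOf, he1, pow_mod_orderOf, pow_one]
  have hval : ∀ u ∈ R, autFun (x : MulAut R') (qmap θ u) = qmap θ (autFun (α₀ ^ e) u) := by
    intro u hu
    have h1 := hiter e ⟨u, hu⟩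
    rw [hαe] at h1
    rw [autFun_apply _ (mem_pre.1 hu).2, autFun_apply _ hu]
    exact h1
  have hgen : Gen F p Z θ D' R (α₀ ^ e) := by
    refine ⟨hcen, pow_mem (hg.toAut_mem hgi) e, hec, isMap_autFun preimageAlong_le
      (pow_mem (hg.toAut_mem hgi) e), hRW, autFun (x : MulAut R'), ?_, fun u hu => hval u hu⟩
    rw [hd.im_pre hR'S]
    exact isMap_of_autGroup hR'W x.2
  refine (autGroup_mem_iff hR'W).2 ⟨(autGroup_mem_iff hR'W).1 x.2, autFun (α₀ ^ e),
    isMap_of_autGroup hRW (mem_preSys_of_gen hgen), fun u hu => ?_⟩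
  rw [← hval u hu]
  rfl

/-- The system of the maps whose transport by `a` lies in `X`. -/
noncomputable def twist {a : MulAut (wSub θ W')} (ha : a ∈ F.autGroup (wSub θ W'))
    (X : FusionSystem (wSub θ W')) : FusionSystem (wSub θ W') where
  Hom P := {φ | φ ∈ (goodSys F θ D').Hom P ∧
    IsMap X (img P (autFun a)) (fun y => autFun a (toFun φ (autFun a⁻¹ y)))}
  le_of_mem h := (goodSys F θ D').le_of_mem h.1
  injective_of_mem h := (goodSys F θ D').injective_of_mem h.1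
  conj_mem {P g} hP hg := ⟨(goodSys F θ D').conj_mem hP hg, by
    have hm := isMap_autFun (F := F) wSub_le ha
    refine (isMap_conj X ?_ (autFun_mem a hg)).congr fun y hy => ?_
    · intro y hy
      obtain ⟨x, hx, rfl⟩ := (hm.mono hP).mem_img.1 hy
      exact autFun_mem a (hP hx)
    · obtain ⟨x, hx, rfl⟩ := (hm.mono hP).mem_img.1 hy
      show autFun a g * autFun a x * (autFun a g)⁻¹ =
        autFun a (toFun (conjHom P g) (autFun a⁻¹ (autFun a x)))
      rw [autFun_inv_apply a (hP hx), toFun_of_mem _ hx]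
      exact (hm.map_conj hg (hP hx)).symm⟩
  comp_mem {P Q φ ψ} hφ hψ h := ⟨(goodSys F θ D').comp_mem hφ.1 hψ.1 h, by
    have hm := isMap_autFun (F := F) wSub_le ha
    have hP := hφ.1.2.1
    refine (hφ.2.comp hψ.2 fun y hy => ?_).congr fun y hy => ?_
    · obtain ⟨x, hx, rfl⟩ := (hm.mono hP).mem_img.1 hy
      show autFun a (toFun φ (autFun a⁻¹ (autFun a x))) ∈ _
      rw [autFun_inv_apply a (hP hx), toFun_of_mem φ hx]
      exact (hm.mono hψ.1.2.1).apply_mem_img (h _)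
    · obtain ⟨x, hx, rfl⟩ := (hm.mono hP).mem_img.1 hy
      show autFun a (toFun ψ (autFun a⁻¹ (autFun a (toFun φ (autFun a⁻¹ (autFun a x)))))) =
        autFun a (toFun _ (autFun a⁻¹ (autFun a x)))
      rw [autFun_inv_apply a (hP hx),
        autFun_inv_apply a (hφ.1.mem_wSub hx), toFun_of_mem φ hx, toFun_of_mem ψ (h _),
        toFun_of_mem _ hx]
      rfl⟩
  inv_mem {P φ} hφ := by
    have hm := isMap_autFun (F := F) wSub_le ha
    obtain ⟨ψ, hψ, hψx⟩ := (goodSys F θ D').inv_mem hφ.1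
    refine ⟨ψ, ⟨hψ, ?_⟩, hψx⟩
    obtain ⟨k, hk, hkx, -, -⟩ := hφ.2.exists_inv
    have hP := hφ.1.2.1
    have hR : φ.range ≤ wSub θ W' := by
      rintro _ ⟨x, rfl⟩
      rw [← toFun_apply φ x]
      exact hφ.1.mem_wSub x.2
    refine (hk.mono fun y hy => ?_).congr fun y hy => ?_
    · obtain ⟨z, hz, rfl⟩ := (hm.mono hR).mem_img.1 hy
      obtain ⟨x, rfl⟩ := hz
      have := hφ.2.apply_mem_img ((hm.mono hP).apply_mem_img x.2)
      rw [autFun_inv_apply a (hP x.2), toFun_apply] at this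
      exact this
    · obtain ⟨z, hz, rfl⟩ := (hm.mono hR).mem_img.1 hy
      obtain ⟨x, rfl⟩ := hz
      show k (autFun a (φ x)) = autFun a (toFun ψ (autFun a⁻¹ (autFun a (φ x))))
      rw [autFun_inv_apply a (hR ⟨x, rfl⟩), toFun_of_mem ψ ⟨x, rfl⟩, hψx]
      have := hkx _ ((hm.mono hP).apply_mem_img x.2)
      rw [autFun_inv_apply a (hP x.2), toFun_apply] at this
      exact this

/-- The generated subsystem is invariant under `Aut_F` of the preimage. -/
theorem transport_preSys {a : MulAut (wSub θ W')} (ha : a ∈ F.autGroup (wSub θ W'))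
    {P : Subgroup Ω} {f : Ω → Ω} (hf : IsMap (preSys F p Z θ D') P f) :
    IsMap (preSys F p Z θ D') (img P (autFun a)) (fun y => autFun a (f (autFun a⁻¹ y))) := by
  refine isMap_preSys_iff.2 fun X hX => ?_
  have hm := isMap_autFun (F := F) wSub_le ha
  have hP : P ≤ wSub θ W' := hf.le
  have hcont : Contains F p Z θ D' (Setup.twist (D' := D') ha X) := by
    rintro R α ⟨hc, hα, hco, hg⟩
    have hR := hc.2.1
    have hR' := hd.cen_autFun hc ha
    refine (autGroup_mem_iff hR).2 ⟨hg.congr fun x hx => rfl, ?_⟩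
    have hRi := (hm.mono hR).equivImg
    set β : MulAut (img R (autFun a)) :=
      MulAut.congr (hm.mono hR).equivImg α with hβ
    have hβv : ∀ y ∈ img R (autFun a), autFun β y = autFun a (autFun α (autFun a⁻¹ y)) := by
      intro y hy
      obtain ⟨x, hx, rfl⟩ := (hm.mono hR).mem_img.1 hy
      have e : (⟨autFun a x, hy⟩ : img R (autFun a)) = (hm.mono hR).equivImg ⟨x, hx⟩ :=
        Subtype.ext (IsMap.coe_equivImg (hm.mono hR) ⟨x, hx⟩).symm
      rw [autFun_apply β hy, e, hβ, autFun_inv_apply a (hR hx), autFun_apply α hx]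
      simp only [MulAut.congr, MulEquiv.coe_mk, Equiv.coe_fn_mk, MulEquiv.trans_apply,
        MulEquiv.symm_apply_apply]
      exact IsMap.coe_equivImg (hm.mono hR) (α ⟨x, hx⟩)
    have hgood := (hd.transport_good ha hg).congr fun y hy => (hβv y hy).symm
    have hgen : Gen F p Z θ D' (img R (autFun a)) β :=
      ⟨hR', (autGroup_iff_isMap (hR'.2.1.trans wSub_le) fun y => (autFun_apply β y.2).symm).2
        hgood.1, by rwa [hβ, MulEquiv.orderOf_eq], hgood⟩
    refine ((autGroup_iff_isMap hR'.2.1 fun y => (autFun_apply β y.2).symm).1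
      (hX _ β hgen)).congr fun y hy => hβv y hy
  obtain ⟨φ, ⟨-, hφ⟩, hφx⟩ := isMap_preSys_iff.1 hf _ hcont
  refine hφ.congr fun y hy => ?_
  obtain ⟨x, hx, rfl⟩ := (hm.mono hP).mem_img.1 hy
  show autFun a (toFun φ (autFun a⁻¹ (autFun a x))) = autFun a (f (autFun a⁻¹ (autFun a x)))
  rw [autFun_inv_apply a (hP hx), toFun_of_mem φ hx, hφx ⟨x, hx⟩]

/-- Every map of `F` on the preimage is an automorphism of it after a map of the generated
subsystem. -/
theorem frattini_preSys {P : Subgroup Ω} {f : Ω → Ω} (hf : IsMap F P f) (hP : P ≤ wSub θ W') :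
    ∃ a ∈ F.autGroup (wSub θ W'), ∃ g, IsMap (preSys F p Z θ D') P g ∧
      ∀ x ∈ P, f x = autFun a (g x) := by
  -- on subgroups containing `Z`, modulo `Z`
  have step : ∀ (P : Subgroup Ω) (f : Ω → Ω), IsMap F P f → P ≤ wSub θ W' → Z ≤ P →
      ∃ a ∈ F.autGroup (wSub θ W'), ∃ g, IsMap (preSys F p Z θ D') P g ∧
        ∀ x ∈ P, (autFun a (g x))⁻¹ * f x ∈ Z := by
    intro P f hf hP hZP
    obtain ⟨b, hb, hg⟩ := hd.frattini hf hP
    obtain ⟨-, -, f', hf', hfx⟩ := hg
    obtain ⟨g, hgm, hgx⟩ := hd.lift_preSys hf'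
    rw [hd.pre_im hZP (hP.trans wSub_le)] at hgm hgx
    refine ⟨b⁻¹, inv_mem hb, g, hgm, fun x hx => ?_⟩
    have hm := isMap_autFun (F := F) wSub_le (inv_mem hb)
    have hgW : g x ∈ wSub θ W' := hgm.mem hx
    have hfW : f x ∈ wSub θ W' := hd.mem_wSub_of_map hf hx (hP hx)
    have h1 : qmap θ (g x) = qmap θ (autFun b (f x)) := by rw [← hgx x hx, hfx x hx]
    have h2 := (hd.qmap_eq_iff (wSub_le hgW) (wSub_le (autFun_mem b hfW))).1 h1
    have h3 : autFun b⁻¹ ((g x)⁻¹ * autFun b (f x)) ∈ Z := by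
      rw [hd.map_Z hm (hd.Z_le_wSub h2) h2]; exact h2
    rw [hm.map_mul ((wSub θ W').inv_mem hgW) (autFun_mem b hfW), hm.map_inv hgW,
      autFun_inv_apply b hfW] at h3
    exact h3
  obtain ⟨f₁, hf₁, hf₁x, hf₁Z⟩ := hd.extZ hf
  have hPZ : P ⊔ Z ≤ wSub θ W' := sup_le hP hd.Z_le_wSub
  suffices h : ∃ a ∈ F.autGroup (wSub θ W'), ∃ g, IsMap (preSys F p Z θ D') (P ⊔ Z) g ∧
      ∀ x ∈ P ⊔ Z, f₁ x = autFun a (g x) by
    obtain ⟨a, ha, g, hg, hgx⟩ := h
    exact ⟨a, ha, g, hg.mono le_sup_left, fun x hx => by rw [← hf₁x x hx, hgx x (mem_sup_left hx)]⟩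
  clear hf₁x hf hP
  have hZU : Z ≤ P ⊔ Z := le_sup_right
  generalize P ⊔ Z = U at hf₁ hPZ hZU
  clear P f
  rename' f₁ => f
  obtain ⟨a, ha, d, hd', hdx⟩ := step U f hf₁ hPZ hZU
  have hUS := hPZ.trans wSub_le
  haveI := finite_of_le hUS
  -- the remaining map, trivial modulo `Z`
  have hma := isMap_autFun (F := F) wSub_le ha
  have hmai := isMap_autFun (F := F) wSub_le (inv_mem ha)
  have hdF := isMap_of_sub' preSys_subsystem hd'
  obtain ⟨d₁, hd₁, hd₁x, -, -⟩ := hdF.exists_inv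
  have hdW : ∀ x ∈ U, d x ∈ wSub θ W' := fun x hx => hd'.mem hx
  have hfW : ∀ x ∈ U, f x ∈ wSub θ W' := fun x hx => hd.mem_wSub_of_map hf₁ hx (hPZ hx)
  have hkin : ∀ x ∈ U, autFun a⁻¹ (f x) ∈ img U d ∧ x⁻¹ * d₁ (autFun a⁻¹ (f x)) ∈ Z := by
    intro x hx
    have h1 := hdx x hx
    have h2 : autFun a⁻¹ ((autFun a (d x))⁻¹ * f x) = (autFun a (d x))⁻¹ * f x :=
      hd.map_Z hmai (hd.Z_le_wSub h1) h1
    rw [hmai.map_mul ((wSub θ W').inv_mem (autFun_mem a (hdW x hx))) (hfW x hx),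
      hmai.map_inv (autFun_mem a (hdW x hx)), autFun_inv_apply a (hdW x hx)] at h2
    set z := (autFun a (d x))⁻¹ * f x with hz
    have e : autFun a⁻¹ (f x) = d (x * z) := by
      rw [hd'.map_mul hx (hZU h1), hd.map_Z hdF (hZU h1) h1, ← h2, mul_inv_cancel_left]
    refine ⟨e ▸ hd'.apply_mem_img (U.mul_mem hx (hZU h1)), ?_⟩
    rw [e, hd₁x _ (U.mul_mem hx (hZU h1)), inv_mul_cancel_left]
    exact h1
  have hk : IsMap F U (fun x => d₁ (autFun a⁻¹ (f x))) :=
    (hf₁.comp hmai fun x hx => hfW x hx).comp hd₁ fun x hx => (hkin x hx).1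
  set k := fun x => d₁ (autFun a⁻¹ (f x)) with hkdef
  have hkU : ∀ x ∈ U, k x ∈ U := fun x hx => by
    rw [← mul_inv_cancel_left x (k x)]
    exact U.mul_mem hx (hZU (hkin x hx).2)
  have hki : img U k = U := eq_of_le_of_card_le (fun y hy => by
    obtain ⟨x, hx, rfl⟩ := hk.mem_img.1 hy
    exact hkU x hx) hk.card_img.ge
  -- a fully normalized conjugate
  obtain ⟨V, hUV, hVn⟩ := exists_fullyNormalized_conj F hUS
  obtain ⟨ψ, hψ, hψi⟩ := isConj_iff.1 hUV
  have hψW : ∀ x ∈ U, ψ x ∈ wSub θ W' := fun x hx => hd.mem_wSub_of_map hψ hx (hPZ hx)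
  have hVW : V ≤ wSub θ W' := fun y hy => by
    rw [← hψi] at hy
    obtain ⟨x, hx, rfl⟩ := hψ.mem_img.1 hy
    exact hψW x hx
  have hZV : Z ≤ V := fun z hz => by
    rw [← hd.map_Z hψ (hZU hz) hz, ← hψi]
    exact hψ.apply_mem_img (hZU hz)
  obtain ⟨ψi, hψim, hψix, hψiy, -⟩ := hψ.exists_inv
  rw [hψi] at hψim hψiy
  have hk'm : IsMap F V (fun y => ψ (k (ψi y))) :=
    (hψim.comp hk fun y hy => (hψiy y hy).1).comp hψ fun y hy => hkU _ (hψiy y hy).1
  have hk'z : ∀ y ∈ V, y⁻¹ * ψ (k (ψi y)) ∈ Z := fun y hy => by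
    obtain ⟨h1, h2⟩ := hψiy y hy
    have h3 := (hkin _ h1).2
    conv => arg 2; arg 1; arg 1; rw [← h2]
    rw [← hψ.map_inv h1, ← hψ.map_mul (U.inv_mem h1) (hkU _ h1), hd.map_Z hψ (hZU h3) h3]
    exact h3
  have hk'V : ∀ y ∈ V, ψ (k (ψi y)) ∈ V := fun y hy => by
    rw [← mul_inv_cancel_left y (ψ (k (ψi y)))]
    exact V.mul_mem hy (hZV (hk'z y hy))
  haveI := finite_of_le hVn.1
  have hk'i : img V (fun y => ψ (k (ψi y))) = V := eq_of_le_of_card_le (fun y hy => by
    obtain ⟨x, hx, rfl⟩ := hk'm.mem_img.1 hy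
    exact hk'V x hx) hk'm.card_img.ge
  -- it is induced by an element normalizing the preimage
  obtain ⟨Vs, hVs⟩ := (fullyAutomized_of_fullyNormalized hd.pS hd.sat hVn).2
  let K : Subgroup (F.autGroup V) :=
    { carrier := {α | ∀ y : V, (y : Ω)⁻¹ * (((α : MulAut V) y : V) : Ω) ∈ Z}
      one_mem' := fun y => by simp
      mul_mem' := fun {α β} hα hβ y => by
        have h := Z.mul_mem (hβ y) (hα ((β : MulAut V) y))
        rwa [mul_assoc, mul_inv_cancel_left] at h
      inv_mem' := fun {α} hα y => by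
        have h1 := Z.inv_mem (hα ((α : MulAut V)⁻¹ y))
        rw [MulAut.apply_inv_self, mul_inv_rev, inv_inv] at h1
        exact h1 }
  have hKp : IsPGroup p K := by
    obtain ⟨e, he⟩ := hd.pS.exists_card_eq
    rintro ⟨α, hα⟩
    refine ⟨e, Subtype.ext (Subtype.ext (MulEquiv.ext fun y => Subtype.ext ?_))⟩
    simp only [Subgroup.coe_pow, Subgroup.coe_one, MulAut.one_apply]
    have hz := hα y
    have h1 := pow_apply_of_fixed (β := (α : MulAut V)) (x := y)
      (z := y⁻¹ * (α : MulAut V) y) (by rw [mul_inv_cancel_left]) (Subtype.ext (by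
        have := hd.map_Z (isMap_of_autGroup hVn.1 α.2) (hZV hz) hz
        rw [toFun_aut_apply _ (hZV hz)] at this
        exact this)) (p ^ e)
    rw [h1]
    have hone : (y⁻¹ * (α : MulAut V) y) ^ (p ^ e) = 1 := by
      apply Subtype.ext
      rw [Subgroup.coe_pow, ← he]
      exact congrArg Subtype.val (pow_card_eq_one'
        (x := (⟨_, hVn.1 (y⁻¹ * (α : MulAut V) y).2⟩ : S)))
    rw [hone, mul_one]
  haveI : K.Normal := ⟨fun α hα β y => by
    have hm := isMap_of_autGroup hVn.1 β.2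
    set w : V := (β : MulAut V)⁻¹ y with hw
    have hwy : (β : MulAut V) w = y := MulAut.apply_inv_self _ _ _
    have hz := hα w
    have h1 : ((β : MulAut V) (w⁻¹ * (α : MulAut V) w) : Ω) = (w : Ω)⁻¹ * ((α : MulAut V) w : Ω) := by
      have := hd.map_Z hm (hZV hz) hz
      rw [toFun_aut_apply _ (hZV hz)] at this
      exact this
    rw [map_mul, map_inv, Subgroup.coe_mul, Subgroup.coe_inv] at h1
    show (y : Ω)⁻¹ * (((β : MulAut V) * (α : MulAut V) * (β : MulAut V)⁻¹) y : Ω) ∈ Z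
    rw [← hwy, MulAut.mul_apply, MulAut.mul_apply, MulAut.inv_apply_self, h1]
    exact hz⟩
  have hin : (⟨hk'm.toAut hk'i, hk'm.toAut_mem hk'i⟩ : F.autGroup V) ∈ (Vs : Subgroup _) :=
    hKp.le_sylow_of_normal Vs (fun y => by
      show (y : Ω)⁻¹ * ((hk'm.toAut hk'i y : V) : Ω) ∈ Z
      rw [IsMap.toAut_apply]
      exact hk'z y y.2)
  rw [hVs] at hin
  obtain ⟨t, ht, htx⟩ := mem_autInducedBy_iff.1 hin
  have htW : t ∈ normalizer (wSub θ W' : Set Ω) :=
    StronglyClosed.le_normalizer hd.wSub_stronglyClosed ht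
  set c : MulAut (wSub θ W') := (wSub θ W').normalizerMonoidHom ⟨t, htW⟩ with hc
  have hcA : c ∈ F.autGroup (wSub θ W') := autInducedBy_le_autGroup wSub_le
    (mem_autInducedBy_iff.2 ⟨t, ht, fun x => rfl⟩)
  have hcv : ∀ y ∈ wSub θ W', autFun c y = t * y * t⁻¹ := fun y hy => by
    rw [autFun_apply c hy]; rfl
  -- `ψ` decomposed modulo `Z`
  obtain ⟨a₁, ha₁, e, he, hex⟩ := step U ψ hψ hPZ hZU
  set b := a₁⁻¹ * c * a₁ with hb
  have hbA : b ∈ F.autGroup (wSub θ W') := mul_mem (mul_mem (inv_mem ha₁) hcA) ha₁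
  have hma₁ := isMap_autFun (F := F) wSub_le ha₁
  have hmb := isMap_autFun (F := F) wSub_le hbA
  have hma₁i := isMap_autFun (F := F) wSub_le (inv_mem ha₁)
  have hmc := isMap_autFun (F := F) wSub_le hcA
  have heW : ∀ x ∈ U, e x ∈ wSub θ W' := fun x hx => he.mem hx
  have heF := isMap_of_sub' preSys_subsystem he
  have hek : ∀ x ∈ U, e (k x) = autFun b (e x) := by
    intro x hx
    have hz := hex x hx
    have hz' := hex (k x) (hkU x hx)
    have hkz := (hkin x hx).2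
    have hψk : ψ (k x) = autFun c (ψ x) := by
      rw [hcv _ (hψW x hx)]
      have h1 := htx ⟨ψ x, hψi ▸ hψ.apply_mem_img hx⟩
      change ((hk'm.toAut hk'i ⟨ψ x, hψi ▸ hψ.apply_mem_img hx⟩ : V) : Ω) = t * ψ x * t⁻¹ at h1
      rw [IsMap.toAut_apply] at h1
      rw [← h1]
      show ψ (k x) = ψ (k (ψi (ψ x)))
      rw [hψix x hx]
    set z := (autFun a₁ (e x))⁻¹ * ψ x with hzdef
    have hψx : ψ x = autFun a₁ (e x) * z := by rw [hzdef, mul_inv_cancel_left]
    have hek1 : e (k x) = e x * (x⁻¹ * k x) := by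
      rw [← hd.map_Z heF (hZU hkz) hkz, ← he.map_mul hx (hZU hkz), mul_inv_cancel_left]
    have hψk2 : ψ (k x) = ψ x * (x⁻¹ * k x) := by
      rw [← hd.map_Z hψ (hZU hkz) hkz, ← hψ.map_mul hx (hZU hkz), mul_inv_cancel_left]
    have hck : autFun c (autFun a₁ (e x)) = autFun a₁ (e x) * (x⁻¹ * k x) := by
      have h1 : autFun c (ψ x) = autFun c (autFun a₁ (e x)) * z := by
        rw [hψx, hmc.map_mul (autFun_mem a₁ (heW x hx)) (hd.Z_le_wSub hz),
          hd.map_Z hmc (hd.Z_le_wSub hz) hz]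
      rw [← hψk, hψk2, hψx] at h1
      have hzc : z * (x⁻¹ * k x) = x⁻¹ * k x * z := (Subtype.ext_iff.1
        ((show IsMulCommutative Z from ?_).is_comm.comm ⟨z, hz⟩ ⟨_, hkz⟩) : _)
      · rw [mul_assoc, hzc, ← mul_assoc] at h1
        exact (mul_right_cancel h1).symm
      · refine ⟨⟨fun u v => Subtype.ext ?_⟩⟩
        have h := F.center_le_centralizer (IsCentral.le_center hd.central u.2) (v : Ω) (hd.Z_le v.2)
        exact h.symm
    rw [hb, autFun_mul_apply _ _ (heW x hx), autFun_mul_apply _ _ (autFun_mem a₁ (heW x hx)), hck,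
      hma₁i.map_mul (autFun_mem a₁ (heW x hx)) (hd.Z_le_wSub hkz), autFun_inv_apply a₁ (heW x hx),
      hd.map_Z hma₁i (hd.Z_le_wSub hkz) hkz, hek1]
  obtain ⟨e₁, he₁, he₁x, he₁y, -⟩ := he.exists_inv
  have hsplit : ∀ x ∈ U, f x = autFun a (d (k x)) := by
    intro x hx
    obtain ⟨u, hu, hue⟩ := hdF.mem_img.1 (hkin x hx).1
    show f x = autFun a (d (d₁ (autFun a⁻¹ (f x))))
    rw [← hue, hd₁x u hu, hue, autFun_apply_inv a (hfW x hx)]
  have hd2 : IsMap (preSys F p Z θ D') (img U e) (fun y => d (e₁ y)) :=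
    he₁.comp hd' fun y hy => (he₁y y hy).1
  have hT := hd.transport_preSys (inv_mem hbA) hd2
  rw [inv_inv] at hT
  have hin : ∀ x ∈ U, e x ∈ img (img U e) (autFun b⁻¹) := fun x hx => by
    have hmbi := isMap_autFun (F := F) wSub_le (inv_mem hbA)
    refine (hmbi.mono he.img_le).mem_img.2 ⟨e (k x), he.apply_mem_img (hkU x hx), ?_⟩
    rw [hek x hx, autFun_inv_apply b (heW x hx)]
  refine ⟨a * b, mul_mem ha hbA, fun x => autFun b⁻¹ (d (e₁ (autFun b (e x)))),
    he.comp hT hin, fun x hx => ?_⟩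
  show f x = autFun (a * b) (autFun b⁻¹ (d (e₁ (autFun b (e x)))))
  rw [← hek x hx, he₁x _ (hkU x hx), autFun_mul_apply _ _ (autFun_mem _ (hdW _ (hkU x hx))),
    autFun_apply_inv b (hdW _ (hkU x hx)), hsplit x hx]

/-- The generated subsystem is invariant in `F`. -/
theorem isInvariantIn_preSys : (preSys F p Z θ D').IsInvariantIn F := by
  refine ⟨preSys_subsystem, hd.wSub_stronglyClosed, fun P hP φ hφ α hα => ?_, fun P hP φ hφ => ?_⟩
  · have hT := hd.transport_preSys hα (isMap_of_hom hφ)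
    have hm : IsMap F (wSub θ W') (autFun α) := isMap_autFun wSub_le hα
    have hQ : (P.subgroupOf (wSub θ W')).map ((wSub θ W').subtype.comp α.toMonoidHom) =
        img P (autFun α) := by
      ext y
      rw [mem_img_autFun hm hP]
      constructor
      · rintro ⟨s, hs, rfl⟩
        exact ⟨s, hs, autFun_apply α s.2⟩
      · rintro ⟨x, hx, rfl⟩
        exact ⟨⟨x, hP hx⟩, hx, (autFun_apply α (hP hx)).symm⟩
    refine ⟨(hT.mono hQ.le).toHom, (hT.mono hQ.le).toHom_mem, fun x hφx hαx => ?_⟩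
    rw [IsMap.toHom_apply]
    show autFun α (toFun φ (autFun α⁻¹ ((α ⟨x, hP x.2⟩ : wSub θ W') : Ω))) = _
    rw [← autFun_apply α (hP x.2), autFun_inv_apply α (hP x.2), toFun_apply, autFun_apply α hφx]
  · obtain ⟨a, ha, g, hg, hgx⟩ := hd.frattini_preSys (isMap_of_hom hφ) hP
    refine ⟨a, ha, hg.toHom, hg.toHom_mem, fun x hx => ?_⟩
    rw [← toFun_apply φ x, hgx x x.2, autFun_apply a (hg.mem x.2)]
    rfl

end Setup

end CfsgLib.Comp.Pre
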