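import Cfsg.Agent.Lib.Comp.PrimeResidualLeast

/-!
The `p'`-residual of a weakly normal subsystem lies in every weakly normal subsystem over the same
subgroup.
-/

set_option autoImplicit false
set_option linter.unusedVariables false
set_option linter.unusedSectionVars false
set_option linter.style.haveILetI false

namespace CfsgLib.Comp.Fus

open Cfsg Cfsg.FusionSystem Subgroup CfsgLib.Fusion

variable {Ω : Type*} [Group Ω] {S T : Subgroup Ω} {F : FusionSystem S} {E E' X : FusionSystem T}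
  {Q M R : Subgroup Ω} {p : ℕ}

/-- The elements of `T` inducing on `Q` an automorphism in `K`. -/
def preAut (T Q : Subgroup Ω) (K : Subgroup (MulAut Q)) : Subgroup Ω where
  carrier := {t | t ∈ T ∧ ∃ α ∈ K, ∀ x : Q, ((α x : Q) : Ω) = t * (x : Ω) * t⁻¹}
  one_mem' := ⟨T.one_mem, 1, K.one_mem, fun x => by simp⟩
  mul_mem' := by
    rintro a b ⟨ha, α, hα, hαx⟩ ⟨hb, β, hβ, hβx⟩
    refine ⟨T.mul_mem ha hb, α * β, K.mul_mem hα hβ, fun x => ?_⟩
    rw [MulAut.mul_apply, hαx, hβx]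
    group
  inv_mem' := by
    rintro a ⟨ha, α, hα, hαx⟩
    refine ⟨T.inv_mem ha, α⁻¹, K.inv_mem hα, fun x => ?_⟩
    have h := hαx (α⁻¹ x)
    rw [MulAut.apply_inv_self] at h
    rw [h]
    group

theorem preAut_le {K : Subgroup (MulAut Q)} : preAut T Q K ≤ normalizerIn T Q := by
  rintro t ⟨ht, α, -, hαx⟩
  exact ⟨ht, mem_normalizer_of_aut hαx⟩

theorem le_preAut {K : Subgroup (MulAut Q)} (hQ : Q ≤ T) (hK : Inn Q ≤ K) : Q ≤ preAut T Q K :=
  fun q hq => ⟨hQ hq, MulAut.conj ⟨q, hq⟩, hK ⟨⟨q, hq⟩, rfl⟩, fun x => rfl⟩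

theorem preAut_mono {K K' : Subgroup (MulAut Q)} (h : K ≤ K') : preAut T Q K ≤ preAut T Q K' :=
  fun t ⟨ht, α, hα, hαx⟩ => ⟨ht, α, h hα, hαx⟩

theorem preAut_autInducedBy (hQc : centralizerIn T Q ≤ Q) (hQM : Q ≤ M)
    (hMN : M ≤ normalizerIn T Q) : preAut T Q (autInducedBy M Q) = M := by
  ext t
  constructor
  · rintro ⟨ht, α, hα, hαx⟩
    obtain ⟨m, hm, hmx⟩ := mem_autInducedBy_iff.1 hα
    have hc : m⁻¹ * t ∈ centralizerIn T Q := by
      refine ⟨T.mul_mem (T.inv_mem (hMN hm).1) ht, fun q hq => ?_⟩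
      have e : t * q * t⁻¹ = m * q * m⁻¹ := (hαx ⟨q, hq⟩).symm.trans (hmx ⟨q, hq⟩)
      calc q * (m⁻¹ * t) = m⁻¹ * (m * q * m⁻¹) * t := by group
        _ = m⁻¹ * (t * q * t⁻¹) * t := by rw [e]
        _ = m⁻¹ * t * q := by group
    simpa using M.mul_mem hm (hQM (hQc hc))
  · intro ht
    refine ⟨(hMN ht).1, Q.normalizerMonoidHom ⟨t, (hMN ht).2⟩,
      mem_autInducedBy_iff.2 ⟨t, ht, fun x => rfl⟩, fun x => rfl⟩

/-- The image of the preimage of `K` under a map restricting to `v` on `Q`. -/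
theorem img_preAut (hQc : centralizerIn T Q ≤ Q) (hQT : Q ≤ T) {K : Subgroup (MulAut Q)}
    (hInn : Inn Q ≤ K) (hK : K ≤ autInducedBy T Q) {v : MulAut Q} {g : Ω → Ω}
    (hg : IsMap X (preAut T Q K) g) (hgv : ∀ x : Q, g x = ((v x : Q) : Ω)) :
    img (preAut T Q K) g = preAut T Q (K.map (MulAut.conj v).toMonoidHom) := by
  have hQP := le_preAut hQT hInn
  have key : ∀ (m : Ω) (α : MulAut Q), m ∈ preAut T Q K →
      (∀ x : Q, ((α x : Q) : Ω) = m * (x : Ω) * m⁻¹) → ∀ x : Q,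
      (((MulAut.conj v).toMonoidHom α x : Q) : Ω) = g m * (x : Ω) * (g m)⁻¹ := by
    intro m α hm hαx x
    have e : (x : Ω) = g ((v⁻¹ x : Q) : Ω) := by rw [hgv, MulAut.apply_inv_self]
    rw [e, ← hg.map_conj hm (hQP (Subtype.mem _)), ← hαx]
    exact (hgv _).symm
  ext y
  constructor
  · intro hy
    obtain ⟨m, hm, rfl⟩ := hg.mem_img.1 hy
    obtain ⟨-, α, hα, hαx⟩ := id hm
    exact ⟨hg.mem hm, _, ⟨α, hα, rfl⟩, key m α hm hαx⟩
  · rintro ⟨hy, β, ⟨α, hα, rfl⟩, hβx⟩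
    obtain ⟨m, hm, hmx⟩ := mem_autInducedBy_iff.1 (hK hα)
    have hmP : m ∈ preAut T Q K := ⟨hm, α, hα, hmx⟩
    have hc : (g m)⁻¹ * y ∈ centralizerIn T Q := by
      refine ⟨T.mul_mem (T.inv_mem (hg.mem hmP)) hy, fun q hq => ?_⟩
      have e : y * q * y⁻¹ = g m * q * (g m)⁻¹ :=
        (hβx ⟨q, hq⟩).symm.trans (key m α hmP hmx ⟨q, hq⟩)
      calc q * ((g m)⁻¹ * y) = (g m)⁻¹ * (g m * q * (g m)⁻¹) * y := by group
        _ = (g m)⁻¹ * (y * q * y⁻¹) * y := by rw [e]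
        _ = (g m)⁻¹ * y * q := by group
    have hq : (g m)⁻¹ * y ∈ img (preAut T Q K) g := by
      have h1 := hgv (v⁻¹ ⟨_, hQc hc⟩)
      rw [MulAut.apply_inv_self] at h1
      rw [show (g m)⁻¹ * y = g _ from h1.symm]
      exact hg.apply_mem_img (hQP (Subtype.mem _))
    simpa using (img (preAut T Q K) g).mul_mem (hg.apply_mem_img hmP) hq

theorem autFun_pow_apply (a : MulAut M) (n : ℕ) {x : Ω} (hx : x ∈ M) :
    (autFun a)^[n] x = autFun (a ^ n) x := by
  induction n with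
  | zero => rw [pow_zero, autFun_one hx]; rfl
  | succ n ih => rw [Function.iterate_succ_apply', ih, pow_succ', autFun_mul_apply _ _ hx]

section Pair

variable [Fact p.Prime] [Finite S] (hS : IsPGroup p S) (hw : E.IsWeaklyNormalIn F p)
  (hw' : E'.IsWeaklyNormalIn F p)

include hS hw hw'

theorem exists_sylow_bothAut (hQn : E.IsFullyNormalized Q) :
    ∃ W : Sylow p (bothAut E E' Q), (W : Subgroup (bothAut E E' Q)) =
      (autInducedBy T Q).subgroupOf (bothAut E E' Q) := by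
  have hTS := hw.2.2.2.1.1
  haveI := finite_of_le hTS
  obtain ⟨W, hW⟩ := (fullyAutomized_of_fullyNormalized (hS.to_le hTS) hw.1 hQn).2
  have hle : bothAut E E' Q ≤ E.autGroup Q := inf_le_left
  refine ⟨W.comapOfInjective (Subgroup.inclusion hle) (Subgroup.inclusion_injective hle) ?_, ?_⟩
  · intro w hw0
    rw [hW] at hw0
    exact ⟨⟨w, autInducedBy_le_autGroup hQn.1 hw0, autInducedBy_le_autGroup hQn.1 hw0⟩, rfl⟩
  · show Subgroup.comap (Subgroup.inclusion hle) (W : Subgroup (E.autGroup Q)) = _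
    rw [hW]
    rfl

/-- An automorphism of `Q` of order prime to `p` shared by both systems extends to a map of both. -/
theorem exists_both_coprime (hQc : E.IsCentric Q) {K : Subgroup (MulAut Q)} (hInn : Inn Q ≤ K)
    (hK : K ≤ autInducedBy T Q) {v : MulAut Q} (hv : v ∈ bothAut E E' Q)
    (ho : (orderOf v).Coprime p) (hvK : K.map (MulAut.conj v).toMonoidHom = K) :
    ∃ g, IsMap E (preAut T Q K) g ∧ IsMap E' (preAut T Q K) g ∧
      ∀ x : Q, g x = ((v x : Q) : Ω) := by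
  obtain ⟨hEsat, hF, hinv⟩ := id hw
  obtain ⟨hE'sat, -, hinv'⟩ := id hw'
  have hsc := hinv.2.1
  have hTS := hsc.1
  haveI := finite_of_le hTS
  have hTp := hS.to_le hTS
  have hQT := hQc.1
  have hQ : centralizerIn T Q ≤ Q := hQc.2 Q (isConj_refl hQT)
  have hext : ∀ {D : FusionSystem T}, D.IsReceptive Q → v ∈ D.autGroup Q →
      ∃ g, IsMap D (preAut T Q K) g ∧ ∀ x : Q, g x = ((v x : Q) : Ω) := by
    intro D hr hvD
    obtain ⟨g, hg, hgx⟩ := receptive_extend hr (isMap_autFun hQT hvD) img_autFun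
      (le_preAut hQT hInn) (R := preAut T Q K) fun a ha => by
        obtain ⟨haT, α, hα, hαx⟩ := ha
        refine ⟨haT, mem_normalizer_of_aut hαx, ?_⟩
        obtain ⟨b, hb, hbx⟩ := mem_autInducedBy_iff.1 (hK (hvK.le ⟨α, hα, rfl⟩))
        refine ⟨b, hb, fun x hx => ?_⟩
        have h := hbx (v ⟨x, hx⟩)
        rw [← autFun_apply v hx] at h
        rw [← h]
        have e : a * x * a⁻¹ = ((α ⟨x, hx⟩ : Q) : Ω) := (hαx ⟨x, hx⟩).symm
        rw [e, autFun_apply v (Subtype.mem _)]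
        simp [MulAut.mul_apply]
    exact ⟨g, hg, fun x => (hgx x x.2).trans (autFun_apply v x.2)⟩
  obtain ⟨g₁, hg₁, hg₁v⟩ := hext
    (receptive_of_fullyCentralized hTp hEsat (centric_fullyCentralized hQc)) hv.1
  obtain ⟨g₀, hg₀, hg₀v⟩ := hext (receptive_of_fullyCentralized hTp hE'sat
    (centric_fullyCentralized (centric_transfer hS hw hw' hQc))) hv.2
  have hg₀M : ∀ x ∈ preAut T Q K, g₀ x ∈ preAut T Q K := fun x hx => by
    have h := hg₀.apply_mem_img hx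
    rwa [img_preAut hQ hQT hInn hK hg₀ hg₀v, hvK] at h
  obtain ⟨e, n, hn, hev, hper⟩ := exists_coprime_power hg₀ hg₀M (le_preAut hQT hInn) ho hg₀v
  have hg₂ : IsMap E' (preAut T Q K) g₀^[e] := isMap_iterate hg₀ hg₀M e
  set M := preAut T Q K with hMdef
  have hMT : M ≤ T := preAut_le.trans inf_le_left
  have hQM : Q ≤ M := le_preAut hQT hInn
  haveI := finite_of_le (hMT.trans hTS)
  have hi₁ : img M g₁ = M := by rw [img_preAut hQ hQT hInn hK hg₁ hg₁v, hvK]
  have hi₂ : img M g₀^[e] = M := by rw [img_preAut hQ hQT hInn hK hg₂ hev, hvK]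
  have hle : ∀ {D : FusionSystem T}, D.IsSubsystemOf F → D.autGroup M ≤ F.autGroup M :=
    fun hD α hα => (autGroup_mem_iff (hMT.trans hTS)).2 (hD M ((autGroup_mem_iff hMT).1 hα))
  set a₁ := hg₁.toAut hi₁
  set a₂ := hg₂.toAut hi₂
  have ha₁ : a₁ ∈ E.autGroup M := hg₁.toAut_mem hi₁
  have ha₁F : a₁ ∈ F.autGroup M := hle hinv.1 ha₁
  have ha₂F : a₂ ∈ F.autGroup M := hle hinv'.1 (hg₂.toAut_mem hi₂)
  have ha₂n : a₂ ^ n = 1 := MulEquiv.ext fun x => Subtype.ext (by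
    rw [toAut_pow_coe, hper _ x.2]; rfl)
  set N := (E.autGroup M).subgroupOf (F.autGroup M)
  haveI : N.Normal := ⟨fun b hb a => autGroup_conj_mem hinv hMT a.2 hb⟩
  have hd : (a₁⁻¹ * a₂) ^ n ∈ E.autGroup M := by
    have h1 : QuotientGroup.mk' N ⟨a₁, ha₁F⟩ = 1 := (QuotientGroup.eq_one_iff _).2 ha₁
    have h2 : (⟨a₂, ha₂F⟩ : F.autGroup M) ^ n = 1 := Subtype.ext ha₂n
    have key : QuotientGroup.mk' N (((⟨a₁, ha₁F⟩ : F.autGroup M)⁻¹ * ⟨a₂, ha₂F⟩) ^ n) = 1 := by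
      rw [map_pow, map_mul, map_inv, h1, inv_one, one_mul, ← map_pow, h2, map_one]
    exact (QuotientGroup.eq_one_iff (N := N) _).1 key
  have hdQ : ∀ q ∈ Q, autFun (a₁⁻¹ * a₂) q = q := fun q hq => by
    have e2 : a₂ ⟨q, hQM hq⟩ = a₁ ⟨q, hQM hq⟩ := Subtype.ext (by
      rw [IsMap.toAut_apply, IsMap.toAut_apply, hev ⟨q, hq⟩, hg₁v ⟨q, hq⟩])
    rw [autFun_apply _ (hQM hq), MulAut.mul_apply, e2, MulAut.inv_apply_self]
  have hmem := mem_of_pow_mem hsc hTp hQ hQM hMT (preAut_le.trans inf_le_right)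
    (isMap_autFun (hMT.trans hTS) (mul_mem (inv_mem ha₁F) ha₂F)) hdQ hn (X := E)
    ((isMap_autFun hMT hd).congr fun x hx => (autFun_pow_apply _ n hx).symm)
  have ha₂E : a₂ ∈ E.autGroup M := by
    have h := (autGroup_iff_isMap hMT fun x => (autFun_apply _ x.2).symm).2 hmem
    simpa using mul_mem ha₁ h
  refine ⟨_, ?_, hg₂, hev⟩
  exact (autGroup_iff_isMap hMT (hg₂.toAut_apply hi₂)).1 ha₂E

/-- An automorphism of `Q` shared by both systems extends to a map of both as far as it can. -/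
theorem exists_both (hQc : E.IsCentric Q) (hQn : E.IsFullyNormalized Q) (hQM : Q ≤ M)
    (hMN : M ≤ normalizerIn T Q) {v : MulAut Q} (hv : v ∈ bothAut E E' Q) {h : Ω → Ω}
    (hh : IsMap F M h) (hhv : ∀ x : Q, h x = ((v x : Q) : Ω)) (hhT : ∀ m ∈ M, h m ∈ T) :
    ∃ g, IsMap E M g ∧ IsMap E' M g ∧ (∀ x : Q, g x = ((v x : Q) : Ω)) ∧
      ∀ m ∈ M, h m ∈ img M g := by
  have hTS := hw.2.2.2.1.1
  haveI := finite_of_le hTS
  have hQT := hQc.1
  haveI := finite_of_le hQT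
  have hQ : centralizerIn T Q ≤ Q := hQc.2 Q (isConj_refl hQT)
  obtain ⟨W, hW⟩ := exists_sylow_bothAut hS hw hw' hQn
  haveI : Finite (MulAut Q) := Finite.of_injective (fun e : MulAut Q => (e : Q → Q))
    DFunLike.coe_injective
  have hInnN : ((Inn Q).subgroupOf (bothAut E E' Q)).Normal := ⟨fun b hb a => by
    obtain ⟨q, hq⟩ := (Subgroup.mem_subgroupOf.1 hb : (b : MulAut Q) ∈ Inn Q)
    refine Subgroup.mem_subgroupOf.2 ⟨(a : MulAut Q) q, MulEquiv.ext fun x => ?_⟩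
    show (a : MulAut Q) q * x * ((a : MulAut Q) q)⁻¹ =
      (a : MulAut Q) ((b : MulAut Q) ((a : MulAut Q)⁻¹ x))
    rw [← hq]
    show _ = (a : MulAut Q) (q * (a : MulAut Q)⁻¹ x * q⁻¹)
    simp⟩
  let P : bothAut E E' Q → Subgroup (bothAut E E' Q) → Prop := fun u Y =>
    ∃ g, IsMap E (preAut T Q (Y.map (bothAut E E' Q).subtype)) g ∧
      IsMap E' (preAut T Q (Y.map (bothAut E E' Q).subtype)) g ∧
      ∀ x : Q, g x = (((u : MulAut Q) x : Q) : Ω)
  have hInnle : ∀ Y : Subgroup (bothAut E E' Q), (Inn Q).subgroupOf (bothAut E E' Q) ≤ Y →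
      Inn Q ≤ Y.map (bothAut E E' Q).subtype := fun Y hY α hα =>
    ⟨⟨α, inn_le_autGroup hQT hα, inn_le_autGroup hQT hα⟩, hY (Subgroup.mem_subgroupOf.2 hα), rfl⟩
  have hWle : ∀ Y : Subgroup (bothAut E E' Q), Y ≤ (W : Subgroup _) →
      Y.map (bothAut E E' Q).subtype ≤ autInducedBy T Q := by
    rintro Y hY _ ⟨y, hy, rfl⟩
    have := hY hy
    rw [hW] at this
    exact this
  have hconj : ∀ (u : bothAut E E' Q) (Y : Subgroup (bothAut E E' Q)),
      (Y.map (MulAut.conj u).toMonoidHom).map (bothAut E E' Q).subtype =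
        (Y.map (bothAut E E' Q).subtype).map (MulAut.conj (u : MulAut Q)).toMonoidHom := by
    intro u Y
    rw [Subgroup.map_map, Subgroup.map_map]
    rfl
  have key : ∀ u Y, (Inn Q).subgroupOf (bothAut E E' Q) ≤ Y → Y ≤ (W : Subgroup _) →
      Y.map (MulAut.conj u).toMonoidHom ≤ W → P u Y := by
    refine GroupAlperin.induction_fusion W _ P ?_ ?_ ?_ ?_ ?_ hInnN
    · rintro u Y Z - hYZ - - ⟨g, hg, hg', hgx⟩
      exact ⟨g, hg.mono (preAut_mono (Subgroup.map_mono hYZ)),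
        hg'.mono (preAut_mono (Subgroup.map_mono hYZ)), hgx⟩
    · rintro a b Y hY hYW - ⟨g, hg, hg', hgx⟩ ⟨k, hk, hk', hkx⟩
      have hi := img_preAut hQ hQT (hInnle Y hY) (hWle Y hYW) hg hgx
      rw [← hconj] at hi
      refine ⟨fun x => k (g x), hg.comp hk fun x hx => hi ▸ hg.apply_mem_img hx,
        hg'.comp hk' fun x hx => hi ▸ hg.apply_mem_img hx, fun x => ?_⟩
      show k (g x) = _
      rw [hgx, hkx]
      rfl
    · rintro a Y hY hYW - ⟨g, hg, hg', hgx⟩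
      have hi := img_preAut hQ hQT (hInnle Y hY) (hWle Y hYW) hg hgx
      rw [← hconj] at hi
      obtain ⟨k, hk, hkx, -, -⟩ := hg.exists_inv
      obtain ⟨k', hk', hk'x, -, -⟩ := hg'.exists_inv
      refine ⟨k, hi ▸ hk, hi ▸ hk'.congr fun y hy => ?_, fun x => ?_⟩
      · obtain ⟨z, hz, rfl⟩ := hg.mem_img.1 hy
        rw [hkx z hz, hk'x z hz]
      · have e : (x : Ω) = g (((a : MulAut Q)⁻¹ x : Q) : Ω) := by
          rw [hgx, MulAut.apply_inv_self]
        rw [e, hkx _ (le_preAut hQT (hInnle Y hY) (Subtype.mem _))]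
        rfl
    · intro a Y _ _ ha _
      rw [hW] at ha
      obtain ⟨t, ht, htx⟩ := mem_autInducedBy_iff.1 (Subgroup.mem_subgroupOf.1 ha)
      have hle : preAut T Q (Y.map (bothAut E E' Q).subtype) ≤ T := preAut_le.trans inf_le_left
      exact ⟨_, isMap_conj E hle ht, isMap_conj E' hle ht, fun x => (htx x).symm⟩
    · intro a Y hY hYW ho ha
      refine exists_both_coprime hS hw hw' hQc (hInnle Y hY) (hWle Y hYW) a.2
        (by rwa [Subgroup.orderOf_coe]) ?_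
      rw [← hconj, GroupAlperin.map_conj_eq_of_mem_normalizer ha]
  -- the induced automorphisms
  set K := autInducedBy M Q with hKdef
  have hKW : K ≤ autInducedBy T Q := fun α hα => by
    obtain ⟨m, hm, hmx⟩ := mem_autInducedBy_iff.1 hα
    exact mem_autInducedBy_iff.2 ⟨m, (hMN hm).1, hmx⟩
  have hKB : K ≤ bothAut E E' Q := hKW.trans
    (le_inf (autInducedBy_le_autGroup hQT) (autInducedBy_le_autGroup hQT))
  have hmap : (K.subgroupOf (bothAut E E' Q)).map (bothAut E E' Q).subtype = K := by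
    rw [Subgroup.subgroupOf_map_subtype, inf_eq_left.2 hKB]
  obtain ⟨g, hg, hg', hgv⟩ := key ⟨v, hv⟩ (K.subgroupOf (bothAut E E' Q))
    (fun a ha => by
      obtain ⟨q, hq⟩ := (Subgroup.mem_subgroupOf.1 ha : (a : MulAut Q) ∈ Inn Q)
      exact Subgroup.mem_subgroupOf.2 (mem_autInducedBy_iff.2
        ⟨q, hQM q.2, fun x => by rw [← hq]; rfl⟩))
    (fun a ha => by rw [hW]; exact hKW ha)
    (by
      rintro _ ⟨a, ha, rfl⟩
      rw [hW]
      obtain ⟨m, hm, hmx⟩ := mem_autInducedBy_iff.1 (Subgroup.mem_subgroupOf.1 ha)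
      refine Subgroup.mem_subgroupOf.2 (mem_autInducedBy_iff.2 ⟨h m, hhT m hm, fun x => ?_⟩)
      show ((v ((a : MulAut Q) (v⁻¹ x)) : Q) : Ω) = _
      rw [← hhv, hmx, hh.map_conj hm (hQM (Subtype.mem _)), hhv, MulAut.apply_inv_self])
  rw [hmap] at hg hg'
  have hi := img_preAut hQ hQT (fun α hα => by
    obtain ⟨q, hq⟩ := hα
    exact mem_autInducedBy_iff.2 ⟨q, hQM q.2, fun x => by rw [← hq]; rfl⟩) hKW hg hgv
  rw [preAut_autInducedBy hQ hQM hMN] at hg hg' hi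
  refine ⟨g, hg, hg', hgv, fun m hm => hi ▸ ⟨hhT m hm, _,
    ⟨Q.normalizerMonoidHom ⟨m, (hMN hm).2⟩, mem_autInducedBy_iff.2 ⟨m, hm, fun x => rfl⟩, rfl⟩,
    fun x => ?_⟩⟩
  show ((v (Q.normalizerMonoidHom ⟨m, (hMN hm).2⟩ (v⁻¹ x)) : Q) : Ω) = _
  rw [← hhv]
  show h (m * ((v⁻¹ x : Q) : Ω) * m⁻¹) = _
  rw [hh.map_conj hm (hQM (Subtype.mem _)), hhv, MulAut.apply_inv_self]

/-- A map differing from a map of both systems by an element of `Aut_E(T) Aut_{E'}(T)` lies in both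
systems once its restriction to `Q` does. -/
theorem both_of_form (hQc : E.IsCentric Q) (hQn : E.IsFullyNormalized Q) (hQM : Q ≤ M)
    (hMN : M ≤ normalizerIn T Q) {y : MulAut T} (hy : y ∈ E.autGroup T ⊔ E'.autGroup T)
    {e h : Ω → Ω} (he : IsMap E M e) (he' : IsMap E' M e) (hh : ∀ x ∈ M, h x = autFun y (e x))
    (hQ₁ : IsMap E Q h) (hQ₂ : IsMap E' Q h) (hi : img Q h = Q) :
    IsMap E M h ∧ IsMap E' M h := by
  obtain ⟨hEsat, hF, hinv⟩ := id hw
  obtain ⟨hE'sat, -, hinv'⟩ := id hw'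
  have hsc := hinv.2.1
  have hTS := hsc.1
  haveI := finite_of_le hTS
  have hTp := hS.to_le hTS
  have hQT := hQc.1
  have hQ : centralizerIn T Q ≤ Q := hQc.2 Q (isConj_refl hQT)
  have hMT : M ≤ T := hMN.trans inf_le_left
  have hle : E.autGroup T ⊔ E'.autGroup T ≤ F.autGroup T :=
    sup_le (fun α hα => (autGroup_mem_iff hTS).2 (hinv.1 T ((autGroup_mem_iff le_rfl).1 hα)))
      (fun α hα => (autGroup_mem_iff hTS).2 (hinv'.1 T ((autGroup_mem_iff le_rfl).1 hα)))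
  have hyF : y ∈ F.autGroup T := hle hy
  have hhF : IsMap F M h :=
    ((isSubsystemOf_iff.1 hinv.1 M e he).comp (isMap_autFun hTS hyF) fun x hx =>
      he.mem hx).congr fun x hx => (hh x hx).symm
  have hhT : ∀ m ∈ M, h m ∈ T := fun m hm => hh m hm ▸ autFun_mem y (he.mem hm)
  set v := hQ₁.toAut hi
  have hv : v ∈ bothAut E E' Q :=
    ⟨hQ₁.toAut_mem hi, (autGroup_iff_isMap hQT (hQ₁.toAut_apply hi)).2 hQ₂⟩
  have hhv : ∀ x : Q, h x = ((v x : Q) : Ω) := fun x => (hQ₁.toAut_apply hi x).symm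
  obtain ⟨g, hg, hg', hgv, hgh⟩ := exists_both hS hw hw' hQc hQn hQM hMN hv hhF hhv hhT
  have main : ∀ {D : FusionSystem T}, D.IsInvariantIn F → IsMap D M g → IsMap D M e →
      (∃ n : ℕ, n.Coprime p ∧ y ^ n ∈ D.autGroup T) → IsMap D M h := by
    intro D hD hgD heD hn
    obtain ⟨n, hn, hyn⟩ := hn
    obtain ⟨k, hk, hkx, hky, -⟩ := hgD.exists_inv
    set δ := fun x => k (h x) with hδdef
    have hδM : ∀ x ∈ M, δ x ∈ M := fun x hx => (hky _ (hgh x hx)).1
    have hδF : IsMap F M δ := hhF.comp (isSubsystemOf_iff.1 hD.1 _ k hk) hgh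
    have hδQ : ∀ q ∈ Q, δ q = q := fun q hq => by
      show k (h q) = q
      rw [hhv ⟨q, hq⟩, ← hgv ⟨q, hq⟩, hkx q (hQM hq)]
    have h1 : IsMap D M fun x => autFun y⁻¹ (δ x) := by
      obtain ⟨k', hk', hk'x⟩ := IsInvariantIn.transport hD (inv_mem hyF) hk
      have hmem : ∀ x ∈ M, e x ∈ img (img M g) (autFun y⁻¹) := fun x hx => by
        have e1 : e x = autFun y⁻¹ (h x) := by rw [hh x hx, autFun_inv_apply y (he.mem hx)]
        rw [e1]
        exact ((isMap_autFun hTS (inv_mem hyF)).mono hgD.img_le).apply_mem_img (hgh x hx)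
      refine (heD.comp hk' hmem).congr fun x hx => ?_
      have e1 := hk'x (h x) (hgh x hx)
      rwa [hh x hx, autFun_inv_apply y (he.mem hx), ← hh x hx] at e1
    have hstep : ∀ i : ℕ, IsMap D M fun x => autFun (y ^ i)⁻¹ (δ^[i] x) := by
      intro i
      induction i with
      | zero =>
        refine (isMap_id D hMT).congr fun x hx => ?_
        rw [pow_zero, inv_one, Function.iterate_zero_apply, autFun_one (hMT hx)]
        rfl
      | succ i ih =>
        obtain ⟨ε, hε, hεx⟩ := IsInvariantIn.transport hD (inv_mem (pow_mem hyF i)) h1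
        refine (ih.comp hε fun x hx => ((isMap_autFun hTS (inv_mem (pow_mem hyF i))).mono
          hMT).apply_mem_img (iterate_mem hδM i hx)).congr fun x hx => ?_
        show ε (autFun (y ^ i)⁻¹ (δ^[i] x)) = _
        rw [hεx _ (iterate_mem hδM i hx), ← autFun_mul_apply _ _ (hMT (hδM _ (iterate_mem hδM i hx))),
          ← mul_inv_rev, ← pow_succ', Function.iterate_succ_apply']
    have hδn : IsMap D M δ^[n] :=
      ((hstep n).comp (isMap_autFun le_rfl hyn) fun x hx => (hstep n).mem hx).congr fun x hx =>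
        autFun_apply_inv _ (hMT (iterate_mem hδM n hx))
    have hδ : IsMap D M δ :=
      mem_of_pow_mem hD.2.1 hTp hQ hQM hMT (hMN.trans inf_le_right) hδF hδQ hn hδn
    exact (hδ.comp hgD hδM).congr fun x hx => (hky _ (hgh x hx)).2
  refine ⟨main hinv hg he (exists_pow_mem hS hw hw' hy), main hinv' hg' he' ?_⟩
  exact exists_pow_mem hS hw' hw (by rwa [sup_comm])

end Pair

end CfsgLib.Comp.Fus
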