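import Cfsg.Agent.Lib.Comp.Signalizer
import Cfsg.Agent.Lib.Solvable.HallHigman

/-!
A detection lemma for `O_{q'}` of a solvable group with coprime elementary abelian action.
-/

set_option autoImplicit false
set_option linter.style.haveILetI false
set_option linter.unusedSectionVars false

namespace CfsgLib.Comp

open Subgroup
open scoped commutatorElement

variable {G : Type*} [Group G] [Finite G] {p : ℕ} [hp : Fact p.Prime] {q : ℕ} [hq : Fact q.Prime]

theorem le_pPrimeCore_of_commutator_centralizers {A K U : Subgroup G}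
    (hA : Cfsg.IsElementaryAbelian p A) (hA2 : p ^ 2 ≤ Nat.card A) (hK : ¬ p ∣ Nat.card K)
    (hKs : Group.IsSolvable K) (hAK : A ≤ normalizer (K : Set G)) (hU : U ≤ K)
    (hUq : ¬ q ∣ Nat.card U)
    (hcomm : ∀ B : Subgroup G, B ≤ A → B.relIndex A = p →
      ¬ q ∣ Nat.card ↥⁅U, K ⊓ centralizer (B : Set G)⁆) :
    U ≤ (Cfsg.pPrimeCore q K).map K.subtype := by
  haveI := hKs
  have hne : A ≠ ⊥ := fun e => by
    rw [e, card_bot] at hA2
    exact absurd hA2 (not_le.2 (Nat.one_lt_pow two_ne_zero hp.out.one_lt))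
  set O := Cfsg.pPrimeCore q ↥K
  set φ := QuotientGroup.mk' O
  set R := (Cfsg.pCore q (↥K ⧸ O)).comap φ
  set R' := R.map K.subtype
  haveI : O.Normal := Cfsg.pPrimeCore_normal q _
  -- `R'` is invariant under `A`
  have hAR : A ≤ normalizer (R' : Set G) := by
    refine le_normalizer_of_conj_mem fun a ha u hu => ?_
    obtain ⟨r, hr, rfl⟩ := hu
    have haK := mem_normalizer_iff.1 (hAK ha)
    let α : ↥K ≃* ↥K := (K.equivMapOfInjective _ (MulAut.conj a).injective).trans
      (MulEquiv.subgroupCongr (map_conj_eq_iff.2 (hAK ha)))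
    have hαO : O.map α.toMonoidHom = O := CfsgLib.Solvable.map_pPrimeCore_equiv α q
    have hle : R.map α.toMonoidHom ≤ R := by
      rw [← map_le_iff_le_comap]
      refine le_sSup ⟨Subgroup.Normal.map (Subgroup.Normal.map (Normal.comap (Cfsg.pCore_normal q _) φ)
        _ α.surjective) φ (QuotientGroup.mk'_surjective _), fun z => ?_⟩
      obtain ⟨z, w, ⟨v, hv, rfl⟩, rfl⟩ := z
      obtain ⟨k, hk⟩ := isPGroup_pCore q (↥K ⧸ O) ⟨φ v, hv⟩
      refine ⟨k, Subtype.ext ?_⟩
      change φ (α v) ^ q ^ k = 1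
      have hk' : (φ v) ^ q ^ k = 1 := congrArg Subtype.val hk
      rw [← map_pow, QuotientGroup.mk'_apply, QuotientGroup.eq_one_iff] at hk'
      rw [← map_pow, ← map_pow, QuotientGroup.mk'_apply, QuotientGroup.eq_one_iff, ← hαO]
      exact mem_map_of_mem _ hk'
    exact ⟨α r, hle (mem_map_of_mem α.toMonoidHom hr), rfl⟩
  have hR'K : R' ≤ K := map_subtype_le _
  have hR'p : ¬ p ∣ Nat.card R' := fun h => hK (h.trans (card_dvd_of_le hR'K))
  obtain ⟨S, hS⟩ := CfsgLib.Coprime.exists_invariant_sylow (A := A) (G := R') hAR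
    (coprime_card_elemAb hA hR'p) (Or.inl (isSolvable_elemAb hA)) q
  set Q := (S : Subgroup R').map R'.subtype
  have hQR : Q ≤ R' := map_subtype_le _
  have hQK : Q ≤ K := hQR.trans hR'K
  -- `Q` covers `O_q(K / O)`
  have hQimg : (Q.subgroupOf K).map φ = Cfsg.pCore q (↥K ⧸ O) := by
    have hRimg : R.map φ = Cfsg.pCore q (↥K ⧸ O) :=
      map_comap_eq_self_of_surjective (QuotientGroup.mk'_surjective _) _
    refine eq_of_le_of_card_ge (hRimg ▸ map_mono ?_) ?_
    · intro x hx
      obtain ⟨r, hr, hrx⟩ := hQR hx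
      exact K.subtype_injective hrx ▸ hr
    · let f : ↥R' →* ↥K ⧸ O := φ.comp (inclusion hR'K)
      have h1 : f.range = Cfsg.pCore q (↥K ⧸ O) := by
        rw [← hRimg, MonoidHom.range_comp, inclusion_range]
        congr 1
        exact comap_map_eq_self_of_injective K.subtype_injective R
      have h2 : ((S : Subgroup R').map f.rangeRestrict) = ⊤ := by
        rw [← index_eq_one]
        obtain ⟨n, hn⟩ := IsPGroup.iff_card.1 (h1 ▸ isPGroup_pCore q (↥K ⧸ O))
        exact Nat.eq_one_of_dvd_coprimes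
          (Nat.Coprime.pow_left _ (hq.out.coprime_iff_not_dvd.2 S.not_dvd_index))
          (hn ▸ index_dvd_card _) (index_map_dvd _ f.rangeRestrict_surjective)
      rw [← h1]
      have h3 : f.range ≤ (Q.subgroupOf K).map φ := by
        rintro _ ⟨r, rfl⟩
        obtain ⟨s, hs, hse⟩ : f.rangeRestrict r ∈ (S : Subgroup R').map f.rangeRestrict := h2 ▸ trivial
        exact ⟨inclusion hR'K s, mem_map_of_mem R'.subtype hs, congrArg Subtype.val hse⟩
      exact Nat.card_le_card_of_injective _ (inclusion_injective h3)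
  have hQq : IsPGroup q ↥(Cfsg.pCore q (↥K ⧸ O)) := isPGroup_pCore q _
  have hgen := eq_iSup_centralizer_hyperplane hA hne (fun h => hK (h.trans (card_dvd_of_le hQK))) hS
  -- the image of `U` centralizes `O_q(K / O)`
  have hUc : (U.subgroupOf K).map φ ≤ centralizer (Cfsg.pCore q (↥K ⧸ O) : Set (↥K ⧸ O)) := by
    rw [← hQimg, le_centralizer_iff]
    suffices Q.subgroupOf K ≤ (centralizer (((U.subgroupOf K).map φ : Subgroup _) : Set (↥K ⧸ O))).comap φ
      from map_le_iff_le_comap.2 this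
    intro x hx
    have hxQ : (x : G) ∈ (⨆ B : {B : Subgroup G // B ≤ A ∧ B.relIndex A = p},
      Q ⊓ centralizer ((B : Subgroup G) : Set G)) := hgen ▸ hx
    have hle : (⨆ B : {B : Subgroup G // B ≤ A ∧ B.relIndex A = p},
        Q ⊓ centralizer ((B : Subgroup G) : Set G)) ≤
        ((centralizer (((U.subgroupOf K).map φ : Subgroup _) : Set (↥K ⧸ O))).comap φ).map K.subtype := by
      refine iSup_le fun B y hy => ?_
      have hyQ : y ∈ Q := hy.1
      refine ⟨⟨y, hQK hyQ⟩, ?_, rfl⟩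
      rw [SetLike.mem_coe, mem_comap, mem_centralizer_iff]
      rintro _ ⟨u, hu, rfl⟩
      rw [← commutatorElement_eq_one_iff_mul_comm, ← map_commutatorElement]
      set c : ↥K := ⁅u, ⟨y, hQK hyQ⟩⁆
      have hc1 : (c : G) ∈ ⁅U, K ⊓ centralizer ((B : Subgroup G) : Set G)⁆ :=
        commutator_mem_commutator hu ⟨hQK hyQ, hy.2⟩
      have hyV : φ ⟨y, hQK hyQ⟩ ∈ Cfsg.pCore q (↥K ⧸ O) := hQimg ▸ mem_map_of_mem φ hyQ
      have hcV : φ c ∈ Cfsg.pCore q (↥K ⧸ O) := by
        rw [map_commutatorElement, commutatorElement_def]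
        exact mul_mem ((Cfsg.pCore_normal q _).conj_mem _ hyV _) (inv_mem hyV)
      obtain ⟨k, hk⟩ := hQq ⟨φ c, hcV⟩
      have hcop : (orderOf (φ c)).Coprime q := by
        refine Nat.Coprime.coprime_dvd_left ((orderOf_map_dvd φ c).trans ?_)
          (hq.out.coprime_iff_not_dvd.2 (hcomm B B.2.1 B.2.2)).symm
        have hd := orderOf_dvd_natCard (⟨(c : G), hc1⟩ : ↥⁅U, K ⊓ centralizer ((B : Subgroup G) : Set G)⁆)
        rwa [← orderOf_coe, orderOf_coe c] at hd
      exact orderOf_eq_one_iff.1 (Nat.eq_one_of_dvd_coprimes (hcop.symm.pow_left k)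
        (orderOf_dvd_of_pow_eq_one (congrArg Subtype.val hk)) dvd_rfl)
    obtain ⟨z, hz, hze⟩ := hle hxQ
    exact K.subtype_injective hze ▸ hz
  have hcle := CfsgLib.Solvable.centralizer_pCore_le (G := ↥K ⧸ O) q
    (CfsgLib.Solvable.pPrimeCore_quotient_eq_bot q)
  have hUbot : (U.subgroupOf K).map φ = ⊥ := by
    have hp1 : IsPGroup q ↥((U.subgroupOf K).map φ) := hQq.to_le (hUc.trans hcle)
    obtain ⟨n, hn⟩ := IsPGroup.iff_card.1 hp1
    have hd : Nat.card ↥((U.subgroupOf K).map φ) ∣ Nat.card U := by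
      refine (card_map_dvd _ _).trans ?_
      rw [Nat.card_congr (subgroupOfEquivOfLe hU).toEquiv]
    refine card_eq_one.1 ?_
    rw [hn] at hd ⊢
    rcases n with _ | n
    · simp
    · exact absurd ((dvd_pow_self q n.succ_ne_zero).trans hd) hUq
  rw [Subgroup.map_eq_bot_iff, QuotientGroup.ker_mk'] at hUbot
  rw [← map_subgroupOf_eq_of_le hU]
  exact map_mono hUbot

end CfsgLib.Comp
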