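import Cfsg.Prelude.Def_Balance
import Cfsg.Prelude.Def_Transfer
import Cfsg.Prelude.Def_CaseTheorems
import Cfsg.Agent.Lib.Transfer.UniqueOrderP
import Cfsg.Agent.Lib.Invol.FourGroup

/-!
Elementary abelian subgroups of `p`-groups and their commuting graphs.
-/

set_option autoImplicit false
set_option linter.style.haveILetI false
set_option linter.unusedSectionVars false

namespace CfsgLib.Comp

open Subgroup

variable {G : Type*} [Group G]

theorem commute_of_elementary {p : ℕ} {A : Subgroup G} (hA : Cfsg.IsElementaryAbelian p A)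
    {a b : G} (ha : a ∈ A) (hb : b ∈ A) : a * b = b * a :=
  congrArg Subtype.val (hA.1.is_comm.comm (⟨a, ha⟩ : A) ⟨b, hb⟩)

theorem le_centralizer_of_commute {A B : Subgroup G} (h : ∀ a ∈ A, ∀ b ∈ B, a * b = b * a) :
    A ≤ centralizer (B : Set G) := fun a ha =>
  mem_centralizer_iff.2 fun b hb => (h a ha b hb).symm

/-- Two commuting elementary abelian subgroups generate an elementary abelian subgroup. -/
theorem isElementaryAbelian_sup {p : ℕ} {A B : Subgroup G} (hA : Cfsg.IsElementaryAbelian p A)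
    (hB : Cfsg.IsElementaryAbelian p B) (h : ∀ a ∈ A, ∀ b ∈ B, a * b = b * a) :
    Cfsg.IsElementaryAbelian p (A ⊔ B : Subgroup G) := by
  have hdec : ∀ x ∈ A ⊔ B, ∃ a ∈ A, ∃ b ∈ B, a * b = x := by
    intro x hx
    let S : Subgroup G :=
      { carrier := {x | ∃ a ∈ A, ∃ b ∈ B, a * b = x}
        one_mem' := ⟨1, one_mem _, 1, one_mem _, mul_one 1⟩
        mul_mem' := by
          rintro _ _ ⟨a, ha, b, hb, rfl⟩ ⟨c, hc, d, hd, rfl⟩
          refine ⟨a * c, mul_mem ha hc, b * d, mul_mem hb hd, ?_⟩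
          calc a * c * (b * d) = a * (c * b) * d := by simp only [mul_assoc]
            _ = a * (b * c) * d := by rw [h c hc b hb]
            _ = a * b * (c * d) := by simp only [mul_assoc]
        inv_mem' := by
          rintro _ ⟨a, ha, b, hb, rfl⟩
          exact ⟨a⁻¹, inv_mem ha, b⁻¹, inv_mem hb, by rw [mul_inv_rev, h _ (inv_mem ha) _ (inv_mem hb)]⟩ }
    have hle : A ⊔ B ≤ S := sup_le (fun a ha => ⟨a, ha, 1, one_mem _, mul_one a⟩)
      (fun b hb => ⟨1, one_mem _, b, hb, one_mul b⟩)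
    exact hle hx
  refine ⟨⟨⟨fun x y => Subtype.ext ?_⟩⟩, fun x hx => ?_⟩
  · obtain ⟨a, ha, b, hb, hab⟩ := hdec x.1 x.2
    obtain ⟨c, hc, d, hd, hcd⟩ := hdec y.1 y.2
    show x.1 * y.1 = y.1 * x.1
    rw [← hab, ← hcd]
    calc a * b * (c * d) = a * (b * c) * d := by simp only [mul_assoc]
      _ = (a * c) * (b * d) := by rw [← h c hc b hb]; simp only [mul_assoc]
      _ = (c * a) * (d * b) := by
          rw [commute_of_elementary hA ha hc, commute_of_elementary hB hb hd]
      _ = c * (a * d) * b := by simp only [mul_assoc]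
      _ = c * d * (a * b) := by rw [h a ha d hd]; simp only [mul_assoc]
  · obtain ⟨a, ha, b, hb, rfl⟩ := hdec x hx
    have hc : Commute a b := h a ha b hb
    rw [hc.mul_pow, hA.2 a ha, hB.2 b hb, one_mul]

theorem isElementaryAbelian_of_le {p : ℕ} {A B : Subgroup G} (hB : Cfsg.IsElementaryAbelian p B)
    (h : A ≤ B) : Cfsg.IsElementaryAbelian p A :=
  ⟨⟨⟨fun a b => Subtype.ext (commute_of_elementary hB (h a.2) (h b.2))⟩⟩, fun a ha => hB.2 a (h ha)⟩

theorem not_pRankLE_of_le {p k : ℕ} {H A : Subgroup G} (hA : Cfsg.IsElementaryAbelian p A)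
    (hle : A ≤ H) (hc : p ^ k < Nat.card A) : ¬ Cfsg.PRankLE p k H := by
  intro h
  have h1 := h (A.subgroupOf H)
    ⟨⟨fun a b => Subtype.ext (Subtype.ext (commute_of_elementary hA a.2 b.2))⟩⟩
    (fun a ha => Subtype.ext (by simpa using hA.2 a ha))
  rw [Nat.card_congr (subgroupOfEquivOfLe hle).toEquiv] at h1
  omega

theorem exists_of_not_pRankLE {p k : ℕ} {H : Subgroup G} (h : ¬ Cfsg.PRankLE p k H) :
    ∃ A : Subgroup G, A ≤ H ∧ Cfsg.IsElementaryAbelian p A ∧ p ^ k < Nat.card A := by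
  simp only [Cfsg.PRankLE, not_forall, not_le] at h
  obtain ⟨A, hAc, hAe, hA⟩ := h
  refine ⟨A.map H.subtype, map_subtype_le A, ⟨⟨⟨?_⟩⟩, ?_⟩, ?_⟩
  · rintro ⟨_, a, ha, rfl⟩ ⟨_, b, hb, rfl⟩
    refine Subtype.ext ?_
    exact congrArg (fun x : A => ((x : H) : G)) (hAc.is_comm.comm (⟨a, ha⟩ : A) ⟨b, hb⟩)
  · rintro _ ⟨a, ha, rfl⟩
    simpa using congrArg Subtype.val (hAe a ha)
  · rwa [card_map_of_injective H.subtype_injective]

variable [Finite G] {p : ℕ} [Fact p.Prime]

theorem pow_le_card_of_lt (hG : IsPGroup p G) {k : ℕ} {A : Subgroup G} (h : p ^ k < Nat.card A) :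
    p ^ (k + 1) ≤ Nat.card A := by
  obtain ⟨j, hj⟩ := (hG.to_subgroup A).exists_card_eq
  rw [hj] at h ⊢
  exact Nat.pow_le_pow_right (Fact.out : p.Prime).pos
    ((Nat.pow_lt_pow_iff_right (Fact.out : p.Prime).one_lt).1 h)

/-- A normal subgroup of order `p ^ 2` is centralized by a subgroup of index at most `p` in any
subgroup. -/
theorem card_le_mul_card_inf_centralizer (hG : IsPGroup p G) {U : Subgroup G} [U.Normal]
    (hU : Nat.card U = p ^ 2) (A : Subgroup G) :
    Nat.card A ≤ p * Nat.card (A ⊓ centralizer (U : Set G) : Subgroup G) := by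
  have hi : (centralizer (U : Set G)).index ≤ p := by
    simpa using CfsgLib.Transfer.index_centralizer_le_of_normal hG 2 U hU
  have hr : (centralizer (U : Set G)).relIndex A ≤ p :=
    le_trans (Nat.le_of_dvd (Nat.pos_of_ne_zero index_ne_zero_of_finite)
      (relIndex_dvd_index_of_normal _ A)) hi
  have hcard : Nat.card (A ⊓ centralizer (U : Set G) : Subgroup G) *
      (centralizer (U : Set G)).relIndex A = Nat.card A := by
    rw [← inf_relIndex_left, ← relIndex_bot_left, ← relIndex_bot_left]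
    exact relIndex_mul_relIndex _ _ _ bot_le inf_le_left
  calc Nat.card A = _ := hcard.symm
    _ ≤ Nat.card (A ⊓ centralizer (U : Set G) : Subgroup G) * p := Nat.mul_le_mul_left _ hr
    _ = _ := mul_comm _ _

/-- A `p`-group of rank at least three has a normal elementary abelian subgroup of order `p ^ 2`. -/
theorem exists_normal_elementary_sq_of_rank (hG : IsPGroup p G) (h : ¬ Cfsg.PRankLE p 2 G) :
    ∃ U : Subgroup G, U.Normal ∧ Cfsg.IsElementaryAbelian p U ∧ Nat.card U = p ^ 2 := by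
  simp only [Cfsg.PRankLE, not_forall, not_le] at h
  obtain ⟨E, hEc, hEe, hE⟩ := h
  rcases eq_or_ne p 2 with rfl | hp
  · have h8 : 8 ≤ Nat.card E := pow_le_card_of_lt hG hE
    obtain ⟨U, hUn, hU4, hUc, hUe⟩ := CfsgLib.Invol.exists_normal_four hG
      (fun a ha b hb => congrArg Subtype.val (hEc.is_comm.comm (⟨a, ha⟩ : E) ⟨b, hb⟩))
      (fun a ha => by rw [← pow_two]; exact hEe a ha) h8
    exact ⟨U, hUn, ⟨hUc, fun a ha => by rw [pow_two]; exact hUe a ha⟩, by rw [hU4]; norm_num⟩
  · have hnc : ¬ IsCyclic G := by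
      intro hc
      haveI : IsCyclic E := Subgroup.isCyclic E
      obtain ⟨g, hg⟩ := IsCyclic.exists_generator (α := E)
      have h1 : Nat.card E ≤ p := by
        rw [← orderOf_eq_card_of_forall_mem_zpowers hg, ← Subgroup.orderOf_coe]
        exact orderOf_le_of_pow_eq_one (Fact.out : p.Prime).pos (hEe g g.2)
      have := (Fact.out : p.Prime).two_le
      nlinarith
    obtain ⟨U, hn, hc, he, hU⟩ := CfsgLib.Transfer.exists_normal_elementary_sq hp hG hnc
    exact ⟨U, hn, ⟨hc, he⟩, hU⟩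

/-- The rank-two commuting relation on elementary abelian subgroups. -/
abbrev CommStep (p : ℕ) {G : Type*} [Group G] (A B : Subgroup G) : Prop :=
  Cfsg.IsElementaryAbelian p A ∧ p ^ 2 ≤ Nat.card ↥A ∧ Cfsg.IsElementaryAbelian p B ∧
    p ^ 2 ≤ Nat.card ↥B ∧ ∀ a ∈ A, ∀ b ∈ B, a * b = b * a

theorem commStep_symm {A B : Subgroup G} (h : CommStep p A B) : CommStep p B A :=
  ⟨h.2.2.1, h.2.2.2.1, h.1, h.2.1, fun b hb a ha => (h.2.2.2.2 a ha b hb).symm⟩

theorem commChain_symm {A B : Subgroup G} (h : Relation.ReflTransGen (CommStep p) A B) :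
    Relation.ReflTransGen (CommStep p) B A := by
  induction h with
  | refl => exact .refl
  | tail _ hbc ih => exact .head (commStep_symm hbc) ih

theorem commChain_of_le {A B : Subgroup G} (hB : Cfsg.IsElementaryAbelian p B) (hle : A ≤ B)
    (hA : p ^ 2 ≤ Nat.card A) : Relation.ReflTransGen (CommStep p) A B :=
  .single ⟨isElementaryAbelian_of_le hB hle, hA, hB, hA.trans (card_le_of_le hle),
    fun _ ha _ hb => commute_of_elementary hB (hle ha) hb⟩

end CfsgLib.Comp
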