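import Cfsg.Agent.Lib.Comp.SystemTransport
import Cfsg.Agent.Lib.Fusion.ResidualSystem
import Cfsg.Prelude.Def_FusionReduction

/-!
Residual limits are determined by the system, and are not changed by passing to a normal subsystem
of `p`-power index.
-/

set_option autoImplicit false
set_option linter.unusedVariables false
set_option linter.unusedSectionVars false
set_option linter.style.haveILetI false

namespace CfsgLib.Comp.Fus

open Cfsg Cfsg.FusionSystem Subgroup CfsgLib.Fusion

universe u

variable {Ω : Type u} [Group Ω] {S T U V : Subgroup Ω} {F : FusionSystem S} {E : FusionSystem T}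
  {p : ℕ}

/-- Two systems, possibly over two names of the same subgroup, with equal maps. -/
def SameMaps (E : FusionSystem T) (F : FusionSystem S) : Prop := ∀ P, E.Hom P = F.Hom P

theorem SameMaps.symm (h : SameMaps E F) : SameMaps F E := fun P => (h P).symm

theorem SameMaps.base_eq (h : SameMaps E F) : T = S := by
  have h1 : ∀ {A B : Subgroup Ω} {X : FusionSystem A} {Y : FusionSystem B},
      SameMaps X Y → A ≤ B := fun {A B X Y} hXY =>
    le_of_isSubsystemOf (E := X) (F := Y) fun P => (hXY P).le
  exact le_antisymm (h1 h) (h1 h.symm)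

theorem SameMaps.eq {G : FusionSystem S} (h : SameMaps F G) : F = G :=
  fusionSystem_ext fun P f => by unfold IsMap; rw [h P]

theorem le_antisymm_sys {G : FusionSystem S} (h : F ≤ G) (h' : G ≤ F) : F = G :=
  SameMaps.eq fun P => Set.Subset.antisymm (h P) (h' P)

section Residual

variable [Fact p.Prime] [Finite S]

/-- A saturated subsystem of `p`-power index is determined by its subgroup. -/
theorem pPowerIndex_unique (hS : IsPGroup p S) (hTS : T ≤ S) {D : FusionSystem T}
    (hE : E.IsSaturated p) (hD : D.IsSaturated p) (hEi : E.HasPPowerIndexIn F p)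
    (hDi : D.HasPPowerIndexIn F p) : E = D := by
  haveI := finite_of_le hTS
  have key : ∀ {A B : FusionSystem T}, A.IsSaturated p → A.HasPPowerIndexIn F p →
      B.HasPPowerIndexIn F p → A ≤ B := by
    intro A B hA hAi hBi
    refine le_of_coprime_aut (hS.to_le hTS) hA fun P hP α hα hc => ?_
    have hαF : α ∈ F.autGroup P := (autGroup_mem_iff (hP.trans hTS)).2
      (hAi.1 P ((autGroup_mem_iff hP).1 hα))
    exact hBi.2.2 P hP ⟨⟨α, hαF⟩,
      CfsgLib.Transfer.mem_pResidual_of_coprime (by rwa [Subgroup.orderOf_mk]), rfl⟩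
  exact le_antisymm_sys (key hE hEi hDi) (key hD hDi hEi)

theorem pPrimeResidual_unique {A B : FusionSystem S} (hA : F.IsPPrimeResidual p A)
    (hB : F.IsPPrimeResidual p B) : A = B :=
  le_antisymm_sys (hA.2.2 B hB.1 hB.2.1) (hB.2.2 A hA.1 hA.2.1)

theorem coprime_mem_autGroup (hEi : E.HasPPowerIndexIn F p) {P : Subgroup Ω} (hP : P ≤ T)
    {α : MulAut P} (hα : α ∈ F.autGroup P) (hc : (orderOf α).Coprime p) : α ∈ E.autGroup P :=
  hEi.2.2 P hP ⟨⟨α, hα⟩,
    CfsgLib.Transfer.mem_pResidual_of_coprime (by rwa [Subgroup.orderOf_mk]), rfl⟩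

/-- A saturated subsystem of `p`-power index over a strongly closed subgroup has the same
hyperfocal subgroup. -/
theorem hyperfocal_eq_of_pPowerIndex (hS : IsPGroup p S) (hT : F.StronglyClosed T)
    (hEi : E.HasPPowerIndexIn F p) : E.hyperfocalSubgroup p = F.hyperfocalSubgroup p := by
  have hTS := hT.1
  refine le_antisymm (hyperfocal_le_of _ fun P hP α hα hc x =>
    sub_mem_hyperfocal_of_coprime (hP.trans hTS) ((autGroup_mem_iff (hP.trans hTS)).2
      (hEi.1 P ((autGroup_mem_iff hP).1 hα))) hc x) (hyperfocal_le_of _ fun P hP α hα hc x => ?_)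
  haveI := finite_of_le hTS
  haveI := finite_of_le hP
  set H := E.hyperfocalSubgroup p with hH
  set f := toFun (P.subtype.comp α.toMonoidHom) with hfdef
  have hm : IsMap F P f := isMap_of_autGroup hP hα
  have hfP : ∀ y ∈ P, f y ∈ P := fun y hy => by
    rw [hfdef, toFun_aut_apply _ hy]; exact Subtype.mem _
  set P₀ := P ⊓ T
  have hf₀ : IsMap F P₀ f := hm.mono inf_le_left
  haveI : Finite P₀ := finite_of_le (inf_le_left.trans hP)
  have hi : img P₀ f = P₀ := eq_of_le_of_card_le (fun y hy => by
    obtain ⟨z, hz, rfl⟩ := hf₀.mem_img.1 hy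
    exact ⟨hfP z hz.1, StronglyClosed.apply_mem hT hf₀ hz hz.2⟩) hf₀.card_img.ge
  set α₀ := hf₀.toAut hi with hα₀def
  have hc₀ : (orderOf α₀).Coprime p := by
    refine hc.coprime_dvd_left (orderOf_dvd_of_pow_eq_one ?_)
    have hpow : ∀ (i : ℕ) (z : P₀), (((α₀ ^ i) z : P₀) : Ω) =
        (((α ^ i) ⟨z, z.2.1⟩ : P) : Ω) := by
      intro i z
      induction i with
      | zero => simp
      | succ i ih =>
        rw [pow_succ', MulAut.mul_apply, hα₀def, IsMap.toAut_apply, ← hα₀def, hfdef, ih,
          toFun_aut_apply _ (Subtype.mem _), pow_succ', MulAut.mul_apply]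
    refine MulEquiv.ext fun z => Subtype.ext ?_
    rw [hpow, pow_orderOf_eq_one]
    rfl
  have hsub : ∀ z ∈ P₀, z⁻¹ * f z ∈ H := fun z hz => by
    have h1 := sub_mem_hyperfocal_of_coprime (F := E) (inf_le_right : P₀ ≤ T)
      (coprime_mem_autGroup hEi inf_le_right (hf₀.toAut_mem hi) hc₀) hc₀ ⟨z, hz⟩
    rwa [IsMap.toAut_apply] at h1
  set c := (x : Ω)⁻¹ * f x with hcdef
  have hcP : c ∈ P := P.mul_mem (P.inv_mem x.2) (hfP x x.2)
  have hcT : c ∈ T := by
    refine hEi.2.1 ?_
    rw [hcdef, hfdef, toFun_aut_apply _ x.2]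
    exact sub_mem_hyperfocal_of_coprime hP hα hc x
  have hconj : ∀ a ∈ T, ∀ y ∈ H, a * y * a⁻¹ ∈ H := fun a ha y hy => conj_mem_hyperfocal ha hy
  have hrec : ∀ i : ℕ, ∃ h ∈ H, (((α ^ i) x : P) : Ω) = x * c ^ i * h := by
    intro i
    induction i with
    | zero => exact ⟨1, H.one_mem, by simp⟩
    | succ i ih =>
      obtain ⟨h, hh, hi'⟩ := ih
      set d := (c ^ i * h) with hd
      have hdP : d ∈ P := by
        have e : d = (x : Ω)⁻¹ * (((α ^ i) x : P) : Ω) := by rw [hi', hd]; group
        exact e ▸ P.mul_mem (P.inv_mem x.2) (Subtype.mem _)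
      have hdT : d ∈ T := T.mul_mem (T.pow_mem hcT i) (hyperfocal_le E p hh)
      have hfd : d⁻¹ * f d ∈ H := hsub d ⟨hdP, hdT⟩
      refine ⟨h * (d⁻¹ * f d), H.mul_mem hh hfd, ?_⟩
      rw [pow_succ', MulAut.mul_apply, ← toFun_aut_apply α (Subtype.mem _), ← hfdef, hi',
        mul_assoc, ← hd, hm.map_mul x.2 hdP, show f x = x * c by rw [hcdef, mul_inv_cancel_left],
        show (x : Ω) * c ^ (i + 1) * (h * (d⁻¹ * f d)) = x * (c * (d * (d⁻¹ * f d))) by
          rw [hd, pow_succ']; group]
      group
  obtain ⟨h, hh, he⟩ := hrec (orderOf α)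
  rw [pow_orderOf_eq_one, MulAut.one_apply, mul_assoc, left_eq_mul] at he
  have hcn : c ^ orderOf α ∈ H := by rw [eq_inv_of_mul_eq_one_left he]; exact H.inv_mem hh
  obtain ⟨b, hb⟩ := IsPGroup.iff_orderOf.1 (hS.to_le hTS) ⟨c, hcT⟩
  rw [Subgroup.orderOf_mk] at hb
  obtain ⟨r, hr⟩ := exists_pow_eq_self_of_coprime (n := orderOf α) (x := c)
    (hb ▸ hc.pow_right b)
  have : c ∈ H := hr ▸ H.pow_mem hcn r
  rwa [hcdef, hfdef, toFun_aut_apply _ x.2] at this

/-- A system equal to its hyperfocal subgroup is its only `p`-residual. -/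
theorem pResidual_self (hS : IsPGroup p S) (hF : F.IsSaturated p)
    (h : F.hyperfocalSubgroup p = S) {D : FusionSystem (F.hyperfocalSubgroup p)}
    (hD : F.IsPResidual p D) : SameMaps D F := by
  have hFi : (castSys h.symm F).HasPPowerIndexIn F p := by
    refine ⟨fun P => ?_, le_rfl, fun P hP => ?_⟩
    · rw [castSys_hom]
    · refine (Subgroup.map_subtype_le _).trans fun α hα => (autGroup_mem_iff hP).2 ?_
      rw [castSys_hom]
      exact (autGroup_mem_iff (hP.trans h.le)).1 hα
  haveI := finite_of_le (le_of_eq h : F.hyperfocalSubgroup p ≤ S)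
  have hsat : (castSys h.symm F).IsSaturated p := by
    have : ∀ {A : Subgroup Ω} (e : S = A), (castSys e F).IsSaturated p := by
      rintro _ rfl
      exact hF
    exact this h.symm
  intro P
  rw [pPowerIndex_unique hS h.le hD.1 hsat hD.2 hFi, castSys_hom]

end Residual

variable [Fact p.Prime]

/-- Every residual limit of a stable system is that system. -/
theorem limit_of_stable {G : FusionSystem S} [Finite S] (hS : IsPGroup p S)
    (hh : G.hyperfocalSubgroup p = S) (hr : G.IsPPrimeResidual p G)
    {E : FusionSystem T} (hE : E.IsResidualLimitOf G p) : SameMaps E G := by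
  suffices key : ∀ {T S : Subgroup Ω} {E : FusionSystem T} {G : FusionSystem S} {p : ℕ},
      E.IsResidualLimitOf G p → Fact p.Prime → Finite S → IsPGroup p S →
      G.hyperfocalSubgroup p = S → G.IsPPrimeResidual p G → SameMaps E G from
    key hE inferInstance inferInstance hS hh hr
  clear hE hS hh hr
  intro T S E G p h
  induction h with
  | stable => exact fun _ _ _ _ _ _ => rfl
  | @step S E G p D D' hD hD' hlim ih =>
    intro hp hfin hS hh hr
    have hDG := pResidual_self hS hr.1 hh hD
    have key : ∀ {A : Subgroup Ω} (_ : A = S) (D D' : FusionSystem A), SameMaps D G →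
        D.IsPPrimeResidual p D' →
        (Fact p.Prime → Finite A → IsPGroup p A → D'.hyperfocalSubgroup p = A →
          D'.IsPPrimeResidual p D' → SameMaps E D') → SameMaps E G := by
      rintro _ rfl D₁ D₁' hDG₁ hD₁' ih₁
      obtain rfl := hDG₁.eq
      obtain rfl := pPrimeResidual_unique hD₁' hr
      exact ih₁ hp hfin hS hh hr
    exact key hh D D' hDG hD' ih

/-- The residual limit is unique. -/
theorem limit_unique [Finite S] (hS : IsPGroup p S) {E : FusionSystem T}
    (hE : E.IsResidualLimitOf F p) {E₂ : FusionSystem U} (hE₂ : E₂.IsResidualLimitOf F p) :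
    SameMaps E E₂ := by
  suffices key : ∀ {T S : Subgroup Ω} {E : FusionSystem T} {G : FusionSystem S} {p : ℕ},
      E.IsResidualLimitOf G p → Fact p.Prime → Finite S → IsPGroup p S →
      ∀ {U : Subgroup Ω} (E₂ : FusionSystem U), E₂.IsResidualLimitOf G p → SameMaps E E₂ from
    key hE inferInstance inferInstance hS E₂ hE₂
  clear hE hS hE₂
  intro T S E G p h
  induction h with
  | stable G p h1 h2 => exact fun _ _ hS U E₂ h3 => (limit_of_stable hS h1 h2 h3).symm
  | @step S E G p D D' hD hD' hlim ih =>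
    intro hp hfin hS U E₂ h3
    cases h3 with
    | stable _ _ h1 h2 => exact limit_of_stable hS h1 h2 (hlim.step _ _ _ _ hD hD')
    | step _ _ D₂ D₂' hD₂ hD₂' hlim₂ =>
      have hle := hyperfocal_le G p
      haveI := finite_of_le hle
      obtain rfl := pPowerIndex_unique hS hle hD.1 hD₂.1 hD.2 hD₂.2
      obtain rfl := pPrimeResidual_unique hD' hD₂'
      exact ih hp inferInstance (hS.to_le hle) E₂ hlim₂

theorem limit_congr (h : SameMaps E F) (hE : ∀ {W : Subgroup Ω} (X : FusionSystem W),
      X.IsResidualLimitOf F p → SameMaps X F) {X : FusionSystem U}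
    (hX : X.IsResidualLimitOf E p) : SameMaps X E := by
  obtain rfl := h.base_eq
  obtain rfl := h.eq
  exact hE X hX

/-- A normal subsystem of `p`-power index has the same residual limit. -/
theorem limit_eq_of_pPowerIndex [Finite S] (hS : IsPGroup p S) (hF : F.IsSaturated p)
    (hE : E.IsNormalIn F p) (hi : E.HasPPowerIndexIn F p) {Finf : FusionSystem U}
    (hFinf : Finf.IsResidualLimitOf F p) {Einf : FusionSystem V}
    (hEinf : Einf.IsResidualLimitOf E p) : SameMaps Finf Einf := by
  have hT : F.StronglyClosed T := hE.1.2.2.2.1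
  haveI := finite_of_le hT.1
  have hTp : IsPGroup p T := hS.to_le hT.1
  have hh := hyperfocal_eq_of_pPowerIndex hS hT hi
  have hEsat : E.IsSaturated p := hE.1.1
  cases hFinf with
  | stable _ _ h1 h2 =>
    have hTS : T = S := le_antisymm hT.1 (h1.ge.trans hi.2.1)
    subst hTS
    have hFi : F.HasPPowerIndexIn F p :=
      ⟨fun P => subset_rfl, hyperfocal_le F p, fun P hP => Subgroup.map_subtype_le _⟩
    obtain rfl := pPowerIndex_unique hS le_rfl hEsat hF hi hFi
    exact limit_unique hS (IsResidualLimitOf.stable _ _ h1 h2) hEinf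
  | step _ _ DF DF' hDF hDF' hlim =>
    cases hEinf with
    | stable _ _ h1 h2 =>
      have e : T = F.hyperfocalSubgroup p := h1.symm.trans hh
      have hcast : ∀ {A : Subgroup Ω} (h : T = A) (D D' : FusionSystem A),
          D.IsSaturated p → D.HasPPowerIndexIn F p → D.IsPPrimeResidual p D' →
          Finf.IsResidualLimitOf D' p → SameMaps Finf E := by
        rintro _ rfl D D' hD hDi hD' hl
        obtain rfl := pPowerIndex_unique hS hT.1 hD hEsat hDi hi
        obtain rfl := pPrimeResidual_unique hD' h2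
        exact limit_of_stable hTp h1 h2 hl
      exact hcast e DF DF' hDF.1 hDF.2 hDF' hlim
    | step _ _ DE DE' hDE hDE' hlimE =>
      have hDEi : DE.HasPPowerIndexIn F p := by
        refine ⟨fun P φ hφ => hi.1 P (hDE.2.1 P hφ), hh ▸ le_rfl, fun P hP => ?_⟩
        refine Subgroup.map_le_iff_le_comap.2 ((Subgroup.closure_le _).2 fun α hα => ?_)
        have hc : (orderOf (α : MulAut P)).Coprime p := by rwa [Subgroup.orderOf_coe]
        exact coprime_mem_autGroup hDE.2 hP
          (coprime_mem_autGroup hi (hP.trans (hyperfocal_le E p)) α.2 hc) hc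
      have hfinal : ∀ {A : Subgroup Ω} (h : F.hyperfocalSubgroup p = A) (D D' : FusionSystem A),
          D.IsSaturated p → D.HasPPowerIndexIn F p → D.IsPPrimeResidual p D' →
          Einf.IsResidualLimitOf D' p → SameMaps Finf Einf := by
        rintro _ rfl D D' hD hDi hD' hl
        have hle := hyperfocal_le F p
        haveI := finite_of_le hle
        obtain rfl := pPowerIndex_unique hS hle hD hDF.1 hDi hDF.2
        obtain rfl := pPrimeResidual_unique hD' hDF'
        exact limit_unique (hS.to_le hle) hlim hl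
      exact hfinal hh.symm DE DE' hDE.1 hDEi hDE' hlimE

end CfsgLib.Comp.Fus
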