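import Cfsg.Agent.Lib.Comp.Signalizer

/-!
A balanced family with solvable closure is complete: if the subgroups `N i ≤ C(D i)` of a solvable
`p'`-group are `A`-invariant, `N i ∩ C(D j) ≤ N j`, and any two hyperplanes of `A` contain a
common `D i`, then the group generated by all the `N i` meets `C(D i)` in `N i`.
-/

set_option autoImplicit false
set_option linter.style.haveILetI false
set_option linter.unusedSectionVars false

namespace CfsgLib.Comp

open Subgroup
open scoped commutatorElement

variable {G : Type*} [Group G] [Finite G] {p : ℕ} [hp : Fact p.Prime]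

theorem mem_of_commutator_fixed {X D Y : Subgroup G} [Y.Normal] (hYX : Y ≤ X)
    (hab : ⁅X, X⁆ ≤ Y) (hD : D ≤ normalizer (X : Set G))
    (hcop : (Nat.card D).Coprime (Nat.card X))
    {z : G} (hz : z ∈ ⁅X, D⁆ ⊔ Y) (hc : z ∈ centralizer (D : Set G)) : z ∈ Y := by
  let f := QuotientGroup.mk' Y
  have hV : IsMulCommutative (X.map f) := by
    refine ⟨⟨?_⟩⟩
    rintro ⟨_, a, ha, rfl⟩ ⟨_, b, hb, rfl⟩
    refine Subtype.ext ?_
    show f a * f b = f b * f a
    rw [← commutatorElement_eq_one_iff_mul_comm, ← map_commutatorElement]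
    exact (QuotientGroup.eq_one_iff _).2 (hab (commutator_mem_commutator ha hb))
  have h1 : f z ∈ ⁅X.map f, D.map f⁆ ⊓ centralizer ((D.map f : Subgroup _) : Set (G ⧸ Y)) := by
    refine Subgroup.mem_inf.2 ⟨?_, ?_⟩
    · have := mem_map_of_mem f hz
      rwa [Subgroup.map_sup, Subgroup.map_commutator, QuotientGroup.map_mk'_self, sup_bot_eq] at this
    · rw [mem_centralizer_iff]
      rintro _ ⟨d, hd, rfl⟩
      rw [← map_mul, ← map_mul, mem_centralizer_iff.1 hc d hd]
  rw [CfsgLib.Coprime.commutator_inf_centralizer_eq_bot hV ((map_mono hD).trans (le_normalizer_map f))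
    ((hcop.coprime_dvd_left (card_map_dvd D f)).coprime_dvd_right (card_map_dvd X f)), mem_bot] at h1
  exact (QuotientGroup.eq_one_iff z).1 h1

theorem eq_bot_of_perfect_of_isSolvable' {H : Subgroup G} (h : ⁅H, H⁆ = H) (hs : Group.IsSolvable H) :
    H = ⊥ := by
  haveI : Group.IsPerfect H := Subgroup.isPerfect_iff.2 h
  by_contra hne
  haveI := (nontrivial_iff_ne_bot H).2 hne
  exact Group.IsPerfect.not_isSolvable H hs

/-- Elements with commutator into a subgroup they normalize form a subgroup. -/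
theorem commutator_le_of_generators {Y : Subgroup G} {ι : Type*} (U : ι → Subgroup G)
    (hn : ∀ i, U i ≤ normalizer (Y : Set G)) (h : ∀ i j, ∀ x ∈ U i, ∀ y ∈ U j, ⁅x, y⁆ ∈ Y) :
    ⁅⨆ i, U i, ⨆ i, U i⁆ ≤ Y := by
  let S : G → Subgroup G := fun y =>
    { carrier := {g | g ∈ normalizer (Y : Set G) ∧ ⁅g, y⁆ ∈ Y}
      one_mem' := ⟨one_mem _, by rw [commutatorElement_one_left]; exact one_mem _⟩
      mul_mem' := by
        rintro a b ⟨ha, ha'⟩ ⟨hb, hb'⟩
        refine ⟨mul_mem ha hb, ?_⟩
        have e : ⁅a * b, y⁆ = a * ⁅b, y⁆ * a⁻¹ * ⁅a, y⁆ := by simp only [commutatorElement_def]; group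
        rw [e]
        exact mul_mem ((mem_normalizer_iff.1 ha _).1 hb') ha'
      inv_mem' := by
        rintro a ⟨ha, ha'⟩
        refine ⟨inv_mem ha, ?_⟩
        have e : ⁅a⁻¹, y⁆ = a⁻¹ * ⁅a, y⁆⁻¹ * a⁻¹⁻¹ := by simp only [commutatorElement_def]; group
        rw [e]
        exact (mem_normalizer_iff.1 (inv_mem ha) _).1 (inv_mem ha') }
  have h1 : ∀ j, ∀ y ∈ U j, (⨆ i, U i) ≤ S y :=
    fun j y hy => iSup_le fun i x hx => ⟨hn i hx, h i j x hx y hy⟩
  rw [commutator_le]
  intro a ha b hb
  have h2 : (⨆ i, U i) ≤ S a := iSup_le fun i x hx => ⟨hn i hx, by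
    rw [← commutatorElement_inv]; exact inv_mem (h1 i x hx ha).2⟩
  rw [← commutatorElement_inv]
  exact inv_mem (h2 hb).2

/-- The closure of a balanced family inside a solvable `p'`-group is complete. -/
theorem iSup_inf_centralizer_eq {A : Subgroup G} (hA : Cfsg.IsElementaryAbelian p A) (hAne : A ≠ ⊥)
    {ι : Type*} (D : ι → Subgroup G) (hD : ∀ i, D i ≤ A)
    (hcov : ∀ H H' : Subgroup G, H ≤ A → H.relIndex A = p → H' ≤ A → H'.relIndex A = p →
      ∃ i, D i ≤ H ⊓ H')
    (N : ι → Subgroup G) (hC : ∀ i, N i ≤ centralizer (D i : Set G))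
    (hinv : ∀ i, A ≤ normalizer (N i : Set G))
    (hbal : ∀ i j, N i ⊓ centralizer (D j : Set G) ≤ N j)
    (hsolv : Group.IsSolvable ↥(⨆ i, N i)) (hpp : ¬ p ∣ Nat.card ↥(⨆ i, N i)) (i₀ : ι) :
    (⨆ i, N i) ⊓ centralizer (D i₀ : Set G) = N i₀ := by
  induction hm : Nat.card ↥(⨆ i, N i) using Nat.strong_induction_on generalizing N i₀ with
  | _ m ih =>
    set X := ⨆ i, N i with hX
    refine le_antisymm ?_ (le_inf (le_iSup N i₀) (hC i₀))
    by_cases hbot : X = ⊥
    · rw [hbot]; exact inf_le_left.trans bot_le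
    set K := ⁅X, X⁆ with hKdef
    have hKX : K ≤ X := commutator_le_self X
    have hKlt : K < X := by
      refine lt_of_le_of_ne hKX fun e => hbot ?_
      exact eq_bot_of_perfect_of_isSolvable' e hsolv
    have hAX : A ≤ normalizer (X : Set G) := le_normalizer_iSup N hinv
    have hAK : A ≤ normalizer (K : Set G) := by
      intro a ha
      rw [← map_conj_eq_iff, hKdef, Subgroup.map_commutator, map_conj_eq_iff.2 (hAX ha)]
    set Y := ⨆ i, N i ⊓ K with hY
    have hYK : Y ≤ K := iSup_le fun i => inf_le_right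
    have hAY : A ≤ normalizer (Y : Set G) :=
      le_normalizer_iSup _ fun i => le_normalizer_inf (hinv i) hAK
    have hdvd : ∀ {U : Subgroup G}, U ≤ X → ¬ p ∣ Nat.card U :=
      fun hU h => hpp (h.trans (card_dvd_of_le hU))
    -- all `N i` are generated by their fixed points of hyperplanes
    have hgen : ∀ {U : Subgroup G}, U ≤ X → A ≤ normalizer (U : Set G) →
        U ≤ ⨆ B : {B : Subgroup G // B ≤ A ∧ B.relIndex A = p}, U ⊓ centralizer ((B : Subgroup G) : Set G) :=
      fun hU hn => (eq_iSup_centralizer_hyperplane hA hAne (hdvd hU) hn).le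
    -- two generators lie in a common `N i`
    have hcommon : ∀ i j : ι, ∀ H H' : {B : Subgroup G // B ≤ A ∧ B.relIndex A = p},
        ∃ c, N i ⊓ centralizer ((H : Subgroup G) : Set G) ≤ N c ∧
          N j ⊓ centralizer ((H' : Subgroup G) : Set G) ≤ N c := by
      intro i j H H'
      obtain ⟨c, hc⟩ := hcov H H' H.2.1 H.2.2 H'.2.1 H'.2.2
      exact ⟨c, le_trans (inf_le_inf_left _ (centralizer_le (hc.trans inf_le_left))) (hbal i c),
        le_trans (inf_le_inf_left _ (centralizer_le (hc.trans inf_le_right))) (hbal j c)⟩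
    let U : ι × {B : Subgroup G // B ≤ A ∧ B.relIndex A = p} → Subgroup G :=
      fun u => N u.1 ⊓ centralizer ((u.2 : Subgroup G) : Set G)
    have hUX : ∀ u, U u ≤ X := fun u => inf_le_left.trans (le_iSup N u.1)
    have hXU : X ≤ ⨆ u, U u := iSup_le fun i =>
      (hgen (le_iSup N i) (hinv i)).trans (iSup_le fun H => le_iSup U (i, H))
    have hXK : X ≤ normalizer (K : Set G) := by
      intro x hx
      rw [← map_conj_eq_iff, hKdef, Subgroup.map_commutator,
        map_conj_eq_iff.2 (le_normalizer hx)]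
    have hUY : ∀ u, U u ≤ normalizer (Y : Set G) := by
      intro u x hx
      have key : ∀ x ∈ U u, ∀ j, ∀ y ∈ N j ⊓ K, x * y * x⁻¹ ∈ Y := by
        intro x hx j y hy
        have hle : N j ⊓ K ≤ Y.comap (MulAut.conj x).toMonoidHom := by
          refine (hgen (inf_le_left.trans (le_iSup N j)) (le_normalizer_inf (hinv j) hAK)).trans
            (iSup_le fun H z hz => ?_)
          obtain ⟨c, hc1, hc2⟩ := hcommon u.1 j u.2 H
          show x * z * x⁻¹ ∈ Y
          refine le_iSup (fun i => N i ⊓ K) c (Subgroup.mem_inf.2 ⟨?_, ?_⟩)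
          · exact mul_mem (mul_mem (hc1 hx) (hc2 ⟨hz.1.1, hz.2⟩)) (inv_mem (hc1 hx))
          · exact (mem_normalizer_iff.1 (hXK (hUX u hx)) z).1 hz.1.2
        exact hle hy
      have hle : ∀ x ∈ U u, Y ≤ Y.comap (MulAut.conj x).toMonoidHom :=
        fun x hx => iSup_le fun j y hy => key x hx j y hy
      rw [mem_normalizer_iff]
      intro y
      refine ⟨fun hy => hle x hx hy, fun hy => ?_⟩
      have h1 : x⁻¹ * (x * y * x⁻¹) * x⁻¹⁻¹ ∈ Y := hle x⁻¹ (inv_mem hx) hy
      simpa [mul_assoc] using h1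
    have hKY : K ≤ Y := by
      refine le_trans (commutator_mono hXU hXU) (commutator_le_of_generators U hUY ?_)
      intro u v x hx y hy
      obtain ⟨c, hc1, hc2⟩ := hcommon u.1 v.1 u.2 v.2
      refine le_iSup (fun i => N i ⊓ K) c
        (Subgroup.mem_inf.2 ⟨?_, commutator_mem_commutator (hUX u hx) (hUX v hy)⟩)
      rw [commutatorElement_def]
      exact mul_mem (mul_mem (mul_mem (hc1 hx) (hc2 hy)) (inv_mem (hc1 hx))) (inv_mem (hc2 hy))
    have hYeq : Y = K := le_antisymm hYK hKY
    -- induction for the derived group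
    haveI := hsolv
    have hih : K ⊓ centralizer (D i₀ : Set G) ≤ N i₀ := by
      have h := ih _ (by rw [← hm]; exact (card_le_of_le hYK).trans_lt (lt_of_le_of_ne (card_le_of_le hKX)
          fun e => hKlt.ne (eq_of_le_of_card_ge hKX e.ge)))
        (fun i => N i ⊓ K) (fun i => inf_le_left.trans (hC i))
        (fun i => le_normalizer_inf (hinv i) hAK)
        (fun i j => le_inf (le_trans (inf_le_inf_right _ inf_le_left) (hbal i j))
          (inf_le_left.trans inf_le_right))
        (Group.isSolvable_of_isSolvable_injective (inclusion_injective (hYK.trans hKX)))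
        (hdvd (hYK.trans hKX)) i₀ rfl
      rw [← hYeq, hY, h]
      exact inf_le_left
    -- the abelian quotient
    have hcopD : ∀ {V : Subgroup G}, V ≤ X → (Nat.card (D i₀)).Coprime (Nat.card V) :=
      fun hV => coprime_card_elemAb (elemAb_mono hA (hD i₀)) (hdvd hV)
    have hDX : D i₀ ≤ normalizer (X : Set G) := (hD i₀).trans hAX
    set W := ⁅X, D i₀⁆ ⊔ K
    have hWX : W ≤ X := sup_le (commutator_le_of_le_normalizer hDX) hKX
    have hnorm : N i₀ ≤ normalizer (W : Set G) := by
      intro x hx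
      have hxX := le_iSup N i₀ hx
      rw [mem_normalizer_iff]
      intro w
      have hconj : ∀ g ∈ X, ∀ w ∈ W, g * w * g⁻¹ ∈ W := by
        intro g hg w hw
        have : ⁅g, w⁆ ∈ W := (le_sup_right : K ≤ W) (commutator_mem_commutator hg (hWX hw))
        have e : g * w * g⁻¹ = ⁅g, w⁆ * w := by rw [commutatorElement_def]; group
        rw [e]; exact mul_mem this hw
      refine ⟨hconj x hxX w, fun h => ?_⟩
      simpa [mul_assoc] using hconj x⁻¹ (inv_mem hxX) _ h
    have hdec : X ≤ W ⊔ N i₀ := by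
      refine iSup_le fun j => ?_
      rw [← CfsgLib.Coprime.commutator_sup_centralizer ((hD i₀).trans (hinv j))
        (hcopD (le_iSup N j)) (Or.inl (isSolvable_elemAb (elemAb_mono hA (hD i₀))))]
      exact sup_le_sup ((commutator_mono (le_iSup N j) le_rfl).trans le_sup_left) (hbal j i₀)
    intro x hx
    obtain ⟨w, hw, c, hc, rfl⟩ := exists_mul_of_mem_sup hnorm (hdec hx.1)
    have hwc : w ∈ centralizer (D i₀ : Set G) := by
      simpa using mul_mem (Subgroup.mem_inf.1 hx).2 (inv_mem (hC i₀ hc))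
    refine mul_mem (hih (Subgroup.mem_inf.2 ⟨?_, hwc⟩)) hc
    · -- `w` centralizes `D i₀`, so lies in `K`
      set M := normalizer (K : Set G) with hM
      have hDK : D i₀ ≤ M := (hD i₀).trans hAK
      have hXM : X ≤ M := hXK
      haveI : (K.subgroupOf M).Normal := normal_subgroupOf_of_le_normalizer le_rfl
      have hmapC : (⁅X.subgroupOf M, (D i₀).subgroupOf M⁆ ⊔ K.subgroupOf M).map M.subtype = W := by
        rw [Subgroup.map_sup, Subgroup.map_commutator, map_subgroupOf_eq_of_le hXM,
          map_subgroupOf_eq_of_le hDK, map_subgroupOf_eq_of_le (hKX.trans hXM)]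
      rw [← hmapC] at hw
      obtain ⟨⟨w', hw'M⟩, hw', rfl⟩ := hw
      refine mem_subgroupOf.1 (mem_of_commutator_fixed (X := X.subgroupOf M) (D := (D i₀).subgroupOf M)
        (Y := K.subgroupOf M) (comap_mono hKX) ?_ ?_ ?_ hw' ?_)
      · rw [← map_le_map_iff_of_injective M.subtype_injective, Subgroup.map_commutator,
          map_subgroupOf_eq_of_le hXM, map_subgroupOf_eq_of_le (hKX.trans hXM)]
      · intro d hd
        rw [mem_normalizer_iff]
        intro y
        exact mem_normalizer_iff.1 (hDX (mem_subgroupOf.1 hd)) (y : G)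
      · rw [Nat.card_congr (subgroupOfEquivOfLe hDK).toEquiv, Nat.card_congr (subgroupOfEquivOfLe hXM).toEquiv]
        exact hcopD le_rfl
      · rw [mem_centralizer_iff]
        intro d hd
        exact Subtype.ext (mem_centralizer_iff.1 hwc (d : G) (mem_subgroupOf.1 hd))

end CfsgLib.Comp
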