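import Cfsg.Agent.Lib.Comp.ModelSlice
import Cfsg.Agent.Lib.Fusion.ThompsonCenter

/-!
Fixed points of a slice of a local model on elements centralizing the Sylow part.
-/

set_option autoImplicit false
set_option linter.unusedVariables false
set_option linter.unusedSectionVars false
set_option linter.style.haveILetI false
set_option maxHeartbeats 800000

universe u

namespace CfsgLib.Comp.CExt

open Cfsg Cfsg.FusionSystem Subgroup CfsgLib.Fusion CfsgLib.Comp.Fus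

/-- The Thompson subgroup of `P₀ Z`, for `Z` cyclic centralizing `P₀`. -/
theorem thompson_sup_central {G : Type u} [Group G] [Finite G] {P₀ : Subgroup G} {z : G}
    (hz : z ∈ centralizer (P₀ : Set G)) :
    Cfsg.thompsonSubgroupAOf (P₀ ⊔ zpowers z) ⊓ P₀ = Cfsg.thompsonSubgroupAOf P₀ := by
  set Z := zpowers z
  set P₁ := P₀ ⊔ Z
  have hZc : Z ≤ centralizer (P₀ : Set G) := zpowers_le.2 hz
  have hZn : Z ≤ normalizer (P₀ : Set G) := hZc.trans (Subgroup.centralizer_le_normalizer _)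
  have hZ1 : Z ≤ centralizer (P₁ : Set G) := by
    rw [le_centralizer_iff]
    exact sup_le (le_centralizer_iff.1 hZc) (le_centralizer_iff_isMulCommutative.2 inferInstance)
  -- adding `Z` to an abelian subgroup
  have hadd : ∀ A : Subgroup G, A ≤ P₀ → IsMulCommutative A → P₀ ⊓ Z ≤ A →
      IsMulCommutative ↥(A ⊔ Z) ∧ Nat.card ↥(A ⊔ Z) = Nat.card A * (P₀ ⊓ Z).relIndex Z := by
    intro A hA hAc hI
    have hAZ : Z ≤ centralizer (A : Set G) := hZc.trans (Subgroup.centralizer_le hA)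
    refine ⟨le_centralizer_iff_isMulCommutative.1 ?_, ?_⟩
    · refine sup_le ?_ ?_ <;> rw [le_centralizer_iff]
      · exact sup_le (le_centralizer_iff_isMulCommutative.2 hAc) hAZ
      · exact sup_le (le_centralizer_iff.1 hAZ) (le_centralizer_iff_isMulCommutative.2 inferInstance)
    · have h1 : A.relIndex (A ⊔ Z) = (P₀ ⊓ Z).relIndex Z := by
        haveI : (A.subgroupOf (A ⊔ Z)).Normal := normal_subgroupOf_of_le_normalizer
          (sup_le Subgroup.le_normalizer (hAZ.trans (Subgroup.centralizer_le_normalizer _)))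
        rw [← relIndex_subgroupOf (H := A) (le_refl (A ⊔ Z)), subgroupOf_sup le_sup_left le_sup_right,
          relIndex_sup_left, relIndex_subgroupOf le_sup_right, ← inf_relIndex_right,
          le_antisymm (inf_le_inf_right Z hA) (le_inf hI inf_le_right)]
      rw [← relIndex_bot_left, ← relIndex_mul_relIndex ⊥ A (A ⊔ Z) bot_le le_sup_left,
        relIndex_bot_left, h1]
  have hmaxI : ∀ A ∈ Complement.maxAbIn P₀, P₀ ⊓ Z ≤ A := fun A hA x hx =>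
    Complement.mem_maxAbIn_of_centralizes hA hx.1 (Subgroup.centralizer_le hA.1 (hZc hx.2))
  obtain ⟨A₀, hA₀⟩ := Complement.exists_maxAbIn P₀
  obtain ⟨hA₀c, hA₀card⟩ := hadd A₀ hA₀.1 hA₀.2.1 (hmaxI A₀ hA₀)
  -- the parts in `P₀` of maximal abelian subgroups
  have hpart : ∀ B ∈ Complement.maxAbIn P₁, B = (B ⊓ P₀) ⊔ Z ∧ B ⊓ P₀ ∈ Complement.maxAbIn P₀ := by
    intro B hB
    have hZB : Z ≤ B := fun x hx => Complement.mem_maxAbIn_of_centralizes hB (mem_sup_right hx)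
      (Subgroup.centralizer_le hB.1 (hZ1 hx))
    have hsplit : B = (B ⊓ P₀) ⊔ Z := by
      refine le_antisymm (fun x hx => ?_) (sup_le inf_le_left hZB)
      have h : x ∈ ((P₀ ⊔ Z : Subgroup G) : Set G) := hB.1 hx
      rw [Subgroup.coe_mul_of_right_le_normalizer_left P₀ Z hZn, Set.mem_mul] at h
      obtain ⟨a, ha, b, hb, rfl⟩ := h
      refine mul_mem (mem_sup_left ⟨?_, ha⟩) (mem_sup_right hb)
      simpa using B.mul_mem hx (B.inv_mem (hZB hb))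
    have hBc : IsMulCommutative ↥(B ⊓ P₀) :=
      le_centralizer_iff_isMulCommutative.1 ((inf_le_left.trans
        (le_centralizer_iff_isMulCommutative.2 hB.2.1)).trans (Subgroup.centralizer_le inf_le_left))
    obtain ⟨-, hcard⟩ := hadd (B ⊓ P₀) inf_le_right hBc
      (le_inf (inf_le_right.trans hZB) inf_le_left)
    refine ⟨hsplit, inf_le_right, hBc, fun C hC hCc => ?_⟩
    have h1 : Nat.card ↥(A₀ ⊔ Z) ≤ Nat.card B :=
      hB.2.2 _ (sup_le (hA₀.1.trans le_sup_left) le_sup_right) hA₀c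
    rw [hsplit, hcard, hA₀card] at h1
    exact (hA₀.2.2 C hC hCc).trans (Nat.le_of_mul_le_mul_right h1 (Nat.pos_of_ne_zero Subgroup.index_ne_zero_of_finite))
  rw [Complement.thompsonAOf_eq, Complement.thompsonAOf_eq]
  refine le_antisymm ?_ (le_inf (sSup_le fun A hA => ?_) (sSup_le fun A hA => hA.1))
  · have hJ : sSup (Complement.maxAbIn P₁) ≤ sSup (Complement.maxAbIn P₀) ⊔ Z := sSup_le fun B hB => by
      obtain ⟨e, hB'⟩ := hpart B hB
      rw [e]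
      exact sup_le_sup_right (le_sSup hB') Z
    intro x hx
    have h := hJ hx.1
    have hJP : sSup (Complement.maxAbIn P₀) ≤ P₀ := sSup_le fun A hA => hA.1
    rw [← SetLike.mem_coe, Subgroup.coe_mul_of_right_le_normalizer_left _ Z
      ((hZc.trans (Subgroup.centralizer_le hJP)).trans (Subgroup.centralizer_le_normalizer _)),
      Set.mem_mul] at h
    obtain ⟨a, ha, b, hb, rfl⟩ := h
    refine mul_mem ha ((hmaxI A₀ hA₀).trans (le_sSup hA₀) ⟨?_, hb⟩)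
    simpa using P₀.mul_mem (P₀.inv_mem (hJP ha)) hx.2
  · obtain ⟨hc, hcard⟩ := hadd A hA.1 hA.2.1 (hmaxI A hA)
    refine le_sup_left.trans (le_sSup (a := A ⊔ Z) ⟨sup_le (hA.1.trans le_sup_left) le_sup_right, hc,
      fun B hB hBc => ?_⟩)
    obtain ⟨B₀, hB₀⟩ := Complement.exists_maxAbIn P₁
    obtain ⟨e, hB₀'⟩ := hpart B₀ hB₀
    refine (hB₀.2.2 B hB hBc).trans ?_
    obtain ⟨-, hcard'⟩ := hadd _ hB₀'.1 hB₀'.2.1 (hmaxI _ hB₀')
    rw [e, hcard', hcard]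
    exact Nat.mul_le_mul_right _ (hA.2.2 _ hB₀'.1 hB₀'.2.1)

variable {Ω : Type u} [Group Ω] {S T R : Subgroup Ω} {F : FusionSystem S} {p : ℕ} [Fact p.Prime]
  [Finite S] {Γ : Subgroup (MulAut R)}

namespace Slice

variable (Λ : Slice F T p Γ)

theorem act_eq {g : Λ.G} {f f' : Ω → Ω} {v : normalizerIn S R}
    (h : ∃ hv : f v ∈ normalizerIn S R, Λ.ι ⟨f v, hv⟩ = g)
    (h' : ∃ hv : f' v ∈ normalizerIn S R, Λ.ι ⟨f' v, hv⟩ = g) : f v = f' v := by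
  obtain ⟨hv, e⟩ := h
  obtain ⟨hv', e'⟩ := h'
  exact congrArg Subtype.val (Λ.inj (e.trans e'.symm))

theorem ker_comm {w : normalizerIn S R} (hw : (w : Ω) ∈ centralizerIn S R)
    (hR : R ≤ S) (hRT : R ≤ T) {g : Λ.G} (hg : g ∈ Λ.K) :
    ∃ r : normalizerIn S R, (r : Ω) ∈ R ∧ g * Λ.ι w * g⁻¹ = Λ.ι w * Λ.ι r := by
  obtain ⟨f, hf, -, hfc, hfv⟩ := Λ.act g hg
  obtain ⟨hv, e⟩ := hfv w (mem_sup_right hw)
  refine ⟨⟨_, le_normalizerIn hR (hfc _ hw)⟩, hfc _ hw, ?_⟩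
  rw [← e, ← map_mul]
  exact congrArg Λ.ι (Subtype.ext (mul_inv_cancel_left _ _).symm)

include Λ in
/-- An element centralizing the Sylow part has a fixed translate. -/
theorem exists_fixed_translate (hS : IsPGroup p S) (hR : R ≤ S) {w : Ω}
    (hw : w ∈ centralizerIn S R) (hwN : ∀ t ∈ normalizerIn S R, t ∈ T → t * w * t⁻¹ = w)
    {Z' : Subgroup Ω} (hZ' : Z' ≤ R ⊓ centralizer (R : Set Ω))
    (hZ : ∀ h, IsMap F (R ⊔ centralizerIn S R) h → (∃ α ∈ Γ, ∀ x : R, h x = ((α x : R) : Ω)) →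
      (∀ c ∈ centralizerIn S R, c⁻¹ * h c ∈ R) → w⁻¹ * h w ∈ Z') :
    ∃ z ∈ Z', (∀ t ∈ normalizerIn S R, t ∈ T → t * z * t⁻¹ = z) ∧
      ∀ α ∈ Γ, ∃ h, IsMap F (R ⊔ centralizerIn S R) h ∧ (∀ x : R, h x = ((α x : R) : Ω)) ∧
        h (w * z) = w * z := by
  classical
  haveI := finite_of_le hR
  set V := R ⊔ centralizerIn S R
  choose f hf hfΓ hfc hfv using Λ.act
  set Z₀ := R ⊓ centralizer (R : Set Ω) with hZ₀
  letI : CommGroup Z₀ :=
    { (inferInstance : Group Z₀) with mul_comm := fun a b => Subtype.ext (b.2.2 a a.2.1) }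
  haveI : Finite Z₀ := finite_of_le (inf_le_left.trans hR)
  have hCN : centralizerIn S R ≤ normalizerIn S R := centralizerIn_le_normalizerIn
  have hRN : R ≤ normalizerIn S R := le_normalizerIn hR
  have hVN : V ≤ normalizerIn S R := sup_le hRN hCN
  have hVS : V ≤ S := hVN.trans inf_le_left
  have hwV : w ∈ V := mem_sup_right hw
  have hmul : ∀ g h (hg : g ∈ Λ.K) (hh : h ∈ Λ.K), ∀ x ∈ V, f h hh x ∈ V →
      f (g * h) (Λ.K.mul_mem hg hh) x = f g hg (f h hh x) := by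
    intro g h hg hh x hx hx'
    obtain ⟨h1, e1⟩ := hfv _ (Λ.K.mul_mem hg hh) ⟨x, hVN hx⟩ hx
    obtain ⟨h2, e2⟩ := hfv h hh ⟨x, hVN hx⟩ hx
    obtain ⟨h3, e3⟩ := hfv g hg ⟨_, h2⟩ hx'
    have h4 : Λ.ι ⟨_, h1⟩ = Λ.ι ⟨_, h3⟩ := by
      rw [e1, e3, e2]; group
    exact congrArg Subtype.val (Λ.inj h4)
  have hfR : ∀ g (hg : g ∈ Λ.K), ∀ x ∈ R, f g hg x ∈ R := fun g hg x hx => by
    obtain ⟨α, -, hα⟩ := hfΓ g hg
    rw [hα ⟨x, hx⟩]
    exact Subtype.mem _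
  have hfV : ∀ g (hg : g ∈ Λ.K), f g hg w ∈ V := fun g hg => by
    rw [← mul_inv_cancel_left w (f g hg w)]
    exact mul_mem hwV (mem_sup_left (hfc g hg w hw))
  have hfZ : ∀ g (hg : g ∈ Λ.K), ∀ x ∈ Z₀, f g hg x ∈ Z₀ := fun g hg x hx => by
    refine ⟨hfR g hg x hx.1, fun r hr => ?_⟩
    obtain ⟨α, -, hα⟩ := hfΓ g hg
    obtain ⟨r', rfl⟩ : ∃ r' : R, ((α r' : R) : Ω) = r := ⟨α.symm ⟨r, hr⟩, by rw [MulEquiv.apply_symm_apply]⟩
    rw [← hα r', ← (hf g hg).map_mul (mem_sup_left r'.2) (mem_sup_left hx.1),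
      ← (hf g hg).map_mul (mem_sup_left hx.1) (mem_sup_left r'.2), hx.2 r' r'.2]
  let act : Λ.K → (Z₀ →* Z₀) := fun g => MonoidHom.mk' (fun x => ⟨_, hfZ g g.2 x x.2⟩)
    fun x y => Subtype.ext ((hf g g.2).map_mul (mem_sup_left x.2.1) (mem_sup_left y.2.1))
  let φ : Λ.K → Z₀ := fun g =>
    ⟨w⁻¹ * f g g.2 w, hZ' (hZ _ (hf g g.2) (hfΓ g g.2) (hfc g g.2))⟩
  have hcoc : ∀ g h : Λ.K, φ (g * h) = φ g * act g (φ h) := fun g h => Subtype.ext (by
    show w⁻¹ * f ((g : Λ.G) * (h : Λ.G)) (Λ.K.mul_mem g.2 h.2) w = w⁻¹ * f g g.2 w * f g g.2 (w⁻¹ * f h h.2 w)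
    rw [(hf g g.2).map_mul (V.inv_mem hwV) (hfV h h.2), (hf g g.2).map_inv hwV,
      ← hmul g h g.2 h.2 w hwV (hfV h h.2)]
    group)
  obtain ⟨P, hP⟩ := Λ.isSylow
  have hPφ : ∀ k : Λ.K, k ∈ (P : Subgroup Λ.K) → φ k = 1 ∧
      ∃ t : normalizerIn S R, (t : Ω) ∈ T ∧ ∀ x ∈ V, f k k.2 x = (t : Ω) * x * (t : Ω)⁻¹ := by
    intro k hk
    obtain ⟨t, ht, htk⟩ := (hP k).1 hk
    have hx : ∀ x ∈ V, f k k.2 x = (t : Ω) * x * (t : Ω)⁻¹ := fun x hx => by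
      obtain ⟨h1, e⟩ := hfv k k.2 ⟨x, hVN hx⟩ hx
      have e' : Λ.ι ⟨f k k.2 x, h1⟩ = Λ.ι (t * ⟨x, hVN hx⟩ * t⁻¹) := by
        rw [map_mul, map_mul, map_inv, htk]
        exact e
      exact congrArg Subtype.val (Λ.inj e')
    refine ⟨Subtype.ext ?_, t, ht, hx⟩
    show w⁻¹ * f k k.2 w = 1
    rw [hx w hwV, hwN t t.2 ht, inv_mul_cancel]
  haveI : Finite (Λ.K ⧸ (P : Subgroup Λ.K)) := inferInstance
  letI : Fintype (Λ.K ⧸ (P : Subgroup Λ.K)) := Fintype.ofFinite _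
  let e : Λ.K ⧸ (P : Subgroup Λ.K) → Z₀ := fun c => φ c.out
  set m := Fintype.card (Λ.K ⧸ (P : Subgroup Λ.K))
  set z₁ := ∏ c, e c with hz₁
  have hstep : ∀ g : Λ.K, z₁ = φ g ^ m * act g z₁ := fun g => by
    have h1 : ∀ c, e (g • c) = φ g * act g (e c) := fun c => by
      obtain ⟨⟨r, hr⟩, hr'⟩ := QuotientGroup.mk_out_eq_mul (P : Subgroup Λ.K) (g * c.out)
      have h2 : g • c = ((g * c.out : Λ.K) : Λ.K ⧸ (P : Subgroup Λ.K)) := by
        conv_lhs => rw [← QuotientGroup.out_eq' c]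
        rfl
      show φ (g • c).out = _
      rw [h2, hr', hcoc, (hPφ r hr).1, map_one, mul_one, hcoc]
    calc z₁ = ∏ c, e (g • c) := (Fintype.prod_equiv (MulAction.toPerm g) _ _ fun c => rfl).symm
      _ = _ := by
        rw [Finset.prod_congr rfl fun c _ => h1 c, Finset.prod_mul_distrib, Finset.prod_const,
          Finset.card_univ, ← map_prod]
  have hz₁Z : (z₁ : Ω) ∈ Z' := by
    have : z₁ ∈ Z'.subgroupOf Z₀ := Subgroup.prod_mem _ fun c _ =>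
      hZ _ (hf _ c.out.2) (hfΓ _ c.out.2) (hfc _ c.out.2)
    exact this
  have hZ₀p : IsPGroup p Z₀ := hS.to_le (inf_le_left.trans hR)
  have hm : ¬ p ∣ m := by
    rw [show m = (P : Subgroup Λ.K).index from by rw [Subgroup.index_eq_card, Nat.card_eq_fintype_card]]
    exact P.not_dvd_index
  obtain ⟨z, hzm⟩ : ∃ z : Z₀, z ^ m = z₁ := (hZ₀p.powEquiv' hm).surjective z₁
  have hfix : ∀ g : Λ.K, z = φ g * act g z := fun g =>
    (hZ₀p.powEquiv' hm).injective (by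
      show z ^ m = (φ g * act g z) ^ m
      rw [mul_pow, ← map_pow, hzm, ← hstep])
  obtain ⟨k, hk⟩ := exists_pow_eq_self_of_coprime (x := z) (n := m) (by
    obtain ⟨j, hj⟩ := hZ₀p z
    exact (((Fact.out : p.Prime).coprime_iff_not_dvd.2 hm).symm.pow_right j).coprime_dvd_right
      (orderOf_dvd_of_pow_eq_one hj))
  have hzZ' : (z : Ω) ∈ Z' := by
    rw [← hk, hzm, Subgroup.coe_pow]
    exact Z'.pow_mem hz₁Z k
  refine ⟨z, hzZ', fun t ht htT => ?_, fun α hα => ?_⟩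
  · set gk : Λ.K := ⟨Λ.ι ⟨t, ht⟩, Λ.normalizerIn_le _ htT⟩
    obtain ⟨h1, -, -, -⟩ := hPφ gk ((hP gk).2 ⟨⟨t, ht⟩, htT, rfl⟩)
    have h2 := hfix gk
    rw [h1, one_mul] at h2
    obtain ⟨h3, e⟩ := hfv gk gk.2 ⟨z, hRN z.2.1⟩ (mem_sup_left z.2.1)
    have e' : Λ.ι ⟨f gk gk.2 z, h3⟩ = Λ.ι (⟨t, ht⟩ * ⟨z, hRN z.2.1⟩ * ⟨t, ht⟩⁻¹) := by
      rw [map_mul, map_mul, map_inv]; exact e
    have e2 : f gk gk.2 z = t * (z : Ω) * t⁻¹ := congrArg Subtype.val (Λ.inj e')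
    rw [← e2]
    exact (congrArg Subtype.val h2).symm
  · obtain ⟨g, hg, hgα⟩ := Λ.surj α hα
    refine ⟨f g hg, hf g hg, fun x => ?_, ?_⟩
    · obtain ⟨h1, e1⟩ := hfv g hg ⟨x, hRN x.2⟩ (mem_sup_left x.2)
      exact congrArg Subtype.val (Λ.inj (e1.trans (hgα x (hRN (α x).2) (hRN x.2)).symm))
    · rw [(hf g hg).map_mul hwV (mem_sup_left z.2.1)]
      have h := congrArg Subtype.val (hfix ⟨g, hg⟩)
      have h' : (z : Ω) = w⁻¹ * f g hg w * f g hg z := h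
      conv_rhs => rw [h']
      group

include Λ in
/-- For odd `p`, an element fixed by the normalizer of the Thompson subgroup of the Sylow part is
fixed. -/
theorem fixed_of_thompson (hp : p ≠ 2) (hS : IsPGroup p S) (hR : R ≤ S) (hRT : R ≤ T) {w : Ω}
    (hw : w ∈ centralizerIn S R) (hwN : ∀ t ∈ normalizerIn S R, t ∈ T → t * w * t⁻¹ = w)
    (hcan : ∀ α ∈ Γ, (orderOf α).Coprime p → ∃ G, CanExt F p R α G)
    (hN : ∀ α ∈ Γ, (orderOf α).Coprime p →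
      (∀ a ∈ Cfsg.thompsonSubgroupAOf (normalizerIn S R ⊓ T),
        ∃ b ∈ Cfsg.thompsonSubgroupAOf (normalizerIn S R ⊓ T), ∀ (x : R)
          (hax : a * (x : Ω) * a⁻¹ ∈ R),
            ((α ⟨a * (x : Ω) * a⁻¹, hax⟩ : R) : Ω) = b * ((α x : R) : Ω) * b⁻¹) →
      ∃ h, IsMap F (R ⊔ zpowers w) h ∧ (∀ x : R, h x = ((α x : R) : Ω)) ∧ h w = w) :
    ∀ α ∈ Γ, ∃ h, IsMap F (R ⊔ centralizerIn S R) h ∧ (∀ x : R, h x = ((α x : R) : Ω)) ∧
      h w = w := by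
  haveI := finite_of_le hR
  set N := normalizerIn S R with hNdef
  haveI : Finite N := finite_normalizerIn
  have hNp : IsPGroup p N := hS.to_le inf_le_left
  set V := R ⊔ centralizerIn S R with hVdef
  have hCN : centralizerIn S R ≤ N := centralizerIn_le_normalizerIn
  have hRN : R ≤ N := le_normalizerIn hR
  have hVN : V ≤ N := sup_le hRN hCN
  have hwV : w ∈ V := mem_sup_right hw
  set wN : N := ⟨w, hVN hwV⟩
  set N₀ := N ⊓ T
  have hN₀N : N₀ ≤ N := inf_le_left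
  set P₀ : Subgroup Λ.G := (N₀.subgroupOf N).map Λ.ι with hP₀
  set w' : Λ.G := Λ.ι wN
  have hP₀K : P₀ ≤ Λ.K := by
    rintro _ ⟨t, ht, rfl⟩
    exact Λ.normalizerIn_le t ht.2
  have hmemP₀ : ∀ g, g ∈ P₀ ↔ ∃ t : N, (t : Ω) ∈ T ∧ Λ.ι t = g := fun g =>
    ⟨fun ⟨t, ht, e⟩ => ⟨t, ht.2, e⟩, fun ⟨t, ht, e⟩ => ⟨t, ⟨t.2, ht⟩, e⟩⟩
  have hwP₀ : w' ∈ centralizer (P₀ : Set Λ.G) := by
    rintro _ ⟨t, ht, rfl⟩
    rw [← map_mul, ← map_mul]
    refine congrArg Λ.ι (Subtype.ext ?_)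
    exact mul_inv_eq_iff_eq_mul.1 (hwN t t.2 ht.2)
  have hwK : zpowers w' ≤ normalizer (Λ.K : Set Λ.G) := by
    refine zpowers_le.2 ?_
    haveI : Finite (Λ.K : Set Λ.G) := inferInstanceAs (Finite Λ.K)
    refine Subgroup.mem_normalizer_fintype fun g hg => ?_
    obtain ⟨r, hr, e⟩ := Λ.ker_comm (w := wN) hw hR hRT hg
    replace e : g * w' * g⁻¹ = w' * Λ.ι r := e
    have e2 : w' * g * w'⁻¹ = Λ.ι (wN * r⁻¹ * wN⁻¹) * g := by
      rw [map_mul, map_mul, map_inv, map_inv]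
      have h5 : w' * Λ.ι r * g = g * w' := by rw [← e]; group
      calc w' * g * w'⁻¹ = w' * (Λ.ι r)⁻¹ * w'⁻¹ * (w' * Λ.ι r * g) * w'⁻¹ := by group
        _ = w' * (Λ.ι r)⁻¹ * w'⁻¹ * g := by rw [h5]; group
    rw [e2]
    refine Λ.K.mul_mem (Λ.normalizerIn_le _ (hRT ?_)) hg
    exact (wN.2.2 _).1 (R.inv_mem hr)
  set H₁ : Subgroup Λ.G := Λ.K ⊔ zpowers w' with hH₁
  set P₁ : Subgroup Λ.G := P₀ ⊔ zpowers w' with hP₁def
  have hP₁H : P₁ ≤ H₁ := sup_le_sup_right hP₀K _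
  have hP₁r : P₁ ≤ Λ.ι.range := sup_le (Subgroup.map_le_range _ _) (zpowers_le.2 ⟨wN, rfl⟩)
  have hrp : IsPGroup p Λ.ι.range := hNp.of_surjective _ Λ.ι.rangeRestrict_surjective
  obtain ⟨PK, hPK⟩ := Λ.isSylow
  have hP₁p : IsPGroup p (P₁.subgroupOf H₁) :=
    (hrp.to_le hP₁r).comap_of_injective H₁.subtype H₁.subtype_injective
  obtain ⟨Q, hQ⟩ := hP₁p.exists_le_sylow
  have hmemH₁ : ∀ x ∈ H₁, ∃ k ∈ Λ.K, ∃ b ∈ zpowers w', k * b = x := fun x hx => by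
    have h : x ∈ ((Λ.K ⊔ zpowers w' : Subgroup Λ.G) : Set Λ.G) := hx
    rwa [Subgroup.coe_mul_of_right_le_normalizer_left Λ.K _ hwK, Set.mem_mul] at h
  have hQeq : (Q : Subgroup H₁) = P₁.subgroupOf H₁ := by
    refine le_antisymm (fun x hx => ?_) hQ
    obtain ⟨k, hk, b, hb, e⟩ := hmemH₁ x x.2
    have hQK : IsPGroup p (((Q : Subgroup H₁).map H₁.subtype).subgroupOf Λ.K) :=
      (Q.isPGroup'.map H₁.subtype).comap_of_injective Λ.K.subtype Λ.K.subtype_injective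
    have hle : (PK : Subgroup Λ.K) ≤ ((Q : Subgroup H₁).map H₁.subtype).subgroupOf Λ.K := fun y hy => by
      obtain ⟨t, ht, e'⟩ := (hPK y).1 hy
      exact ⟨⟨y, mem_sup_left y.2⟩, hQ (mem_sup_left ((hmemP₀ _).2 ⟨t, ht, e'⟩)), rfl⟩
    have hkQ : (⟨k, hk⟩ : Λ.K) ∈ ((Q : Subgroup H₁).map H₁.subtype).subgroupOf Λ.K := by
      refine ⟨x * (⟨b, mem_sup_right hb⟩ : H₁)⁻¹, mul_mem hx (inv_mem (hQ (mem_sup_right hb))), ?_⟩
      show (x : Λ.G) * b⁻¹ = k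
      rw [← e, mul_inv_cancel_right]
    obtain ⟨t, ht, e'⟩ := (hPK _).1 ((PK.is_maximal' hQK hle).le hkQ)
    show (x : Λ.G) ∈ P₁
    rw [← e]
    exact mul_mem (mem_sup_left ((hmemP₀ _).2 ⟨t, ht, e'⟩)) (mem_sup_right hb)
  -- `O_p` is self-centralizing
  set M : Subgroup H₁ := ((V.subgroupOf N).map Λ.ι).subgroupOf H₁
  haveI hMn : M.Normal := by
    refine ⟨?_⟩
    rintro m ⟨v, hv, e⟩ g
    obtain ⟨u, hu, e'⟩ := Λ.conj_mem (g : Λ.G) v hv
    refine ⟨u, hu, ?_⟩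
    rw [e', e]
    rfl
  have hMp : IsPGroup p M :=
    (hrp.to_le (Subgroup.map_le_range _ _)).comap_of_injective H₁.subtype H₁.subtype_injective
  have hMc : M ≤ Cfsg.pCore p H₁ := le_sSup (α := Subgroup H₁) ⟨hMn, hMp⟩
  have hw₁ : (⟨w', mem_sup_right (mem_zpowers _)⟩ : H₁) ∈ M := ⟨wN, hwV, rfl⟩
  have hcent : Subgroup.centralizer ((Cfsg.pCore p H₁ : Subgroup H₁) : Set H₁) ≤ Cfsg.pCore p H₁ := by
    intro x hx
    refine hMc ?_
    obtain ⟨k, hk, b, hb, e⟩ := hmemH₁ x x.2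
    obtain ⟨c, hc, ec⟩ := Λ.cent k hk fun v hv => by
      have hvK : Λ.ι v ∈ Λ.K := Λ.normalizerIn_le v (hRT hv)
      have h1 := hx ⟨Λ.ι v, mem_sup_left hvK⟩ (hMc ⟨v, mem_sup_left hv, rfl⟩)
      have h1' : Λ.ι v * (x : Λ.G) = (x : Λ.G) * Λ.ι v := congrArg Subtype.val h1
      have h2 : Λ.ι v * b = b * Λ.ι v :=
        ((zpowers_le.2 hwP₀ : zpowers w' ≤ centralizer (P₀ : Set Λ.G)) hb) _
          ((hmemP₀ _).2 ⟨v, hRT hv, rfl⟩)
      rw [← e, ← mul_assoc, mul_assoc k b, ← h2, ← mul_assoc] at h1'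
      rw [mul_inv_eq_iff_eq_mul]
      exact (mul_right_cancel h1').symm
    show (x : Λ.G) ∈ (V.subgroupOf N).map Λ.ι
    rw [← e]
    refine mul_mem ⟨c, hc, ec⟩ ?_
    obtain ⟨i, rfl⟩ := mem_zpowers_iff.1 hb
    exact zpow_mem (⟨wN, hwV, rfl⟩ : w' ∈ (V.subgroupOf N).map Λ.ι) i
  -- the Thompson subgroups
  have hJ₁ : (Cfsg.thompsonSubgroupA ↥(Q : Subgroup H₁)).map (Q : Subgroup H₁).subtype =
      (Cfsg.thompsonSubgroupAOf P₁).subgroupOf H₁ := by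
    show Cfsg.thompsonSubgroupAOf (Q : Subgroup H₁) = _
    have h1 := Complement.thompsonAOf_map H₁.subtype (S := P₁.subgroupOf H₁)
      fun a _ b _ h => H₁.subtype_injective h
    rw [Subgroup.map_subgroupOf_eq_of_le hP₁H] at h1
    rw [hQeq, ← h1, Subgroup.subgroupOf, Subgroup.subgroupOf,
      Subgroup.comap_map_eq_self_of_injective H₁.subtype_injective]
  have hJ₀ : Cfsg.thompsonSubgroupAOf P₀ = ((Cfsg.thompsonSubgroupAOf N₀).subgroupOf N).map Λ.ι := by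
    rw [hP₀, ← Complement.thompsonAOf_map Λ.ι fun a _ b _ h => Λ.inj h]
    congr 1
    have h1 := Complement.thompsonAOf_map N.subtype (S := N₀.subgroupOf N)
      fun a _ b _ h => N.subtype_injective h
    rw [Subgroup.map_subgroupOf_eq_of_le hN₀N] at h1
    rw [← h1, Subgroup.subgroupOf, Subgroup.subgroupOf,
      Subgroup.comap_map_eq_self_of_injective N.subtype_injective]
  have hfixN : ∀ g ∈ Subgroup.normalizer (((Cfsg.thompsonSubgroupA ↥(Q : Subgroup H₁)).map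
      (Q : Subgroup H₁).subtype : Subgroup H₁) : Set H₁),
      g * (⟨w', mem_sup_right (mem_zpowers _)⟩ : H₁) * g⁻¹ = ⟨w', mem_sup_right (mem_zpowers _)⟩ := by
    intro g hg
    rw [hJ₁] at hg
    refine Subtype.ext ?_
    show (g : Λ.G) * w' * (g : Λ.G)⁻¹ = w'
    obtain ⟨k, hk, b, hb, e⟩ := hmemH₁ g g.2
    have hJle : Cfsg.thompsonSubgroupAOf P₁ ≤ H₁ := (Complement.thompsonAOf_le _).trans hP₁H
    have hgJ : (g : Λ.G) ∈ normalizer (Cfsg.thompsonSubgroupAOf P₁ : Set Λ.G) := by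
      intro y
      constructor
      · intro hy
        exact (hg ⟨y, hJle hy⟩).1 hy
      · intro hy
        have hyH : y ∈ H₁ := by
          simpa [mul_assoc] using H₁.mul_mem (H₁.mul_mem (H₁.inv_mem g.2) (hJle hy)) g.2
        exact (hg ⟨y, hyH⟩).2 hy
    have hbP : zpowers w' ≤ centralizer (P₁ : Set Λ.G) := by
      rw [le_centralizer_iff]
      exact sup_le (le_centralizer_iff.1 (zpowers_le.2 hwP₀))
        (le_centralizer_iff_isMulCommutative.2 inferInstance)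
    have hbN : b ∈ normalizer (Cfsg.thompsonSubgroupAOf P₁ : Set Λ.G) :=
      Subgroup.centralizer_le_normalizer _ (Subgroup.centralizer_le (Complement.thompsonAOf_le _) (hbP hb))
    have hkJ : k ∈ normalizer (Cfsg.thompsonSubgroupAOf P₁ : Set Λ.G) := by
      have := mul_mem hgJ (inv_mem hbN)
      rwa [← e, mul_inv_cancel_right] at this
    have hbw : b * w' * b⁻¹ = w' := by
      obtain ⟨i, rfl⟩ := mem_zpowers_iff.1 hb
      rw [((Commute.refl w').zpow_left i).eq, mul_inv_cancel_right]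
    rw [← e, show k * b * w' * (k * b)⁻¹ = k * (b * w' * b⁻¹) * k⁻¹ by group, hbw]
    -- elements of the normalizer in the slice
    set M' : Subgroup Λ.K := (normalizer (Cfsg.thompsonSubgroupAOf P₁ : Set Λ.G)).subgroupOf Λ.K
    set St : Subgroup Λ.K := (centralizer ({w'} : Set Λ.G)).subgroupOf Λ.K
    suffices hle : M' ≤ St by
      have h1 := hle (show (⟨k, hk⟩ : Λ.K) ∈ M' from hkJ)
      have h2 : w' * k = k * w' := h1 w' rfl
      rw [← h2, mul_inv_cancel_right]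
    have hPM : (PK : Subgroup Λ.K) ≤ M' := fun y hy => by
      obtain ⟨t, ht, e'⟩ := (hPK y).1 hy
      exact Complement.normalizer_le_normalizer_thompsonAOf P₁
        (Subgroup.le_normalizer (mem_sup_left ((hmemP₀ _).2 ⟨t, ht, e'⟩)))
    refine Subgroup.subgroupOf_eq_top.1 (eq_top_of_sylow_le (PK.subtype hPM) ?_ fun u hu => ?_)
    · intro y hy
      obtain ⟨t, ht, e'⟩ := (hPK _).1 hy
      show _ ∈ centralizer _
      rintro _ rfl
      exact (hwP₀ _ ((hmemP₀ _).2 ⟨t, ht, e'⟩)).symm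
    show ((u : Λ.K) : Λ.G) ∈ centralizer _
    rintro _ rfl
    set g₀ : Λ.G := ((u : Λ.K) : Λ.G) with hg₀
    obtain ⟨f, hf, ⟨α, hα, hfα⟩, hfc, hfv⟩ := Λ.act g₀ (u : Λ.K).2
    have hg₀ord : (orderOf g₀).Coprime p := by rwa [hg₀, Subgroup.orderOf_coe, Subgroup.orderOf_coe]
    -- powers
    have hpow : ∀ (j : ℕ) (v : N) (hvR : (v : Ω) ∈ R), ∃ hv : (((α ^ j) ⟨v, hvR⟩ : R) : Ω) ∈ N,
        Λ.ι ⟨_, hv⟩ = g₀ ^ j * Λ.ι v * (g₀ ^ j)⁻¹ := by
      intro j v hv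
      induction j with
      | zero => exact ⟨v.2, by simp⟩
      | succ j ih =>
        obtain ⟨h1, e1⟩ := ih
        obtain ⟨h2, e2⟩ := hfv ⟨_, h1⟩ (mem_sup_left (Subtype.mem _))
        have e3 : ((α ^ (j + 1)) ⟨v, hv⟩ : Ω) = f ((α ^ j) ⟨v, hv⟩ : Ω) := by
          rw [pow_succ', MulAut.mul_apply, hfα]
        refine ⟨hRN (Subtype.mem _), ?_⟩
        have : (⟨_, hRN ((α ^ (j + 1)) ⟨v, hv⟩).2⟩ : N) = ⟨_, h2⟩ := Subtype.ext e3
        rw [this, e2, e1, pow_succ']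
        group
    have hαcop : (orderOf α).Coprime p := by
      refine hg₀ord.coprime_dvd_left (orderOf_dvd_of_pow_eq_one (MulEquiv.ext fun x => Subtype.ext ?_))
      obtain ⟨h1, e1⟩ := hpow (orderOf g₀) ⟨x, hRN x.2⟩ x.2
      rw [pow_orderOf_eq_one, one_mul, inv_one, mul_one] at e1
      exact (congrArg Subtype.val (Λ.inj e1) :)
    obtain ⟨h, hh, hhα, hhw⟩ := hN α hα hαcop fun a ha => by
      have haN : a ∈ N := hN₀N (Complement.thompsonAOf_le _ ha)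
      have hga : g₀ * Λ.ι ⟨a, haN⟩ * g₀⁻¹ ∈ Cfsg.thompsonSubgroupAOf P₀ := by
        have ha' : Λ.ι ⟨a, haN⟩ ∈ Cfsg.thompsonSubgroupAOf P₀ := by
          rw [hJ₀]; exact ⟨⟨a, haN⟩, ha, rfl⟩
        rw [← thompson_sup_central hwP₀] at ha' ⊢
        obtain ⟨h1, h2⟩ := Subgroup.mem_inf.1 ha'
        have h3 := (u.2 _).1 h1
        refine Subgroup.mem_inf.2 ⟨h3, ?_⟩
        obtain ⟨t, e'⟩ := hP₁r (Complement.thompsonAOf_le _ h3)
        refine (hmemP₀ _).2 ⟨t, Λ.mem_T t ?_, e'⟩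
        rw [e']
        exact mul_mem (mul_mem (u : Λ.K).2 (hP₀K h2)) (inv_mem (u : Λ.K).2)
      rw [hJ₀] at hga
      obtain ⟨b, hb, eb⟩ := hga
      refine ⟨b, hb, fun x hax => ?_⟩
      obtain ⟨h1, e1⟩ := hfv ⟨a * (x : Ω) * a⁻¹, hRN hax⟩ (mem_sup_left hax)
      obtain ⟨h2, e2⟩ := hfv ⟨x, hRN x.2⟩ (mem_sup_left x.2)
      have e4 : Λ.ι (b * ⟨f x, h2⟩ * b⁻¹) = Λ.ι ⟨_, h1⟩ := by
        rw [e1, map_mul, map_mul, map_inv, e2, eb,
          show (⟨a * (x : Ω) * a⁻¹, hRN hax⟩ : N) = ⟨a, haN⟩ * ⟨x, hRN x.2⟩ * ⟨a, haN⟩⁻¹ from rfl,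
          map_mul, map_mul, map_inv]
        group
      have e5 := congrArg Subtype.val (Λ.inj e4)
      rw [← hfα x, ← hfα ⟨_, hax⟩]
      exact e5.symm
    obtain ⟨G, hG⟩ := hcan α hα hαcop
    have hle : R ⊔ zpowers w ≤ V := sup_le le_sup_left (zpowers_le.2 hwV)
    have hzh : w⁻¹ * h w ∈ R := by rw [hhw, inv_mul_cancel]; exact R.one_mem
    have hd := hG.diff_fixed hw hh (hf.mono hle) hhα hfα hzh (hfc w hw)
    set zz : R := ⟨w⁻¹ * f w, hfc w hw⟩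
    have hzfix : α zz = zz := by
      have e6 : (⟨(w⁻¹ * h w)⁻¹ * (w⁻¹ * f w), R.mul_mem (R.inv_mem hzh) (hfc w hw)⟩ : R) = zz :=
        Subtype.ext (by show (w⁻¹ * h w)⁻¹ * (w⁻¹ * f w) = w⁻¹ * f w; rw [hhw, inv_mul_cancel, inv_one, one_mul])
      rw [← e6]
      exact Subtype.ext hd
    set zG : Λ.G := Λ.ι ⟨zz, hRN zz.2⟩ with hzG
    have hgz : g₀ * zG * g₀⁻¹ = zG := by
      obtain ⟨h1, e1⟩ := hfv ⟨zz, hRN zz.2⟩ (mem_sup_left zz.2)
      rw [hzG, ← e1]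
      exact congrArg Λ.ι (Subtype.ext ((hfα zz).trans (congrArg Subtype.val hzfix)))
    have hgw : g₀ * w' * g₀⁻¹ = w' * zG := by
      obtain ⟨h1, e1⟩ := hfv wN hwV
      rw [← e1, hzG, ← map_mul]
      exact congrArg Λ.ι (Subtype.ext (mul_inv_cancel_left _ _).symm)
    have hit : ∀ j : ℕ, g₀ ^ j * w' * (g₀ ^ j)⁻¹ = w' * zG ^ j := fun j => by
      induction j with
      | zero => simp
      | succ j ih =>
        calc g₀ ^ (j + 1) * w' * (g₀ ^ (j + 1))⁻¹ = g₀ * (g₀ ^ j * w' * (g₀ ^ j)⁻¹) * g₀⁻¹ := by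
              rw [pow_succ']; group
          _ = g₀ * w' * g₀⁻¹ * (g₀ * zG * g₀⁻¹) ^ j := by rw [ih, conj_pow]; group
          _ = w' * zG ^ (j + 1) := by rw [hgw, hgz, pow_succ', mul_assoc]
    have h1 := hit (orderOf g₀)
    rw [pow_orderOf_eq_one, one_mul, inv_one, mul_one] at h1
    have hzn : zG ^ orderOf g₀ = 1 := mul_eq_left.1 h1.symm
    obtain ⟨j, hj⟩ := hrp ⟨zG, ⟨_, rfl⟩⟩
    have hz1 : zG = 1 := orderOf_eq_one_iff.1 (Nat.eq_one_of_dvd_coprimes (hg₀ord.pow_right j)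
      (orderOf_dvd_of_pow_eq_one hzn) (orderOf_dvd_of_pow_eq_one (congrArg Subtype.val hj)))
    rw [hz1, mul_one, mul_inv_eq_iff_eq_mul] at hgw
    exact hgw.symm
  have hwQ : ∀ x ∈ (Q : Subgroup H₁), x * (⟨w', mem_sup_right (mem_zpowers _)⟩ : H₁) * x⁻¹ =
      ⟨w', mem_sup_right (mem_zpowers _)⟩ := by
    intro x hx
    rw [hQeq] at hx
    refine Subtype.ext ?_
    have h1 : (x : Λ.G) ∈ centralizer ({w'} : Set Λ.G) := by
      refine (sup_le (fun y hy => ?_) (zpowers_le.2 ?_) : P₁ ≤ centralizer ({w'} : Set Λ.G)) hx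
      · rintro _ rfl
        exact (hwP₀ y hy).symm
      · rintro _ rfl
        rfl
    show (x : Λ.G) * w' * (x : Λ.G)⁻¹ = w'
    rw [← h1 w' rfl, mul_inv_cancel_right]
  have hall := central_of_functor_odd hp (fun Q _ => Cfsg.thompsonSubgroupA Q)
    (fun Q R _ _ _ _ φ => thompsonA_map Q R φ)
    (fun G _ _ P hc hn => exists_quadratic_thompsonA P hc hn) _ H₁ Q rfl hcent _ (hMc hw₁) hwQ hfixN
  intro α hα
  obtain ⟨g, hg, hgα⟩ := Λ.surj α hα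
  obtain ⟨f, hf, -, -, hfv⟩ := Λ.act g hg
  refine ⟨f, hf, fun x => ?_, ?_⟩
  · obtain ⟨h1, e1⟩ := hfv ⟨x, hRN x.2⟩ (mem_sup_left x.2)
    exact congrArg Subtype.val (Λ.inj (e1.trans (hgα x (hRN (α x).2) (hRN x.2)).symm))
  · obtain ⟨h1, e1⟩ := hfv wN hwV
    have h2 : g * w' * g⁻¹ = w' := congrArg Subtype.val (hall ⟨g, mem_sup_left hg⟩)
    exact congrArg Subtype.val (Λ.inj (e1.trans h2))

end Slice

end CfsgLib.Comp.CExt
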