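import Cfsg.Agent.Lib.Transfer.ClassTwo
import Cfsg.Agent.Lib.Transfer.Frobenius
import Cfsg.Agent.Lib.Solvable.PCore
import Cfsg.Agent.Lib.InvChar.Basic
import Cfsg.Agent.Lib.Comp.Normalize

/-!
Coprime elements centralizing the elements of order `p` (and `4`), and normal complements from
`p`-power class sizes of these elements.
-/

set_option autoImplicit false

namespace CfsgLib.Comp

open Subgroup
open scoped commutatorElement

universe u

variable {G : Type u} [Group G] [Finite G] {p : ℕ} [hp : Fact p.Prime]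

/-- The exponent of the small elements. -/
def smallExp (p : ℕ) : ℕ := if p = 2 then 4 else p

omit [Finite G] in
theorem commutator_pow_eq {n : ℕ} {y w c : G} (hc : y * w * y⁻¹ = c * w) (hyc : y * c * y⁻¹ = c) :
    y ^ n * w * (y ^ n)⁻¹ = c ^ n * w := by
  induction n with
  | zero => simp
  | succ n ih =>
    have h1 : y * c ^ n * y⁻¹ = c ^ n := by rw [← conj_pow, hyc]
    calc y ^ (n + 1) * w * (y ^ (n + 1))⁻¹ = y * (y ^ n * w * (y ^ n)⁻¹) * y⁻¹ := by
          rw [pow_succ' y n]; group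
      _ = y * (c ^ n * w) * y⁻¹ := by rw [ih]
      _ = (y * c ^ n * y⁻¹) * (y * w * y⁻¹) := by group
      _ = c ^ n * (c * w) := by rw [h1, hc]
      _ = c ^ (n + 1) * w := by rw [pow_succ]; group

/-- A coprime element fixing a commutator `[y, w]` in a `p`-group fixes `w`. -/
theorem conj_eq_of_fixed {W : Subgroup G} (hW : IsPGroup p W) {y w : G}
    (hy : (orderOf y).Coprime p) (hc : y * w * y⁻¹ * w⁻¹ ∈ W)
    (hfix : y * (y * w * y⁻¹ * w⁻¹) * y⁻¹ = y * w * y⁻¹ * w⁻¹) : y * w * y⁻¹ = w := by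
  have h := commutator_pow_eq (n := orderOf y) (w := w) (c := y * w * y⁻¹ * w⁻¹) (by group) hfix
  rw [pow_orderOf_eq_one, one_mul, inv_one, mul_one] at h
  have h1 : (y * w * y⁻¹ * w⁻¹) ^ orderOf y = 1 := mul_eq_right.1 h.symm
  obtain ⟨k, hk⟩ := IsPGroup.iff_orderOf.1 hW ⟨_, hc⟩
  rw [orderOf_mk] at hk
  have h2 : orderOf (y * w * y⁻¹ * w⁻¹) = 1 :=
    Nat.eq_one_of_dvd_coprimes (hy.pow_right k) (orderOf_dvd_of_pow_eq_one h1) (hk ▸ dvd_rfl)
  exact mul_inv_eq_one.1 (orderOf_eq_one_iff.1 h2)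

/-- The part of the Frattini subgroup of `W` used below. -/
def phiOf (W : Subgroup G) : Subgroup G := (frattini W).map W.subtype

omit [Finite G] in
theorem phiOf_le (W : Subgroup G) : phiOf W ≤ W := map_subtype_le _

omit [Finite G] in
theorem conj_mem_phiOf {W : Subgroup G} {g : G} (hg : g ∈ normalizer (W : Set G)) {x : G}
    (hx : x ∈ phiOf W) : g * x * g⁻¹ ∈ phiOf W := by
  let e : W ≃* W :=
    { toFun := fun x => ⟨g * x * g⁻¹, (mem_normalizer_iff.mp hg x).mp x.2⟩
      invFun := fun x => ⟨g⁻¹ * x * g, (mem_normalizer_iff''.mp hg x).mp x.2⟩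
      left_inv := fun x => Subtype.ext (by show g⁻¹ * (g * x * g⁻¹) * g = x; group)
      right_inv := fun x => Subtype.ext (by show g * (g⁻¹ * x * g) * g⁻¹ = x; group)
      map_mul' := fun x y => Subtype.ext (by
        show g * (x * y) * g⁻¹ = g * x * g⁻¹ * (g * y * g⁻¹); group) }
  obtain ⟨z, hz, rfl⟩ := hx
  refine ⟨e z, ?_, rfl⟩
  rw [← characteristic_iff_map_eq.mp (frattini_characteristic (G := W)) e]
  exact mem_map_of_mem _ hz

/-- The key dichotomy: if the `y`-invariant group `W` is not centralized by the coprime element `y`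
and every proper `y`-invariant subgroup of the appropriate kind is, then `W` is small of class
two. -/
theorem small_of_minimal {W : Subgroup G} (hW : IsPGroup p W) {y : G}
    (hyN : y ∈ normalizer (W : Set G)) (hy : (orderOf y).Coprime p)
    (hphi : ∀ a ∈ phiOf W, y * a * y⁻¹ = a)
    (hcent : W ⊓ centralizer (phiOf W : Set G) ≠ W →
      ∀ a ∈ W ⊓ centralizer (phiOf W : Set G), y * a * y⁻¹ = a)
    {w : G} (hw : w ∈ W) :
    y * w * y⁻¹ = w ∨
      (W ≤ centralizer (phiOf W : Set G) ∧ (y * w * y⁻¹ * w⁻¹) ^ smallExp p = 1) := by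
  have hyw : y * w * y⁻¹ ∈ W := (mem_normalizer_iff.1 hyN w).1 hw
  have hc : y * w * y⁻¹ * w⁻¹ ∈ W := W.mul_mem hyw (W.inv_mem hw)
  have hcc : y * w * y⁻¹ * w⁻¹ ∈ W ⊓ centralizer (phiOf W : Set G) := by
    refine ⟨hc, ?_⟩
    show y * w * y⁻¹ * w⁻¹ ∈ centralizer (phiOf W : Set G)
    rw [mem_centralizer_iff]
    intro a ha
    have h1 : w⁻¹ * a * w ∈ phiOf W := by
      simpa using conj_mem_phiOf (le_normalizer (W.inv_mem hw)) ha
    have h2 : (y * w * y⁻¹) * (w⁻¹ * a * w) * (y * w * y⁻¹)⁻¹ = a := by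
      calc (y * w * y⁻¹) * (w⁻¹ * a * w) * (y * w * y⁻¹)⁻¹
          = (y * w * y⁻¹) * (y * (w⁻¹ * a * w) * y⁻¹) * (y * w * y⁻¹)⁻¹ := by rw [hphi _ h1]
        _ = y * a * y⁻¹ := by group
        _ = a := hphi a ha
    calc a * (y * w * y⁻¹ * w⁻¹)
        = ((y * w * y⁻¹) * (w⁻¹ * a * w) * (y * w * y⁻¹)⁻¹) * (y * w * y⁻¹ * w⁻¹) := by rw [h2]
      _ = y * w * y⁻¹ * w⁻¹ * a := by group
  by_cases hWc : W ⊓ centralizer (phiOf W : Set G) = W
  · refine Or.inr ⟨inf_eq_left.1 hWc, ?_⟩
    -- work inside the class two group `W`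
    haveI hWp : Fact p.Prime := hp
    have hcl : ∀ x z : W, ⁅x, z⁆ ∈ center W := by
      intro x z
      rw [mem_center_iff]
      intro v
      have h1 : (⁅x, z⁆ : W).1 ∈ phiOf W :=
        mem_map_of_mem _ (Transfer.commutatorElement_mem_frattini (p := p) hW x z)
      exact Subtype.ext ((mem_centralizer_iff.1 ((inf_eq_left.1 hWc) v.2)) _ h1).symm
    set a : W := ⟨y * w * y⁻¹, hyw⟩
    set b : W := ⟨w⁻¹, W.inv_mem hw⟩
    have hab : ((a * b : W) : G) = y * w * y⁻¹ * w⁻¹ := rfl
    have hbp : b ^ p ∈ frattini W := Transfer.pow_mem_frattini (p := p) hW b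
    have hbc : ∀ v : W, Commute (b ^ p) v := fun v => Subtype.ext
      ((mem_centralizer_iff.1 ((inf_eq_left.1 hWc) v.2)) _ (mem_map_of_mem _ hbp))
    have hap : a ^ p = (b ^ p)⁻¹ := by
      apply Subtype.ext
      have := hphi _ (mem_map_of_mem W.subtype hbp)
      simp only [coe_subtype, SubmonoidClass.coe_pow, InvMemClass.coe_inv, a, b] at this ⊢
      rw [conj_pow]
      rw [inv_pow, inv_inv]
      rw [inv_pow] at this
      have h' := congrArg Inv.inv this
      simpa [mul_assoc] using h'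
    have hcomm : ⁅b, a⁆ ^ p = 1 := by
      rw [← Transfer.commutatorElement_pow_left hcl]
      exact commutatorElement_eq_one_iff_commute.2 (hbc a)
    have key : (a * b) ^ p = ⁅b, a⁆ ^ p.choose 2 := by
      rw [Transfer.mul_pow_class_two hcl, hap, inv_mul_cancel, one_mul]
    rw [← hab, ← SubmonoidClass.coe_pow]
    suffices h : (a * b) ^ smallExp p = 1 by rw [h]; rfl
    rcases eq_or_ne p 2 with h2 | h2
    · rw [smallExp, if_pos h2, show (4 : ℕ) = p * p by rw [h2], pow_mul, key, ← pow_mul,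
        mul_comm, pow_mul, hcomm, one_pow]
    · rw [smallExp, if_neg h2, key]
      obtain ⟨j, hj⟩ := hp.out.dvd_choose_self (k := 2) (by norm_num)
        (lt_of_le_of_ne hp.out.two_le (Ne.symm h2))
      rw [hj, pow_mul, hcomm, one_pow]
  · exact Or.inl (conj_eq_of_fixed hW hy hc (hcent hWc _ hcc))

omit [Finite G] in
theorem phiOf_ne [Finite G] {W : Subgroup G} (hW : W ≠ ⊥) : phiOf W ≠ W := by
  intro h
  haveI : Nontrivial W := (nontrivial_iff_ne_bot W).2 hW
  obtain ⟨M, hM, -⟩ := (eq_top_or_exists_le_coatom (⊥ : Subgroup W)).resolve_left bot_ne_top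
  refine hM.1 (top_le_iff.1 ?_)
  refine le_trans ?_ (frattini_le_coatom hM)
  intro x _
  have hx : (x : G) ∈ phiOf W := h.symm ▸ x.2
  obtain ⟨z, hz, e⟩ := hx
  rwa [← Subtype.ext e]

/-- A coprime element centralizing the elements of order dividing `p` (dividing `4` if `p = 2`)
centralizes the `p`-group. -/
theorem conj_eq_of_fixes_small : ∀ (W : Subgroup G), IsPGroup p W → ∀ y ∈ normalizer (W : Set G),
    (orderOf y).Coprime p → (∀ x ∈ W, x ^ smallExp p = 1 → y * x * y⁻¹ = x) →
    ∀ w ∈ W, y * w * y⁻¹ = w := by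
  intro W
  induction h : Nat.card W using Nat.strong_induction_on generalizing W with
  | _ n ih =>
    subst h
    intro hW y hyN hy hsmall w hw
    rcases eq_or_ne W ⊥ with hW1 | hW1
    · rw [hW1, Subgroup.mem_bot] at hw
      simp [hw]
    have sub : ∀ V : Subgroup G, V ≤ W → V ≠ W → y ∈ normalizer (V : Set G) →
        ∀ v ∈ V, y * v * y⁻¹ = v := fun V hV hne hyV =>
      ih _ (lt_of_le_of_ne (card_le_of_le hV) fun e => hne (eq_of_le_of_card_ge hV e.ge)) V rfl
        (hW.to_le hV) y hyV hy (fun x hx => hsmall x (hV hx))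
    have hyphi : y ∈ normalizer (phiOf W : Set G) := by
      refine mem_normalizer_iff.2 fun n => ⟨conj_mem_phiOf hyN, fun hn => ?_⟩
      simpa [mul_assoc] using conj_mem_phiOf ((normalizer _).inv_mem hyN) hn
    have hphi := sub _ (phiOf_le W) (phiOf_ne hW1) hyphi
    rcases small_of_minimal hW hyN hy hphi
        (fun hne => sub _ inf_le_left hne
          (mem_normalizer_iff.2 fun n => and_congr (mem_normalizer_iff.1 hyN n)
            (mem_normalizer_iff.1 (normalizer_le_normalizer_centralizer _ hyphi) n))) hw with h | ⟨-, h⟩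
    · exact h
    · have hc : y * w * y⁻¹ * w⁻¹ ∈ W :=
        W.mul_mem ((mem_normalizer_iff.1 hyN w).1 hw) (W.inv_mem hw)
      exact conj_eq_of_fixed hW hy hc (hsmall _ hc h)

/-- If the index of `C` is a power of `p`, every coset meets a Sylow `p`-subgroup. -/
theorem exists_sylow_mem_mul {C : Subgroup G} {a : ℕ} (ha : C.index = p ^ a) (P : Sylow p G) :
    ∀ g : G, ∃ s ∈ (P : Subgroup G), s⁻¹ * g ∈ C := by
  have h1 : C.index ≤ C.relIndex (P : Subgroup G) := by
    refine Nat.le_of_dvd (Nat.pos_of_ne_zero index_ne_zero_of_finite) ?_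
    have e1 := relIndex_mul_index (inf_le_left : C ⊓ (P : Subgroup G) ≤ C)
    have e2 := relIndex_mul_index (inf_le_right : C ⊓ (P : Subgroup G) ≤ P)
    rw [inf_relIndex_left, ← e2, inf_relIndex_right] at e1
    have hcop : (C.index).Coprime (P : Subgroup G).index := by
      rw [ha]
      exact Nat.Coprime.pow_left a (hp.out.coprime_iff_not_dvd.2 P.not_dvd_index)
    exact hcop.dvd_of_dvd_mul_right (e1 ▸ dvd_mul_left C.index _)
  intro g
  let f : (P : Subgroup G) ⧸ C.subgroupOf (P : Subgroup G) → G ⧸ C :=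
    Quotient.map' (fun s => (s : G)) fun a b hab => by
      rw [QuotientGroup.leftRel_apply] at hab ⊢
      simpa [mem_subgroupOf] using hab
  have hinj : Function.Injective f := by
    rintro ⟨a⟩ ⟨b⟩ hab
    have hab' : (((a : G)) : G ⧸ C) = ((b : G) : G ⧸ C) := hab
    rw [QuotientGroup.eq] at hab'
    exact QuotientGroup.eq.2 (by simpa [mem_subgroupOf] using hab')
  obtain ⟨q, hq⟩ := (hinj.bijective_of_nat_card_le h1).2 (g : G ⧸ C)
  obtain ⟨s, rfl⟩ := QuotientGroup.mk_surjective q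
  exact ⟨s, s.2, QuotientGroup.eq.1 hq⟩

/-- If the small elements have `p`-power class size then `p'`-elements centralize `O_p`. -/
theorem conj_eq_of_pPower_classes
    (h : ∀ x : G, x ^ smallExp p = 1 → ∃ a : ℕ, (centralizer ({x} : Set G)).index = p ^ a) :
    ∀ W : Subgroup G, W.Normal → IsPGroup p W → ∀ y : G, (orderOf y).Coprime p →
      ∀ w ∈ W, y * w * y⁻¹ = w := by
  intro W
  induction hn : Nat.card W using Nat.strong_induction_on generalizing W with
  | _ n ih =>
    subst hn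
    intro hWn hW
    rcases eq_or_ne W ⊥ with hW1 | hW1
    · intro y _ w hw
      rw [hW1, Subgroup.mem_bot] at hw
      simp [hw]
    have sub : ∀ V : Subgroup G, V ≤ W → V ≠ W → V.Normal → ∀ y : G, (orderOf y).Coprime p →
        ∀ v ∈ V, y * v * y⁻¹ = v := fun V hV hne hVn =>
      ih _ (lt_of_le_of_ne (card_le_of_le hV) fun e => hne (eq_of_le_of_card_ge hV e.ge)) V rfl hVn
        (hW.to_le hV)
    have hN : ∀ g : G, g ∈ normalizer (W : Set G) := fun g =>
      (normalizer_eq_top_iff.2 hWn).ge (mem_top g)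
    set F := phiOf W with hF
    have hFn : F.Normal := ⟨fun x hx g => conj_mem_phiOf (hN g) hx⟩
    have hphi := sub F (phiOf_le W) (phiOf_ne hW1) hFn
    have hCn : (W ⊓ centralizer (F : Set G)).Normal :=
      haveI := hWn
      inferInstance
    have key : ∀ y : G, (orderOf y).Coprime p → ∀ w ∈ W,
        y * w * y⁻¹ = w ∨
          (W ≤ centralizer (F : Set G) ∧ (y * w * y⁻¹ * w⁻¹) ^ smallExp p = 1) := fun y hy w hw =>
      small_of_minimal hW (hN y) hy (hphi y hy) (fun hne => sub _ inf_le_left hne hCn y hy) hw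
    by_contra hcon
    push Not at hcon
    obtain ⟨y₀, hy₀, w₀, hw₀, hne₀⟩ := hcon
    have hWc : W ≤ centralizer (F : Set G) := ((key y₀ hy₀ w₀ hw₀).resolve_left hne₀).1
    -- the small elements form a normal subgroup, hence are all of `W`
    have hcl : ∀ x z : W, ⁅x, z⁆ ∈ center W := by
      intro x z
      rw [mem_center_iff]
      intro v
      exact Subtype.ext ((mem_centralizer_iff.1 (hWc v.2)) _
        (mem_map_of_mem _ (Transfer.commutatorElement_mem_frattini (p := p) hW x z))).symm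
    have hcp : ∀ x z : W, ⁅x, z⁆ ^ p = 1 := by
      intro x z
      rw [← Transfer.commutatorElement_pow_left hcl, commutatorElement_eq_one_iff_commute]
      exact Subtype.ext ((mem_centralizer_iff.1 (hWc z.2)) _
        (mem_map_of_mem _ (Transfer.pow_mem_frattini (p := p) hW x)))
    have hq : p ∣ (smallExp p).choose 2 := by
      rcases eq_or_ne p 2 with h2 | h2
      · subst h2; decide
      · rw [smallExp, if_neg h2]
        exact hp.out.dvd_choose_self (by norm_num) (lt_of_le_of_ne hp.out.two_le (Ne.symm h2))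
    let U : Subgroup G :=
      { carrier := {x | x ∈ W ∧ x ^ smallExp p = 1}
        one_mem' := ⟨W.one_mem, one_pow _⟩
        inv_mem' := fun {x} hx => ⟨W.inv_mem hx.1, by rw [inv_pow, hx.2, inv_one]⟩
        mul_mem' := fun {x z} hx hz => ⟨W.mul_mem hx.1 hz.1, by
          have h1 := congrArg Subtype.val (Transfer.mul_pow_class_two hcl (⟨x, hx.1⟩ : W) ⟨z, hz.1⟩ (smallExp p))
          obtain ⟨j, hj⟩ := hq
          rw [hj, pow_mul, hcp, one_pow, mul_one] at h1
          simpa [hx.2, hz.2] using h1⟩ }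
    have hUW : U ≤ W := fun x hx => hx.1
    have hUn : U.Normal := ⟨fun x hx g =>
      ⟨hWn.conj_mem x hx.1 g, by rw [conj_pow, hx.2, mul_one, mul_inv_cancel]⟩⟩
    have hUtop : U = W := by
      by_contra hne
      have h1 := (key y₀ hy₀ w₀ hw₀).resolve_left hne₀
      have hc : y₀ * w₀ * y₀⁻¹ * w₀⁻¹ ∈ W := W.mul_mem (hWn.conj_mem _ hw₀ y₀) (W.inv_mem hw₀)
      exact hne₀ (conj_eq_of_fixed hW hy₀ hc (sub U hUW hne hUn y₀ hy₀ _ ⟨hc, h1.2⟩))
    -- the elements moved into `F`
    let T : Subgroup G :=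
      { carrier := {x | x ∈ W ∧ ∀ y : G, (orderOf y).Coprime p → y * x * y⁻¹ * x⁻¹ ∈ F}
        one_mem' := ⟨W.one_mem, fun y _ => by simp⟩
        mul_mem' := fun {a b} ha hb => ⟨W.mul_mem ha.1 hb.1, fun y hy => by
          have h := F.mul_mem (ha.2 y hy) (hFn.conj_mem _ (hb.2 y hy) a)
          have e : y * (a * b) * y⁻¹ * (a * b)⁻¹ =
            y * a * y⁻¹ * a⁻¹ * (a * (y * b * y⁻¹ * b⁻¹) * a⁻¹) := by group
          rw [e]; exact h⟩
        inv_mem' := fun {a} ha => ⟨W.inv_mem ha.1, fun y hy => by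
          have h := hFn.conj_mem _ (F.inv_mem (ha.2 y hy)) a⁻¹
          have e : y * a⁻¹ * y⁻¹ * a⁻¹⁻¹ = a⁻¹ * (y * a * y⁻¹ * a⁻¹)⁻¹ * a⁻¹⁻¹ := by group
          rw [e]; exact h⟩ }
    have hTW : T ≤ W := fun x hx => hx.1
    have hTn : T.Normal := ⟨fun x hx g => ⟨hWn.conj_mem x hx.1 g, fun y hy => by
      have hy' : (orderOf (g⁻¹ * y * g)).Coprime p := by
        have h0 : orderOf (g⁻¹ * y * g) = orderOf y := by
          simpa using MulEquiv.orderOf_eq (MulAut.conj g⁻¹) y
        rw [h0]; exact hy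
      have h := hFn.conj_mem _ (hx.2 _ hy') g
      have e : y * (g * x * g⁻¹) * y⁻¹ * (g * x * g⁻¹)⁻¹ =
        g * ((g⁻¹ * y * g) * x * (g⁻¹ * y * g)⁻¹ * x⁻¹) * g⁻¹ := by group
      rw [e]; exact h⟩⟩
    have hTne : T ≠ W := by
      intro e
      have hwT : w₀ ∈ T := e.symm ▸ hw₀
      have hc : y₀ * w₀ * y₀⁻¹ * w₀⁻¹ ∈ W := W.mul_mem (hWn.conj_mem _ hw₀ y₀) (W.inv_mem hw₀)
      exact hne₀ (conj_eq_of_fixed hW hy₀ hc (hphi y₀ hy₀ _ (hwT.2 y₀ hy₀)))
    -- a point of `W/T` fixed by a Sylow subgroup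
    obtain ⟨P, hWP⟩ := hW.exists_le_sylow
    haveI := hTn
    haveI := hWn
    set π := QuotientGroup.mk' T
    have hQp : IsPGroup p ((P : Subgroup G).map π) := P.isPGroup'.map π
    have hWbar : ((W.map π).subgroupOf ((P : Subgroup G).map π)) ≠ ⊥ := by
      intro hb
      rw [subgroupOf_eq_bot, disjoint_iff, inf_eq_left.2 (map_mono hWP), Subgroup.map_eq_bot_iff,
        QuotientGroup.ker_mk'] at hb
      exact hTne (le_antisymm hTW hb)
    haveI : ((W.map π).subgroupOf ((P : Subgroup G).map π)).Normal :=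
      haveI : (W.map π).Normal := hWn.map π (QuotientGroup.mk'_surjective T)
      inferInstance
    obtain ⟨z, hz, hz1, hzc⟩ := InvChar.exists_mem_center_of_normal hQp _ hWbar
    obtain ⟨w, hw, hwz⟩ := mem_subgroupOf.1 hz
    have hfix : ∀ s ∈ (P : Subgroup G), s * w * s⁻¹ * w⁻¹ ∈ T := by
      intro s hs
      rw [← QuotientGroup.eq_one_iff]
      show π (s * w * s⁻¹ * w⁻¹) = 1
      rw [map_mul, map_mul, map_mul, map_inv, map_inv, hwz]
      have h1 := congrArg Subtype.val (mem_center_iff.1 hzc ⟨π s, mem_map_of_mem π hs⟩)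
      simp only [Subgroup.coe_mul] at h1
      rw [h1, mul_inv_cancel_right, mul_inv_cancel]
    -- the class of `w` is covered by `P`
    obtain ⟨a, ha⟩ := h w (hUtop.ge hw).2
    set C := centralizer ({w} : Set G)
    have hsurj := exists_sylow_mem_mul ha P
    have hwT : w ∈ T := by
      refine ⟨hw, fun y hy => ?_⟩
      obtain ⟨s, hs, hsC⟩ := hsurj y
      set t := y * w * y⁻¹ * w⁻¹
      have htT : t ∈ T := by
        have hcm : w * (s⁻¹ * y) = (s⁻¹ * y) * w := mem_centralizer_singleton_iff.1 hsC |>.symm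
        have e : y * w * y⁻¹ = s * w * s⁻¹ := by
          calc y * w * y⁻¹ = s * ((s⁻¹ * y) * w) * y⁻¹ := by group
            _ = s * (w * (s⁻¹ * y)) * y⁻¹ := by rw [hcm]
            _ = s * w * s⁻¹ := by group
        show y * w * y⁻¹ * w⁻¹ ∈ T
        rw [e]
        exact hfix s hs
      -- modulo `F` the element `y` fixes `t`, so `t ^ orderOf y` is in `F`
      haveI := hFn
      have hyt := htT.2 y hy
      have e := commutator_pow_eq (n := orderOf y) (y := (QuotientGroup.mk' F y))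
        (w := QuotientGroup.mk' F w) (c := QuotientGroup.mk' F t)
        (by simp only [t, map_mul, map_inv]; group)
        (by
          rw [← QuotientGroup.eq_one_iff] at hyt
          change QuotientGroup.mk' F (y * t * y⁻¹ * t⁻¹) = 1 at hyt
          rwa [map_mul, map_mul, map_mul, map_inv, map_inv, mul_inv_eq_one] at hyt)
      rw [← map_pow, pow_orderOf_eq_one, map_one, one_mul, inv_one, mul_one, ← map_pow] at e
      have h1 : QuotientGroup.mk' F (t ^ orderOf y) = 1 := mul_eq_right.1 e.symm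
      obtain ⟨k, hk⟩ := IsPGroup.iff_orderOf.1 hW ⟨t, hTW htT⟩
      rw [orderOf_mk] at hk
      have h2 : orderOf (QuotientGroup.mk' F t) = 1 :=
        Nat.eq_one_of_dvd_coprimes (hy.pow_right k)
          (orderOf_dvd_of_pow_eq_one (by rw [← map_pow, h1]))
          (hk ▸ orderOf_map_dvd (QuotientGroup.mk' F) t)
      exact (QuotientGroup.eq_one_iff t).1 (orderOf_eq_one_iff.1 h2)
    exact hz1 (Subtype.ext (hwz.symm.trans ((QuotientGroup.eq_one_iff w).2 hwT)))

/-- Normal `p`-complement from `p`-power class sizes of the small elements. -/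
theorem hasNormalPComplement_of_pPower_classes
    (h : ∀ x : G, x ^ smallExp p = 1 → ∃ a : ℕ, (centralizer ({x} : Set G)).index = p ^ a) :
    Cfsg.HasNormalPComplement p G := by
  have hR : ∀ x : G, x ^ smallExp p = 1 → x ∈ Cfsg.pCore p G := by
    intro x hx
    obtain ⟨a, ha⟩ := h x hx
    obtain ⟨k, hk⟩ : ∃ k, smallExp p = p ^ k := by
      rcases eq_or_ne p 2 with h2 | h2
      · exact ⟨2, by rw [smallExp, if_pos h2, h2]; norm_num⟩
      · exact ⟨1, by rw [smallExp, if_neg h2, pow_one]⟩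
    obtain ⟨j, -, hj⟩ := (Nat.dvd_prime_pow hp.out).1 (hk ▸ orderOf_dvd_of_pow_eq_one hx)
    have hxp : IsPGroup p (zpowers x) := IsPGroup.of_card (n := j) (by rw [Nat.card_zpowers, hj])
    obtain ⟨P, hP⟩ := hxp.exists_le_sylow
    have hle : normalClosure ({x} : Set G) ≤ P := by
      refine (closure_le _).2 fun z hz => ?_
      obtain ⟨_, rfl, hzc⟩ := Group.mem_conjugatesOfSet_iff.1 hz
      obtain ⟨g, rfl⟩ := isConj_iff.1 hzc
      obtain ⟨s, hs, hsC⟩ := exists_sylow_mem_mul ha P g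
      have hcm := mem_centralizer_singleton_iff.1 hsC
      rename_i x'
      have e : g * x' * g⁻¹ = s * x' * s⁻¹ := by
        calc g * x' * g⁻¹ = s * ((s⁻¹ * g) * x') * g⁻¹ := by group
          _ = s * (x' * (s⁻¹ * g)) * g⁻¹ := by rw [hcm]
          _ = s * x' * s⁻¹ := by group
      rw [SetLike.mem_coe, e]
      exact mul_mem (mul_mem hs (hP (mem_zpowers x'))) (inv_mem hs)
    exact Solvable.le_pCore normalClosure_normal (P.isPGroup'.to_le hle)
      (subset_normalClosure (Set.mem_singleton x))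
  refine Transfer.hasNormalPComplement_iff_frobenius.2 fun D hD g hg hgp => ?_
  rw [mem_centralizer_iff]
  intro d hd
  have h1 := conj_eq_of_fixes_small D hD g hg hgp (fun x _ hx =>
    conj_eq_of_pPower_classes h (Cfsg.pCore p G) (Solvable.pCore_normal p G)
      (Solvable.pCore_isPGroup p) g hgp x (hR x hx)) d hd
  calc d * g = (g * d * g⁻¹) * g := by rw [h1]
    _ = g * d := by group

end CfsgLib.Comp
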