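import Cfsg.Agent.Lib.Comp.SolvableQuotient
import Cfsg.Agent.Lib.Comp.FusionStabilizer

/-!
The subsystem at the end of the chain through a `p`-solvable quotient is normal.
-/

set_option autoImplicit false
set_option linter.unusedVariables false
set_option linter.unusedSectionVars false
set_option linter.style.haveILetI false

namespace CfsgLib.Comp.SQ

open Cfsg Cfsg.FusionSystem Subgroup CfsgLib.Fusion CfsgLib.Comp.Fus

universe u

variable {Ω : Type u} [Group Ω] {S T : Subgroup Ω} {F : FusionSystem S} {E : FusionSystem T}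
  {p : ℕ} [Fact p.Prime] [Finite S]

theorem isNormalIn_chain (hS : IsPGroup p S) (hw : E.IsWeaklyNormalIn F p)
    {G : FusionSystem (T ⊔ centralizerIn S T)} (hG : Out E (centralizerIn S T) F G p)
    (hGT : G.autGroup T = E.autGroup T) : G.IsNormalIn F p := by
  obtain ⟨hEsat, hF, hinv⟩ := id hw
  obtain ⟨hsub, hsc, -, -⟩ := isInvariantIn_iff.1 hinv
  have hUS : (T ⊔ centralizerIn S T) ≤ S := sup_le hsc.1 inf_le_left
  have hscU : F.StronglyClosed (T ⊔ centralizerIn S T) := stronglyClosed_sup_centralizerIn hS hF hsc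
  haveI := finite_of_le hUS
  haveI := finite_of_le hsc.1
  have hUp : IsPGroup p ↥(T ⊔ centralizerIn S T) := hS.to_le hUS
  have hwG : E.IsWeaklyNormalIn G p := isWeaklyNormalIn_between hS hw hG.sat hG.sub hG.base
  obtain ⟨-, -, -, hfrG⟩ := isInvariantIn_iff.1 hwG.2.2
  refine isNormalIn_iff.2 ⟨⟨hG.sat, hF, isInvariantIn_iff.2
    ⟨hG.sub, hscU, fun a ha P f hf => ?_, hG.frat⟩⟩, fun a ha => ?_⟩
  · have hi : img (T ⊔ centralizerIn S T) a = (T ⊔ centralizerIn S T) := StronglyClosed.img_eq hscU ha le_rfl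
    set α := ha.toAut hi with hαdef
    have hαa : ∀ x ∈ (T ⊔ centralizerIn S T), autFun α x = a x := fun x hx => by
      rw [autFun_apply α hx, hαdef, IsMap.toAut_apply]
    have hα : α ∈ F.autGroup (T ⊔ centralizerIn S T) := ha.toAut_mem hi
    have hαm := isMap_autFun hUS hα
    have hm : IsMap (subgroupSys F hUS) (T ⊔ centralizerIn S T) (autFun α) :=
      ⟨hαm.toHom, ⟨hαm.toHom_mem, le_rfl, fun x => autFun_mem α x.2⟩, fun _ => rfl⟩
    have hle : G ≤ twistSys G hm := by
      refine alperin hUp hG.sat fun R hR => ?_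
      have hRU : R ≤ (T ⊔ centralizerIn S T) := hR.elim (fun e => e.le) fun e => e.1.1
      haveI := finite_of_le hRU
      have hRn : G.IsFullyNormalized R := hR.elim (fun e => e ▸ fullyNormalized_top G) fun e => e.2.1
      have hRc : E.IsCentric (R ⊓ T) := by
        rcases hR with rfl | hR
        · rw [inf_eq_right.2 le_sup_left]
          exact centric_top (hS.to_le hsc.1) hEsat
        · exact by_contra fun hnc =>
            not_radical hUp hwG hR.1 hnc (essential_isRadical hUp hG.sat hR)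
      obtain ⟨W, hW⟩ := (fullyAutomized_of_fullyNormalized hUp hG.sat hRn).2
      refine Subgroup.subgroupOf_eq_top.1 (eq_top_of_sylow_le W ?_ fun y hy => ?_)
      · rw [hW]
        exact Subgroup.comap_mono (autInducedBy_le_autGroup hRU)
      obtain ⟨β, hβ⟩ := y
      rw [Subgroup.orderOf_mk] at hy
      show β ∈ (twistSys G hm).autGroup R
      have hPa : IsMap F R (autFun α) := hαm.mono hRU
      set β' := MulAut.congr hPa.equivImg β with hβ'
      have hQU : img R (autFun α) ≤ (T ⊔ centralizerIn S T) := fun z hz => by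
        obtain ⟨x, hx, rfl⟩ := hPa.mem_img.1 hz
        exact autFun_mem α (hRU hx)
      have hval : ∀ x : R, ((β' ⟨autFun α x, hPa.apply_mem_img x.2⟩ : img R (autFun α)) : Ω) =
          autFun α ((β x : R) : Ω) := fun x => by
        have e : (⟨autFun α x, hPa.apply_mem_img x.2⟩ : img R (autFun α)) = hPa.equivImg x :=
          Subtype.ext (IsMap.coe_equivImg hPa x).symm
        rw [e, hβ']
        show ((hPa.equivImg (β (hPa.equivImg.symm (hPa.equivImg x))) : img R (autFun α)) : Ω) = _
        rw [MulEquiv.symm_apply_apply, IsMap.coe_equivImg]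
      have hβF : β ∈ F.autGroup R :=
        (autGroup_mem_iff (hRU.trans hUS)).2 (hG.sub R ((autGroup_mem_iff hRU).1 hβ))
      have hmR := isMap_autFun hRU hβ
      obtain ⟨b, hb, e, he, hbe⟩ := hfrG (R ⊓ T) _ inf_le_right (hmR.mono inf_le_left)
      have hbE : IsMap E T b := by
        have hbi : img T b = T := StronglyClosed.img_eq hwG.2.2.2.1 hb le_rfl
        have hmem : hb.toAut hbi ∈ E.autGroup T := hGT ▸ hb.toAut_mem hbi
        refine (isMap_autFun le_rfl hmem).congr fun x hx => ?_
        rw [autFun_apply _ hx, IsMap.toAut_apply]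
      have he' : IsMap E (R ⊓ T) (fun x => b (e x)) := he.comp hbE fun x hx => he.mem hx
      obtain ⟨k, hk, hkx⟩ := strongInv_of_invariant hinv (R ⊓ T) T _ (autFun α) inf_le_right le_rfl
        he' (fun x hx => he'.mem hx) (hαm.mono le_sup_left)
      have hii : img (R ⊓ T) (autFun α) = img R (autFun α) ⊓ T := img_inter hsc hPa
      have hc' : E.IsCentric (img R (autFun α) ⊓ T) :=
        hii ▸ centric_img_of_map hS hw (hPa.mono inf_le_left) hRc
      have hβ'G : β' ∈ G.autGroup (img R (autFun α)) := by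
        refine hG.spec _ β' hQU hc' (hPa.congr_mem_autGroup hβF)
          (by rw [hβ', MulEquiv.orderOf_eq]; exact hy) ⟨k, hii ▸ hk, fun z hz => ?_⟩
        obtain ⟨x, hx, rfl⟩ := (hPa.mono inf_le_left).mem_img.1 (hii.ge hz)
        rw [hkx x hx, ← hbe x hx, autFun_apply β' (hPa.apply_mem_img hx.1), hval ⟨x, hx.1⟩,
          autFun_apply β hx.1]
      refine (autGroup_mem_iff hRU).2 ⟨hRU, fun x => hRU (β x).2, _,
        isMap_autFun hQU hβ'G, fun x => ?_⟩
      rw [autFun_apply β' (hPa.apply_mem_img x.2), hval]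
      rfl
    obtain ⟨-, -, g, hg, hgx⟩ := hle P hf.toHom_mem
    have hi' : img P (autFun α) = img P a := img_congr fun x hx => hαa x (hf.le hx)
    refine ⟨g, hi' ▸ hg, fun x hx => ?_⟩
    rw [← hαa x (hf.le hx), ← hαa _ (hf.mem hx)]
    exact (hgx ⟨x, hx⟩).symm
  · have hCU : centralizerIn S (T ⊔ centralizerIn S T) ≤ (T ⊔ centralizerIn S T) := fun z hz =>
      mem_sup_right ⟨hz.1, fun x hx => hz.2 x (mem_sup_left hx)⟩
    have haF := isSubsystemOf_iff.1 hG.sub (T ⊔ centralizerIn S T) a ha
    have hUC : (T ⊔ centralizerIn S T) ⊔ centralizerIn S (T ⊔ centralizerIn S T) = (T ⊔ centralizerIn S T) := sup_eq_left.2 hCU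
    refine ⟨a, hUC.symm ▸ haF, fun x _ => rfl, fun c hc => ?_⟩
    have hac : a c ∈ centralizerIn S (T ⊔ centralizerIn S T) := by
      have h1 := haF.apply_mem_centralizerIn le_rfl (hCU hc) hc.2
      rwa [StronglyClosed.img_eq hscU haF le_rfl] at h1
    exact ⟨mul_mem (Subgroup.inv_mem _ (hCU hc)) (hCU hac), mul_mem (Subgroup.inv_mem _ hc.2) hac.2⟩

end CfsgLib.Comp.SQ
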