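import Cfsg.Agent.Lib.Comp.SliceFixed
import Cfsg.Agent.Lib.Comp.CentralizerClosed

/-!
Elements of `C_S(T)` fixed by the automizers of `T` and of `J(T)` in a normal subsystem.
-/

set_option autoImplicit false
set_option linter.unusedVariables false
set_option linter.unusedSectionVars false
set_option linter.style.haveILetI false
set_option maxHeartbeats 800000

universe u

namespace CfsgLib.Comp.CExt

open Cfsg Cfsg.FusionSystem Subgroup CfsgLib.Fusion CfsgLib.Comp.Fus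

variable {Ω : Type u} [Group Ω] {S T : Subgroup Ω} {F : FusionSystem S} {E : FusionSystem T}
  {p : ℕ}

/-- `α` extends to a map fixing `w`. -/
def Fixes (F : FusionSystem S) {R : Subgroup Ω} (α : MulAut R) (w : Ω) : Prop :=
  ∃ h, IsMap F (R ⊔ zpowers w) h ∧ (∀ x : R, h x = ((α x : R) : Ω)) ∧ h w = w

/-- The automorphisms of `J(T)` in `O^{p'}(Aut_E(J(T)))` of order prime to `p` fix `w`. -/
def FixJ (F : FusionSystem S) (E : FusionSystem T) (p : ℕ) (w : Ω) : Prop :=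
  ∀ a ∈ pGenAut E p (Cfsg.thompsonSubgroupAOf T), (orderOf a).Coprime p →
    Fixes F (a : MulAut (Cfsg.thompsonSubgroupAOf T)) w

/-- `w` is fixed by the automizers of `T` and of `J(T)`. -/
def Base (F : FusionSystem S) (E : FusionSystem T) (p : ℕ) (w : Ω) : Prop :=
  w ∈ centralizerIn S T ∧ (∀ α ∈ E.autGroup T, Fixes F α w) ∧ FixJ F E p w

/-- A map carries extensions fixing `w` to extensions fixing its image. -/
theorem fixes_conj {U P : Subgroup Ω} {g h : Ω → Ω} (hg : IsMap F U g) (hTU : T ≤ U) {w : Ω}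
    (hwU : w ∈ U) (hP : P ≤ T) (hh : IsMap F (P ⊔ zpowers w) h) (hhP : ∀ x ∈ P, h x ∈ T)
    (hhw : h w = w) :
    ∃ h', IsMap F (img P g ⊔ zpowers (g w)) h' ∧ (∀ x ∈ P, h' (g x) = g (h x)) ∧
      h' (g w) = g w := by
  have hle : P ⊔ zpowers w ≤ U := sup_le (hP.trans hTU) (zpowers_le.2 hwU)
  have hg' := hg.mono hle
  obtain ⟨k, hk, hkx, hky, -⟩ := hg'.exists_inv
  have hle' : img P g ⊔ zpowers (g w) ≤ img (P ⊔ zpowers w) g :=
    sup_le (img_mono le_sup_left) (zpowers_le.2 (hg'.apply_mem_img (mem_sup_right (mem_zpowers w))))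
  have hmem : ∀ x ∈ P ⊔ zpowers w, h x ∈ U := fun x hx => by
    refine hh.img_sup_le le_sup_left le_sup_right ?_ ?_ (hh.apply_mem_img hx)
    · intro z hz
      obtain ⟨u, hu, rfl⟩ := (hh.mono le_sup_left).mem_img.1 hz
      exact hTU (hhP u hu)
    · intro z hz
      obtain ⟨u, hu, rfl⟩ := (hh.mono le_sup_right).mem_img.1 hz
      obtain ⟨i, rfl⟩ := mem_zpowers_iff.1 hu
      rw [map_zpow_isMap hh (mem_sup_right (mem_zpowers w)), hhw]
      exact zpow_mem hwU i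
  refine ⟨fun x => g (h (k x)), ((hk.comp hh fun x hx => (hky x hx).1).comp hg
    fun x hx => hmem _ (hky x hx).1).mono hle', fun x hx => ?_, ?_⟩
  · show g (h (k (g x))) = _
    rw [hkx x (mem_sup_left hx)]
  · show g (h (k (g w))) = _
    rw [hkx w (mem_sup_right (mem_zpowers w)), hhw]

theorem pGen_sylow [Fact p.Prime] {R : Subgroup Ω} [Finite T] (hTp : IsPGroup p T)
    (hEsat : E.IsSaturated p) (hR : E.IsFullyNormalized R) :
    (∃ W : Sylow p ↥((pGenAut E p R).map (E.autGroup R).subtype),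
      (W : Subgroup _) = (autInducedBy T R).subgroupOf ((pGenAut E p R).map (E.autGroup R).subtype)) ∧
    autInducedBy T R ≤ (pGenAut E p R).map (E.autGroup R).subtype := by
  haveI := finite_of_le hR.1
  obtain ⟨W, hW⟩ := (fullyAutomized_of_fullyNormalized hTp hEsat hR).2
  have hWA : (W : Subgroup (E.autGroup R)) ≤ pGenAut E p R := fun w hw => by
    obtain ⟨i, hi⟩ := IsPGroup.iff_orderOf.1 W.isPGroup' ⟨w, hw⟩
    exact Subgroup.subset_closure ⟨i, by rwa [← Subgroup.orderOf_coe] at hi⟩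
  obtain ⟨V, hV⟩ := CfsgLib.Transfer.exists_sylow_eq_subgroupOf W (pGenAut E p R)
  haveI : Finite (MulAut R) := Finite.of_injective _ MulEquiv.toEquiv_injective
  let e := (pGenAut E p R).equivMapOfInjective (E.autGroup R).subtype (E.autGroup R).subtype_injective
  have hs : Function.Surjective e.toMonoidHom := e.surjective
  refine ⟨⟨V.mapSurjective hs, ?_⟩, fun α hα => ?_⟩
  · ext x
    obtain ⟨y, rfl⟩ := e.surjective x
    rw [Sylow.coe_mapSurjective, Subgroup.mem_map_equiv, e.symm_apply_apply, hV,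
      Subgroup.mem_subgroupOf, hW]
    rfl
  · have h1 : (⟨α, autInducedBy_le_autGroup hR.1 hα⟩ : E.autGroup R) ∈
        (W : Subgroup (E.autGroup R)) := by rw [hW]; exact hα
    exact ⟨_, hWA h1, rfl⟩

variable [Fact p.Prime] [Finite S] (hS : IsPGroup p S) (hF : F.IsSaturated p)
  (hE : E.IsNormalIn F p)

include hS hF hE

theorem thompson_facts :
    Cfsg.thompsonSubgroupAOf T ≤ T ∧ E.IsFullyNormalized (Cfsg.thompsonSubgroupAOf T) ∧
      E.IsCentric (Cfsg.thompsonSubgroupAOf T) ∧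
      F.IsFullyNormalized (Cfsg.thompsonSubgroupAOf T) ∧
      T ⊓ centralizer (T : Set Ω) ≤ Cfsg.thompsonSubgroupAOf T := by
  have hsc : F.StronglyClosed T := hE.1.2.2.2.1
  have hT : T ≤ S := hsc.1
  haveI := finite_of_le hT
  set J := Cfsg.thompsonSubgroupAOf T
  have hJT : J ≤ T := Complement.thompsonAOf_le T
  have hn : S ≤ normalizer (J : Set Ω) :=
    (StronglyClosed.le_normalizer hsc).trans (Complement.normalizer_le_normalizer_thompsonAOf T)
  have hJc : centralizerIn T J ≤ J := by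
    intro c hc
    obtain ⟨A, hA⟩ := CfsgLib.Complement.exists_maxAbIn (⊤ : Subgroup T)
    have hA' : A ∈ Cfsg.maxAbelianSubgroups T := ⟨hA.2.1, fun B hB => hA.2.2 B le_top hB⟩
    have hAJ : A.map T.subtype ≤ J := Subgroup.map_mono (le_sSup hA')
    have hcA := Complement.mem_maxAbIn_of_centralizes hA (x := ⟨c, hc.1⟩) (Subgroup.mem_top _)
      fun a ha => Subtype.ext (hc.2 _ (hAJ ⟨a, ha, rfl⟩))
    exact hAJ ⟨_, hcA, rfl⟩
  have hEn : E.IsFullyNormalized J := by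
    refine ⟨hJT, fun Q hQ => (Subgroup.card_le_of_le (inf_le_left : normalizerIn T Q ≤ T)).trans ?_⟩
    haveI : Finite (normalizerIn T J) := finite_of_le inf_le_left
    exact Subgroup.card_le_of_le (le_inf le_rfl (hT.trans hn))
  refine ⟨hJT, hEn, centric_of_fullyCentralized (hS.to_le hT) hE.1.1
    (fullyCentralized_of_fullyNormalized (hS.to_le hT) hE.1.1 hEn) hJc, ?_,
    fun c hc => hJc ⟨hc.1, fun x hx => hc.2 x (hJT hx)⟩⟩
  refine ⟨hJT.trans hT, fun Q hQ => (Subgroup.card_le_of_le (inf_le_left : normalizerIn S Q ≤ S)).trans ?_⟩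
  haveI : Finite (normalizerIn S J) := finite_normalizerIn
  exact Subgroup.card_le_of_le (le_inf le_rfl hn)

/-- Maps on `T` carry elements fixed at `J(T)` to such elements. -/
theorem fixJ_apply {U : Subgroup Ω} {g : Ω → Ω} (hg : IsMap F U g) (hTU : T ≤ U) {w : Ω}
    (hwU : w ∈ U) (hw : FixJ F E p w) : FixJ F E p (g w) := by
  obtain ⟨hJT, -, -, -, -⟩ := thompson_facts hS hF hE
  obtain ⟨-, -, hinv⟩ := id hE.1
  have hsc : F.StronglyClosed T := hinv.2.1
  haveI := finite_of_le hsc.1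
  haveI := finite_of_le (hJT.trans hsc.1)
  set J := Cfsg.thompsonSubgroupAOf T
  have hgT := StronglyClosed.img_eq hsc hg hTU
  have hgJ : img J g = J :=
    img_funcOn (fun Q _ => Cfsg.thompsonSubgroupA Q) (fun Q R _ _ _ _ φ => thompsonA_map Q R φ) hS
      (hg.mono hTU) hgT
  have hm := hg.mono (hJT.trans hTU)
  set γ := hm.toAut hgJ with hγ
  have hγF : γ⁻¹ ∈ F.autGroup J := inv_mem (hm.toAut_mem hgJ)
  intro a ha hco
  let c : E.autGroup J →* E.autGroup J :=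
    ((MulAut.conj γ⁻¹).toMonoidHom.comp (E.autGroup J).subtype).codRestrict _
      fun u => autGroup_conj_mem hinv hJT hγF u.2
  have hcinj : Function.Injective c := fun u v h =>
    Subtype.ext ((MulAut.conj γ⁻¹).injective (congrArg Subtype.val h))
  have hb : c a ∈ pGenAut E p J := by
    refine (Subgroup.closure_le ((pGenAut E p J).comap c)).2 (fun u hu => ?_) ha
    obtain ⟨i, hi⟩ := hu
    exact Subgroup.subset_closure ⟨i, by rw [orderOf_injective c hcinj, hi]⟩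
  obtain ⟨h, hh, hhx, hhw⟩ := hw (c a) hb (by rwa [orderOf_injective c hcinj])
  obtain ⟨h', hh', hh'x, hh'w⟩ := fixes_conj hg hTU hwU hJT hh
    (fun x hx => by rw [hhx ⟨x, hx⟩]; exact hJT (Subtype.mem _)) hhw
  rw [hgJ] at hh'
  refine ⟨h', hh', fun x => ?_, hh'w⟩
  obtain ⟨u, hu, hux⟩ := hm.mem_img.1 (hgJ.ge x.2)
  have hxγ : x = γ ⟨u, hu⟩ := Subtype.ext (by rw [hm.toAut_apply]; exact hux.symm)
  rw [← hux, hh'x u hu, hhx ⟨u, hu⟩, hxγ, ← hm.toAut_apply hgJ, ← hγ]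
  show ((γ ((γ⁻¹ * (a : MulAut J) * γ⁻¹⁻¹) ⟨u, hu⟩) : J) : Ω) = _
  rw [inv_inv, MulAut.mul_apply, MulAut.mul_apply, MulAut.apply_inv_self]

/-- Maps on `T` carry base elements to base elements. -/
theorem base_apply {U : Subgroup Ω} {g : Ω → Ω} (hg : IsMap F U g) (hTU : T ≤ U) {w : Ω}
    (hwU : w ∈ U) (hw : Base F E p w) : Base F E p (g w) := by
  obtain ⟨-, -, hinv⟩ := id hE.1
  have hsc : F.StronglyClosed T := hinv.2.1
  haveI := finite_of_le hsc.1
  have hgT := StronglyClosed.img_eq hsc hg hTU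
  refine ⟨?_, fun α hα => ?_, fixJ_apply hS hF hE hg hTU hwU hw.2.2⟩
  · have h := hg.apply_mem_centralizerIn hTU hwU hw.1.2
    rwa [hgT] at h
  · have hm := hg.mono hTU
    set γ := hm.toAut hgT with hγ
    have hb := autGroup_conj_mem hinv le_rfl (inv_mem (hm.toAut_mem hgT)) hα
    obtain ⟨h, hh, hhx, hhw⟩ := hw.2.1 _ hb
    obtain ⟨h', hh', hh'x, hh'w⟩ := fixes_conj hg hTU hwU le_rfl hh
      (fun x hx => by rw [hhx ⟨x, hx⟩]; exact Subtype.mem _) hhw
    rw [hgT] at hh'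
    refine ⟨h', hh', fun x => ?_, hh'w⟩
    obtain ⟨u, hu, hux⟩ := hm.mem_img.1 (hgT.ge x.2)
    have hxγ : x = γ ⟨u, hu⟩ := Subtype.ext (by rw [hm.toAut_apply]; exact hux.symm)
    rw [← hux, hh'x u hu, hhx ⟨u, hu⟩, hxγ, ← hm.toAut_apply hgT, ← hγ]
    show ((γ ((γ⁻¹ * α * γ⁻¹⁻¹) ⟨u, hu⟩) : T) : Ω) = _
    rw [inv_inv, MulAut.mul_apply, MulAut.mul_apply, MulAut.apply_inv_self]

/-- Every element of `C_S(T)` has a translate by `T` fixed by the automizers of `T` and `J(T)`. -/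
theorem exists_base {y : Ω} (hy : y ∈ centralizerIn S T) : ∃ z ∈ T, Base F E p (y * z) := by
  obtain ⟨hJT, hJn, hJc, hJF, hZJ⟩ := thompson_facts hS hF hE
  obtain ⟨hEsat, -, hinv⟩ := id hE.1
  have hsc : F.StronglyClosed T := hinv.2.1
  have hT : T ≤ S := hsc.1
  haveI := finite_of_le hT
  have hTp := hS.to_le hT
  set J := Cfsg.thompsonSubgroupAOf T
  have hJS : J ≤ S := hJT.trans hT
  haveI := finite_of_le hJS
  have hTNJ : T ≤ normalizerIn S J := le_inf hT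
    (T.le_normalizer.trans (Complement.normalizer_le_normalizer_thompsonAOf T))
  have hCJ : centralizerIn S T ≤ centralizerIn S J :=
    inf_le_inf_left S (Subgroup.centralizer_le hJT)
  -- the first translate
  obtain ⟨hWJ, hTJ⟩ := pGen_sylow hTp hEsat hJn
  have hcanJ : ∀ α ∈ (pGenAut E p J).map (E.autGroup J).subtype, (orderOf α).Coprime p →
      ∃ G, CanExt F p J α G := by
    rintro _ ⟨a, ha, rfl⟩ hco
    exact exists_canExt hS hF hE hJc ha (by rwa [Subgroup.coe_subtype, Subgroup.orderOf_coe] at hco)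
  obtain ⟨Λ⟩ := exists_slice hS hF hE hJF hJc hWJ hTJ hcanJ
  obtain ⟨z₁, hz₁, hz₁T, hfix₁⟩ := Λ.exists_fixed_translate hS hJS (hCJ hy)
    (fun t _ htT => by rw [hy.2 t htT, mul_inv_cancel_right]) le_rfl
    fun h hh hhΓ hhc => by
      obtain ⟨α, -, hα⟩ := hhΓ
      have hi : img J h = J := eq_of_le_of_card_le (fun v hv => by
        obtain ⟨u, hu, rfl⟩ := (hh.mono le_sup_left).mem_img.1 hv
        rw [hα ⟨u, hu⟩]
        exact Subtype.mem _) (hh.mono le_sup_left).card_img.ge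
      refine ⟨hhc y (hCJ hy), mul_mem ((centralizer (J : Set Ω)).inv_mem (hCJ hy).2) ?_⟩
      have h1 := hh.apply_mem_centralizerIn le_sup_left (mem_sup_right (hCJ hy)) (hCJ hy).2
      rw [hi] at h1
      exact h1.2
  set w₁ := y * z₁
  have hw₁ : w₁ ∈ centralizerIn S T := by
    refine mul_mem hy ⟨hJS hz₁.1, fun t ht => ?_⟩
    exact mul_inv_eq_iff_eq_mul.1 (hz₁T t (hTNJ ht) ht)
  have hw₁J : FixJ F E p w₁ := fun a ha _ => by
    obtain ⟨h, hh, hhx, hhw⟩ := hfix₁ a ⟨a, ha, rfl⟩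
    exact ⟨h, hh.mono (sup_le_sup_left (zpowers_le.2 (hCJ hw₁)) J), hhx, hhw⟩
  -- the elements of `Z(T)` fixed at `J(T)`
  let Z' : Subgroup Ω :=
    { carrier := {z | z ∈ T ∧ z ∈ centralizer (T : Set Ω) ∧
        ∀ a : E.autGroup J, a ∈ pGenAut E p J → (orderOf a).Coprime p →
          ∀ hz : z ∈ J, (a : MulAut J) ⟨z, hz⟩ = ⟨z, hz⟩}
      one_mem' := ⟨T.one_mem, one_mem _, fun a _ _ _ => map_one _⟩
      mul_mem' := by
        rintro u v ⟨hu, huc, hua⟩ ⟨hv, hvc, hva⟩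
        refine ⟨T.mul_mem hu hv, mul_mem huc hvc, fun a ha hco hz => ?_⟩
        have h1 := hua a ha hco (hZJ ⟨hu, huc⟩)
        have h2 := hva a ha hco (hZJ ⟨hv, hvc⟩)
        have e : (⟨u * v, hz⟩ : J) = ⟨u, hZJ ⟨hu, huc⟩⟩ * ⟨v, hZJ ⟨hv, hvc⟩⟩ := rfl
        rw [e, map_mul, h1, h2]
      inv_mem' := by
        rintro u ⟨hu, huc, hua⟩
        refine ⟨T.inv_mem hu, inv_mem huc, fun a ha hco hz => ?_⟩
        have e : (⟨u⁻¹, hz⟩ : J) = (⟨u, hZJ ⟨hu, huc⟩⟩ : J)⁻¹ := rfl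
        rw [e, map_inv, hua a ha hco _] }
  have hTn : F.IsFullyNormalized T := ⟨hT, fun Q hQ =>
    (Subgroup.card_le_of_le (inf_le_left : normalizerIn S Q ≤ S)).trans
      (by rw [StronglyClosed.normalizerIn_eq hsc])⟩
  have hTc : E.IsCentric T := centric_of_fullyCentralized hTp hEsat
    (fullyCentralized_of_fullyNormalized hTp hEsat (fullyNormalized_top E)) inf_le_left
  obtain ⟨Λ'⟩ := exists_slice hS hF hE (R := T) hTn hTc (Γ := E.autGroup T)
    (fullyAutomized_of_fullyNormalized hTp hEsat (fullyNormalized_top E)).2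
    (autInducedBy_le_autGroup le_rfl) fun α hα hco => exists_canExt_top hS hF hE hα hco
  obtain ⟨z₂, hz₂, -, hfix₂⟩ := Λ'.exists_fixed_translate hS hT hw₁
    (fun t _ htT => by rw [hw₁.2 t htT, mul_inv_cancel_right]) (Z' := Z')
    (fun z hz => ⟨hz.1, hz.2.1⟩) fun h hh hhΓ hhc => by
      obtain ⟨α, -, hα⟩ := hhΓ
      have hhT := StronglyClosed.img_eq hsc hh (le_sup_left : T ≤ T ⊔ centralizerIn S T)
      have hw₂ : h w₁ ∈ centralizerIn S T := by
        have h1 := hh.apply_mem_centralizerIn le_sup_left (mem_sup_right hw₁) hw₁.2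
        rwa [hhT] at h1
      have hJ₂ : FixJ F E p (h w₁) :=
        fixJ_apply hS hF hE hh le_sup_left (mem_sup_right hw₁) hw₁J
      refine ⟨hhc w₁ hw₁, mul_mem ((centralizer (T : Set Ω)).inv_mem hw₁.2) hw₂.2, fun a ha hco hz => Subtype.ext ?_⟩
      obtain ⟨G, hG⟩ := exists_canExt hS hF hE hJc ha hco
      obtain ⟨h₁, hh₁, hh₁x, hh₁w⟩ := hw₁J a ha hco
      obtain ⟨h₂, hh₂, hh₂x, hh₂w⟩ := hJ₂ a ha hco
      rw [← hG.val]
      show G (w₁⁻¹ * h w₁) = w₁⁻¹ * h w₁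
      rw [hG.map.map_mul (inv_mem (mem_sup_right (hCJ hw₁))) (mem_sup_right (hCJ hw₂)),
        hG.map.map_inv (mem_sup_right (hCJ hw₁)), hG.fix_of_witness hS (hCJ hw₁) hh₁ hh₁x hh₁w,
        hG.fix_of_witness hS (hCJ hw₂) hh₂ hh₂x hh₂w]
  have hw : w₁ * z₂ ∈ centralizerIn S T := mul_mem hw₁ ⟨hT hz₂.1, hz₂.2.1⟩
  refine ⟨z₁ * z₂, T.mul_mem (hJT hz₁.1) hz₂.1, ?_⟩
  rw [← mul_assoc]
  refine ⟨hw, fun α hα => ?_, fun a ha hco => ?_⟩
  · obtain ⟨h, hh, hhx, hhw⟩ := hfix₂ α hα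
    exact ⟨h, hh.mono (sup_le_sup_left (zpowers_le.2 hw) T), hhx, hhw⟩
  · obtain ⟨G, hG⟩ := exists_canExt hS hF hE hJc ha hco
    obtain ⟨h₁, hh₁, hh₁x, hh₁w⟩ := hw₁J a ha hco
    refine ⟨G, hG.map.mono (sup_le_sup_left (zpowers_le.2 (hCJ hw)) J), hG.val, ?_⟩
    have hz₂J : z₂ ∈ J := hZJ ⟨hz₂.1, hz₂.2.1⟩
    rw [hG.map.map_mul (mem_sup_right (hCJ hw₁)) (mem_sup_left hz₂J),
      hG.fix_of_witness hS (hCJ hw₁) hh₁ hh₁x hh₁w]
    congr 1
    exact (hG.val ⟨z₂, hz₂J⟩).trans (congrArg Subtype.val (hz₂.2.2 a ha hco hz₂J))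

end CfsgLib.Comp.CExt
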