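import Cfsg.Agent.Lib.Comp.ThompsonBase

/-!
For odd `p`, elements of `C_S(T)` fixed by the automizers of `T` and `J(T)` centralize the normal
subsystem.
-/

set_option autoImplicit false
set_option linter.unusedVariables false
set_option linter.unusedSectionVars false
set_option linter.style.haveILetI false
set_option maxHeartbeats 800000

universe u

namespace CfsgLib.Comp.CExt

open Cfsg Cfsg.FusionSystem Subgroup CfsgLib.Fusion CfsgLib.Comp.Fus

variable {Ω : Type u} [Group Ω] {S T : Subgroup Ω} {F : FusionSystem S} {E : FusionSystem T}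
  {p : ℕ}

theorem le_centralizerIn_zpowers {w : Ω} (hT : T ≤ S) (hw : w ∈ centralizerIn S T) :
    T ≤ centralizerIn S (zpowers w) := le_inf hT fun t ht z hz => by
  obtain ⟨i, rfl⟩ := mem_zpowers_iff.1 hz
  exact ((Commute.zpow_right (hw.2 t ht : Commute t w) i).eq).symm

/-- The maps of `E` extending to maps fixing the base elements. -/
noncomputable def baseSys (F : FusionSystem S) (E : FusionSystem T) (p : ℕ) (hT : T ≤ S) :
    FusionSystem T where
  Hom P := {φ | φ ∈ E.Hom P ∧ ∀ w, ∀ hw : Base F E p w,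
    φ ∈ (centralizerSys F (zpowers w) (zpowers_le.2 hw.1.1)).Hom P}
  le_of_mem h := E.le_of_mem h.1
  injective_of_mem h := E.injective_of_mem h.1
  conj_mem := by
    intro P g hP hg
    exact ⟨E.conj_mem hP hg, fun w hw => (centralizerSys F (zpowers w) _).conj_mem
      (hP.trans (le_centralizerIn_zpowers hT hw.1)) (le_centralizerIn_zpowers hT hw.1 hg)⟩
  comp_mem := by
    intro P Q φ ψ hφ hψ h
    exact ⟨E.comp_mem hφ.1 hψ.1 h, fun w hw =>
      (centralizerSys F (zpowers w) _).comp_mem (hφ.2 w hw) (hψ.2 w hw) h⟩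
  inv_mem := by
    intro P φ hφ
    obtain ⟨ψ, hψ, hψx⟩ := E.inv_mem hφ.1
    refine ⟨ψ, ⟨hψ, fun w hw => ?_⟩, hψx⟩
    obtain ⟨ψ', hψ', hψ'x⟩ := (centralizerSys F (zpowers w) _).inv_mem (hφ.2 w hw)
    have e : ψ = ψ' := MonoidHom.ext fun y => by
      obtain ⟨_, x, rfl⟩ := y
      exact (hψx x).trans (hψ'x x).symm
    exact e ▸ hψ'

theorem isMap_baseSys_iff (hT : T ≤ S) {P : Subgroup Ω} {f : Ω → Ω} :
    IsMap (baseSys F E p hT) P f ↔ IsMap E P f ∧ ∀ w, Base F E p w →
      ∃ h, IsMap F (P ⊔ zpowers w) h ∧ (∀ x ∈ P, h x = f x) ∧ h w = w := by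
  constructor
  · rintro ⟨φ, ⟨hφ, hw⟩, hf⟩
    refine ⟨⟨φ, hφ, hf⟩, fun w h => ?_⟩
    obtain ⟨-, -, g, hg, hgx, hgw⟩ := (mem_centralizerHom_iff (f := f) hf).1 (hw w h)
    exact ⟨g, hg, hgx, hgw w (mem_zpowers w)⟩
  · rintro ⟨hf, hw⟩
    refine ⟨hf.toHom, ⟨hf.toHom_mem, fun w h => ?_⟩, fun _ => rfl⟩
    obtain ⟨g, hg, hgx, hgw⟩ := hw w h
    have hTw := le_centralizerIn_zpowers hT h.1
    refine (mem_centralizerHom_iff (f := f) fun _ => rfl).2
      ⟨hf.le.trans hTw, fun x hx => hTw (hf.mem hx), g, hg, hgx, fun z hz => ?_⟩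
    obtain ⟨i, rfl⟩ := mem_zpowers_iff.1 hz
    rw [map_zpow_isMap hg (mem_sup_right (mem_zpowers w)), hgw]

theorem isMap_of_baseSys (hT : T ≤ S) {P : Subgroup Ω} {f : Ω → Ω}
    (hf : IsMap (baseSys F E p hT) P f) : IsMap E P f := ((isMap_baseSys_iff hT).1 hf).1

theorem mem_baseSys_autGroup (hT : T ≤ S) {R : Subgroup Ω} (hR : R ≤ T) {α : MulAut R}
    (hα : α ∈ E.autGroup R) (h : ∀ w, Base F E p w → Fixes F α w) :
    α ∈ (baseSys F E p hT).autGroup R := by
  refine (autGroup_iff_isMap hR fun x => (toFun_aut_apply α x.2).symm).2 ((isMap_baseSys_iff hT).2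
    ⟨isMap_of_autGroup hR hα, fun w hw => ?_⟩)
  obtain ⟨k, hk, hkx, hkw⟩ := h w hw
  exact ⟨k, hk, fun x hx => by rw [hkx ⟨x, hx⟩, toFun_aut_apply α hx], hkw⟩

theorem fixes_of_baseSys (hT : T ≤ S) {R : Subgroup Ω} (hR : R ≤ T) {α : MulAut R}
    (hα : α ∈ (baseSys F E p hT).autGroup R) {w : Ω} (hw : Base F E p w) : Fixes F α w := by
  obtain ⟨-, h⟩ := (isMap_baseSys_iff hT).1 (isMap_of_autGroup hR hα)
  obtain ⟨k, hk, hkx, hkw⟩ := h w hw
  exact ⟨k, hk, fun x => by rw [hkx x x.2, toFun_aut_apply α x.2], hkw⟩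

/-- Automorphisms transported along a map of a system. -/
theorem mem_autGroup_of_conj {S' : Subgroup Ω} {D : FusionSystem S'} {U U' : Subgroup Ω}
    {ψ f' : Ω → Ω} (hψ : IsMap D U ψ) (hU' : img U ψ = U') (hf' : IsMap D U' f') {α : MulAut U}
    (h : ∀ x : U, f' (ψ x) = ψ ((α x : U) : Ω)) : α ∈ D.autGroup U := by
  obtain ⟨k, hk, hkx, -, -⟩ := hψ.exists_inv
  rw [hU'] at hk
  have hin : ∀ x ∈ U, ψ x ∈ U' := fun x hx => hU' ▸ hψ.apply_mem_img hx
  have hout : ∀ x ∈ U, f' (ψ x) ∈ U' := fun x hx => by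
    rw [h ⟨x, hx⟩]; exact hin _ (Subtype.mem _)
  refine (autGroup_iff_isMap hψ.le (f := fun x => k (f' (ψ x))) fun x => ?_).2
    ((hψ.comp hf' hin).comp hk hout)
  show _ = k (f' (ψ x))
  rw [h x, hkx _ (Subtype.mem _)]

variable [Fact p.Prime] [Finite S] (hS : IsPGroup p S) (hF : F.IsSaturated p)
  (hE : E.IsNormalIn F p)

include hS hF hE

theorem transport_base (hT : T ≤ S) {a : MulAut T} (ha : a ∈ F.autGroup T) {P : Subgroup Ω}
    {f : Ω → Ω} (hf : IsMap (baseSys F E p hT) P f) :
    ∃ g, IsMap (baseSys F E p hT) (img P (autFun a)) g ∧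
      ∀ x ∈ P, g (autFun a x) = autFun a (f x) := by
  haveI := finite_of_le hT
  obtain ⟨hfE, hfw⟩ := (isMap_baseSys_iff hT).1 hf
  obtain ⟨g, hg, hgx⟩ := IsInvariantIn.transport hE.1.2.2 ha hfE
  have hsc : F.StronglyClosed T := hE.1.2.2.2.1
  have hTn : F.IsFullyNormalized T := ⟨hT, fun Q hQ =>
    (Subgroup.card_le_of_le (inf_le_left : normalizerIn S Q ≤ S)).trans
      (by rw [StronglyClosed.normalizerIn_eq hsc])⟩
  obtain ⟨A, hA, hAx⟩ := receptive_extend_centralizer (receptive_of_fullyNormalized hS hF hTn)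
    (isMap_autFun hT ha) img_autFun
  refine ⟨g, (isMap_baseSys_iff hT).2 ⟨hg, fun w hw => ?_⟩, hgx⟩
  obtain ⟨k, hk, hkx, hky, -⟩ := hA.exists_inv
  have hAT : img T A = T := StronglyClosed.img_eq hsc hA le_sup_left
  have hAi : img (T ⊔ centralizerIn S T) A = T ⊔ centralizerIn S T := by
    haveI := finite_of_le hA.le
    refine eq_of_le_of_card_le ?_ hA.card_img.ge
    refine hA.img_sup_le le_sup_left le_sup_right (hAT.le.trans le_sup_left) fun z hz => ?_
    obtain ⟨c, hc, rfl⟩ := (hA.mono le_sup_right).mem_img.1 hz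
    have h1 := hA.apply_mem_centralizerIn le_sup_left (mem_sup_right hc) hc.2
    rw [hAT] at h1
    exact mem_sup_right h1
  rw [hAi] at hk hky
  have hwU : w ∈ T ⊔ centralizerIn S T := mem_sup_right hw.1
  have hw₀ : Base F E p (k w) := base_apply hS hF hE hk le_sup_left hwU hw
  obtain ⟨h, hh, hhx, hhw⟩ := hfw _ hw₀
  obtain ⟨h', hh', hh'x, hh'w⟩ := fixes_conj hA le_sup_left (hky w hwU).1 hfE.le hh
    (fun x hx => by rw [hhx x hx]; exact hfE.mem hx) hhw
  rw [(hky w hwU).2] at hh' hh'w
  have hagree : ∀ x ∈ P, A x = autFun a x := fun x hx => hAx x (hfE.le hx)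
  rw [img_congr hagree] at hh'
  refine ⟨h', hh', fun x hx => ?_, hh'w⟩
  obtain ⟨u, hu, rfl⟩ := (mem_img_autFun (isMap_autFun hT ha) hfE.le).1 hx
  rw [hgx u hu, ← hagree u hu, hh'x u hu, hhx u hu, hAx _ (hfE.mem hu)]

/-- The centralizer in `T` of the Thompson subgroup of the normalizer of a centric subgroup. -/
theorem centralizer_thompson_le {U : Subgroup Ω} (hU : E.IsCentric U)
    (hWU : Cfsg.thompsonSubgroupAOf (normalizerIn T U) ≤ U) :
    centralizerIn T (Cfsg.thompsonSubgroupAOf (normalizerIn T U)) ≤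
      Cfsg.thompsonSubgroupAOf (normalizerIn T U) := by
  have hT : T ≤ S := hE.1.2.2.2.1.1
  haveI := finite_of_le hT
  set M := normalizerIn T U
  set W := Cfsg.thompsonSubgroupAOf M with hW
  set C := centralizerIn T W
  haveI : Finite M := finite_of_le (inf_le_left : M ≤ T)
  have hUM : U ≤ M := le_normalizerIn hU.1
  have hWM : M ≤ normalizer (W : Set Ω) :=
    M.le_normalizer.trans (Complement.normalizer_le_normalizer_thompsonAOf M)
  have hUC : U ≤ normalizer (C : Set Ω) :=
    CfsgLib.Comp.le_normalizer_inf (hU.1.trans T.le_normalizer)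
      ((hUM.trans hWM).trans (CfsgLib.Comp.normalizer_le_normalizer_centralizer W))
  have hinM : ∀ c ∈ C, c ∈ M → c ∈ W := fun c hc hcM => by
    obtain ⟨A, hA⟩ := CfsgLib.Complement.exists_maxAbIn (⊤ : Subgroup M)
    have hA' : A ∈ Cfsg.maxAbelianSubgroups M := ⟨hA.2.1, fun B hB => hA.2.2 B le_top hB⟩
    have hAW : A.map M.subtype ≤ W := Subgroup.map_mono (le_sSup hA')
    have hcA := Complement.mem_maxAbIn_of_centralizes hA (x := ⟨c, hcM⟩) (Subgroup.mem_top _)
      fun a ha => Subtype.ext (hc.2 _ (hAW ⟨a, ha, rfl⟩))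
    exact hAW ⟨_, hcA, rfl⟩
  have hCU : C ≤ U := by
    by_contra hne
    have hlt : U < U ⊔ C := lt_of_le_of_ne le_sup_left fun h => hne (le_sup_right.trans h.ge)
    have hle : U ⊔ C ≤ T := sup_le hU.1 inf_le_left
    haveI := finite_of_le (hle.trans hT)
    obtain ⟨y, hy, hyU⟩ := SetLike.exists_of_lt (lt_normalizerIn (hS.to_le (hle.trans hT)) hlt)
    obtain ⟨a, ha, c, hc, rfl⟩ : ∃ a ∈ U, ∃ c ∈ C, a * c = y := by
      have h : y ∈ ((U ⊔ C : Subgroup Ω) : Set Ω) := hy.1
      rwa [Subgroup.coe_mul_of_left_le_normalizer_right U C hUC, Set.mem_mul] at h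
    have hcN : c ∈ normalizer (U : Set Ω) := by
      have h := (normalizer (U : Set Ω)).mul_mem ((normalizer (U : Set Ω)).inv_mem
        (U.le_normalizer ha)) hy.2
      rwa [inv_mul_cancel_left] at h
    exact hyU (U.mul_mem ha (hWU (hinM c hc ⟨hc.1, hcN⟩)))
  exact fun c hc => hinM c hc (hUM (hCU hc))

section Induction

variable (hT : T ≤ S) {R : Subgroup Ω}
  (hlarge : ∀ (Q : Subgroup Ω) (g : Ω → Ω), IsMap E Q g → Nat.card R < Nat.card Q →
    IsMap (baseSys F E p hT) Q g)

include hlarge

/-- Reduction to a fully `F`-normalized conjugate. -/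
theorem autGroup_le_of_conj {U Q : Subgroup Ω} (hUT : U ≤ T)
    (hRU : Nat.card R < Nat.card (normalizerIn T U)) (hUc : E.IsCentric U)
    (hconj : F.IsConj U Q) (hQn : F.IsFullyNormalized Q)
    (hQ : Q ≤ T → E.IsCentric Q → Nat.card (normalizerIn T U) ≤ Nat.card (normalizerIn T Q) →
      E.autGroup Q ≤ (baseSys F E p hT).autGroup Q) :
    E.autGroup U ≤ (baseSys F E p hT).autGroup U := by
  obtain ⟨hEsat, -, hinv⟩ := id hE.1
  obtain ⟨hsub, hsc, -, hfrat⟩ := id hinv
  haveI := finite_of_le hT
  obtain ⟨ψ, hψ, hψi, hψN⟩ := exists_map_normalizerIn_of_fullyNormalized hS hF hQn hconj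
  set M := normalizerIn T U with hM
  haveI : Finite M := finite_of_le (inf_le_left : M ≤ T)
  have hMN : M ≤ normalizerIn S U := inf_le_inf_right _ hT
  have hUM : U ≤ M := le_normalizerIn hUT
  have hψM := hψ.mono hMN
  obtain ⟨a, ha, φ₀, hφ₀, hax⟩ := hfrat M inf_le_left hψM.toHom hψM.toHom_mem
  have he : IsMap E M (toFun φ₀) := isMap_of_hom hφ₀
  have hψe : ∀ x ∈ M, ψ x = autFun a (toFun φ₀ x) := fun x hx => by
    have hm : φ₀ ⟨x, hx⟩ ∈ T := toFun_of_mem φ₀ hx ▸ he.mem hx
    rw [toFun_of_mem φ₀ hx, autFun_apply a hm]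
    exact hax ⟨x, hx⟩ hm
  have hD : IsMap (baseSys F E p hT) M (toFun φ₀) := hlarge M _ he hRU
  have hDU := hD.mono hUM
  have hψU := hψM.mono hUM
  have hQT : Q ≤ T := hψi ▸ fun z hz => by
    obtain ⟨u, hu, rfl⟩ := hψU.mem_img.1 hz
    exact StronglyClosed.apply_mem hsc hψU hu (hUT hu)
  haveI := finite_of_le (hQT.trans hT)
  have hQc : E.IsCentric Q := hψi ▸ centric_img_of_map hS hE.1 hψU hUc
  have hcard : Nat.card M ≤ Nat.card (normalizerIn T Q) := by
    haveI : Finite (normalizerIn T Q) := finite_of_le inf_le_left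
    rw [← hψM.card_img]
    refine Subgroup.card_le_of_le fun z hz => ?_
    obtain ⟨u, hu, rfl⟩ := hψM.mem_img.1 hz
    exact ⟨StronglyClosed.apply_mem hsc hψM hu hu.1, (hψN u (hMN hu)).2⟩
  have hQD := hQ hQT hQc hcard
  intro α hα
  obtain ⟨k, hk, hkx, hky, -⟩ := (he.mono hUM).exists_inv
  set U₁ := img U (toFun φ₀) with hU₁
  have hf₁ : IsMap E U₁ (fun x => toFun φ₀ (toFun (U.subtype.comp α.toMonoidHom) (k x))) := by
    refine (hk.comp (isMap_of_autGroup hUT hα) fun x hx => (hky x hx).1).comp (he.mono hUM)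
      fun x hx => ?_
    rw [toFun_aut_apply _ (hky x hx).1]
    exact Subtype.mem _
  have hm := isMap_autFun hT ha
  have hU₁T : U₁ ≤ T := (he.mono hUM).img_le
  obtain ⟨g, hg, hgx⟩ := IsInvariantIn.transport hinv ha hf₁
  have hQimg : img U₁ (autFun a) = Q := by
    rw [← hψi]
    ext z
    rw [hψU.mem_img, mem_img_autFun hm hU₁T]
    constructor
    · rintro ⟨v, hv, rfl⟩
      obtain ⟨x, hx, rfl⟩ := (he.mono hUM).mem_img.1 hv
      exact ⟨x, hx, hψe x (hUM hx)⟩
    · rintro ⟨x, hx, rfl⟩
      exact ⟨_, (he.mono hUM).apply_mem_img hx, (hψe x (hUM hx)).symm⟩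
  rw [hQimg] at hg
  have hgi : img Q g = Q := eq_of_le_of_card_le (fun z hz => by
    obtain ⟨v, hv, rfl⟩ := hg.mem_img.1 hz
    obtain ⟨u, hu, rfl⟩ := (mem_img_autFun hm hU₁T).1 (hQimg.ge hv)
    rw [hgx u hu]
    refine hQimg.le ((mem_img_autFun hm hU₁T).2 ⟨_, ?_, rfl⟩)
    refine (he.mono hUM).apply_mem_img ?_
    rw [toFun_aut_apply _ (hky u hu).1]
    exact Subtype.mem _) hg.card_img.ge
  have hgD : IsMap (baseSys F E p hT) Q g :=
    (autGroup_iff_isMap hQT fun x => hg.toAut_apply hgi x).1 (hQD (hg.toAut_mem hgi))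
  obtain ⟨g', hg', hg'x⟩ := transport_base hS hF hE hT (inv_mem ha) hgD
  have hback : img Q (autFun a⁻¹) = U₁ := by
    ext z
    rw [mem_img_autFun (isMap_autFun hT (inv_mem ha)) hQT]
    constructor
    · rintro ⟨v, hv, rfl⟩
      obtain ⟨u, hu, rfl⟩ := (mem_img_autFun hm hU₁T).1 (hQimg.ge hv)
      rwa [autFun_inv_apply a (hU₁T hu)]
    · intro hz
      exact ⟨autFun a z, hQimg.le ((mem_img_autFun hm hU₁T).2 ⟨z, hz, rfl⟩),
        autFun_inv_apply a (hU₁T hz)⟩
  rw [hback] at hg'
  refine mem_autGroup_of_conj hDU rfl hg' fun x => ?_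
  have hu : toFun φ₀ x ∈ U₁ := (he.mono hUM).apply_mem_img x.2
  have h1 := hg'x (autFun a (toFun φ₀ x)) (hQimg.le ((mem_img_autFun hm hU₁T).2 ⟨_, hu, rfl⟩))
  rw [autFun_inv_apply a (hU₁T hu), hgx _ hu] at h1
  rw [h1, hkx x x.2, toFun_aut_apply _ x.2,
    autFun_inv_apply a (he.mem (hUM (Subtype.mem _)))]

/-- The case of a fully `F`-normalized centric subgroup. -/
theorem autGroup_le_core (hp : p ≠ 2) {Q : Subgroup Ω} (hQT : Q ≤ T)
    (hQn : F.IsFullyNormalized Q) (hQc : E.IsCentric Q)
    (hRQ : Nat.card R < Nat.card (normalizerIn T Q))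
    (ih : ∀ V : Subgroup Ω, V ≤ T →
      (Nat.card (normalizerIn T Q) < Nat.card (normalizerIn T V) ∨
        (Nat.card (normalizerIn T Q) ≤ Nat.card (normalizerIn T V) ∧ Nat.card Q < Nat.card V)) →
      E.autGroup V ≤ (baseSys F E p hT).autGroup V) :
    E.autGroup Q ≤ (baseSys F E p hT).autGroup Q := by
  obtain ⟨hEsat, -, hinv⟩ := id hE.1
  obtain ⟨hsub, hsc, -, -⟩ := id hinv
  haveI := finite_of_le hT
  have hTp := hS.to_le hT
  haveI := finite_of_le (hQT.trans hT)
  rcases hQT.eq_or_lt with rfl | hlt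
  · exact fun α hα => mem_baseSys_autGroup hT le_rfl hα fun w hw => hw.2.1 α hα
  set D := baseSys F E p hT
  have hQEn := fullyNormalized_subsystem hS hF hsc hsub hQT hQn
  set M := normalizerIn T Q with hM
  haveI : Finite M := finite_of_le (inf_le_left : M ≤ T)
  have hQM : Q ≤ M := le_normalizerIn hQT
  set W := Cfsg.thompsonSubgroupAOf M with hW
  have hWM : W ≤ M := Complement.thompsonAOf_le M
  have hMW : M ≤ normalizer (W : Set Ω) :=
    M.le_normalizer.trans (Complement.normalizer_le_normalizer_thompsonAOf M)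
  have hcC : ∀ {w}, Base F E p w → w ∈ centralizerIn S Q := fun hw =>
    (inf_le_inf_left S (Subgroup.centralizer_le hQT) : centralizerIn S T ≤ centralizerIn S Q) hw.1
  obtain ⟨W₀, hW₀⟩ := (fullyAutomized_of_fullyNormalized hTp hEsat hQEn).2
  set A := pGenAut E p Q with hA
  set L := (D.autGroup Q).subgroupOf (E.autGroup Q) with hL
  have hW₀A : (W₀ : Subgroup (E.autGroup Q)) ≤ A := fun w hw => by
    obtain ⟨i, hi⟩ := IsPGroup.iff_orderOf.1 W₀.isPGroup' ⟨w, hw⟩
    exact Subgroup.subset_closure ⟨i, by rwa [← Subgroup.orderOf_coe] at hi⟩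
  have hW₀L : (W₀ : Subgroup (E.autGroup Q)) ≤ L := by
    rw [hW₀]
    exact Subgroup.comap_mono (autInducedBy_le_autGroup hQT)
  obtain ⟨V₀, hV₀⟩ := CfsgLib.Transfer.exists_sylow_eq_subgroupOf W₀ A
  have hAL : A ≤ L := by
    by_cases hWQ : W ≤ Q
    · -- the Thompson subgroup lies in `Q`
      have hWc : E.IsCentric W := by
        obtain ⟨W', hWW', hW'⟩ := exists_fullyNormalized_conj E (hWM.trans inf_le_left)
        obtain ⟨ψ, hψ, hψi, -⟩ :=
          exists_map_normalizerIn_of_fullyNormalized hTp hEsat hW' hWW'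
        have hMN : M ≤ normalizerIn T W := le_inf inf_le_left hMW
        have hψM := hψ.mono hMN
        have hψQ := hψM.mono hQM
        set Q' := img Q ψ
        have hQ'c : E.IsCentric Q' := centric_of_isConj hQc hψQ.isConj
        have hMi : img M ψ = normalizerIn T Q' := by
          haveI : Finite (normalizerIn T Q') := finite_of_le inf_le_left
          refine eq_of_le_of_card_le (fun z hz => ?_) ?_
          · obtain ⟨u, hu, rfl⟩ := hψM.mem_img.1 hz
            exact hψM.apply_mem_normalizerIn hQM hu hu.2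
          · rw [hψM.card_img]
            exact hQEn.2 Q' hψQ.isConj
        have hW'' : W' = Cfsg.thompsonSubgroupAOf (normalizerIn T Q') := by
          rw [← hMi, ← hψi]
          haveI : Finite (img M ψ) := finite_of_le hψM.img_le
          have hJ := Complement.thompsonAOf_map (hψM.toHom) (S := (⊤ : Subgroup M))
            fun a _ b _ h => Subtype.ext (hψM.inj a.2 b.2 h)
          rw [← MonoidHom.range_eq_map, hψM.range_toHom] at hJ
          rw [← hJ]
          have htop : Cfsg.thompsonSubgroupAOf (⊤ : Subgroup M) = W.subgroupOf M := by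
            have h1 := Complement.thompsonAOf_map M.subtype (S := (⊤ : Subgroup M))
              fun a _ b _ h => M.subtype_injective h
            rw [← MonoidHom.range_eq_map, Subgroup.range_subtype] at h1
            rw [hW, ← h1, Subgroup.subgroupOf,
              Subgroup.comap_map_eq_self_of_injective M.subtype_injective]
          rw [htop]
          ext z
          rw [(hψM.mono hWM).mem_img]
          constructor
          · rintro ⟨u, hu, rfl⟩
            exact ⟨⟨u, hWM hu⟩, hu, rfl⟩
          · rintro ⟨u, hu, rfl⟩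
            exact ⟨u, hu, rfl⟩
        have hle' : Cfsg.thompsonSubgroupAOf (normalizerIn T Q') ≤ Q' := by
          rw [← hW'', ← hψi]
          exact img_mono hWQ
        have hW'c : E.IsCentric W' := centric_of_fullyCentralized hTp hEsat
          (fullyCentralized_of_fullyNormalized hTp hEsat hW')
          (hW'' ▸ centralizer_thompson_le hS hF hE hQ'c hle')
        exact centric_of_isConj hW'c (isConj_symm hWW')
      haveI := finite_of_le ((hWM.trans inf_le_left).trans hT)
      have hWT : W ≤ T := hWM.trans inf_le_left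
      have hJQ : Cfsg.thompsonSubgroupAOf Q = W := by
        have h1 := Complement.thompsonAOf_map Q.subtype (S := (⊤ : Subgroup Q))
          fun a _ b _ h => Q.subtype_injective h
        rw [← MonoidHom.range_eq_map, Subgroup.range_subtype] at h1
        haveI : Finite M := inferInstance
        have h2 := Complement.thompsonAOf_eq_of_le (G := M) (U := Q.subgroupOf M) (W := ⊤)
          (fun z hz => hWQ (by
            have h3 := Complement.thompsonAOf_map M.subtype (S := (⊤ : Subgroup M))
              fun a _ b _ h => M.subtype_injective h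
            rw [← MonoidHom.range_eq_map, Subgroup.range_subtype] at h3
            rw [hW, ← h3]
            exact ⟨z, hz, rfl⟩)) le_top
        have h4 := congrArg (Subgroup.map M.subtype) h2
        rw [Complement.thompsonAOf_map M.subtype (fun a _ b _ h => M.subtype_injective h),
          Complement.thompsonAOf_map M.subtype (fun a _ b _ h => M.subtype_injective h),
          Subgroup.map_subgroupOf_eq_of_le hQM, ← MonoidHom.range_eq_map,
          Subgroup.range_subtype] at h4
        exact h4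
      have hWinv : ∀ γ : E.autGroup Q, ∀ x : W,
          (((γ : MulAut Q) ⟨x, hWQ x.2⟩ : Q) : Ω) ∈ W := fun γ x => by
        have hm := isMap_of_autGroup hQT γ.2
        have h := img_funcOn (fun Q _ => Cfsg.thompsonSubgroupA Q)
          (fun Q R _ _ _ _ φ => thompsonA_map Q R φ) hTp hm (img_toFun_aut _)
        change img (Cfsg.thompsonSubgroupAOf Q) _ = Cfsg.thompsonSubgroupAOf Q at h
        rw [hJQ] at h
        have h2 := h.le ((hm.mono hWQ).apply_mem_img x.2)
        rwa [toFun_aut_apply _ (hWQ x.2)] at h2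
      let res : E.autGroup Q →* E.autGroup W :=
        { toFun := fun γ => ⟨
            { toFun := fun x => ⟨_, hWinv γ x⟩
              invFun := fun x => ⟨_, hWinv γ⁻¹ x⟩
              left_inv := fun x => Subtype.ext (congrArg Subtype.val
                (MulAut.inv_apply_self _ (γ : MulAut Q) ⟨x, hWQ x.2⟩) :)
              right_inv := fun x => Subtype.ext (congrArg Subtype.val
                (MulAut.apply_inv_self _ (γ : MulAut Q) ⟨x, hWQ x.2⟩) :)
              map_mul' := fun x y => Subtype.ext (congrArg Subtype.val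
                (map_mul (γ : MulAut Q) ⟨x, hWQ x.2⟩ ⟨y, hWQ y.2⟩) :) },
            (autGroup_iff_isMap hWT (f := toFun (Q.subtype.comp (γ : MulAut Q).toMonoidHom))
              fun x => (toFun_aut_apply _ (hWQ x.2)).symm).2
              ((isMap_of_autGroup hQT γ.2).mono hWQ)⟩
          map_one' := Subtype.ext (MulEquiv.ext fun x => rfl)
          map_mul' := fun γ δ => Subtype.ext (MulEquiv.ext fun x => rfl) }
      refine Subgroup.subgroupOf_eq_top.1 (eq_top_of_sylow_le V₀ ?_ fun a ha => ?_)
      · rw [hV₀]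
        exact Subgroup.comap_mono hW₀L
      have hco : (orderOf (a : E.autGroup Q)).Coprime p := by rwa [Subgroup.orderOf_coe]
      obtain ⟨G, hG⟩ := exists_canExt hS hF hE hQc a.2 hco
      have hres : res (a : E.autGroup Q) ∈ pGenAut E p W := by
        refine (Subgroup.closure_le ((pGenAut E p W).comap res)).2 (fun u hu => ?_) a.2
        obtain ⟨i, hi⟩ := hu
        obtain ⟨j, -, hj⟩ := (Nat.dvd_prime_pow (Fact.out : p.Prime)).1 (hi ▸ orderOf_map_dvd res u)
        exact Subgroup.subset_closure ⟨j, hj⟩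
      have hresco : (orderOf (res (a : E.autGroup Q))).Coprime p :=
        hco.coprime_dvd_left (orderOf_map_dvd res _)
      obtain ⟨GW, hGW⟩ := exists_canExt hS hF hE hWc hres hresco
      refine mem_baseSys_autGroup hT hQT a.1.2 fun w hw => ?_
      have hwW : w ∈ centralizerIn S W :=
        (inf_le_inf_left S (Subgroup.centralizer_le hWT) : centralizerIn S T ≤ centralizerIn S W) hw.1
      -- a witness on `W`
      obtain ⟨h, hh, hhx, hhw⟩ : Fixes F ((res (a : E.autGroup Q) : E.autGroup W) : MulAut W) w := by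
        rcases eq_or_lt_of_le (inf_le_left : M ≤ T) with hMT | hMT
        · have hWJ : W = Cfsg.thompsonSubgroupAOf T := congrArg Cfsg.thompsonSubgroupAOf hMT
          have key : ∀ {W' : Subgroup Ω}, W' = Cfsg.thompsonSubgroupAOf T →
              ∀ b : E.autGroup W', b ∈ pGenAut E p W' → (orderOf b).Coprime p →
                Fixes F (b : MulAut W') w := by
            intro W' e
            subst e
            exact fun b hb hbc => hw.2.2 b hb hbc
          exact key hWJ _ hres hresco
        · refine fixes_of_baseSys hT hWT (ih W hWT (Or.inl ?_) (res (a : E.autGroup Q)).2) hw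
          have hlt' : M < normalizerIn T W :=
            (lt_normalizerIn hTp hMT).trans_le (le_inf inf_le_left
              (inf_le_right.trans (Complement.normalizer_le_normalizer_thompsonAOf M)))
          haveI : Finite (normalizerIn T W) := finite_of_le inf_le_left
          exact lt_of_not_ge fun h => hlt'.ne (eq_of_le_of_card_le hlt'.le h)
      have hwQ := hcC hw
      have hyU : w ∈ Q ⊔ centralizerIn S Q := mem_sup_right hwQ
      set z := w⁻¹ * G w with hz
      have hzQ : z ∈ Q := hG.triv w hwQ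
      have hzW : z ∈ W := by
        have hGi : img Q G = Q := eq_of_le_of_card_le (fun v hv => by
          obtain ⟨u, hu, rfl⟩ := (hG.map.mono le_sup_left).mem_img.1 hv
          rw [hG.val ⟨u, hu⟩]
          exact Subtype.mem _) (hG.map.mono le_sup_left).card_img.ge
        have h1 := hG.map.apply_mem_centralizerIn le_sup_left hyU hwQ.2
        rw [hGi] at h1
        have h2 : z ∈ centralizerIn S Q := (centralizerIn S Q).mul_mem
          ((centralizerIn S Q).inv_mem hwQ) h1
        rw [hW]
        exact centralizer_thompson_le hS hF hE hQc hWQ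
          ⟨hQT hzQ, fun x hx => h2.2 x (hWQ hx)⟩
      have hWle : W ⊔ zpowers w ≤ Q ⊔ centralizerIn S Q :=
        sup_le (hWQ.trans le_sup_left) (zpowers_le.2 hyU)
      have hzh : w⁻¹ * h w ∈ W := by rw [hhw, inv_mul_cancel]; exact W.one_mem
      have hd := hGW.diff_fixed hwW hh (hG.map.mono hWle) hhx
        (fun x => hG.val ⟨x, hWQ x.2⟩) hzh hzW
      have e : (w⁻¹ * h w)⁻¹ * z = z := by rw [hhw, inv_mul_cancel, inv_one, one_mul]
      have hzfix : G z = z := by
        have h1 : G ((w⁻¹ * h w)⁻¹ * z) = (w⁻¹ * h w)⁻¹ * z :=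
          (hG.val ⟨_, hWQ (W.mul_mem (W.inv_mem hzh) hzW)⟩).trans hd
        rwa [e] at h1
      obtain ⟨n, hn, hper⟩ := hG.per
      have hit := pow_fix hG.map hyU (mem_sup_left hzQ) (by rw [hz, mul_inv_cancel_left]) hzfix n
      rw [hper w hyU] at hit
      obtain ⟨k, hk⟩ := hS ⟨z, hT (hQT hzQ)⟩
      have hz1 : z = 1 := orderOf_eq_one_iff.1 (Nat.eq_one_of_dvd_coprimes (hn.pow_right k)
        (orderOf_dvd_of_pow_eq_one (mul_eq_left.1 hit.symm))
        (orderOf_dvd_of_pow_eq_one (congrArg Subtype.val hk)))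
      rw [hz, inv_mul_eq_one] at hz1
      exact ⟨G, hG.map.mono (sup_le le_sup_left (zpowers_le.2 hyU)), hG.val, hz1.symm⟩
    · -- the Thompson subgroup moves `Q`
      obtain ⟨hWs, hQA⟩ := pGen_sylow hTp hEsat hQEn
      have hcan : ∀ α ∈ (pGenAut E p Q).map (E.autGroup Q).subtype, (orderOf α).Coprime p →
          ∃ G, CanExt F p Q α G := by
        rintro _ ⟨a, ha, rfl⟩ hco
        exact exists_canExt hS hF hE hQc ha (by rwa [Subgroup.coe_subtype, Subgroup.orderOf_coe] at hco)
      obtain ⟨Λ⟩ := exists_slice hS hF hE hQn hQc hWs hQA hcan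
      intro a ha
      refine mem_baseSys_autGroup hT hQT a.2 fun w hw => ?_
      have hNT : normalizerIn S Q ⊓ T = M := by
        apply le_antisymm
        · exact fun z hz => ⟨hz.2, hz.1.2⟩
        · exact fun z hz => ⟨⟨hT hz.1, hz.2⟩, hz.1⟩
      have hfix := Λ.fixed_of_thompson hp hS (hQT.trans hT) hQT (hcC hw)
        (fun t _ htT => by rw [hw.1.2 t htT, mul_inv_cancel_right]) hcan fun α hα _ hcond => by
          rw [hNT] at hcond
          obtain ⟨b, -, rfl⟩ := hα
          set U := W ⊔ Q
          have hUT : U ≤ T := sup_le (hWM.trans inf_le_left) hQT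
          haveI := finite_of_le (hUT.trans hT)
          have hm := isMap_of_autGroup hQT b.2
          have hext : ∀ u ∈ U, u ∈ T ∧ u ∈ normalizer (Q : Set Ω) ∧ ∃ c ∈ T, ∀ x ∈ Q,
              toFun (Q.subtype.comp (b : MulAut Q).toMonoidHom) (u * x * u⁻¹) =
                c * toFun (Q.subtype.comp (b : MulAut Q).toMonoidHom) x * c⁻¹ := by
            intro u hu
            refine (mem_extender_iff hm hm.toHom_apply).1
              ((sup_le (fun a ha => ?_) (fun a ha => ?_) : U ≤ extender T Q hm.toHom) hu)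
            · obtain ⟨c, hc, hcx⟩ := hcond a ha
              refine (mem_extender_iff hm hm.toHom_apply).2 ⟨(hWM ha).1, (hWM ha).2, c,
                (hWM hc).1, fun x hx => ?_⟩
              rw [toFun_aut_apply _ hx, toFun_aut_apply _ (((hWM ha).2 x).1 hx)]
              exact hcx ⟨x, hx⟩ _
            · exact sup_centralizerIn_le_extender hm hm.toHom_apply (Subgroup.mem_sup_left ha)
          obtain ⟨g, hg, hgx⟩ := receptive_extend (receptive_of_fullyNormalized hTp hEsat hQEn) hm
            (img_toFun_aut _) (le_sup_right : Q ≤ U) hext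
          have hgQ : ∀ x : Q, g x = (((b : MulAut Q) x : Q) : Ω) := fun x => by
            rw [hgx x x.2, toFun_aut_apply _ x.2]
          have hgi : img U g = U := by
            refine eq_of_le_of_card_le ?_ hg.card_img.ge
            refine hg.img_sup_le le_sup_left le_sup_right ?_ ?_
            · intro v hv
              obtain ⟨u, hu, rfl⟩ := (hg.mono le_sup_left).mem_img.1 hv
              obtain ⟨c, hc, hcx⟩ := hcond u hu
              have hgu : g u ∈ T := hg.mem (mem_sup_left hu)
              have hcz : c⁻¹ * g u ∈ centralizerIn T Q := by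
                refine ⟨T.mul_mem (T.inv_mem (hWM hc).1) hgu, fun r hr => ?_⟩
                obtain ⟨x, rfl⟩ : ∃ x : Q, (((b : MulAut Q) x : Q) : Ω) = r :=
                  ⟨(b : MulAut Q).symm ⟨r, hr⟩, by rw [MulEquiv.apply_symm_apply]⟩
                have h1 := hg.map_conj (mem_sup_left hu : u ∈ U) (mem_sup_right x.2 : (x : Ω) ∈ U)
                have hxq := ((hWM hu).2 x).1 x.2
                rw [hgQ x, hgQ ⟨_, hxq⟩] at h1
                have h2 := (hcx x hxq).symm.trans h1
                set r := (((b : MulAut Q) x : Q) : Ω)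
                calc r * (c⁻¹ * g u) = c⁻¹ * (c * r * c⁻¹) * g u := by group
                  _ = c⁻¹ * (g u * r * (g u)⁻¹) * g u := congrArg (fun v => c⁻¹ * v * g u) h2
                  _ = c⁻¹ * g u * r := by group
              have h3 := hQc.2 Q (isConj_refl hQT) hcz
              rw [← mul_inv_cancel_left c (g u)]
              exact mul_mem (mem_sup_left hc) (mem_sup_right h3)
            · intro v hv
              obtain ⟨u, hu, rfl⟩ := (hg.mono le_sup_right).mem_img.1 hv
              rw [hgQ ⟨u, hu⟩]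
              exact mem_sup_right (Subtype.mem _)
          have hlt' : Q < U := lt_of_le_of_ne le_sup_right fun e => hWQ (le_sup_left.trans e.ge)
          have hcU : Nat.card Q < Nat.card U :=
            lt_of_not_ge fun h => hlt'.ne (eq_of_le_of_card_le hlt'.le h)
          have hNU : Nat.card M ≤ Nat.card (normalizerIn T U) := by
            haveI : Finite (normalizerIn T U) := finite_of_le inf_le_left
            refine Subgroup.card_le_of_le fun m hm' => ⟨hm'.1, ?_⟩
            refine (Subgroup.mem_normalizer_iff_map_conj_eq).2 ?_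
            rw [Subgroup.map_sup, Subgroup.mem_normalizer_iff_map_conj_eq.1 (hMW hm'),
              Subgroup.mem_normalizer_iff_map_conj_eq.1 hm'.2]
          obtain ⟨h, hh, hhx, hhw⟩ := fixes_of_baseSys hT hUT
            (ih U hUT (Or.inr ⟨hNU, hcU⟩) (hg.toAut_mem hgi)) hw
          refine ⟨h, hh.mono (sup_le_sup_right le_sup_right _), fun x => ?_, hhw⟩
          rw [hhx ⟨x, mem_sup_right x.2⟩, hg.toAut_apply hgi]
          exact hgQ x
      obtain ⟨h, hh, hhx, hhw⟩ := hfix a ⟨a, ha, rfl⟩
      exact ⟨h, hh.mono (sup_le_sup_left (zpowers_le.2 (hcC hw)) Q), hhx, hhw⟩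
  have hsup := V₀.normalizer_sup_eq_top
  rw [hV₀, Subgroup.subgroupOf_map_subtype, inf_eq_left.2 hW₀A] at hsup
  refine Subgroup.subgroupOf_eq_top.1 (top_le_iff.1 (hsup.ge.trans (sup_le (fun ν hν => ?_) hAL)))
  have hm := isMap_of_autGroup hQT ν.2
  obtain ⟨g, hg, hgx⟩ := receptive_extend (receptive_of_fullyNormalized hTp hEsat hQEn) hm
    (img_toFun_aut _) hQM fun u hu => by
      set c : E.autGroup Q := ⟨Q.normalizerMonoidHom ⟨u, hu.2⟩, autInducedBy_le_autGroup hQT
        (mem_autInducedBy_iff.2 ⟨u, hu.1, fun x => rfl⟩)⟩ with hcdef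
      have hcW : c ∈ (W₀ : Subgroup (E.autGroup Q)) := by
        rw [hW₀]
        exact mem_autInducedBy_iff.2 ⟨u, hu.1, fun x => rfl⟩
      have h1 := (Subgroup.mem_normalizer_iff.1 hν c).1 hcW
      rw [hW₀] at h1
      obtain ⟨b, hb, hbx⟩ := mem_autInducedBy_iff.1 h1
      refine ⟨hu.1, hu.2, b, hb, fun x hx => ?_⟩
      rw [toFun_aut_apply _ hx, toFun_aut_apply _ ((hu.2 x).1 hx)]
      have h2 := hbx ((ν : MulAut Q) ⟨x, hx⟩)
      simp [hcdef] at h2
      exact h2
  exact (autGroup_iff_isMap hQT fun x => ((hgx x x.2).trans (toFun_aut_apply _ x.2)).symm).2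
    ((hlarge M g hg hRQ).mono hQM)

end Induction

/-- For odd `p`, the base elements centralize `E`. -/
theorem le_baseSys (hp : p ≠ 2) (hT : T ≤ S) : E ≤ baseSys F E p hT := by
  obtain ⟨hEsat, -, hinv⟩ := id hE.1
  haveI := finite_of_le hT
  have hTp := hS.to_le hT
  set D := baseSys F E p hT
  refine alperin_inductive hTp hEsat fun R hR hlarge => ?_
  have hRT := hR.1
  haveI := finite_of_le (hRT.trans hT)
  rcases hRT.eq_or_lt with rfl | hlt
  · exact fun α hα => mem_baseSys_autGroup hT le_rfl hα fun w hw => hw.2.1 α hα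
  by_cases hRc : E.IsCentric R
  swap
  · rw [← extAut_eq_of_not_centric hTp hEsat hR hRc]
    refine (Subgroup.closure_le _).2 fun β hβ => ?_
    obtain ⟨V, hRV, g, hg, hgx⟩ := hβ
    haveI := finite_of_le (hg.le.trans hT)
    exact (autGroup_iff_isMap hRT fun x => (hgx x).symm).2 ((hlarge _ g hg
      (lt_of_not_ge fun h => hRV.ne (eq_of_le_of_card_le hRV.le h))).mono hRV.le)
  have inner : ∀ n, ∀ U : Subgroup Ω, U ≤ T →
      Nat.card R < Nat.card (normalizerIn T U) →
      (Nat.card T + 1) * (Nat.card T + 1) -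
        (Nat.card (normalizerIn T U) * (Nat.card T + 1) + Nat.card U) = n →
      E.autGroup U ≤ D.autGroup U := by
    intro n
    induction n using Nat.strong_induction_on with
    | _ n ih =>
      intro U hU hRU hn
      haveI := finite_of_le (hU.trans hT)
      have hbound : ∀ {V : Subgroup Ω}, V ≤ T →
          Nat.card (normalizerIn T V) ≤ Nat.card T ∧ Nat.card V ≤ Nat.card T := fun hV =>
        ⟨Subgroup.card_le_of_le inf_le_left, Subgroup.card_le_of_le hV⟩
      have habove : ∀ V : Subgroup Ω, V ≤ T →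
          (Nat.card (normalizerIn T U) < Nat.card (normalizerIn T V) ∨
            (Nat.card (normalizerIn T U) ≤ Nat.card (normalizerIn T V) ∧ Nat.card U < Nat.card V)) →
          E.autGroup V ≤ D.autGroup V := fun V hV h =>
        ih _ (hn ▸ lex_measure_lt (hbound hV).1 (hbound hU).2 (hbound hV).2 h) V hV
          (h.elim (fun h => hRU.trans h) fun h => hRU.trans_le h.1) rfl
      by_cases hUn : E.IsFullyNormalized U
      · by_cases hUc : E.IsCentric U
        · obtain ⟨Q, hconj, hQn⟩ := exists_fullyNormalized_conj F (hU.trans hT)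
          refine autGroup_le_of_conj hS hF hE hT hlarge hU hRU hUc hconj hQn
            fun hQT hQc hcard => ?_
          refine autGroup_le_core hS hF hE hT hlarge hp hQT hQn hQc (hRU.trans_le hcard)
            fun V hV h => habove V hV ?_
          rw [isConj_card hconj] at h
          rcases h with h | ⟨h, h'⟩
          · exact Or.inl (hcard.trans_lt h)
          · exact Or.inr ⟨hcard.trans h, h'⟩
        · intro α hα
          set Q := U ⊔ centralizerIn T U with hQdef
          have hQT : Q ≤ T := sup_le hU inf_le_left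
          haveI := finite_of_le (hQT.trans hT)
          have hUQ : U < Q := by
            refine lt_of_le_of_ne le_sup_left fun he => hUc ?_
            exact centric_of_fullyCentralized hTp hEsat
              (fullyCentralized_of_fullyNormalized hTp hEsat hUn)
              ((le_sup_right : centralizerIn T U ≤ Q).trans he.ge)
          have hm := isMap_of_autGroup hU hα
          obtain ⟨g, hg, hgx⟩ := receptive_extend_centralizer
            (receptive_of_fullyNormalized hTp hEsat hUn) hm (img_toFun_aut α)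
          have hgi : img Q g = Q := by
            refine eq_of_le_of_card_le ?_ hg.card_img.ge
            have hgU : img U g = U := (img_congr hgx).trans (img_toFun_aut α)
            refine hg.img_sup_le le_sup_left le_sup_right (hgU.le.trans le_sup_left) ?_
            intro y hy
            obtain ⟨x, hx, rfl⟩ := (hg.mono le_sup_right).mem_img.1 hy
            have h1 := hg.apply_mem_centralizerIn le_sup_left (Subgroup.mem_sup_right hx) hx.2
            rw [hgU] at h1
            exact Subgroup.mem_sup_right h1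
          haveI : Finite (normalizerIn T Q) := finite_of_le inf_le_left
          have h8 := habove Q hQT (Or.inr ⟨Subgroup.card_le_of_le (normalizerIn_le_sup_centralizer U),
            lt_of_not_ge fun h => hUQ.ne (eq_of_le_of_card_le hUQ.le h)⟩) (hg.toAut_mem hgi)
          exact (autGroup_iff_isMap hU fun x => (hgx x x.2).trans (toFun_aut_apply α x.2) |>.symm).2
            (((autGroup_iff_isMap hQT fun x => hg.toAut_apply hgi x).1 h8).mono hUQ.le)
      · obtain ⟨U', hUU', hU'⟩ := exists_fullyNormalized_conj E hU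
        obtain ⟨ψ, hψ, hψi, -⟩ := exists_map_normalizerIn_of_fullyNormalized hTp hEsat hU' hUU'
        have hψD : IsMap D (normalizerIn T U) ψ := hlarge _ ψ hψ hRU
        have hlt' : Nat.card (normalizerIn T U) < Nat.card (normalizerIn T U') := by
          by_contra hge
          exact hUn ⟨hU, fun V hV =>
            (hU'.2 V (isConj_trans (isConj_symm hUU') hV)).trans (not_lt.1 hge)⟩
        have hψU := hψ.mono (le_normalizerIn hU)
        subst hψi
        intro α hα
        have h8 := habove _ hψU.img_le (Or.inl hlt') (hψU.congr_mem_autGroup hα)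
        refine mem_autGroup_of_conj (hψD.mono (le_normalizerIn hU)) rfl
          (isMap_of_autGroup hψU.img_le h8) fun x => ?_
        rw [toFun_aut_apply _ (hψU.apply_mem_img x.2)]
        have e : hψU.equivImg.symm ⟨ψ x, hψU.apply_mem_img x.2⟩ = x := by
          rw [MulEquiv.symm_apply_eq]
          exact Subtype.ext rfl
        show ((hψU.equivImg (α (hψU.equivImg.symm ⟨ψ x, _⟩)) : img U ψ) : Ω) = _
        rw [e]
        rfl
  haveI : Finite (normalizerIn T R) := finite_of_le inf_le_left
  exact inner _ R hRT (lt_of_not_ge fun h =>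
    (lt_normalizerIn hTp hlt).ne (eq_of_le_of_card_le (le_normalizerIn hRT) h)) rfl

/-- For odd `p`, `C_S(T) ≤ C_S(E) T`. -/
theorem exists_cent_translate (hp : p ≠ 2) {y : Ω} (hy : y ∈ centralizerIn S T) :
    ∃ z ∈ T, Cent F E (y * z) := by
  obtain ⟨z, hz, hw⟩ := exists_base hS hF hE hy
  have hT : T ≤ S := hE.1.2.2.2.1.1
  exact ⟨z, hz, hw.1, fun P φ hφ => (le_baseSys hS hF hE hp hT P hφ).2 _ hw⟩

end CfsgLib.Comp.CExt
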