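import Cfsg.Agent.Lib.Comp.Signalizer

/-!
The transitivity theorem for solvable signalizer functors of rank at least three.
-/

set_option autoImplicit false
set_option linter.style.haveILetI false
set_option linter.unusedSectionVars false

namespace CfsgLib.Comp

open Subgroup

variable {G : Type*} [Group G] [Finite G] {p : ℕ} [hp : Fact p.Prime]

theorem not_dvd_card_of_isPGroup {q : ℕ} [hq : Fact q.Prime] (hqp : q ≠ p) {Q : Subgroup G}
    (hQ : IsPGroup q Q) : ¬ p ∣ Nat.card Q := by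
  obtain ⟨n, hn⟩ := IsPGroup.iff_card.1 hQ
  rw [hn]
  exact fun h => hqp ((Nat.prime_dvd_prime_iff_eq hp.out hq.out).1 (hp.out.dvd_of_dvd_pow h)).symm

/-- Two proper overgroups of the intersection grow inside the centralizer of a common element. -/
theorem exists_common_centralizer {A : Subgroup G} (hA : Cfsg.IsElementaryAbelian p A)
    (hA3 : p ^ 3 ≤ Nat.card ↥A) {q : ℕ} [hq : Fact q.Prime] (hqp : q ≠ p) {Q₁ Q₂ : Subgroup G}
    (h₁ : IsPGroup q Q₁) (h₂ : IsPGroup q Q₂) (hA₁ : A ≤ normalizer (Q₁ : Set G))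
    (hA₂ : A ≤ normalizer (Q₂ : Set G)) (hD₁ : Q₁ ⊓ Q₂ ≠ Q₁) (hD₂ : Q₁ ⊓ Q₂ ≠ Q₂) :
    ∃ a ∈ A, a ≠ 1 ∧
      ¬ (normalizer ((Q₁ ⊓ Q₂ : Subgroup G) : Set G) ⊓ Q₁ ⊓ centralizer {a} ≤ Q₁ ⊓ Q₂) ∧
      ¬ (normalizer ((Q₁ ⊓ Q₂ : Subgroup G) : Set G) ⊓ Q₂ ⊓ centralizer {a} ≤ Q₁ ⊓ Q₂) := by
  set D := Q₁ ⊓ Q₂
  have hAD : A ≤ normalizer (D : Set G) := le_normalizer_inf hA₁ hA₂
  have hne : A ≠ ⊥ := fun e => by
    rw [e, card_bot] at hA3
    exact absurd hA3 (not_le.2 (Nat.one_lt_pow (by norm_num) hp.out.one_lt))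
  have key : ∀ Q : Subgroup G, IsPGroup q Q → A ≤ normalizer (Q : Set G) → D ≤ Q → D ≠ Q →
      ∃ B : Subgroup G, B ≤ A ∧ B.relIndex A = p ∧
        ¬ (normalizer (D : Set G) ⊓ Q ⊓ centralizer (B : Set G) ≤ D) := by
    intro Q hQ hAQ hDQ hne'
    haveI : Group.IsNilpotent Q := hQ.isNilpotent
    have hlt : D.subgroupOf Q < ⊤ := lt_top_iff_ne_top.2 fun h =>
      hne' (le_antisymm hDQ (subgroupOf_eq_top.1 h))
    obtain ⟨y, hy1, hy2⟩ := SetLike.exists_of_lt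
      (normalizerCondition_of_isNilpotent (G := Q) (D.subgroupOf Q) hlt)
    rw [← subgroupOf_normalizer_eq hDQ, mem_subgroupOf] at hy1
    rw [mem_subgroupOf] at hy2
    set N := normalizer (D : Set G) ⊓ Q
    have hNp : ¬ p ∣ Nat.card N := not_dvd_card_of_isPGroup hqp (hQ.to_le inf_le_right)
    have hAN : A ≤ normalizer (N : Set G) :=
      le_normalizer_inf (hAD.trans le_normalizer) hAQ
    by_contra! hall
    refine hy2 ?_
    have hy : (y : G) ∈ N := ⟨hy1, y.2⟩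
    have hle : (⨆ B : {B : Subgroup G // B ≤ A ∧ B.relIndex A = p},
        N ⊓ centralizer ((B : Subgroup G) : Set G)) ≤ D := iSup_le fun B => hall B.1 B.2.1 B.2.2
    exact hle ((eq_iSup_centralizer_hyperplane hA hne hNp hAN).le hy)
  obtain ⟨B₁, hB₁, hi₁, hn₁⟩ := key Q₁ h₁ hA₁ inf_le_left hD₁
  obtain ⟨B₂, hB₂, hi₂, hn₂⟩ := key Q₂ h₂ hA₂ inf_le_right hD₂
  have hB : B₁ ⊓ B₂ ≠ ⊥ := by
    intro e
    have h := relIndex_inf_le (L := A) (H := B₁) (K := B₂)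
    rw [e, relIndex_bot_left, hi₁, hi₂] at h
    have h2 : p * p < p ^ 3 := by
      rw [← pow_two]; exact Nat.pow_lt_pow_right hp.out.one_lt (by norm_num)
    omega
  obtain ⟨a, ha, ha1⟩ := exists_mem_ne_one hB
  refine ⟨a, hB₁ ha.1, ha1, fun h => hn₁ (le_trans (inf_le_inf_left _ ?_) h),
    fun h => hn₂ (le_trans (inf_le_inf_left _ ?_) h)⟩
  · exact centralizer_le (Set.singleton_subset_iff.2 ha.1)
  · exact centralizer_le (Set.singleton_subset_iff.2 ha.2)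

variable {A : Subgroup G} {θ : G → Subgroup G}

theorem family_mono {X U : Subgroup G} (hX : X ∈ Cfsg.signalizerFamily p A θ) (hUX : U ≤ X)
    (hAU : A ≤ normalizer (U : Set G)) : U ∈ Cfsg.signalizerFamily p A θ :=
  ⟨CfsgLib.Coprime.isSolvable_of_le hX.1 hUX, fun h => hX.2.1 (h.trans (card_dvd_of_le hUX)),
    conj_mem_of_le_normalizer hAU, fun a ha ha1 => (inf_le_inf_right _ hUX).trans (hX.2.2.2 a ha ha1)⟩

/-- A member centralized by `a` lies in `θ a`. -/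
theorem family_le_theta {X : Subgroup G} (hX : X ∈ Cfsg.signalizerFamily p A θ) {a : G} (ha : a ∈ A)
    (ha1 : a ≠ 1) (h : X ≤ centralizer ({a} : Set G)) : X ≤ θ a :=
  (le_inf le_rfl h).trans (hX.2.2.2 a ha ha1)

theorem theta_inf_centralizer_le_signalizerInf (hθ : Cfsg.IsSignalizerFunctor p A θ) {a : G}
    (ha : a ∈ A) (ha1 : a ≠ 1) {B : Subgroup G} (hB : B ≤ A) :
    θ a ⊓ centralizer (B : Set G) ≤ Cfsg.signalizerInf B θ := by
  refine le_iInf fun b => le_trans (inf_le_inf_left _ ?_) (hθ.2.2.2 a ha ha1 b.1 (hB b.2.1) b.2.2)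
  exact centralizer_le (Set.singleton_subset_iff.2 b.2.1)

theorem signalizerInf_le {B : Subgroup G} {b : G} (hb : b ∈ B) (hb1 : b ≠ 1) :
    Cfsg.signalizerInf B θ ≤ θ b :=
  iInf_le (fun c : {c : G // c ∈ B ∧ c ≠ 1} => θ (c : G)) ⟨b, hb, hb1⟩

theorem signalizerInf_mono {B C : Subgroup G} (h : B ≤ C) :
    Cfsg.signalizerInf C θ ≤ Cfsg.signalizerInf B θ :=
  le_iInf fun b => signalizerInf_le (h b.2.1) b.2.2

theorem signalizerInf_le_centralizer (hθ : Cfsg.IsSignalizerFunctor p A θ) {B : Subgroup G}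
    (hB : B ≤ A) (hne : B ≠ ⊥) : Cfsg.signalizerInf B θ ≤ centralizer (B : Set G) := by
  intro x hx
  refine mem_centralizer_iff.2 fun b hb => ?_
  by_cases hb1 : b = 1
  · rw [hb1, one_mul, mul_one]
  · exact (mem_centralizer_singleton_iff.1 (hθ.1 b (hB hb) hb1 (signalizerInf_le hb hb1 hx))).symm

theorem signalizerInf_mem_family (hA : Cfsg.IsElementaryAbelian p A)
    (hθ : Cfsg.IsSolvableSignalizerFunctor p A θ) {B : Subgroup G} (hB : B ≤ A) (hne : B ≠ ⊥) :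
    Cfsg.signalizerInf B θ ∈ Cfsg.signalizerFamily p A θ := by
  obtain ⟨b, hb, hb1⟩ := exists_mem_ne_one hne
  refine family_mono (theta_mem_family hθ (hB hb) hb1) (signalizerInf_le hb hb1) ?_
  refine le_normalizer_of_conj_mem fun a ha x hx => ?_
  rw [Cfsg.signalizerInf, mem_iInf] at hx ⊢
  exact fun c => hθ.1.2.2.1 c.1 (hB c.2.1) c.2.2 a ha x (hx c)

/-- Conjugation by `θ(A)` preserves the family. -/
theorem family_conj (hθ : Cfsg.IsSignalizerFunctor p A θ) (hne : A ≠ ⊥) {c : G}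
    (hc : c ∈ Cfsg.signalizerInf A θ) {X : Subgroup G} (hX : X ∈ Cfsg.signalizerFamily p A θ) :
    X.map (MulAut.conj c).toMonoidHom ∈ Cfsg.signalizerFamily p A θ := by
  have hcA : c ∈ centralizer (A : Set G) := signalizerInf_le_centralizer hθ le_rfl hne hc
  refine ⟨CfsgLib.Coprime.isSolvable_map _ hX.1, ?_, ?_, ?_⟩
  · rw [card_map_of_injective (MulAut.conj c).injective]; exact hX.2.1
  · rintro b hb _ ⟨u, hu, rfl⟩
    refine ⟨b * u * b⁻¹, hX.2.2.1 b hb u hu, ?_⟩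
    have h : b * c = c * b := mem_centralizer_iff.1 hcA b hb
    change c * (b * u * b⁻¹) * c⁻¹ = b * (c * u * c⁻¹) * b⁻¹
    calc c * (b * u * b⁻¹) * c⁻¹ = c * b * u * (c * b)⁻¹ := by group
      _ = b * c * u * (b * c)⁻¹ := by rw [h]
      _ = _ := by group
  · rintro a ha ha1 x ⟨⟨u, hu, rfl⟩, hx⟩
    have hca : c ∈ θ a := signalizerInf_le ha ha1 hc
    have hua : u ∈ θ a := by
      refine hX.2.2.2 a ha ha1 ⟨hu, ?_⟩
      have hcc := hθ.1 a ha ha1 hca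
      have h := mul_mem (mul_mem (inv_mem hcc) hx) hcc
      simpa [mul_assoc] using h
    exact mul_mem (mul_mem hca hua) (inv_mem hca)

theorem exists_maximal_member {q : ℕ} {U : Subgroup G} (hU : U ∈ Cfsg.signalizerFamily p A θ)
    (hUq : IsPGroup q U) : ∃ Q ∈ Cfsg.signalizerFamily p A θ, IsPGroup q Q ∧ U ≤ Q ∧
      ∀ R ∈ Cfsg.signalizerFamily p A θ, IsPGroup q R → Q ≤ R → R = Q := by
  obtain ⟨Q, hQ⟩ := (Set.toFinite
    {R | R ∈ Cfsg.signalizerFamily p A θ ∧ IsPGroup q R ∧ U ≤ R}).exists_maximal ⟨U, hU, hUq, le_rfl⟩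
  exact ⟨Q, hQ.prop.1, hQ.prop.2.1, hQ.prop.2.2,
    fun R hR hRq hle => (hQ.eq_of_ge ⟨hR, hRq, hQ.prop.2.2.trans hle⟩ hle)⟩

/-- The transitivity theorem. -/
theorem transitivity (hA : Cfsg.IsElementaryAbelian p A) (hA3 : p ^ 3 ≤ Nat.card ↥A)
    (hθ : Cfsg.IsSolvableSignalizerFunctor p A θ) {q : ℕ} [hq : Fact q.Prime] {Q₁ Q₂ : Subgroup G}
    (h₁ : Q₁ ∈ Cfsg.signalizerFamily p A θ) (hq₁ : IsPGroup q Q₁)
    (hm₁ : ∀ R ∈ Cfsg.signalizerFamily p A θ, IsPGroup q R → Q₁ ≤ R → R = Q₁)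
    (h₂ : Q₂ ∈ Cfsg.signalizerFamily p A θ) (hq₂ : IsPGroup q Q₂)
    (hm₂ : ∀ R ∈ Cfsg.signalizerFamily p A θ, IsPGroup q R → Q₂ ≤ R → R = Q₂) :
    ∃ c ∈ Cfsg.signalizerInf A θ, Q₁.map (MulAut.conj c).toMonoidHom = Q₂ := by
  have hne : A ≠ ⊥ := fun e => by
    rw [e, card_bot] at hA3
    exact absurd hA3 (not_le.2 (Nat.one_lt_pow (by norm_num) hp.out.one_lt))
  induction hn : Nat.card G - Nat.card ↥(Q₁ ⊓ Q₂ : Subgroup G) using Nat.strong_induction_on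
    generalizing Q₁ Q₂ with
  | _ n ih =>
  subst hn
  by_cases hD₁ : Q₁ ⊓ Q₂ = Q₁
  · exact ⟨1, one_mem _, by rw [map_conj_one, hm₁ Q₂ h₂ hq₂ (inf_eq_left.1 hD₁)]⟩
  by_cases hD₂ : Q₁ ⊓ Q₂ = Q₂
  · exact ⟨1, one_mem _, by rw [map_conj_one, hm₂ Q₁ h₁ hq₁ (inf_eq_right.1 hD₂)]⟩
  by_cases hqp : q = p
  · subst hqp
    refine absurd ?_ hD₁
    obtain ⟨k, hk⟩ := IsPGroup.iff_card.1 hq₁
    rcases k with _ | k
    · have hb : Q₁ = ⊥ := card_eq_one.1 (by simpa using hk)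
      simp [hb]
    · exact absurd (hk ▸ dvd_pow_self q (Nat.succ_ne_zero k)) h₁.2.1
  have hA₁ := le_normalizer_of_conj_mem h₁.2.2.1
  have hA₂ := le_normalizer_of_conj_mem h₂.2.2.1
  obtain ⟨a, ha, ha1, hn₁, hn₂⟩ := exists_common_centralizer hA hA3 hqp hq₁ hq₂ hA₁ hA₂ hD₁ hD₂
  set D := Q₁ ⊓ Q₂
  have hAD : A ≤ normalizer (D : Set G) := le_normalizer_inf hA₁ hA₂
  have hD : D ∈ Cfsg.signalizerFamily p A θ := family_mono h₁ inf_le_left hAD
  have hAa : A ≤ normalizer ((centralizer ({a} : Set G) : Subgroup G) : Set G) :=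
    le_trans (fun b hb => mem_centralizer_singleton_iff.2
      (congrArg Subtype.val (hA.1.is_comm.comm ⟨b, hb⟩ ⟨a, ha⟩))) le_normalizer
  set N := θ a ⊓ normalizer (D : Set G)
  have hAN : A ≤ normalizer (N : Set G) :=
    le_normalizer_inf (le_normalizer_of_conj_mem (hθ.1.2.2.1 a ha ha1)) (hAD.trans le_normalizer)
  have hN : N ∈ Cfsg.signalizerFamily p A θ := family_mono (theta_mem_family hθ ha ha1) inf_le_left hAN
  have hcop : (Nat.card A).Coprime (Nat.card N) := coprime_card_elemAb hA hN.2.1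
  have hs := isSolvable_elemAb hA
  set U₁ := normalizer (D : Set G) ⊓ Q₁ ⊓ centralizer ({a} : Set G)
  set U₂ := normalizer (D : Set G) ⊓ Q₂ ⊓ centralizer ({a} : Set G)
  have hU : ∀ Q : Subgroup G, Q ∈ Cfsg.signalizerFamily p A θ →
      normalizer (D : Set G) ⊓ Q ⊓ centralizer ({a} : Set G) ≤ N := fun Q hQ =>
    le_inf ((inf_le_inf_right _ inf_le_right).trans (hQ.2.2.2 a ha ha1)) (inf_le_left.trans inf_le_left)
  have hAU : ∀ Q : Subgroup G, A ≤ normalizer (Q : Set G) →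
      A ≤ normalizer ((normalizer (D : Set G) ⊓ Q ⊓ centralizer ({a} : Set G) : Subgroup G) : Set G) :=
    fun Q hQ => le_normalizer_inf (le_normalizer_inf (hAD.trans le_normalizer) hQ) hAa
  obtain ⟨T₁, hT₁, hT₁A⟩ := CfsgLib.Coprime.exists_invariant_sylow_ge (p := q) hAN hcop (Or.inl hs)
    (hq₁.to_le (inf_le_left.trans inf_le_right) : IsPGroup q U₁) (hU Q₁ h₁) (hAU Q₁ hA₁)
  obtain ⟨T₂, hT₂, hT₂A⟩ := CfsgLib.Coprime.exists_invariant_sylow_ge (p := q) hAN hcop (Or.inl hs)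
    (hq₂.to_le (inf_le_left.trans inf_le_right) : IsPGroup q U₂) (hU Q₂ h₂) (hAU Q₂ hA₂)
  obtain ⟨c, hcN, hconj⟩ := CfsgLib.Coprime.exists_conj_invariant_sylow hAN hcop (Or.inl hs)
    T₁ T₂ hT₁A hT₂A
  have hc : c ∈ Cfsg.signalizerInf A θ :=
    theta_inf_centralizer_le_signalizerInf hθ.1 ha ha1 le_rfl ⟨hcN.1.1, hcN.2⟩
  set T := (T₂ : Subgroup N).map N.subtype
  have hTN : T ≤ N := map_subtype_le _
  have hT : T ∈ Cfsg.signalizerFamily p A θ := family_mono hN hTN hT₂A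
  have hTD : T ≤ normalizer (D : Set G) := hTN.trans inf_le_right
  have hDT : IsPGroup q ↥(D ⊔ T : Subgroup G) :=
    (hq₁.to_le inf_le_left : IsPGroup q D).to_sup_of_normal_left' (T₂.isPGroup'.map _) hTD
  obtain ⟨Q₃, h₃, hq₃, hle, hm₃⟩ := exists_maximal_member (family_sup hA hD hT hTD) hDT
  have hlt : ∀ U V : Subgroup G, D < U → U ≤ V →
      Nat.card G - Nat.card V < Nat.card G - Nat.card D := by
    intro U V hDU hUV
    have h1 : Nat.card D < Nat.card V := by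
      refine lt_of_le_of_ne (card_le_of_le (hDU.le.trans hUV)) fun e => ?_
      exact absurd (eq_of_le_of_card_ge (hDU.le.trans hUV) e.ge) (hDU.trans_le hUV).ne
    have h2 : Nat.card V ≤ Nat.card (⊤ : Subgroup G) := card_le_of_le le_top
    rw [card_top] at h2
    omega
  set Q₁' := Q₁.map (MulAut.conj c).toMonoidHom
  have hne₁ : Q₁' ∈ Cfsg.signalizerFamily p A θ := family_conj hθ.1 hne hc h₁
  have hm₁' : ∀ R ∈ Cfsg.signalizerFamily p A θ, IsPGroup q R → Q₁' ≤ R → R = Q₁' := by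
    intro R hR hRq hle'
    have h1 := hm₁ _ (family_conj hθ.1 hne (inv_mem hc) hR) (hRq.map _)
      ((map_conj_inv Q₁ c).symm.trans_le (map_mono hle'))
    apply map_conj_injective c⁻¹
    change R.map (MulAut.conj c⁻¹).toMonoidHom = Q₁'.map (MulAut.conj c⁻¹).toMonoidHom
    rw [h1, map_conj_inv]
  have hcD : D.map (MulAut.conj c).toMonoidHom = D := map_conj_eq_iff.2 hcN.1.2
  obtain ⟨d, hd, hd3⟩ : ∃ d ∈ Cfsg.signalizerInf A θ, Q₁'.map (MulAut.conj d).toMonoidHom = Q₃ := by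
    refine ih _ ?_ hne₁ (hq₁.map _) hm₁' h₃ hq₃ hm₃ rfl
    refine hlt (D ⊔ U₁.map (MulAut.conj c).toMonoidHom) _ (left_lt_sup.2 ?_) (le_inf ?_ ?_)
    · intro h
      refine hn₁ ?_
      rw [← hcD] at h
      exact (map_le_map_iff_of_injective (MulAut.conj c).injective).1 h
    · refine sup_le (hcD.ge.trans (map_mono inf_le_left)) (map_mono (inf_le_left.trans inf_le_right))
    · refine sup_le (le_sup_left.trans hle) (le_trans ?_ (le_sup_right.trans hle))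
      exact (map_mono hT₁).trans_eq hconj
  obtain ⟨e, he, he2⟩ : ∃ e ∈ Cfsg.signalizerInf A θ, Q₃.map (MulAut.conj e).toMonoidHom = Q₂ := by
    refine ih _ ?_ h₃ hq₃ hm₃ h₂ hq₂ hm₂ rfl
    refine hlt (D ⊔ U₂) _ (left_lt_sup.2 hn₂) (le_inf ?_ ?_)
    · exact sup_le (le_sup_left.trans hle) (hT₂.trans (le_sup_right.trans hle))
    · exact sup_le inf_le_right (inf_le_left.trans inf_le_right)
  refine ⟨e * (d * c), mul_mem he (mul_mem hd hc), ?_⟩
  rw [map_conj_mul, map_conj_mul, hd3, he2]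

/-- A maximal `q`-member meets every member, up to `θ(A)`, in a Sylow subgroup. -/
theorem exists_conj_inf_sylow (hA : Cfsg.IsElementaryAbelian p A) (hA3 : p ^ 3 ≤ Nat.card ↥A)
    (hθ : Cfsg.IsSolvableSignalizerFunctor p A θ) {q : ℕ} [hq : Fact q.Prime] {Q H : Subgroup G}
    (hQ : Q ∈ Cfsg.signalizerFamily p A θ) (hQq : IsPGroup q Q)
    (hQm : ∀ R ∈ Cfsg.signalizerFamily p A θ, IsPGroup q R → Q ≤ R → R = Q)
    (hH : H ∈ Cfsg.signalizerFamily p A θ) :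
    ∃ c ∈ Cfsg.signalizerInf A θ, ∃ S : Sylow q ↥H,
      (S : Subgroup ↥H).map H.subtype = Q.map (MulAut.conj c).toMonoidHom ⊓ H := by
  obtain ⟨S, hS⟩ := CfsgLib.Coprime.exists_invariant_sylow (le_normalizer_of_conj_mem hH.2.2.1)
    (coprime_card_elemAb hA hH.2.1) (Or.inl (isSolvable_elemAb hA)) q
  obtain ⟨Q', hQ', hq', hle, hm'⟩ := exists_maximal_member
    (family_mono hH (map_subtype_le _) hS) (S.isPGroup'.map H.subtype)
  obtain ⟨c, hc, he⟩ := transitivity hA hA3 hθ hQ hQq hQm hQ' hq' hm'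
  refine ⟨c, hc, S, le_antisymm (le_inf (hle.trans_eq he.symm) (map_subtype_le _)) ?_⟩
  rw [he, ← subgroupOf_map_subtype]
  refine map_mono (S.is_maximal' hq'.comap_subtype fun y hy => ?_).le
  exact hle (mem_map_of_mem _ hy)

/-- The value of the functor on `B` meets a maximal `q`-member in a Sylow subgroup. -/
theorem exists_sylow_signalizerInf (hA : Cfsg.IsElementaryAbelian p A) (hA3 : p ^ 3 ≤ Nat.card ↥A)
    (hθ : Cfsg.IsSolvableSignalizerFunctor p A θ) {q : ℕ} [hq : Fact q.Prime] {Q : Subgroup G}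
    (hQ : Q ∈ Cfsg.signalizerFamily p A θ) (hQq : IsPGroup q Q)
    (hQm : ∀ R ∈ Cfsg.signalizerFamily p A θ, IsPGroup q R → Q ≤ R → R = Q)
    {B : Subgroup G} (hB : B ≤ A) (hne : B ≠ ⊥) :
    ∃ S : Sylow q ↥(Cfsg.signalizerInf B θ),
      (S : Subgroup ↥(Cfsg.signalizerInf B θ)).map (Cfsg.signalizerInf B θ).subtype =
        Q ⊓ centralizer (B : Set G) := by
  set H := Cfsg.signalizerInf B θ
  obtain ⟨c, hc, S, hS⟩ := exists_conj_inf_sylow hA hA3 hθ hQ hQq hQm (signalizerInf_mem_family hA hθ hB hne)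
  have hcH : c ∈ H := signalizerInf_mono hB hc
  refine ⟨(⟨c, hcH⟩ : ↥H)⁻¹ • S, ?_⟩
  change ((S : Subgroup ↥H).map (MulAut.conj (⟨c, hcH⟩ : ↥H)⁻¹).toMonoidHom).map H.subtype = _
  rw [CfsgLib.Coprime.map_conj_subtype, InvMemClass.coe_inv, hS]
  rw [Subgroup.map_inf _ _ _ (MulAut.conj c⁻¹).injective, map_conj_inv,
    map_conj_eq_iff.2 (le_normalizer (inv_mem hcH))]
  exact le_antisymm (inf_le_inf_left _ (signalizerInf_le_centralizer hθ.1 hB hne))
    (le_inf inf_le_left (family_inf_centralizer_le hQ hB))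

/-- A functor all of whose values are groups for one prime is complete. -/
theorem complete_of_single_prime (hA : Cfsg.IsElementaryAbelian p A) (hA3 : p ^ 3 ≤ Nat.card ↥A)
    (hθ : Cfsg.IsSolvableSignalizerFunctor p A θ) {q : ℕ} [hq : Fact q.Prime]
    (h : ∀ a ∈ A, a ≠ 1 → IsPGroup q (θ a)) : Cfsg.IsCompleteSignalizerFunctor p A θ := by
  have hne : A ≠ ⊥ := fun e => by
    rw [e, card_bot] at hA3
    exact absurd hA3 (not_le.2 (Nat.one_lt_pow (by norm_num) hp.out.one_lt))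
  have hbot : (⊥ : Subgroup G) ∈ Cfsg.signalizerFamily p A θ := by
    obtain ⟨a, ha, ha1⟩ := exists_mem_ne_one hne
    exact family_mono (theta_mem_family hθ ha ha1) bot_le
      ((le_top : A ≤ ⊤).trans (Subgroup.normalizer_eq_top (H := (⊥ : Subgroup G))).ge)
  obtain ⟨Q, hQ, hQq, -, hQm⟩ := exists_maximal_member (q := q) hbot IsPGroup.of_bot
  refine ⟨hθ.1, Q, hQ.2.2.1, hQ.2.1, fun a ha ha1 => le_antisymm (hQ.2.2.2 a ha ha1) ?_⟩
  refine le_inf ?_ (hθ.1.1 a ha ha1)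
  obtain ⟨c, hc, S, hS⟩ := exists_conj_inf_sylow hA hA3 hθ hQ hQq hQm (theta_mem_family hθ ha ha1)
  have hca : c ∈ θ a := signalizerInf_le ha ha1 hc
  have htop : (S : Subgroup ↥(θ a)) = ⊤ :=
    (S.is_maximal' ((h a ha ha1).to_subgroup ⊤) le_top).symm
  rw [htop, ← MonoidHom.range_eq_map, range_subtype] at hS
  have h1 := hS.le.trans inf_le_left
  rw [← map_conj_eq_iff.2 (le_normalizer hca), map_le_map_iff_of_injective (MulAut.conj c).injective] at h1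
  exact h1

end CfsgLib.Comp
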