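import Mathlib.NumberTheory.Bertrand
import Mathlib.Data.Nat.Log
import Mathlib.Tactic

/-!
Two primes at distance at least 4 in the interval `(n, 2n]` for `n ≥ 9`, by the method of
Erdős: few primes in the interval make the central binomial coefficient too small.
-/

set_option autoImplicit false

namespace CfsgLib.Comp

open Nat Finset

theorem eight_mul_le_two_pow {k : ℕ} (h : 6 ≤ k) : 8 * k ≤ 2 ^ k := by
  induction k, h using Nat.le_induction with
  | base => norm_num
  | succ k hk ih => rw [pow_succ]; omega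

/-- The central binomial coefficient is small when few primes lie in `(n, 2n]`. -/
theorem centralBinom_le_of_few_primes {n k : ℕ} (n_large : 2 < n)
    (h : #{p ∈ Finset.range (2 * n + 1) | p.Prime ∧ n < p} ≤ k) :
    centralBinom n ≤ (2 * n) ^ (sqrt (2 * n) + k) * 4 ^ (2 * n / 3) := by
  have n2_pos : 1 ≤ 2 * n := by omega
  set S := {p ∈ Finset.range (2 * n + 1) | Nat.Prime p} with hS
  let f x := x ^ n.centralBinom.factorization x
  have hf : ∀ p, f p ≤ 2 * n := fun p => pow_factorization_choose_le (by omega)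
  have hprod : ∏ x ∈ S, f x = centralBinom n := by
    refine (Finset.prod_filter_of_ne fun p _ h => ?_).trans n.prod_pow_factorization_centralBinom
    contrapose h; dsimp only [f]
    rw [factorization_eq_zero_of_not_prime n.centralBinom h, _root_.pow_zero]
  rw [← hprod, ← Finset.prod_filter_mul_prod_filter_not S (fun p => n < p)]
  set S' := S.filter (fun p => ¬ n < p) with hS'
  rw [← Finset.prod_filter_mul_prod_filter_not S' (· ≤ sqrt (2 * n)), pow_add,
    mul_comm ((2 * n) ^ sqrt (2 * n)), mul_assoc]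
  refine mul_le_mul' ?_ (mul_le_mul' ?_ ?_)
  · refine (Finset.prod_le_prod' fun p _ => hf p).trans ?_
    rw [Finset.prod_const]
    refine pow_right_mono₀ n2_pos (le_trans (le_of_eq ?_) h)
    rw [hS, Finset.filter_filter]
  · refine (Finset.prod_le_prod' fun p _ => hf p).trans ?_
    rw [Finset.prod_const]
    refine pow_right_mono₀ n2_pos ?_
    refine le_trans (Finset.card_le_card (t := Finset.Icc 1 (sqrt (2 * n))) fun x hx => ?_) (by simp)
    simp only [hS', hS, Finset.mem_filter] at hx
    exact Finset.mem_Icc.mpr ⟨hx.1.1.2.one_lt.le, hx.2⟩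
  · calc ∏ p ∈ S'.filter (fun p => ¬ p ≤ sqrt (2 * n)), f p
        = ∏ p ∈ (S'.filter (fun p => ¬ p ≤ sqrt (2 * n))).filter (fun p => p ≤ 2 * n / 3), f p := by
          refine (Finset.prod_filter_of_ne fun p hp hne => ?_).symm
          by_contra hgt
          simp only [hS', hS, Finset.mem_filter] at hp
          refine hne ?_
          show p ^ _ = 1
          rw [factorization_centralBinom_of_two_mul_self_lt_three_mul n_large (by omega) (by omega),
            _root_.pow_zero]
      _ ≤ ∏ p ∈ (S'.filter (fun p => ¬ p ≤ sqrt (2 * n))).filter (fun p => p ≤ 2 * n / 3), p := by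
          refine Finset.prod_le_prod' fun p hp => ?_
          simp only [hS', hS, Finset.mem_filter] at hp
          refine (pow_right_mono₀ hp.1.1.1.2.one_lt.le ?_).trans (pow_one p).le
          exact Nat.factorization_choose_le_one (sqrt_lt'.mp (not_le.1 hp.1.2))
      _ ≤ primorial (2 * n / 3) := by
          refine Finset.prod_le_prod_of_subset_of_one_le' (fun p hp => ?_) fun p hp _ => ?_
          · simp only [hS', hS, Finset.mem_filter] at hp
            exact Finset.mem_filter.2 ⟨Finset.mem_range.2 (by omega), hp.1.1.1.2⟩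
          · exact (Finset.mem_filter.1 hp).2.one_lt.le
      _ ≤ _ := primorial_le_four_pow _

theorem two_prime_inequality {n : ℕ} (hn : 2048 ≤ n) :
    n * ((2 * n) ^ (sqrt (2 * n) + 2) * 4 ^ (2 * n / 3)) ≤ 4 ^ n := by
  set s := sqrt (2 * n) with hs
  have h1 : s * s ≤ 2 * n := Nat.sqrt_le (2 * n)
  have h2 : 2 * n < (s + 1) * (s + 1) := Nat.lt_succ_sqrt (2 * n)
  have hs64 : 64 ≤ s := Nat.le_sqrt.2 (by omega)
  set k := Nat.log 2 (s + 1) with hk
  have hk1 : 2 ^ k ≤ s + 1 := Nat.pow_log_le_self 2 (by omega)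
  have hk2 : s + 1 < 2 ^ (k + 1) := Nat.lt_pow_succ_log_self one_lt_two _
  have hk6 : 6 ≤ k := Nat.le_log_of_pow_le one_lt_two (by norm_num; omega)
  have hk8 : 8 * k ≤ s + 1 := (eight_mul_le_two_pow hk6).trans hk1
  have hb : 2 * n ≤ 2 ^ (2 * (k + 1)) := by
    rw [two_mul (k + 1), pow_add]
    exact le_trans h2.le (Nat.mul_le_mul hk2.le hk2.le)
  calc n * ((2 * n) ^ (s + 2) * 4 ^ (2 * n / 3))
      ≤ (2 * n) * ((2 * n) ^ (s + 2) * 4 ^ (2 * n / 3)) := Nat.mul_le_mul_right _ (by omega)
    _ = (2 * n) ^ (s + 3) * 4 ^ (2 * n / 3) := by ring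
    _ ≤ (2 ^ (2 * (k + 1))) ^ (s + 3) * 4 ^ (2 * n / 3) :=
        Nat.mul_le_mul_right _ (Nat.pow_le_pow_left hb _)
    _ = 4 ^ ((k + 1) * (s + 3) + 2 * n / 3) := by
        rw [← pow_mul, show (4 : ℕ) = 2 ^ 2 by norm_num, ← pow_mul, ← pow_mul, ← pow_add]
        ring_nf
    _ ≤ 4 ^ n := by
        refine Nat.pow_le_pow_right (by norm_num) ?_
        have : 8 * ((k + 1) * (s + 3)) ≤ (s + 9) * (s + 3) := by
          rw [← mul_assoc]; exact Nat.mul_le_mul_right _ (by omega)
        have : (s + 9) * (s + 3) = s * s + 12 * s + 27 := by ring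
        have : 64 * s ≤ s * s := Nat.mul_le_mul_right _ hs64
        omega

theorem three_primes_eventually {n : ℕ} (hn : 2048 ≤ n) :
    2 < #{p ∈ Finset.range (2 * n + 1) | p.Prime ∧ n < p} := by
  by_contra h
  have h1 := Nat.four_pow_lt_mul_centralBinom n (by omega)
  have h2 := centralBinom_le_of_few_primes (n := n) (k := 2) (by omega) (by omega)
  have h3 := two_prime_inequality hn
  have := Nat.mul_le_mul_left n h2
  omega

/-- For `n ≥ 9` there are primes `p, q` with `n < p`, `q ≤ 2n` and `p + 4 ≤ q`. -/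
theorem exists_two_primes {n : ℕ} (hn : 9 ≤ n) :
    ∃ p q : ℕ, p.Prime ∧ q.Prime ∧ n < p ∧ p + 4 ≤ q ∧ q ≤ 2 * n := by
  rcases Nat.lt_or_ge n 2048 with h | h
  · rcases Nat.lt_or_ge n 13 with _ | _
    · exact ⟨13, 17, by norm_num, by norm_num, by omega, by omega, by omega⟩
    rcases Nat.lt_or_ge n 19 with _ | _
    · exact ⟨19, 23, by norm_num, by norm_num, by omega, by omega, by omega⟩
    rcases Nat.lt_or_ge n 31 with _ | _
    · exact ⟨31, 37, by norm_num, by norm_num, by omega, by omega, by omega⟩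
    rcases Nat.lt_or_ge n 53 with _ | _
    · exact ⟨53, 61, by norm_num, by norm_num, by omega, by omega, by omega⟩
    rcases Nat.lt_or_ge n 97 with _ | _
    · exact ⟨97, 103, by norm_num, by norm_num, by omega, by omega, by omega⟩
    rcases Nat.lt_or_ge n 181 with _ | _
    · exact ⟨181, 193, by norm_num, by norm_num, by omega, by omega, by omega⟩
    rcases Nat.lt_or_ge n 353 with _ | _
    · exact ⟨353, 359, by norm_num, by norm_num, by omega, by omega, by omega⟩
    rcases Nat.lt_or_ge n 691 with _ | _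
    · exact ⟨691, 701, by norm_num, by norm_num, by omega, by omega, by omega⟩
    rcases Nat.lt_or_ge n 1373 with _ | _
    · exact ⟨1373, 1381, by norm_num, by norm_num, by omega, by omega, by omega⟩
    · exact ⟨2731, 2741, by norm_num, by norm_num, by omega, by omega, by omega⟩
  · obtain ⟨a, ha, b, hb, c, hc, hab, hac, hbc⟩ := Finset.two_lt_card.1 (three_primes_eventually h)
    simp only [Finset.mem_filter, Finset.mem_range] at ha hb hc
    have oa := ha.2.1.eq_two_or_odd
    have ob := hb.2.1.eq_two_or_odd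
    have oc := hc.2.1.eq_two_or_odd
    by_cases h1 : a + 4 ≤ b
    · exact ⟨a, b, ha.2.1, hb.2.1, ha.2.2, h1, by omega⟩
    by_cases h2 : b + 4 ≤ a
    · exact ⟨b, a, hb.2.1, ha.2.1, hb.2.2, h2, by omega⟩
    by_cases h3 : a + 4 ≤ c
    · exact ⟨a, c, ha.2.1, hc.2.1, ha.2.2, h3, by omega⟩
    by_cases h4 : c + 4 ≤ a
    · exact ⟨c, a, hc.2.1, ha.2.1, hc.2.2, h4, by omega⟩
    by_cases h5 : b + 4 ≤ c
    · exact ⟨b, c, hb.2.1, hc.2.1, hb.2.2, h5, by omega⟩
    by_cases h6 : c + 4 ≤ b
    · exact ⟨c, b, hc.2.1, hb.2.1, hc.2.2, h6, by omega⟩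
    omega

end CfsgLib.Comp
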