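import Cfsg.Agent.Lib.Fusion.NormalCriteria
import Cfsg.Agent.Lib.Fusion.FactorSectionFree
import Cfsg.Agent.Lib.Fusion.SolvableSystem
import Cfsg.Agent.Lib.Fusion.Tate
import Cfsg.Agent.Lib.Transfer.UniqueOrderP

/-!
A saturated system all of whose subgroups of one fixed order are weakly embedded and have inner
normalizer systems is inner.
-/

set_option autoImplicit false
set_option linter.unusedVariables false
set_option linter.unusedSectionVars false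
set_option linter.style.haveILetI false

namespace CfsgLib.Comp.WEmb

open Cfsg Cfsg.FusionSystem Subgroup CfsgLib.Fusion
open scoped commutatorElement

universe u

variable {Ω : Type u} [Group Ω] {S : Subgroup Ω} {F : FusionSystem S} {p : ℕ}
  {K K₁ K₂ P Q X U : Subgroup Ω}

/-- The hypothesis at the order `p ^ k`. -/
def Cond (F : FusionSystem S) (p k : ℕ) : Prop :=
  (∀ Q : Subgroup Ω, Q ≤ S → Nat.card Q = p ^ k → ∃ P, F.StronglyClosed P ∧
      F.StronglyClosed (Q ⊔ P) ∧ F.StronglyClosed (Q ⊓ P)) ∧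
    ∀ H : Subgroup Ω, S ≤ Subgroup.normalizer (H : Set Ω) → H ≤ S → Nat.card H = p ^ k →
      ∀ (P : Subgroup Ω) (f : Ω → Ω), IsMap F P f → H ≤ P → (∀ x ∈ H, f x ∈ H) →
        ∃ a ∈ S, ∀ x ∈ P, f x = a * x * a⁻¹

/-- A nontrivial strongly closed subgroup with no smaller one inside it. -/
def IsMinClosed (F : FusionSystem S) (K : Subgroup Ω) : Prop :=
  F.StronglyClosed K ∧ K ≠ ⊥ ∧ ∀ L, F.StronglyClosed L → L ≤ K → L = ⊥ ∨ L = K

theorem stronglyClosed_inf (h₁ : F.StronglyClosed K₁) (h₂ : F.StronglyClosed K₂) :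
    F.StronglyClosed (K₁ ⊓ K₂) :=
  ⟨inf_le_left.trans h₁.1, fun R hR φ hφ x =>
    ⟨h₁.2 R (hR.trans inf_le_left) φ hφ x, h₂.2 R (hR.trans inf_le_right) φ hφ x⟩⟩

theorem stronglyClosed_bot (F : FusionSystem S) : F.StronglyClosed ⊥ :=
  ⟨bot_le, fun R hR φ hφ x => by
    have : x = 1 := Subtype.ext (Subgroup.mem_bot.1 (hR x.2))
    rw [this, map_one]
    exact one_mem _⟩

theorem stronglyClosed_self (F : FusionSystem S) : F.StronglyClosed S :=
  ⟨le_rfl, fun R _ φ hφ x => (F.le_of_mem hφ).2 x⟩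

theorem exists_minClosed [Finite S] {L : Subgroup Ω} (hL : F.StronglyClosed L) (hne : L ≠ ⊥) :
    ∃ K, K ≤ L ∧ IsMinClosed F K := by
  induction hn : Nat.card L using Nat.strong_induction_on generalizing L with
  | _ n ih =>
    subst hn
    by_cases h : ∀ M, F.StronglyClosed M → M ≤ L → M = ⊥ ∨ M = L
    · exact ⟨L, le_rfl, hL, hne, h⟩
    push Not at h
    obtain ⟨M, hM, hML, hMne, hMne'⟩ := h
    haveI := finite_of_le hL.1
    have hlt : Nat.card M < Nat.card L := lt_of_not_ge fun hge =>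
      hMne' (Subgroup.eq_of_le_of_card_ge hML hge)
    obtain ⟨K, hK, hKm⟩ := ih _ hlt hM hMne rfl
    exact ⟨K, hK.trans hML, hKm⟩

theorem IsMinClosed.inf_eq (h₁ : IsMinClosed F K₁) (h₂ : IsMinClosed F K₂) (hne : K₁ ≠ K₂) :
    K₁ ⊓ K₂ = ⊥ := by
  rcases h₁.2.2 _ (stronglyClosed_inf h₁.1 h₂.1) inf_le_left with h | h
  · exact h
  · rcases h₂.2.2 _ h₁.1 (inf_eq_left.1 h) with h' | h'
    · exact absurd h' h₁.2.1
    · exact absurd h' hne

theorem comm_of_inf_eq_bot (h₁ : F.StronglyClosed K₁) (h₂ : F.StronglyClosed K₂)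
    (h : K₁ ⊓ K₂ = ⊥) {a b : Ω} (ha : a ∈ K₁) (hb : b ∈ K₂) : a * b = b * a := by
  have h3 : a * b * a⁻¹ * b⁻¹ ∈ K₁ ⊓ K₂ := by
    refine Subgroup.mem_inf.2
      ⟨?_, mul_mem (StronglyClosed.conj_mem h₂ (h₁.1 ha) hb) (InvMemClass.inv_mem hb)⟩
    have h4 := mul_mem ha (StronglyClosed.conj_mem h₁ (h₂.1 hb) (InvMemClass.inv_mem ha))
    simpa [mul_assoc] using h4
  rw [h, Subgroup.mem_bot] at h3
  calc a * b = (a * b * a⁻¹ * b⁻¹) * (b * a) := by group
    _ = b * a := by rw [h3, one_mul]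

theorem mem_sup_iff (hP : F.StronglyClosed P) (hQ : Q ≤ S) {x : Ω} :
    x ∈ Q ⊔ P ↔ ∃ q ∈ Q, q⁻¹ * x ∈ P := by
  rw [← SetLike.mem_coe, Subgroup.coe_mul_of_left_le_normalizer_right Q P
    (hQ.trans (StronglyClosed.le_normalizer hP))]
  constructor
  · rintro ⟨q, hq, y, hy, rfl⟩
    exact ⟨q, hq, by simpa using hy⟩
  · rintro ⟨q, hq, hy⟩
    exact ⟨q, hq, q⁻¹ * x, hy, mul_inv_cancel_left q x⟩

section

variable [Finite S] [Fact p.Prime] (hS : IsPGroup p S)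

include hS

theorem exists_card_between (hX : X ≤ U) (hU : U ≤ S) {k : ℕ} (h₁ : Nat.card X ≤ p ^ k)
    (h₂ : p ^ k ≤ Nat.card U) : ∃ Q, X ≤ Q ∧ Q ≤ U ∧ Nat.card Q = p ^ k := by
  haveI := finite_of_le hU
  have hp : p.Prime := Fact.out
  obtain ⟨m, hm⟩ := (isPGroup_of_le hS hU).exists_card_eq
  haveI := finite_of_le (hX.trans hU)
  obtain ⟨n, hn⟩ := (isPGroup_of_le hS (hX.trans hU)).exists_card_eq
  have hnk : n ≤ k := (Nat.pow_le_pow_iff_right hp.one_lt).1 (hn ▸ h₁)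
  have hkm : k ≤ m := (Nat.pow_le_pow_iff_right hp.one_lt).1 (hm ▸ h₂)
  obtain ⟨Q, hQ, hXQ⟩ := Sylow.exists_subgroup_card_pow_prime_le p
    (hm.symm ▸ pow_dvd_pow p hkm : p ^ k ∣ Nat.card U) (X.subgroupOf U)
    (by rw [Nat.card_congr (Subgroup.subgroupOfEquivOfLe hX).toEquiv, hn]) hnk
  refine ⟨Q.map U.subtype, fun x hx => ?_, Subgroup.map_subtype_le _, ?_⟩
  · exact ⟨⟨x, hX hx⟩, hXQ (Subgroup.mem_subgroupOf.2 hx), rfl⟩
  · rw [Subgroup.card_map_of_injective U.subtype_injective, hQ]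

/-- A subgroup inside `Q P` meeting `P` trivially embeds in `Q` next to `Q ∩ P`. -/
theorem card_mul_le (hP : F.StronglyClosed P) (hQ : Q ≤ S) (hK : K ⊓ P = ⊥) (hle : K ≤ Q ⊔ P) :
    Nat.card K * Nat.card ↥(Q ⊓ P) ≤ Nat.card Q := by
  haveI := finite_of_le hQ
  choose c hc hc' using fun k : K => (mem_sup_iff hP hQ).1 (hle k.2)
  rw [← Nat.card_prod]
  refine Nat.card_le_card_of_injective
    (fun z : ↥K × ↥(Q ⊓ P) => (⟨c z.1 * z.2, mul_mem (hc z.1) z.2.2.1⟩ : Q)) ?_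
  rintro ⟨a, x⟩ ⟨b, y⟩ h
  have h1 : c a * (x : Ω) = c b * y := congrArg Subtype.val h
  have h2 : (a : Ω)⁻¹ * b ∈ K ⊓ P := by
    refine Subgroup.mem_inf.2 ⟨mul_mem (InvMemClass.inv_mem a.2) b.2, ?_⟩
    have e : c b = c a * x * (y : Ω)⁻¹ := by rw [h1, mul_inv_cancel_right]
    have h4 := hc' b
    rw [e] at h4
    have h3 := mul_mem (InvMemClass.inv_mem (hc' a)) (mul_mem (mul_mem x.2.2 (InvMemClass.inv_mem y.2.2)) h4)
    simpa [mul_assoc] using h3
  rw [hK, Subgroup.mem_bot, inv_mul_eq_one] at h2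
  obtain rfl : a = b := Subtype.ext h2
  obtain rfl : x = y := Subtype.ext (mul_left_cancel h1)
  rfl

theorem card_minClosed_le {k : ℕ} (hc : Cond F p k) (hk : k ≠ 0) (hK : IsMinClosed F K) :
    Nat.card K ≤ p ^ k := by
  by_contra hlt
  push Not at hlt
  haveI := finite_of_le hK.1.1
  obtain ⟨Q, -, hQK, hQc⟩ := exists_card_between hS bot_le hK.1.1
    (show Nat.card (⊥ : Subgroup Ω) ≤ p ^ k by
      rw [Subgroup.card_bot]; exact Nat.one_le_pow _ _ (Fact.out : p.Prime).pos) hlt.le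
  have hQne : Q ≠ ⊥ := by
    rintro rfl
    rw [Subgroup.card_bot] at hQc
    exact hk ((Nat.pow_eq_one.1 hQc.symm).resolve_left (Fact.out : p.Prime).ne_one)
  obtain ⟨P, hP, hR, hA⟩ := hc.1 Q (hQK.trans hK.1.1) hQc
  have hPK : K ⊓ P = ⊥ := by
    rcases hK.2.2 _ (stronglyClosed_inf hK.1 hP) inf_le_left with h | h
    · exact h
    · exfalso
      have hQP : Q ⊓ P = Q := inf_eq_left.2 (hQK.trans (inf_eq_left.1 h))
      rw [hQP] at hA
      rcases hK.2.2 _ hA hQK with h' | h'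
      · exact hQne h'
      · rw [← h', hQc] at hlt; exact lt_irrefl _ hlt
  have hKR : K ≤ Q ⊔ P := by
    rcases hK.2.2 _ (stronglyClosed_inf hK.1 hR) inf_le_left with h | h
    · exact absurd (le_bot_iff.1 (h ▸ le_inf hQK le_sup_left : Q ≤ ⊥)) hQne
    · exact inf_eq_left.1 h
  have h1 := card_mul_le hS hP (hQK.trans hK.1.1) hPK hKR
  haveI := finite_of_le ((inf_le_left : Q ⊓ P ≤ Q).trans (hQK.trans hK.1.1))
  nlinarith [(Nat.card_pos : 0 < Nat.card ↥(Q ⊓ P))]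

/-- The basic configuration: a minimal closed subgroup of order `p ^ k` and a second one. -/
theorem exists_third {k : ℕ} (hc : Cond F p k) (hk : 2 ≤ k) (hK : IsMinClosed F K)
    (hKc : Nat.card K = p ^ k) (h₂ : IsMinClosed F K₂) (hne : K ≠ K₂) :
    (∃ K₃, IsMinClosed F K₃ ∧ K₃ ≠ K ∧ K₃ ≠ K₂) ∧
      ∃ P, F.StronglyClosed P ∧ K ⊓ P = ⊥ ∧ K₂ ⊓ P = ⊥ ∧ K₂ ≤ K ⊔ P := by
  have hp : p.Prime := Fact.out
  haveI := finite_of_le hK.1.1
  haveI := finite_of_le h₂.1.1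
  have hint := hK.inf_eq h₂ hne
  obtain ⟨M, -, hMK, hMc⟩ := exists_card_between hS bot_le hK.1.1 (k := k - 1)
    (by rw [Subgroup.card_bot]; exact Nat.one_le_pow _ _ hp.pos)
    (by rw [hKc]; exact Nat.pow_le_pow_right hp.pos (by omega))
  obtain ⟨n, hn⟩ := (isPGroup_of_le hS h₂.1.1).exists_card_eq
  have hn0 : n ≠ 0 := by
    rintro rfl
    exact h₂.2.1 (Subgroup.card_eq_one.1 (by rw [hn, pow_zero]))
  obtain ⟨Z, -, hZK, hZc⟩ := exists_card_between hS bot_le h₂.1.1 (k := 1)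
    (by rw [Subgroup.card_bot, pow_one]; exact hp.one_le)
    (by rw [hn]; exact Nat.pow_le_pow_right hp.pos (by omega))
  have hMne : M ≠ ⊥ := by
    rintro rfl
    rw [Subgroup.card_bot] at hMc
    exact absurd hMc.symm (one_lt_pow₀ hp.one_lt (by omega)).ne'
  have hZne : Z ≠ ⊥ := by
    rintro rfl
    rw [Subgroup.card_bot, pow_one] at hZc
    exact hp.ne_one hZc.symm
  have hcomm : ∀ m ∈ M, ∀ z ∈ Z, m * z = z * m := fun m hm z hz =>
    comm_of_inf_eq_bot hK.1 h₂.1 hint (hMK hm) (hZK hz)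
  haveI := finite_of_le (hMK.trans hK.1.1)
  haveI := finite_of_le (hZK.trans h₂.1.1)
  let μ : M × Z →* Ω :=
    { toFun := fun w => (w.1 : Ω) * w.2
      map_one' := by simp
      map_mul' := fun a b => by
        show (a.1 : Ω) * b.1 * ((a.2 : Ω) * b.2) = a.1 * a.2 * (b.1 * b.2)
        rw [mul_assoc, mul_assoc, ← mul_assoc (b.1 : Ω) (a.2 : Ω),
          hcomm _ b.1.2 _ a.2.2]
        simp only [mul_assoc] }
  have hμi : Function.Injective μ := by
    refine (injective_iff_map_eq_one μ).2 fun w hw => ?_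
    have h1 : (w.1 : Ω) = (w.2 : Ω)⁻¹ := eq_inv_of_mul_eq_one_left hw
    have h2 : (w.1 : Ω) ∈ K ⊓ K₂ :=
      Subgroup.mem_inf.2 ⟨hMK w.1.2, h1 ▸ InvMemClass.inv_mem (hZK w.2.2)⟩
    rw [hint, Subgroup.mem_bot] at h2
    refine Prod.ext (Subtype.ext h2) (Subtype.ext ?_)
    rw [h2] at h1
    exact inv_eq_one.1 h1.symm
  set Q := μ.range with hQdef
  have hQc : Nat.card Q = p ^ k := by
    rw [← Nat.card_congr (MonoidHom.ofInjective hμi).toEquiv, Nat.card_prod, hMc, hZc, ← pow_add]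
    congr 1; omega
  have hQS : Q ≤ S := by
    rintro _ ⟨w, rfl⟩
    exact mul_mem (hK.1.1 (hMK w.1.2)) (h₂.1.1 (hZK w.2.2))
  have hMQ : M ≤ Q := fun m hm => ⟨(⟨m, hm⟩, 1), mul_one m⟩
  have hZQ : Z ≤ Q := fun z hz => ⟨(1, ⟨z, hz⟩), one_mul z⟩
  have hQK : K ⊓ Q ≤ M := by
    rintro _ ⟨hx, w, rfl⟩
    have h1 : (w.2 : Ω) ∈ K ⊓ K₂ :=
      ⟨(mul_mem_cancel_left (hMK w.1.2)).1 hx, hZK w.2.2⟩
    rw [hint, Subgroup.mem_bot] at h1
    show (w.1 : Ω) * w.2 ∈ M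
    rw [h1, mul_one]
    exact w.1.2
  obtain ⟨P, hP, hR, hA⟩ := hc.1 Q hQS hQc
  have hAK : K ⊓ (Q ⊓ P) = ⊥ := by
    rcases hK.2.2 _ (stronglyClosed_inf hK.1 hA) inf_le_left with h | h
    · exact h
    · exfalso
      have h1 : K ≤ M := (le_inf le_rfl ((inf_eq_left.1 h).trans inf_le_left)).trans hQK
      have h2 := Subgroup.card_le_of_le h1
      rw [hKc, hMc] at h2
      exact absurd ((Nat.pow_le_pow_iff_right hp.one_lt).1 h2) (by omega)
  have hPK : K ⊓ P = ⊥ := by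
    rcases hK.2.2 _ (stronglyClosed_inf hK.1 hP) inf_le_left with h | h
    · exact h
    · exact absurd (le_bot_iff.1 (hAK ▸ le_inf hMK (le_inf hMQ (hMK.trans (inf_eq_left.1 h))) :
        M ≤ ⊥)) hMne
  have hKR : K ≤ Q ⊔ P := by
    rcases hK.2.2 _ (stronglyClosed_inf hK.1 hR) inf_le_left with h | h
    · exact absurd (le_bot_iff.1 (h ▸ le_inf hMK (hMQ.trans le_sup_left) : M ≤ ⊥)) hMne
    · exact inf_eq_left.1 h
  have hcard := card_mul_le hS hP hQS hPK hKR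
  haveI := finite_of_le ((inf_le_left : Q ⊓ P ≤ Q).trans hQS)
  have hA1 : Q ⊓ P = ⊥ := by
    refine Subgroup.card_eq_one.1 (le_antisymm ?_ Nat.card_pos)
    rw [hQc, hKc] at hcard
    exact Nat.le_of_mul_le_mul_left (by simpa using hcard) (pow_pos hp.pos k)
  have hQKP : Q ≤ K ⊔ P := by
    -- the map `k ↦ q` is bijective
    choose c hcQ hcP using fun x : K => (mem_sup_iff hP hQS).1 (hKR x.2)
    haveI := finite_of_le hQS
    have hinj : Function.Injective (fun x : K => (⟨c x, hcQ x⟩ : Q)) := by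
      intro a b hab
      have h1 : c a = c b := congrArg Subtype.val hab
      have h2 : (a : Ω)⁻¹ * b ∈ K ⊓ P := by
        refine Subgroup.mem_inf.2 ⟨mul_mem (InvMemClass.inv_mem a.2) b.2, ?_⟩
        have h5 := hcP b
        rw [← h1] at h5
        have := mul_mem (InvMemClass.inv_mem (hcP a)) h5
        simpa [mul_assoc] using this
      rw [hPK, Subgroup.mem_bot, inv_mul_eq_one] at h2
      exact Subtype.ext h2
    have hsurj : Function.Surjective (fun x : K => (⟨c x, hcQ x⟩ : Q)) :=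
      ((Nat.bijective_iff_injective_and_card _).2 ⟨hinj, hKc.trans hQc.symm⟩).2
    intro q hq
    obtain ⟨x, hx⟩ := hsurj ⟨q, hq⟩
    have hx' : c x = q := congrArg Subtype.val hx
    refine (mem_sup_iff hP hK.1.1).2 ⟨x, x.2, ?_⟩
    have h5 := InvMemClass.inv_mem (hcP x)
    rw [hx'] at h5
    simpa using h5
  have hP₂ : K₂ ⊓ P = ⊥ := by
    rcases h₂.2.2 _ (stronglyClosed_inf h₂.1 hP) inf_le_left with h | h
    · exact h
    · exact absurd (le_bot_iff.1 (hA1 ▸ le_inf hZQ (hZK.trans (inf_eq_left.1 h)) : Z ≤ ⊥)) hZne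
  have hK₂R : K₂ ≤ Q ⊔ P := by
    rcases h₂.2.2 _ (stronglyClosed_inf h₂.1 hR) inf_le_left with h | h
    · exact absurd (le_bot_iff.1 (h ▸ le_inf hZK (hZQ.trans le_sup_left) : Z ≤ ⊥)) hZne
    · exact inf_eq_left.1 h
  have hK₂ : K₂ ≤ K ⊔ P := hK₂R.trans (sup_le hQKP le_sup_right)
  refine ⟨?_, P, hP, hPK, hP₂, hK₂⟩
  have hPne : P ≠ ⊥ := by
    rintro rfl
    rw [sup_bot_eq] at hK₂
    exact h₂.2.1 (le_bot_iff.1 (hint ▸ le_inf hK₂ le_rfl))
  obtain ⟨K₃, hK₃P, hK₃⟩ := exists_minClosed hP hPne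
  refine ⟨K₃, hK₃, ?_, ?_⟩
  · rintro rfl
    exact hK.2.1 (le_bot_iff.1 (hPK ▸ le_inf le_rfl hK₃P))
  · rintro rfl
    exact h₂.2.1 (le_bot_iff.1 (hP₂ ▸ le_inf le_rfl hK₃P))

/-- Two minimal closed subgroups of order `p ^ k`: the first is abelian. -/
theorem comm_of_two {k : ℕ} (hc : Cond F p k) (hk : 2 ≤ k) (hK : IsMinClosed F K)
    (hKc : Nat.card K = p ^ k) (h₂ : IsMinClosed F K₂) (h₂c : Nat.card K₂ = p ^ k) (hne : K ≠ K₂)
    {a b : Ω} (ha : a ∈ K) (hb : b ∈ K) : a * b = b * a := by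
  obtain ⟨P, hP, hPK, hP₂, hle⟩ := (exists_third hS hc hk hK hKc h₂ hne).2
  haveI := finite_of_le hK.1.1
  haveI := finite_of_le h₂.1.1
  -- `K₂ ≤ K P` with equal orders gives `K ≤ K₂ P`
  choose c hcK hcP using fun x : K₂ => (mem_sup_iff hP hK.1.1).1 (hle x.2)
  have hinj : Function.Injective (fun x : K₂ => (⟨c x, hcK x⟩ : K)) := by
    intro u v huv
    have h1 : c u = c v := congrArg Subtype.val huv
    have h2 : (u : Ω)⁻¹ * v ∈ K₂ ⊓ P := by
      refine Subgroup.mem_inf.2 ⟨mul_mem (InvMemClass.inv_mem u.2) v.2, ?_⟩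
      have h5 := hcP v
      rw [← h1] at h5
      have := mul_mem (InvMemClass.inv_mem (hcP u)) h5
      simpa [mul_assoc] using this
    rw [hP₂, Subgroup.mem_bot, inv_mul_eq_one] at h2
    exact Subtype.ext h2
  obtain ⟨x, hx⟩ := ((Nat.bijective_iff_injective_and_card _).2
    ⟨hinj, h₂c.trans hKc.symm⟩).2 ⟨b, hb⟩
  have hx' : c x = b := congrArg Subtype.val hx
  have h3 := hcP x
  rw [hx'] at h3
  -- `b = x (b⁻¹ x)⁻¹`
  have e : b = (x : Ω) * (b⁻¹ * x)⁻¹ := by group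
  have c1 := comm_of_inf_eq_bot hK.1 h₂.1 (hK.inf_eq h₂ hne) ha x.2
  have c2 := comm_of_inf_eq_bot hK.1 hP hPK ha (InvMemClass.inv_mem h3)
  rw [e, ← mul_assoc, c1, mul_assoc, c2, mul_assoc]

end

end CfsgLib.Comp.WEmb
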