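import Cfsg.Agent.Lib.Comp.WeakEmbedded

/-!
Quotients and the induction for the weakly embedded criterion.
-/

set_option autoImplicit false
set_option linter.unusedVariables false
set_option linter.unusedSectionVars false
set_option linter.style.haveILetI false

namespace CfsgLib.Comp.WEmb

open Cfsg Cfsg.FusionSystem Subgroup CfsgLib.Fusion
open scoped commutatorElement

universe u

variable {Ω : Type u} [Group Ω] {S : Subgroup Ω} {F : FusionSystem S} {p : ℕ}
  {K K₁ K₂ P Q X U : Subgroup Ω}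

/-- Every map is conjugation by an element of `S` modulo `K`. -/
def InnerMod (F : FusionSystem S) (K : Subgroup Ω) : Prop :=
  ∀ (P : Subgroup Ω) (f : Ω → Ω), IsMap F P f → ∃ a ∈ S, ∀ x ∈ P, (a * x * a⁻¹)⁻¹ * f x ∈ K

/-- Every map is conjugation by an element of `S`. -/
def InnerMaps (F : FusionSystem S) : Prop :=
  ∀ (P : Subgroup Ω) (f : Ω → Ω), IsMap F P f → ∃ a ∈ S, ∀ x ∈ P, f x = a * x * a⁻¹

theorem eq_inner_of_innerMaps (h : InnerMaps F) (P : Subgroup Ω) :
    F.Hom P = (innerFusionSystem S).Hom P := by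
  ext φ
  constructor
  · intro hφ
    obtain ⟨a, ha, hax⟩ := h P _ (isMap_of_hom hφ)
    exact ⟨(F.le_of_mem hφ).1, a, ha, fun x => (toFun_apply φ x).symm.trans (hax x x.2)⟩
  · rintro ⟨hP, a, ha, hax⟩
    have e : φ = conjHom P a := MonoidHom.ext hax
    exact e ▸ F.conj_mem hP ha

theorem innerMaps_of_eq (h : ∀ P, F.Hom P = (innerFusionSystem S).Hom P) : InnerMaps F :=
  fun P f hf => by
    obtain ⟨φ, hφ, hx⟩ := hf
    rw [h] at hφ
    obtain ⟨-, a, ha, hax⟩ := hφ
    exact ⟨a, ha, fun x hxP => (hx ⟨x, hxP⟩).symm.trans (hax ⟨x, hxP⟩)⟩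

section

variable [Finite S] [Fact p.Prime] (hS : IsPGroup p S) (hF : F.IsSaturated p)

include hS hF

theorem innerMod_of_cond {k j : ℕ} (hc : Cond F p k) (hK : F.StronglyClosed K)
    (hKc : Nat.card K = p ^ j) (hjk : j < k) (hkS : p ^ k < Nat.card S)
    (IH : ∀ (Ω' : Type u) [Group Ω'] (S' : Subgroup Ω') [Finite S'] (E : FusionSystem S') (k' : ℕ),
      Nat.card S' * p ^ j = Nat.card S → IsPGroup p S' → E.IsSaturated p → 1 ≤ k' →
        p ^ k' < Nat.card S' → Cond E p k' → InnerMaps E) :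
    InnerMod F K := by
  have hp : p.Prime := Fact.out
  haveI hKn : (K.subgroupOf S).Normal := ⟨fun x hx a => StronglyClosed.conj_mem hK a.2 hx⟩
  let θ : S →* S ⧸ K.subgroupOf S := QuotientGroup.mk' _
  have hker : ∀ s : S, θ s = 1 ↔ (s : Ω) ∈ K := fun s => QuotientGroup.eq_one_iff s
  have hθker : Nat.card θ.ker = p ^ j := by
    rw [← hKc, QuotientGroup.ker_mk']
    exact Nat.card_congr (Subgroup.subgroupOfEquivOfLe hK.1).toEquiv
  let E := factorSys F hK θ hker
  have hE : F.IsFactorSystem K θ E := ⟨hK.1, hker, rfl, fun P' φ' => Iff.rfl⟩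
  have hsurj := isSurjectiveMorphism_factor hS hF hK hE
  have hEs := isSaturated_factor hS hF hK hE
  haveI : Finite (S ⧸ K.subgroupOf S) := Quotient.finite _
  have hS' : IsPGroup p θ.range := (hS.to_quotient _).to_subgroup _
  have htop : θ.range = ⊤ := MonoidHom.range_eq_top.2 (QuotientGroup.mk'_surjective _)
  have hcardS : Nat.card θ.range * p ^ j = Nat.card S := by
    rw [htop, Subgroup.card_top, ← hKc, Subgroup.card_eq_card_quotient_mul_card_subgroup
      (K.subgroupOf S), Nat.card_congr (Subgroup.subgroupOfEquivOfLe hK.1).toEquiv]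
  have hle : ∀ A : Subgroup (S ⧸ K.subgroupOf S), A ≤ θ.range := fun A => htop ▸ le_top
  -- images of strongly closed subgroups
  have hsc : ∀ L : Subgroup Ω, F.StronglyClosed L → E.StronglyClosed (imageAlong θ L) := by
    intro L hL
    refine ⟨hle _, fun X' hX' φ' hφ' y => ?_⟩
    obtain ⟨-, φ, hφ, hind⟩ := hφ'
    obtain ⟨s, hs, hsL, hsy⟩ := mem_imageAlong.1 (hX' y.2)
    have hsX : s ∈ preimageAlong θ X' := mem_preimageAlong.2 ⟨hs, hsy ▸ y.2⟩
    have h1 := inducedAlong_apply hind hsX hs ((F.le_of_mem hφ).2 _) (hsy ▸ y.2)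
    rw [show y = ⟨θ ⟨s, hs⟩, hsy ▸ y.2⟩ from Subtype.ext hsy.symm, h1]
    refine mem_imageAlong.2 ⟨_, (F.le_of_mem hφ).2 _, ?_, rfl⟩
    have h2 := StronglyClosed.apply_mem hL (isMap_of_hom hφ) hsX hsL
    rwa [toFun_of_mem φ hsX] at h2
  have hcond : Cond E p (k - j) := by
    refine ⟨fun Q' hQ' hQ'c => ?_, fun H' hH'n hH' hH'c P' f' hf' hHP hfH => ?_⟩
    · set Q := preimageAlong θ Q' with hQdef
      have hQc : Nat.card Q = p ^ k := by
        rw [card_preimageAlong hQ', hQ'c, hθker, ← pow_add]; congr 1; omega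
      have hKQ : K ≤ Q := le_preimageAlong_of_ker hker hK.1
      obtain ⟨P, hP, hR, hA⟩ := hc.1 Q preimageAlong_le hQc
      have hQimg : imageAlong θ Q = Q' := imageAlong_preimageAlong hQ'
      refine ⟨imageAlong θ P, hsc P hP, ?_, ?_⟩
      · have e : Q' ⊔ imageAlong θ P = imageAlong θ (Q ⊔ P) := by
          refine le_antisymm ?_ ?_
          · rw [← hQimg]
            exact sup_le (imageAlong_mono le_sup_left) (imageAlong_mono le_sup_right)
          · intro y hy
            obtain ⟨x, hx, hxR, rfl⟩ := mem_imageAlong.1 hy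
            obtain ⟨q, hq, hqx⟩ := (mem_sup_iff hP preimageAlong_le).1 hxR
            have hqS : q ∈ S := preimageAlong_le hq
            rw [show (⟨x, hx⟩ : S) = ⟨q, hqS⟩ * ⟨q⁻¹ * x, hP.1 hqx⟩ from
              Subtype.ext (mul_inv_cancel_left q x).symm, map_mul]
            exact Subgroup.mul_mem_sup (mem_preimageAlong.1 hq).2
              (mem_imageAlong.2 ⟨_, hP.1 hqx, hqx, rfl⟩)
        rw [e]
        exact hsc _ hR
      · have e : Q' ⊓ imageAlong θ P = imageAlong θ (Q ⊓ P) := by
          refine le_antisymm ?_ (le_inf ?_ (imageAlong_mono inf_le_right))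
          · intro y hy
            obtain ⟨hyQ, hyP⟩ := Subgroup.mem_inf.1 hy
            obtain ⟨x, hx, hxP, rfl⟩ := mem_imageAlong.1 hyP
            exact mem_imageAlong.2
              ⟨x, hx, Subgroup.mem_inf.2 ⟨mem_preimageAlong.2 ⟨hx, hyQ⟩, hxP⟩, rfl⟩
          · exact (imageAlong_mono inf_le_left).trans hQimg.le
        rw [e]
        exact hsc _ hA
    · set H := preimageAlong θ H' with hHdef
      have hHc : Nat.card H = p ^ k := by
        rw [card_preimageAlong hH', hH'c, hθker, ← pow_add]; congr 1; omega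
      have hHn : S ≤ Subgroup.normalizer (H : Set Ω) := by
        have h1 := normalizerIn_preimageAlong (θ := θ) (S := S) hH'
        have h2 : normalizerIn θ.range H' = θ.range := inf_eq_left.2 hH'n
        intro a ha
        have h3 : a ∈ preimageAlong θ θ.range := mem_preimageAlong.2 ⟨ha, ⟨_, rfl⟩⟩
        rw [← h2, ← h1] at h3
        exact h3.2
      obtain ⟨φ', ⟨-, φ, hφ, hind⟩, hφ'x⟩ := hf'
      have hHP' : H ≤ preimageAlong θ P' := preimageAlong_mono hHP
      obtain ⟨a, ha, hax⟩ := hc.2 H hHn preimageAlong_le hHc _ _ (isMap_of_hom hφ) hHP'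
        fun x hx => by
          rw [toFun_of_mem φ (hHP' hx)]
          obtain ⟨hxS, hxH⟩ := mem_preimageAlong.1 hx
          refine mem_preimageAlong.2 ⟨(F.le_of_mem hφ).2 _, ?_⟩
          rw [← inducedAlong_apply hind (hHP' hx) hxS ((F.le_of_mem hφ).2 _) (hHP hxH), hφ'x]
          exact hfH _ hxH
      refine ⟨θ ⟨a, ha⟩, ⟨_, rfl⟩, fun y hy => ?_⟩
      obtain ⟨s, rfl⟩ := hle P' hy
      have hsP : (s : Ω) ∈ preimageAlong θ P' := mem_preimageAlong.2 ⟨s.2, hy⟩
      rw [← hφ'x ⟨θ s, hy⟩, inducedAlong_apply hind hsP s.2 ((F.le_of_mem hφ).2 _) hy,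
        ← map_inv, ← map_mul, ← map_mul]
      congr 1
      apply Subtype.ext
      have h4 := hax s hsP
      rwa [toFun_of_mem φ hsP] at h4
  have hinner : InnerMaps E := IH _ θ.range E (k - j) hcardS hS' hEs (by omega)
    (by
      have h1 : p ^ (k - j) * p ^ j = p ^ k := by rw [← pow_add]; congr 1; omega
      by_contra hge
      push Not at hge
      have := Nat.mul_le_mul_right (p ^ j) hge
      omega) hcond
  intro P f hf
  obtain ⟨φ, hφ, hφx⟩ := hf
  obtain ⟨⟨-, hmor⟩, -, -⟩ := hsurj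
  obtain ⟨φ', hφ', hind⟩ := hmor P φ hφ
  obtain ⟨_, ⟨⟨a, ha⟩, rfl⟩, hax⟩ := hinner _ _ (isMap_of_hom hφ')
  refine ⟨a, ha, fun x hx => ?_⟩
  have hxS : x ∈ S := (F.le_of_mem hφ).1 hx
  have hm : θ ⟨x, hxS⟩ ∈ imageAlong θ P := mem_imageAlong.2 ⟨x, hxS, hx, rfl⟩
  have h1 := hax _ hm
  rw [toFun_of_mem φ' hm, inducedAlong_apply hind hx hxS ((F.le_of_mem hφ).2 _) hm,
    ← map_inv, ← map_mul, ← map_mul] at h1
  rw [← hφx ⟨x, hx⟩]
  have h2 : θ ((⟨a, ha⟩ * ⟨x, hxS⟩ * ⟨a, ha⟩⁻¹)⁻¹ * ⟨φ ⟨x, hx⟩, (F.le_of_mem hφ).2 _⟩) = 1 := by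
    rw [map_mul, map_inv, h1, inv_mul_cancel]
  exact (hker _).1 h2

theorem sub_mem_of_innerMod (hK : F.StronglyClosed K) (h : InnerMod F K) (hP : P ≤ S)
    {α : MulAut P} (hα : α ∈ F.autGroup P) (hco : (orderOf α).Coprime p) (x : P) :
    (x : Ω)⁻¹ * ((α x : P) : Ω) ∈ K := by
  obtain ⟨a, ha, hax⟩ := h P _ (isMap_of_autGroup hP hα)
  have h1 : ∀ (n : ℕ) (y : P), (a ^ n * (y : Ω) * (a ^ n)⁻¹)⁻¹ * (((α ^ n) y : P) : Ω) ∈ K := by
    intro n
    induction n with
    | zero => intro y; simp
    | succ n ih =>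
      intro y
      have h2 := hax (((α ^ n) y : P) : Ω) ((α ^ n) y).2
      rw [toFun_aut_apply α ((α ^ n) y).2] at h2
      have h3 := mul_mem (StronglyClosed.conj_mem hK ha (ih y)) h2
      rw [pow_succ' α, MulAut.mul_apply]
      convert h3 using 1
      rw [pow_succ']
      group
  obtain ⟨e, he⟩ := hS.exists_card_eq
  have ha1 : a ^ (p ^ e) = 1 := by
    have := congrArg Subtype.val (pow_card_eq_one' (G := S) (x := ⟨a, ha⟩))
    rw [he] at this
    exact this
  let Kf : Subgroup (MulAut P) :=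
    { carrier := {β | ∀ y : P, (y : Ω)⁻¹ * ((β y : P) : Ω) ∈ K}
      one_mem' := fun y => by simp
      mul_mem' := fun {β γ} hb hc y => by
        have h1 := K.mul_mem (hc y) (hb (γ y))
        simpa [MulAut.mul_apply, mul_assoc] using h1
      inv_mem' := fun {β} hb y => by
        have h1 := K.inv_mem (hb (β⁻¹ y))
        rw [MulAut.apply_inv_self] at h1
        simpa using h1 }
  have hpe : α ^ (p ^ e) ∈ Kf := fun y => by
    have h4 := h1 (p ^ e) y
    rwa [ha1, one_mul, inv_one, mul_one] at h4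
  obtain ⟨m, hm⟩ := exists_pow_eq_self_of_coprime
    (Nat.Coprime.pow_left e hco.symm : (p ^ e).Coprime (orderOf α))
  exact (hm ▸ pow_mem hpe m : α ∈ Kf) x

theorem innerMaps_of_coprime (h : ∀ R : Subgroup Ω, R ≤ S → ∀ α ∈ F.autGroup R,
    (orderOf α).Coprime p → α = 1) : InnerMaps F :=
  innerMaps_of_eq (eq_inner_of_coprime_trivial hS hF fun R hR α hα hc => h R hR.1 α hα hc)

/-- An abelian strongly closed subgroup of order `p ^ k` forces the inner system. -/
theorem innerMaps_of_abelian {k : ℕ} (hc : Cond F p k) (hK : F.StronglyClosed K)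
    (hab : ∀ a ∈ K, ∀ b ∈ K, a * b = b * a) (hKc : Nat.card K = p ^ k) : InnerMaps F := by
  have hN : F.IsNormal K := by
    refine isNormal_of_le_centricRadical hS hF hK fun P hPc hPr => ?_
    refine le_centricRadical_of_series hS hK 1 (fun i => if i = 0 then ⊥ else K) rfl rfl
      (fun i hi => ?_) (fun i hi => ?_) (fun i hi => ?_) hPc hPr
    · obtain rfl : i = 0 := by omega
      exact bot_le
    · obtain rfl : i = 0 := by omega
      refine Subgroup.commutator_le.2 fun a ha b hb => ?_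
      have h1 : a * b = b * a := hab a ha b hb
      show ⁅a, b⁆ ∈ (⊥ : Subgroup Ω)
      rw [Subgroup.mem_bot, commutatorElement_def, h1]
      group
    · obtain rfl : i = 0 := by omega
      exact StronglyClosed.weaklyClosed (stronglyClosed_bot F)
  intro P f hf
  obtain ⟨g, hg, hgx, hgK⟩ := (isNormal_iff.1 hN).2 P f hf
  obtain ⟨a, ha, hax⟩ := hc.2 K (StronglyClosed.le_normalizer hK) hK.1 hKc _ g hg le_sup_right
    fun x hx => hgK.le ((hg.mono le_sup_right).apply_mem_img hx)
  exact ⟨a, ha, fun x hx => (hgx x hx).symm.trans (hax x (mem_sup_left hx))⟩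

end

/-- The criterion. -/
theorem innerMaps_of_cond [Fact p.Prime] : ∀ (n : ℕ) (Ω : Type u) [Group Ω] (S : Subgroup Ω)
    [Finite S] (F : FusionSystem S) (k : ℕ), Nat.card S = n → IsPGroup p S → F.IsSaturated p →
      1 ≤ k → p ^ k < Nat.card S → Cond F p k → InnerMaps F := by
  intro n
  induction n using Nat.strong_induction_on with
  | _ n ih =>
    intro Ω _ S _ F k hn hS hF hk hkS hc
    have hp : p.Prime := Fact.out
    -- quotients by smaller minimal closed subgroups
    have hmod : ∀ K, IsMinClosed F K → Nat.card K < p ^ k → InnerMod F K := by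
      intro K hK hlt
      haveI := finite_of_le hK.1.1
      obtain ⟨j, hj⟩ := (isPGroup_of_le hS hK.1.1).exists_card_eq
      have hj0 : j ≠ 0 := by
        rintro rfl
        exact hK.2.1 (Subgroup.card_eq_one.1 (by rw [hj, pow_zero]))
      have hjk : j < k := (Nat.pow_lt_pow_iff_right hp.one_lt).1 (hj ▸ hlt)
      refine innerMod_of_cond hS hF hc hK.1 hj hjk hkS fun Ω' _ S' _ E k' hcard h1 h2 h3 h4 h5 => ?_
      refine ih (Nat.card S') ?_ Ω' S' E k' rfl h1 h2 h3 h4 h5
      rw [← hn, ← hcard]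
      exact lt_mul_of_one_lt_right Nat.card_pos (one_lt_pow₀ hp.one_lt hj0)
    have hSne : S ≠ ⊥ := by
      rintro rfl
      rw [Subgroup.card_bot] at hkS
      exact absurd hkS (by have := Nat.one_le_pow k p hp.pos; omega)
    obtain ⟨K, -, hK⟩ := exists_minClosed (stronglyClosed_self F) hSne
    haveI := finite_of_le hK.1.1
    have hKle := card_minClosed_le hS hc (by omega) hK
    -- subgroups of order `p` commute
    have hprime : ∀ L : Subgroup Ω, Nat.card L = p → ∀ a ∈ L, ∀ b ∈ L, a * b = b * a := by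
      intro L hL a ha b hb
      haveI := isCyclic_of_prime_card hL
      exact congrArg Subtype.val (IsMulCommutative.is_comm.comm (⟨a, ha⟩ : L) ⟨b, hb⟩)
    by_cases hk1 : k = 1
    · subst hk1
      rw [pow_one] at hKle
      obtain ⟨j, hj⟩ := (isPGroup_of_le hS hK.1.1).exists_card_eq
      have hj1 : j = 1 := by
        have h1 : j ≤ 1 := (Nat.pow_le_pow_iff_right hp.one_lt).1 (by rwa [pow_one, ← hj])
        rcases Nat.le_one_iff_eq_zero_or_eq_one.1 h1 with rfl | rfl
        · exact absurd (Subgroup.card_eq_one.1 (by rw [hj, pow_zero])) hK.2.1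
        · rfl
      subst hj1
      exact innerMaps_of_abelian hS hF hc hK.1 (hprime K (by rw [hj, pow_one])) hj
    have hk2 : 2 ≤ k := by omega
    by_cases hother : ∃ K₂, IsMinClosed F K₂ ∧ K₂ ≠ K
    · obtain ⟨K₂, h₂, hne⟩ := hother
      haveI := finite_of_le h₂.1.1
      have h₂le := card_minClosed_le hS hc (by omega) h₂
      by_cases hbig : ∃ L, IsMinClosed F L ∧ Nat.card L = p ^ k
      · obtain ⟨L, hL, hLc⟩ := hbig
        obtain ⟨M, hM, hMne⟩ : ∃ M, IsMinClosed F M ∧ L ≠ M := by
          by_cases h : L = K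
          · exact ⟨K₂, h₂, h ▸ fun e => hne e.symm⟩
          · exact ⟨K, hK, h⟩
        by_cases htwo : ∃ L', IsMinClosed F L' ∧ Nat.card L' = p ^ k ∧ L ≠ L'
        · obtain ⟨L', hL', hL'c, hne'⟩ := htwo
          exact innerMaps_of_abelian hS hF hc hL.1
            (fun a ha b hb => comm_of_two hS hc hk2 hL hLc hL' hL'c hne' ha hb) hLc
        · push Not at htwo
          -- two distinct small ones
          obtain ⟨K₃, hK₃, h3L, h3M⟩ := (exists_third hS hc hk2 hL hLc hM hMne).1
          have hsmall : ∀ L', IsMinClosed F L' → L' ≠ L → Nat.card L' < p ^ k := fun L' hL' hne' =>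
            lt_of_le_of_ne (card_minClosed_le hS hc (by omega) hL') fun e => hne' (htwo L' hL' e).symm
          have i₁ := hmod M hM (hsmall M hM hMne.symm)
          have i₂ := hmod K₃ hK₃ (hsmall K₃ hK₃ h3L)
          refine innerMaps_of_coprime hS hF fun R hR α hα hco => MulEquiv.ext fun x => Subtype.ext ?_
          have h1 : (x : Ω)⁻¹ * ((α x : R) : Ω) ∈ M ⊓ K₃ := Subgroup.mem_inf.2
            ⟨sub_mem_of_innerMod hS hF hM.1 i₁ hR hα hco x,
              sub_mem_of_innerMod hS hF hK₃.1 i₂ hR hα hco x⟩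
          rw [hM.inf_eq hK₃ h3M.symm, Subgroup.mem_bot, inv_mul_eq_one] at h1
          exact h1.symm
      · push Not at hbig
        have i₁ := hmod K hK (lt_of_le_of_ne hKle (hbig K hK))
        have i₂ := hmod K₂ h₂ (lt_of_le_of_ne h₂le (hbig K₂ h₂))
        refine innerMaps_of_coprime hS hF fun R hR α hα hco => MulEquiv.ext fun x => Subtype.ext ?_
        have h1 : (x : Ω)⁻¹ * ((α x : R) : Ω) ∈ K ⊓ K₂ := Subgroup.mem_inf.2
          ⟨sub_mem_of_innerMod hS hF hK.1 i₁ hR hα hco x,
            sub_mem_of_innerMod hS hF h₂.1 i₂ hR hα hco x⟩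
        rw [hK.inf_eq h₂ hne.symm, Subgroup.mem_bot, inv_mul_eq_one] at h1
        exact h1.symm
    -- a unique minimal closed subgroup
    push Not at hother
    have hU : ∀ Q, Q ≤ S → Nat.card Q = p ^ k → K ⊓ Q ≠ ⊥ → K ≤ Q := by
      intro Q hQ hQc hne
      obtain ⟨P, hP, hR, hA⟩ := hc.1 Q hQ hQc
      by_cases hPb : P = ⊥
      · subst hPb
        rw [sup_bot_eq] at hR
        rcases hK.2.2 _ (stronglyClosed_inf hK.1 hR) inf_le_left with h | h
        · exact absurd h hne
        · exact inf_eq_left.1 h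
      · obtain ⟨K', hK'P, hK'⟩ := exists_minClosed hP hPb
        rw [hother K' hK'] at hK'P
        have h1 : K ⊓ Q ≤ Q ⊓ P := le_inf inf_le_right (inf_le_left.trans hK'P)
        rcases hK.2.2 _ (stronglyClosed_inf hK.1 hA) inf_le_left with h | h
        · exact absurd (le_bot_iff.1 (h ▸ le_inf inf_le_left h1 : K ⊓ Q ≤ ⊥)) hne
        · exact (inf_eq_left.1 h).trans inf_le_left
    obtain ⟨j, hj⟩ := (isPGroup_of_le hS hK.1.1).exists_card_eq
    have hjk : j ≤ k := (Nat.pow_le_pow_iff_right hp.one_lt).1 (hj ▸ hKle)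
    have hj0 : j ≠ 0 := by
      rintro rfl
      exact hK.2.1 (Subgroup.card_eq_one.1 (by rw [hj, pow_zero]))
    obtain ⟨m, hm⟩ := hS.exists_card_eq
    have hkm : k < m := (Nat.pow_lt_pow_iff_right hp.one_lt).1 (hm ▸ hkS)
    rcases hjk.eq_or_lt with rfl | hjk
    · -- `K` has order `p ^ k`: it lies in a cyclic subgroup
      obtain ⟨U, hKU, hUS, hUc⟩ := exists_card_between hS hK.1.1 le_rfl (k := j + 1)
        (by rw [hj]; exact Nat.pow_le_pow_right hp.pos (by omega))
        (by rw [hm]; exact Nat.pow_le_pow_right hp.pos (by omega))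
      haveI := finite_of_le hUS
      refine innerMaps_of_abelian hS hF hc hK.1 (fun a ha b hb => ?_) hj
      obtain ⟨u, hu, huK⟩ : ∃ u ∈ U, u ∉ K := by
        by_contra h
        push Not at h
        have h1 := Subgroup.card_le_of_le (show U ≤ K from h)
        rw [hUc, hj] at h1
        exact absurd ((Nat.pow_le_pow_iff_right hp.one_lt).1 h1) (by omega)
      suffices hcyc : zpowers u = U by
        obtain ⟨i, rfl⟩ := mem_zpowers_iff.1 (hcyc.ge (hKU ha))
        obtain ⟨l, rfl⟩ := mem_zpowers_iff.1 (hcyc.ge (hKU hb))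
        rw [← zpow_add, ← zpow_add, add_comm]
      by_contra hne
      have huU : zpowers u ≤ U := zpowers_le.2 hu
      haveI := finite_of_le (huU.trans hUS)
      obtain ⟨e, he⟩ := (isPGroup_of_le hS (huU.trans hUS)).exists_card_eq
      have hlt : Nat.card (zpowers u) < Nat.card U := lt_of_not_ge fun hge =>
        hne (Subgroup.eq_of_le_of_card_ge huU hge)
      rw [he, hUc] at hlt
      have hej : e ≤ j := Nat.lt_succ_iff.1 ((Nat.pow_lt_pow_iff_right hp.one_lt).1 hlt)
      obtain ⟨M, huM, hMU, hMc⟩ := exists_card_between hS huU hUS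
        (he ▸ Nat.pow_le_pow_right hp.pos hej)
        (hUc ▸ Nat.pow_le_pow_right hp.pos (by omega : j ≤ j + 1))
      haveI := finite_of_le (hMU.trans hUS)
      have hKM : K ⊓ M ≠ ⊥ := by
        intro hb'
        have hsup : K ⊔ M ≤ U := sup_le hKU hMU
        have hinj : Function.Injective
            (fun z : ↥K × ↥M => (⟨(z.1 : Ω) * z.2, hsup (Subgroup.mul_mem_sup z.1.2 z.2.2)⟩ : U)) := by
          rintro ⟨a₁, b₁⟩ ⟨a₂, b₂⟩ h
          have h1 : (a₁ : Ω) * b₁ = a₂ * b₂ := congrArg Subtype.val h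
          have h2 : (a₂ : Ω)⁻¹ * a₁ ∈ K ⊓ M := Subgroup.mem_inf.2
            ⟨mul_mem (InvMemClass.inv_mem a₂.2) a₁.2, by
              have e2 : (a₂ : Ω)⁻¹ * a₁ = b₂ * (b₁ : Ω)⁻¹ := by
                rw [eq_mul_inv_iff_mul_eq, mul_assoc, h1, inv_mul_cancel_left]
              rw [e2]
              exact mul_mem b₂.2 (InvMemClass.inv_mem b₁.2)⟩
          rw [hb', Subgroup.mem_bot, inv_mul_eq_one] at h2
          obtain rfl : a₂ = a₁ := Subtype.ext h2
          obtain rfl : b₁ = b₂ := Subtype.ext (mul_left_cancel h1)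
          rfl
        have h3 := Nat.card_le_card_of_injective _ hinj
        rw [Nat.card_prod, hj, hMc, hUc, ← pow_add] at h3
        exact absurd ((Nat.pow_le_pow_iff_right hp.one_lt).1 h3) (by omega)
      have h4 := hU M (hMU.trans hUS) hMc hKM
      exact huK ((Subgroup.eq_of_le_of_card_ge h4 (by rw [hMc, hj])).ge (huM (mem_zpowers u)))
    have hmK := hmod K hK (hj ▸ Nat.pow_lt_pow_right hp.one_lt hjk)
    by_cases hj1 : j = 1
    · -- order `p`: central
      subst hj1
      rw [pow_one] at hj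
      haveI hKn : (K.subgroupOf S).Normal := ⟨fun x hx a => StronglyClosed.conj_mem hK.1 a.2 hx⟩
      obtain ⟨Hs, hHn, -, hHc, hKH⟩ : ∃ H : Subgroup S, H.Normal ∧ True ∧ Nat.card H = p ^ k ∧
          K.subgroupOf S ≤ H := by
        obtain ⟨H', hH'n, -, hH'c⟩ := CfsgLib.Transfer.exists_normal_le_card (hS.to_quotient
          (K.subgroupOf S)) ⊤ (k := k - 1) (by
            rw [Subgroup.card_top]
            obtain ⟨q, hq⟩ := (hS.to_quotient (K.subgroupOf S)).exists_card_eq
            rw [hq]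
            refine pow_dvd_pow p ?_
            have h1 := Subgroup.card_eq_card_quotient_mul_card_subgroup (K.subgroupOf S)
            rw [hq, Nat.card_congr (Subgroup.subgroupOfEquivOfLe hK.1.1).toEquiv, hj, hm,
              ← pow_succ] at h1
            have := Nat.pow_right_injective hp.two_le h1
            omega)
        refine ⟨H'.comap (QuotientGroup.mk' _), hH'n.comap _, trivial, ?_, ?_⟩
        · rw [CfsgLib.Solvable.card_comap_mk',
            Nat.card_congr (Subgroup.subgroupOfEquivOfLe hK.1.1).toEquiv, hj, hH'c,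
            ← pow_succ, show k - 1 + 1 = k by omega]
        · intro x hx
          show QuotientGroup.mk' _ x ∈ H'
          rw [QuotientGroup.mk'_apply, (QuotientGroup.eq_one_iff x).2 hx]
          exact one_mem _
      set H := Hs.map S.subtype with hHdef
      have hHS : H ≤ S := Subgroup.map_subtype_le _
      have hHnor : S ≤ Subgroup.normalizer (H : Set Ω) := by
        intro a ha y
        constructor
        · rintro ⟨s, hs, rfl⟩
          exact ⟨⟨a, ha⟩ * s * ⟨a, ha⟩⁻¹, hHn.conj_mem _ hs _, rfl⟩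
        · rintro ⟨s, hs, hsy⟩
          refine ⟨⟨a, ha⟩⁻¹ * s * ⟨a, ha⟩, hHn.conj_mem' _ hs _, ?_⟩
          show a⁻¹ * (s : Ω) * a = y
          rw [show (s : Ω) = a * y * a⁻¹ from hsy]
          group
      have hKH' : K ≤ H := fun x hx => ⟨⟨x, hK.1.1 hx⟩, hKH hx, rfl⟩
      have hHc' : Nat.card H = p ^ k := by
        rw [hHdef, Subgroup.card_map_of_injective S.subtype_injective, hHc]
      -- `K` is central in `S`
      have hcen : ∀ a ∈ S, ∀ x ∈ K, a * x * a⁻¹ = x := by
        intro a ha x hx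
        haveI : Group.IsNilpotent S := hS.isNilpotent
        have hcard : Nat.card (K.subgroupOf S) = p := by
          rw [Nat.card_congr (Subgroup.subgroupOfEquivOfLe hK.1.1).toEquiv, hj]
        have hne : K.subgroupOf S ≠ ⊥ := fun h => hp.ne_one (by rw [← hcard, h, Subgroup.card_bot])
        have h1 := CfsgLib.Solvable.normal_inf_center_ne_bot (K.subgroupOf S) hne
        have hle : K.subgroupOf S ≤ Subgroup.center S := by
          have h3 := Subgroup.card_dvd_of_le (inf_le_left : K.subgroupOf S ⊓ Subgroup.center S ≤ _)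
          rw [hcard] at h3
          rcases (Nat.dvd_prime hp).1 h3 with h4 | h4
          · exact absurd (Subgroup.card_eq_one.1 h4) h1
          · exact inf_eq_left.1 (Subgroup.eq_of_le_of_card_ge inf_le_left (by rw [h4, hcard]))
        have h5 := Subgroup.mem_center_iff.1 (hle (Subgroup.mem_subgroupOf.2
          (show ((⟨x, hK.1.1 hx⟩ : S) : Ω) ∈ K from hx))) ⟨a, ha⟩
        have h6 : a * x = x * a := congrArg Subtype.val h5
        rw [h6, mul_inv_cancel_right]
      -- every map fixes `K`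
      have hfix : ∀ P f, IsMap F P f → ∀ x ∈ P, x ∈ K → f x = x := by
        intro P f hf x hxP hxK
        have hKi : img (P ⊓ K) f ≤ K := fun y hy => by
          obtain ⟨z, hz, rfl⟩ := (hf.mono inf_le_left).mem_img.1 hy
          exact StronglyClosed.apply_mem hK.1 hf hz.1 hz.2
        by_cases hx1 : x = 1
        · rw [hx1, hf.map_one]
        have hKP : K ≤ P := by
          have h1 : P ⊓ K ≠ ⊥ := fun h => hx1 (Subgroup.mem_bot.1 (h ▸ Subgroup.mem_inf.2 ⟨hxP, hxK⟩))
          have h3 := Subgroup.card_dvd_of_le (inf_le_right : P ⊓ K ≤ K)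
          rw [hj] at h3
          rcases (Nat.dvd_prime hp).1 h3 with h4 | h4
          · exact absurd (Subgroup.card_eq_one.1 h4) h1
          · exact inf_eq_right.1 (Subgroup.eq_of_le_of_card_ge inf_le_right (by rw [h4, hj]))
        have hfK : IsMap F K f := hf.mono hKP
        have hiK : img K f = K := StronglyClosed.img_eq hK.1 hf hKP
        have hFN : F.IsFullyNormalized K := ⟨hK.1.1, fun Q hQ => by
          obtain ⟨f', hf', rfl⟩ := CfsgLib.Fusion.isConj_iff.1 hQ
          rw [StronglyClosed.img_eq hK.1 hf' le_rfl]⟩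
        obtain ⟨g, hg, hgx⟩ := receptive_extend (R := S) (receptive_of_fullyNormalized hS hF hFN)
          hfK hiK hK.1.1 fun a ha => by
            refine ⟨ha, StronglyClosed.le_normalizer hK.1 ha, 1, one_mem _, fun y hy => ?_⟩
            rw [hcen a ha y hy]
            simp
        obtain ⟨a, ha, hax⟩ := hmK S g hg
        obtain ⟨b, hb, hbx⟩ := hc.2 H hHnor hHS hHc' S g hg hHS fun y hy => by
          have h7 := mul_mem ((hHnor ha y).1 hy) (hKH' (hax y (hHS hy)))
          rwa [mul_inv_cancel_left] at h7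
        rw [← hgx x hxK, hbx x (hK.1.1 hxK), hcen b hb x hxK]
      refine innerMaps_of_coprime hS hF fun R hR α hα hco =>
        eq_one_of_fixes_sub (isPGroup_of_le hS hR) hco fun x => Subtype.ext ?_
      have h1 := sub_mem_of_innerMod hS hF hK.1 hmK hR hα hco x
      rw [← toFun_aut_apply α (x⁻¹ * α x).2]
      exact hfix R _ (isMap_of_autGroup hR hα) _ (x⁻¹ * α x).2 h1
    · -- `K ≤ Φ(S)`
      have hKΦ : K.subgroupOf S ≤ frattini S := by
        refine le_iInf₂ fun M hM => ?_
        set M' : Subgroup Ω := M.map S.subtype with hM'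
        have hM'S : M' ≤ S := Subgroup.map_subtype_le _
        haveI := finite_of_le hM'S
        obtain ⟨e, he⟩ := (hS.to_subgroup M).exists_card_eq
        have hM'c : Nat.card M' = p ^ e := by
          rw [hM', Subgroup.card_map_of_injective S.subtype_injective, he]
        have hem : e < m := by
          have h1 : Nat.card M < Nat.card S := lt_of_le_of_ne (Subgroup.card_le_card_group M)
            fun h => hM.1 (Subgroup.card_eq_iff_eq_top M |>.1 h)
          rw [he, hm] at h1
          exact (Nat.pow_lt_pow_iff_right hp.one_lt).1 h1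
        obtain ⟨M₂, hM₂, hMM₂⟩ := Sylow.exists_subgroup_card_pow_succ
          (hm.symm ▸ pow_dvd_pow p hem : p ^ (e + 1) ∣ Nat.card S) he
        have hem' : e + 1 = m := by
          have hlt : M < M₂ := lt_of_le_of_ne hMM₂ fun h => by
            rw [← h, he] at hM₂
            exact absurd (Nat.pow_right_injective hp.two_le hM₂) (by omega)
          rw [hM.2 M₂ hlt, Subgroup.card_top, hm] at hM₂
          exact (Nat.pow_right_injective hp.two_le hM₂).symm
        have hne : K ⊓ M' ≠ ⊥ := by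
          intro hb
          have hinj : Function.Injective (fun z : ↥K × ↥M' =>
              (⟨(z.1 : Ω) * z.2, mul_mem (hK.1.1 z.1.2) (hM'S z.2.2)⟩ : S)) := by
            rintro ⟨a₁, b₁⟩ ⟨a₂, b₂⟩ h
            have h1 : (a₁ : Ω) * b₁ = a₂ * b₂ := congrArg Subtype.val h
            have h2 : (a₂ : Ω)⁻¹ * a₁ ∈ K ⊓ M' := Subgroup.mem_inf.2
              ⟨mul_mem (InvMemClass.inv_mem a₂.2) a₁.2, by
                have e2 : (a₂ : Ω)⁻¹ * a₁ = b₂ * (b₁ : Ω)⁻¹ := by
                  rw [eq_mul_inv_iff_mul_eq, mul_assoc, h1, inv_mul_cancel_left]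
                rw [e2]
                exact mul_mem b₂.2 (InvMemClass.inv_mem b₁.2)⟩
            rw [hb, Subgroup.mem_bot, inv_mul_eq_one] at h2
            obtain rfl : a₂ = a₁ := Subtype.ext h2
            obtain rfl : b₁ = b₂ := Subtype.ext (mul_left_cancel h1)
            rfl
          have h3 := Nat.card_le_card_of_injective _ hinj
          rw [Nat.card_prod, hj, hM'c, hm, ← pow_add] at h3
          exact absurd ((Nat.pow_le_pow_iff_right hp.one_lt).1 h3) (by omega)
        obtain ⟨Q, hQK, hQM, hQc⟩ := exists_card_between hS inf_le_right hM'S (k := k)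
          ((Subgroup.card_le_of_le (inf_le_left : K ⊓ M' ≤ K)).trans
            (hj ▸ Nat.pow_le_pow_right hp.pos hjk.le))
          (hM'c ▸ Nat.pow_le_pow_right hp.pos (by omega))
        have hKQ := hU Q (hQM.trans hM'S) hQc fun h =>
          hne (le_bot_iff.1 (h ▸ le_inf inf_le_left hQK : K ⊓ M' ≤ ⊥))
        intro x hx
        obtain ⟨y, hy, hyx⟩ := hQM (hKQ hx)
        rwa [Subtype.ext hyx] at hy
      refine innerMaps_of_eq (eq_inner_of_hyperfocal_eq_bot hS hF
        (hyperfocal_eq_bot_of_le_frattini hS hF ?_))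
      rw [← Subgroup.map_le_map_iff_of_injective S.subtype_injective,
        Subgroup.map_subgroupOf_eq_of_le (hyperfocal_le F p)]
      refine hyperfocal_le_of _ fun P hP α hα hco x => ?_
      obtain ⟨y, hy⟩ : ∃ y : S, (y : Ω) = (x : Ω)⁻¹ * ((α x : P) : Ω) :=
        ⟨⟨_, mul_mem (InvMemClass.inv_mem (hP x.2)) (hP (α x).2)⟩, rfl⟩
      refine ⟨y, hKΦ (Subgroup.mem_subgroupOf.2 ?_), hy⟩
      rw [hy]
      exact sub_mem_of_innerMod hS hF hK.1 hmK hP hα hco x

end CfsgLib.Comp.WEmb
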